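import Cfsg.Agent.OddHalf.D4.M22.CenCert
import Cfsg.Agent.OddHalf.NI3.Bad.TriM24
import Cfsg.Agent.OddHalf.NI3.Bad.ExFour
import Cfsg.Agent.OddHalf.D4.M22.Inv
import Cfsg.Agent.KFacts.MM.Cent
import Cfsg.Agent.KFacts.MM.OutAut

-- merged: Cfsg.Agent.OddHalf.NI3.Bad.ExM22Data
section

/-!
# Data for (EX4), row `M22`

`vP`, `wP` generate a Sylow 3-subgroup `EL`; `CL` : elements conjugating `vP` to the elements `≠ 1` of `EL`; `oP`, `iP`
generate a Sylow 2-subgroup `TL` (dihedral of order 8) of the centraliser of `vP` in `M22:2`; `RL`, `WL`, `GO` : the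
certificate for the centraliser of `vP`, `oP`, `iP`; `AL` : for every involution of `TL` two triples.
-/

set_option autoImplicit false

namespace Cfsg.Agent.OddHalf.NI3.ExM22Data

open Cfsg.Agent.OddHalf.D4.M22

def vP : ℕ := 977027255965144737490240734443378208

def wP : ℕ := 975640059973824261584930875182713376

def EL : List ℕ := [
  984818244535754528103549039458486304,
  970455359665080513381196204695730208,
  966563679126324516858132822367966304,
  977027255965144737490240734443378208,
  964038917760814939315992205756774496,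
  964850293970518376250064759759672352,
  972646334643299531276817558171846752,
  960966209524446423985309039535897120,
  975640059973824261584930875182713376]

def CL : List (ℕ × ℕ × ℕ) := [
  (970455359665080513381196204695730208, 958121162729083088771854904152347296, 977027255965144737490240734443378208),
  (966563679126324516858132822367966304, 970095460666714840091649552862479520, 977027255965144737490240734443378208),
  (977027255965144737490240734443378208, 984365680350160995411508286273403424, 977027255965144737490240734443378208),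
  (964038917760814939315992205756774496, 973054518210042674313238929715267616, 977027255965144737490240734443378208),
  (964850293970518376250064759759672352, 972677880605626369731820906460009056, 977027255965144737490240734443378208),
  (972646334643299531276817558171846752, 960997620355009749992569968780529280, 977027255965144737490240734443378208),
  (960966209524446423985309039535897120, 976893884453402141016485561230328896, 977027255965144737490240734443378208),
  (975640059973824261584930875182713376, 959487685147535897104303799026460224, 977027255965144737490240734443378208)]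

def oP : ℕ := 24225226902548029001006560607014071

def iP : ℕ := 966182099583441531322624363496310816

def TL : List ℕ := [
  984818244535754528103549039458486304,
  979121071158219704299181131031480352,
  966182099583441531322624363496310816,
  961365507626256404119956257276790816,
  24225226902548029001006560607014071,
  28948844618502962286216463385693367,
  5617802166400001018974370067975351,
  11164560870374693308099104207867063]

def RL : List CenCert.Root := [
  (0, [0, 23], []),
  (1, [1, 2, 3, 5, 14, 17], [[2]]),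
  (4, [4, 7, 8, 9, 11, 13, 15, 21], [[1]]),
  (9, [9, 21], [[1, 0]])]

def WL : List (ℕ × List ℕ) := [
  (0, []),
  (1, []),
  (1, [1, 0, 0]),
  (1, [0, 0]),
  (2, []),
  (1, [1]),
  (2, [1, 2, 0, 0]),
  (2, [0, 0]),
  (2, [2, 1, 2]),
  (3, []),
  (3, [1, 2]),
  (2, [2, 1, 2, 0]),
  (2, [2, 0]),
  (2, [0]),
  (1, [1, 0]),
  (2, [2, 1, 2, 0, 0]),
  (2, [1, 2, 0]),
  (1, [0]),
  (2, [2]),
  (3, [2]),
  (2, [2, 0, 0]),
  (3, [2, 1, 2]),
  (2, [1, 2]),
  (0, [1])]

def GO : List ℕ := [
  964038917760814939315992205756774496,
  979121071158219704299181131031480352,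
  971352900320326150117627781840934432,
  984818244535754528103549039458486304,
  981729875674948251295774436335597664,
  977027255965144737490240734443378208]

def AL : List (ℕ × ℕ × ℕ) := [
  (979121071158219704299181131031480352, 969231174250762110498729277811427488, 976448692869377735270425038196672544),
  (966182099583441531322624363496310816, 976448692869377735270425038196672544, 984686412000481665237904396589909024),
  (961365507626256404119956257276790816, 961438956620049001677386430328277024, 976448692869377735270425038196672544),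
  (24225226902548029001006560607014071, 976448692869377735270425038196672544, 964046246854116924572671177954233376),
  (28948844618502962286216463385693367, 976448692869377735270425038196672544, 969240118097008726526406917528625184)]

end Cfsg.Agent.OddHalf.NI3.ExM22Data

end

-- merged: Cfsg.Agent.OddHalf.NI3.Bad.ExM22
section

/-!
# (EX4), row `M22` (helper941)

`twoTri` : `ExTri.TwoTri M22`; `ex4` : `ExFour.EX4 X` for `X ≃* M22`.
-/

set_option autoImplicit false

namespace Cfsg.Agent.OddHalf.NI3.ExM22

open Subgroup Cfsg Cfsg.Agent.SporadicA.GolayBase Cfsg.Agent.SporadicA.GolayPerm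
open Cfsg.Agent.SporadicStructure.M24El Cfsg.Agent.KFacts.MM Cfsg.Agent.OddHalf.D4.M22
open Cfsg.Agent.OddHalf.NI3.ExTri Cfsg.Agent.OddHalf.NI3.TriM24 Cfsg.Agent.OddHalf.NI3.ExM22Data
open Cfsg.Agent.J4Type.Aut22 (D22 mem_D22_iff M22_le_D22 mem_M22_iff_D22 exists_conj
  eq_one_of_centralizes card_D22)

/-- Boolean test for membership in `D22` -/
def okD (P : ℕ) : Bool :=
  isPerm P && isAut P && ((Nat.beq (papp P 23) 23 && Nat.beq (papp P 0) 0) ||
    (Nat.beq (papp P 23) 0 && Nat.beq (papp P 0) 23))

/-- parity -/
def inX (P : ℕ) : Bool := Nat.beq (papp P 23) 23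

theorem pm_pt' {P : ℕ} (h : isPerm P = true) {i : ℕ} (hi : i < 24) : El.pm P (pt i) = pt (papp P i) := by
  have h1 := El.pt_val (El.pm P) i
  rw [El.val_pm h hi] at h1
  exact h1.symm

theorem of_okD (P : ℕ) (h : okD P = true) : isPerm P = true ∧ El.pm P ∈ D22 := by
  unfold okD at h
  rw [Bool.and_eq_true, Bool.and_eq_true, Bool.or_eq_true, Bool.and_eq_true, Bool.and_eq_true] at h
  obtain ⟨⟨h1, h2⟩, h3⟩ := h
  refine ⟨h1, (mem_D22_iff _).2 ⟨El.pm_mem_M24 h1 h2, ?_⟩⟩
  have h4 := pm_pt' h1 (i := 23) (by norm_num)
  have h5 := pm_pt' h1 (i := 0) (by norm_num)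
  rcases h3 with ⟨h6, h7⟩ | ⟨h6, h7⟩
  · left
    rw [Nat.eq_of_beq_eq_true h6, InvOut.pt_23] at h4
    rw [Nat.eq_of_beq_eq_true h7, InvOut.pt_0] at h5
    exact ⟨h4, h5⟩
  · right
    rw [Nat.eq_of_beq_eq_true h6, InvOut.pt_23, InvOut.pt_0] at h4
    rw [Nat.eq_of_beq_eq_true h7, InvOut.pt_0, InvOut.pt_23] at h5
    exact ⟨h4, h5⟩

theorem of_okX (P : ℕ) (h : Cent.ok22 P = true) : isPerm P = true ∧ El.pm P ∈ Spor.M22 := Cent.mem_of_ok22 h

theorem inX_iff (P : ℕ) (h : isPerm P = true) (hD : El.pm P ∈ D22) : inX P = true ↔ El.pm P ∈ Spor.M22 := by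
  rw [mem_M22_iff_D22]
  have h4 := pm_pt' h (i := 23) (by norm_num)
  unfold inX
  rw [Nat.beq_eq]
  constructor
  · intro h5
    rw [h5, InvOut.pt_23] at h4
    exact ⟨hD, h4⟩
  · rintro ⟨-, h5⟩
    rw [InvOut.pt_23, h5] at h4
    have h6 : pt 23 = pt (papp P 23) := by rw [← h4]; rfl
    have h7 := congrArg idx h6
    have h8 : papp P 23 < 24 := by
      rw [← El.val_pm h (by norm_num : 23 < 24)]
      exact El.val_lt _ _
    rw [idx_pt (by norm_num), idx_pt h8] at h7
    exact h7.symm

theorem chk1 : chkC inX Inv.admO vP [oP, iP] TL [[0], [0, 0], [1], [1, 1], [0, 1, 0, 1]] RL WL GO = true := by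
  decide +kernel

theorem chk2 : chkA Cent.ok22 vP TL AL = true := by decide +kernel

theorem chk3 : chkE okD [vP] EL CL = true := by decide +kernel

theorem chk4 : chkG EL = true := by decide +kernel

theorem chk5 : El.dist (EL.map fun P => [P]) = true := by decide +kernel

theorem chk6 : EL.all okD = true := by decide +kernel

theorem chk7 : okD vP = true := by decide +kernel

theorem chk8 : El.weq [vP, vP, vP] [] = true := by decide +kernel

theorem chk9 : TL.all okD = true := by decide +kernel

theorem nrm (g : Equiv.Perm GolayPt) (hg : g ∈ D22) (x : Equiv.Perm GolayPt) :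
    x ∈ Spor.M22 ↔ g * x * g⁻¹ ∈ Spor.M22 := by
  constructor
  · exact fun h => OutAut.conj_mem22 hg h
  · intro h
    have h1 := OutAut.conj_mem22 (D22.inv_mem hg) h
    have e : g⁻¹ * (g * x * g⁻¹) * g⁻¹⁻¹ = x := by group
    rwa [e] at h1

theorem good : GoodCls (Spor.M22.subgroupOf D22) (⟨El.pm vP, (of_okD vP chk7).2⟩ : D22) :=
  goodCls (fun g hg => ((mem_D22_iff g).1 hg).1) inX_iff nrm (fun g hg j hj => Inv.admO_of hg hj) M22_le_D22
    of_okX of_okD chk7 chk8 chk9 chk1 chk2

/-- the elements of order 3 of `D22` -/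
theorem rep (b : D22) (hb : b * b * b = 1) (hb1 : b ≠ 1) :
    ∃ w : D22, w * b * w⁻¹ = (⟨El.pm vP, (of_okD vP chk7).2⟩ : D22) := by
  have hV : ∀ P ∈ [vP], okD P = true := by
    intro P hP
    rw [List.mem_singleton.1 hP]
    exact chk7
  obtain ⟨P, hP, w, hw⟩ := exists_rep (D := D22) of_okD chk3 chk4 chk5
    (fun P hP => (of_okD P (List.all_eq_true.1 chk6 P hP)).2) (fun P hP => (of_okD P (hV P hP)).1)
    (fun P hP => (of_okD P (hV P hP)).2) (k := 2) (m := 98560) (by decide) (by rw [card_D22]; norm_num) (by norm_num) b hb hb1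
  obtain rfl := List.mem_singleton.1 hP
  exact ⟨w, hw⟩

/-- **(EX4), row `M22`, triples** -/
theorem twoTri : TwoTri Spor.M22 := by
  haveI hn : (Spor.M22.subgroupOf D22).Normal := by
    refine ⟨fun x hx g => ?_⟩
    exact (nrm g g.2 x).1 hx
  apply twoTri_of_iso (subgroupOfEquivOfLe M22_le_D22)
  apply twoTri_of
  · intro α
    let e : Spor.M22.subgroupOf D22 ≃* Spor.M22 := subgroupOfEquivOfLe M22_le_D22
    obtain ⟨g, hg, hgm⟩ := exists_conj ((e.symm.trans α).trans e)
    refine ⟨⟨g, hg⟩, fun x => Subtype.ext ?_⟩
    have h1 := hgm (e x)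
    rw [MulEquiv.trans_apply, MulEquiv.trans_apply, e.symm_apply_apply] at h1
    exact h1
  · intro w hw
    apply Subtype.ext
    apply eq_one_of_centralizes w.2
    intro m
    have h1 := congrArg Subtype.val (hw ⟨m, M22_le_D22 m.2⟩ m.2)
    have h2 : (w : Equiv.Perm GolayPt) * m = m * w := h1
    rw [h2]
    group
  · apply all_of_cls
    intro b hb hb1
    obtain ⟨w, hw⟩ := rep b hb hb1
    exact ⟨_, good, w, Or.inl hw⟩

/-- **(EX4), row `M22`** -/
theorem ex4 {X : Type*} [Group X] (h : Spor.IsoM22 X) : ExFour.EX4 X := by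
  obtain ⟨e⟩ := h
  refine ExFour.ex4_of_equiv e ?_ twoTri
  rw [eq_bot_iff]
  intro c hc
  have h1 : (c : Equiv.Perm GolayPt) = 1 := by
    apply eq_one_of_centralizes (M22_le_D22 c.2)
    intro m
    have h2 := congrArg Subtype.val (mem_center_iff.1 hc m)
    have h3 : (m : Equiv.Perm GolayPt) * c = c * m := h2
    rw [← h3]
    group
  exact mem_bot.2 (Subtype.ext h1)

end Cfsg.Agent.OddHalf.NI3.ExM22

end
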