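import Mathlib
import Cfsg.Agent.GTwoFour.OuterFour
import Cfsg.Agent.GTwoFour.OuterSyl
import Cfsg.Agent.OddHalf.NI3.TC
import Cfsg.Agent.OddHalf.NI3.Step
import Cfsg.Agent.SignalizersComponents.LocalLayer
import Cfsg.Agent.OddHalf.NI3.Bad.Basic

-- merged: Cfsg.Agent.GTwoFour.OuterMat
section

set_option autoImplicit false

/-!
# Automorphisms of an elementary abelian group of order 16

`W` is free of rank one over `𝔽₂[⟨τ, γ⟩]`, `⟨τ, γ⟩` a four-group; `η` of order three without fixed points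
commutes with `τ` and is inverted by `γ`; `ρ` permutes `τ, γ, τγ` cyclically. Then `τ η ρ² η ρ⁴` has order 4.
(In `GL₄(2) = A₈` these generate `A₇`.)
-/

namespace Cfsg.Agent.GTwoFour.OuterMat

/-- the linear map with the images `a₀, a₁, a₂, a₃` of the basis vectors. -/
def app (a : ℕ × ℕ × ℕ × ℕ) (v : ℕ) : ℕ :=
  (if v.testBit 0 then a.1 else 0) ^^^ (if v.testBit 1 then a.2.1 else 0) ^^^
    (if v.testBit 2 then a.2.2.1 else 0) ^^^ (if v.testBit 3 then a.2.2.2 else 0)

def T (v : ℕ) : ℕ := app (2, 1, 8, 4) v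
def C (v : ℕ) : ℕ := app (4, 8, 1, 2) v

/-- the matrix of `η`, `η e = a` -/
def hm (a : ℕ) : ℕ × ℕ × ℕ × ℕ := (a, T a, C (a ^^^ 1), T (C (a ^^^ 1)))

/-- the matrix of `ρ`, `ρ e = v` -/
def rm (d : Bool) (v : ℕ) : ℕ × ℕ × ℕ × ℕ :=
  if d then (v, C v, T (C v), T v) else (v, T (C v), T v, C v)

def Y (h r : ℕ × ℕ × ℕ × ℕ) (v : ℕ) : ℕ :=
  T (app h (app r (app r (app h (app r (app r (app r (app r v))))))))

def good (h r : ℕ × ℕ × ℕ × ℕ) : Bool :=
  (List.range 16).all (fun x => Nat.beq (Y h r (Y h r (Y h r (Y h r x)))) x) &&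
    !((List.range 16).all (fun x => Nat.beq (Y h r (Y h r x)) x))

def test (d : Bool) (a v : ℕ) : Bool :=
  !(Nat.beq (app (hm a) a) (a ^^^ 1)) || Nat.beq (app (rm d v) 15) 0 || good (hm a) (rm d v)

theorem test_all : ((List.range 16).all fun a => (List.range 16).all fun v =>
    test true a v && test false a v) = true := by
  decide +kernel

theorem test_eq {a v : ℕ} (ha : a < 16) (hv : v < 16) (d : Bool) : test d a v = true := by
  have h1 := List.all_eq_true.1 test_all a (List.mem_range.2 ha)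
  have h2 := List.all_eq_true.1 h1 v (List.mem_range.2 hv)
  rw [Bool.and_eq_true] at h2
  cases d
  · exact h2.2
  · exact h2.1

theorem app_lt {a0 a1 a2 a3 : ℕ} (h0 : a0 < 16) (h1 : a1 < 16) (h2 : a2 < 16) (h3 : a3 < 16)
    (v : ℕ) : app (a0, a1, a2, a3) v < 16 := by
  have e : (16 : ℕ) = 2 ^ 4 := by norm_num
  unfold app
  rw [e] at *
  refine Nat.xor_lt_two_pow (Nat.xor_lt_two_pow (Nat.xor_lt_two_pow ?_ ?_) ?_) ?_
  all_goals
    dsimp only
    split
    · assumption
    · norm_num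

theorem T_lt (v : ℕ) : T v < 16 := app_lt (by norm_num) (by norm_num) (by norm_num) (by norm_num) v
theorem C_lt (v : ℕ) : C v < 16 := app_lt (by norm_num) (by norm_num) (by norm_num) (by norm_num) v

theorem socle : ∀ v < 16, v ≠ 0 → (v = 15 ∨ v ^^^ T v = 15 ∨ v ^^^ C v = 15 ∨
    v ^^^ T v ^^^ C v ^^^ T (C v) = 15) := by decide +kernel

variable {W : Type*} [CommGroup W]

section

variable (τ γ : MulAut W) (e : W)

/-- coordinates -/
noncomputable def m (v : ℕ) : W :=
  (if v.testBit 0 then e else 1) * (if v.testBit 1 then τ e else 1) *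
    (if v.testBit 2 then γ e else 1) * (if v.testBit 3 then τ (γ e) else 1)

variable {τ γ e}

theorem bit_mul {x : W} (hx : x * x = 1) (a b : Bool) :
    (if (a ^^ b) = true then x else 1) = (if a = true then x else 1) * (if b = true then x else 1) := by
  cases a <;> cases b <;> simp [hx]

theorem m_xor (hsq : ∀ w : W, w * w = 1) (v w : ℕ) : m τ γ e (v ^^^ w) = m τ γ e v * m τ γ e w := by
  unfold m
  rw [Nat.testBit_xor, Nat.testBit_xor, Nat.testBit_xor, Nat.testBit_xor,
    bit_mul (hsq _), bit_mul (hsq _), bit_mul (hsq _), bit_mul (hsq _)]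
  symm
  rw [mul_mul_mul_comm]
  congr 1
  rw [mul_mul_mul_comm]
  congr 1
  rw [mul_mul_mul_comm]

theorem m_zero : m τ γ e 0 = 1 := by simp [m]

theorem m_ite {x : ℕ} (b : Bool) : m τ γ e (if b = true then x else 0) = if b = true then m τ γ e x else 1 := by
  cases b
  · simp [m_zero]
  · simp

/-- an automorphism in coordinates -/
theorem map_m (hsq : ∀ w : W, w * w = 1) (α : MulAut W) {a0 a1 a2 a3 : ℕ} (h0 : α e = m τ γ e a0)
    (h1 : α (τ e) = m τ γ e a1) (h2 : α (γ e) = m τ γ e a2) (h3 : α (τ (γ e)) = m τ γ e a3) (v : ℕ) :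
    α (m τ γ e v) = m τ γ e (app (a0, a1, a2, a3) v) := by
  have key : ∀ (b : Bool) (x : W), α (if b = true then x else 1) = if b = true then α x else 1 := by
    intro b x; cases b <;> simp
  unfold app
  rw [m_xor hsq, m_xor hsq, m_xor hsq, m_ite, m_ite, m_ite, m_ite]
  conv_lhs => unfold m
  rw [map_mul, map_mul, map_mul, key, key, key, key, h0, h1, h2, h3]

theorem m1 : m τ γ e 1 = e := by
  show e * 1 * 1 * 1 = e
  simp
theorem m2 : m τ γ e 2 = τ e := by
  show 1 * τ e * 1 * 1 = τ e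
  simp
theorem m4 : m τ γ e 4 = γ e := by
  show 1 * 1 * γ e * 1 = γ e
  simp
theorem m8 : m τ γ e 8 = τ (γ e) := by
  show 1 * 1 * 1 * τ (γ e) = τ (γ e)
  simp

end

/-- **The matrix computation.** -/
theorem order_four [Finite W] (hcard : Nat.card W = 16) (hsq : ∀ w : W, w * w = 1)
    (τ γ η ρ : MulAut W) (hτ : ∀ w, τ (τ w) = w) (hγ : ∀ w, γ (γ w) = w)
    (hτγ : ∀ w, τ (γ w) = γ (τ w)) (e : W) (he : e * τ e * γ e * τ (γ e) ≠ 1)
    (hητ : ∀ w, η (τ w) = τ (η w)) (hηγ : ∀ w, η (γ (η w)) = γ w)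
    (hη : ∀ w, w * η w * η (η w) = 1)
    (hρ : ((∀ w, ρ (τ w) = γ (ρ w)) ∧ ∀ w, ρ (γ w) = τ (γ (ρ w))) ∨
      ((∀ w, ρ (τ w) = τ (γ (ρ w))) ∧ ∀ w, ρ (γ w) = τ (ρ w))) :
    (τ * η * ρ * ρ * η * ρ * ρ * ρ * ρ) ^ 4 = 1 ∧ (τ * η * ρ * ρ * η * ρ * ρ * ρ * ρ) ^ 2 ≠ 1 := by
  have hT : ∀ v, τ (m τ γ e v) = m τ γ e (T v) := by
    intro v
    apply map_m hsq τ
    · rw [m2]
    · rw [hτ, m1]
    · rw [m8]
    · rw [hτ, m4]
  have hC : ∀ v, γ (m τ γ e v) = m τ γ e (C v) := by
    intro v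
    apply map_m hsq γ
    · rw [m4]
    · rw [m8, hτγ]
    · rw [hγ, m1]
    · rw [hτγ, hγ, m2]
  have h15 : m τ γ e 15 ≠ 1 := he
  have hker : ∀ v < 16, m τ γ e v = 1 → v = 0 := by
    intro v hv h1
    by_contra h0
    apply h15
    have hTv : m τ γ e (T v) = 1 := by rw [← hT, h1, map_one]
    have hCv : m τ γ e (C v) = 1 := by rw [← hC, h1, map_one]
    have hTC : m τ γ e (T (C v)) = 1 := by rw [← hT, hCv, map_one]
    rcases socle v hv h0 with h | h | h | h
    · rw [← h, h1]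
    · rw [← h, m_xor hsq, h1, hTv, mul_one]
    · rw [← h, m_xor hsq, h1, hCv, mul_one]
    · rw [← h, m_xor hsq, m_xor hsq, m_xor hsq, h1, hTv, hCv, hTC, mul_one, mul_one, mul_one]
  have hinj : ∀ v < 16, ∀ w < 16, m τ γ e v = m τ γ e w → v = w := by
    intro v hv w hw h
    have h1 : v ^^^ w < 16 := by
      have e16 : (16 : ℕ) = 2 ^ 4 := by norm_num
      rw [e16] at *
      exact Nat.xor_lt_two_pow hv hw
    have h2 := hker _ h1 (by rw [m_xor hsq, h, hsq])
    exact Nat.xor_eq_zero_iff.1 h2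
  have hsurj : ∀ w : W, ∃ v < 16, m τ γ e v = w := by
    have : Fintype W := Fintype.ofFinite W
    let F : Fin 16 → W := fun i => m τ γ e i
    have hF : Function.Injective F := fun i j h => Fin.ext (hinj _ i.2 _ j.2 h)
    have hb : Function.Bijective F := by
      rw [Fintype.bijective_iff_injective_and_card]
      exact ⟨hF, by rw [Fintype.card_fin, ← Nat.card_eq_fintype_card, hcard]⟩
    intro w
    obtain ⟨i, hi⟩ := hb.2 w
    exact ⟨i, i.2, hi⟩
  obtain ⟨a, ha, hae⟩ := hsurj (η e)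
  obtain ⟨v, hv, hve⟩ := hsurj (ρ e)
  have hη2 : ∀ w, η (η w) = w * η w := by
    intro w
    have h1 := hη w
    calc η (η w) = (w * η w) * (w * η w) * η (η w) := by rw [hsq, one_mul]
      _ = (w * η w) * ((w * η w) * η (η w)) := by rw [mul_assoc]
      _ = w * η w := by rw [h1, mul_one]
  have hη3 : ∀ w, η (η (η w)) = w := by
    intro w
    rw [hη2 (η w), hη2 w]
    calc η w * (w * η w) = w * (η w * η w) := by rw [mul_left_comm]
      _ = w := by rw [hsq, mul_one]
  have hηγ' : ∀ w, η (γ w) = γ (w * η w) := by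
    intro w
    have h1 := hηγ (η (η w))
    rw [hη3] at h1
    rw [h1, hη2]
  have hH : ∀ x, η (m τ γ e x) = m τ γ e (app (hm a) x) := by
    intro x
    apply map_m hsq η
    · rw [hae]
    · rw [hητ, ← hae, hT]
    · rw [hηγ', ← hae]
      have : e * m τ γ e a = m τ γ e (a ^^^ 1) := by rw [m_xor hsq, m1, mul_comm]
      rw [this, hC]
    · rw [hητ, hηγ', ← hae]
      have : e * m τ γ e a = m τ γ e (a ^^^ 1) := by rw [m_xor hsq, m1, mul_comm]
      rw [this, hC, hT]
  have hR : ∃ d : Bool, ∀ x, ρ (m τ γ e x) = m τ γ e (app (rm d v) x) := by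
    rcases hρ with ⟨h1, h2⟩ | ⟨h1, h2⟩
    · refine ⟨true, fun x => ?_⟩
      apply map_m hsq ρ
      · rw [hve]
      · rw [h1, ← hve, hC]
      · rw [h2, ← hve, hC, hT]
      · rw [h1, h2, hτγ, hγ, ← hve, hT]
    · refine ⟨false, fun x => ?_⟩
      apply map_m hsq ρ
      · rw [hve]
      · rw [h1, ← hve, hC, hT]
      · rw [h2, ← hve, hT]
      · rw [h1, h2, ← hτγ, hτ, ← hve, hC]
  obtain ⟨d, hR⟩ := hR
  have htest := test_eq ha hv d
  have hlt : ∀ x, app (hm a) x < 16 := fun x => app_lt ha (T_lt _) (C_lt _) (T_lt _) x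
  have hlt' : ∀ x, app (rm d v) x < 16 := by
    intro x
    cases d
    · exact app_lt hv (T_lt _) (T_lt _) (C_lt _) x
    · exact app_lt hv (C_lt _) (T_lt _) (T_lt _) x
  -- the two conditions
  have hc1 : Nat.beq (app (hm a) a) (a ^^^ 1) = true := by
    rw [Nat.beq_eq]
    have h1 : a ^^^ 1 < 16 := by
      have e16 : (16 : ℕ) = 2 ^ 4 := by norm_num
      rw [e16] at *
      exact Nat.xor_lt_two_pow ha (by norm_num)
    apply hinj _ (hlt _) _ h1
    rw [← hH, hae, m_xor hsq, m1, hη2, hae, mul_comm]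
  have hc2 : Nat.beq (app (rm d v) 15) 0 = false := by
    by_contra hne
    rw [Bool.not_eq_false, Nat.beq_eq] at hne
    apply h15
    have h1 := hR 15
    rw [hne, m_zero] at h1
    exact (map_eq_one_iff ρ ρ.injective).1 h1
  have hgood : good (hm a) (rm d v) = true := by
    unfold test at htest
    rw [hc1, hc2] at htest
    simpa using htest
  unfold good at hgood
  rw [Bool.and_eq_true] at hgood
  obtain ⟨hg1, hg2⟩ := hgood
  set y := τ * η * ρ * ρ * η * ρ * ρ * ρ * ρ with hy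
  have hY : ∀ x, y (m τ γ e x) = m τ γ e (Y (hm a) (rm d v) x) := by
    intro x
    show τ (η (ρ (ρ (η (ρ (ρ (ρ (ρ (m τ γ e x))))))))) = _
    rw [hR, hR, hR, hR, hH, hR, hR, hH, hT]
    rfl
  constructor
  · ext w
    obtain ⟨x, hx, rfl⟩ := hsurj w
    have h1 := List.all_eq_true.1 hg1 x (List.mem_range.2 hx)
    rw [Nat.beq_eq] at h1
    show (y ^ 4) _ = _
    have e4 : y ^ 4 = y * y * y * y := by rw [pow_succ, pow_succ, pow_succ, pow_one]
    rw [e4]
    show y (y (y (y _))) = _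
    rw [hY, hY, hY, hY, h1]
    rfl
  · intro h2
    rw [Bool.not_eq_true', ← Bool.not_eq_true, List.all_eq_true] at hg2
    apply hg2
    intro x hx
    have hx' := List.mem_range.1 hx
    rw [Nat.beq_eq]
    apply hinj (Y (hm a) (rm d v) (Y (hm a) (rm d v) x)) (T_lt _) x hx'
    rw [← hY, ← hY]
    rw [pow_two] at h2
    exact DFunLike.congr_fun h2 (m τ γ e x)

end Cfsg.Agent.GTwoFour.OuterMat

end

-- merged: Cfsg.Agent.GTwoFour.OuterMain
section

set_option autoImplicit false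

/-!
# The outer part of order four: the contradiction

`K = N_G(W)/C_G(W) ≤ GL₄(2)` has the Sylow 2-subgroup `⟨t̄, c̄⟩` with `t̄ ~ c̄ ~ t̄ c̄`: matrix computation.
-/

namespace Cfsg.Agent.GTwoFour.OuterFour

open Subgroup

variable {G : Type*} [Group G]

/-- proper subgroups of 2-groups are properly contained in their normaliser. -/
theorem exists_norm_grow [Finite G] {P R : Subgroup G} (hR : IsPGroup 2 R) (hle : P ≤ R)
    (hne : P ≠ R) : ∃ n ∈ R, n ∉ P ∧ ∀ x ∈ P, n * x * n⁻¹ ∈ P := by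
  have hfact : Fact (Nat.Prime 2) := ⟨Nat.prime_two⟩
  have hnil : Group.IsNilpotent R := hR.isNilpotent
  have hnc : NormalizerCondition R := Group.normalizerCondition_of_isNilpotent
  have hlt : P.subgroupOf R < ⊤ := by
    rw [lt_top_iff_ne_top]
    intro h
    rw [subgroupOf_eq_top] at h
    exact hne (le_antisymm hle h)
  have h1 := hnc _ hlt
  obtain ⟨n, hn, hn'⟩ := SetLike.exists_of_lt h1
  refine ⟨n, n.2, fun h => hn' (mem_subgroupOf.2 h), fun x hx => ?_⟩
  have h2 := (mem_normalizer_iff.1 hn ⟨x, hle hx⟩).1 (mem_subgroupOf.2 hx)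
  exact mem_subgroupOf.1 h2

namespace Outer

variable {t c h : G} {S S0 W D : Subgroup G}

theorem mem_norm [Finite G] (_O : Outer t c h S S0 W D) {n : G} (hn : ∀ w ∈ W, n * w * n⁻¹ ∈ W) :
    n ∈ normalizer (W : Set G) := by
  rw [mem_normalizer_iff]
  have h1 : W.map (MulAut.conj n).toMonoidHom = W := by
    apply Subgroup.eq_of_le_of_card_ge
    · rintro _ ⟨w, hw, rfl⟩
      exact hn w hw
    · exact (Nat.card_congr (W.equivMapOfInjective _ (MulAut.conj n).injective).toEquiv).le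
  intro x
  constructor
  · intro hx; exact hn x hx
  · intro hx
    have h2 : n * x * n⁻¹ ∈ W.map (MulAut.conj n).toMonoidHom := by rw [h1]; exact hx
    obtain ⟨y, hy, e⟩ := h2
    have e' : n * y * n⁻¹ = n * x * n⁻¹ := e
    have h3 : y = x := mul_left_cancel (mul_right_cancel e')
    rw [← h3]; exact hy

theorem S_le_norm [Finite G] (O : Outer t c h S S0 W D) {s : G} (hs : s ∈ S) :
    s ∈ normalizer (W : Set G) := O.mem_norm (O.W_norm s hs)

theorem S_cent [Finite G] (O : Outer t c h S S0 W D) {s : G} (hs : s ∈ S)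
    (hc : s ∈ centralizer (W : Set G)) : s ∈ S0 := by
  rw [mem_centralizer_iff] at hc
  obtain ⟨z, hz, h1, h2⟩ := O.c_Z
  have hz' := hc z hz
  rcases O.cover s hs with h | h | h | h
  · exact h
  · exfalso
    -- `t s` centralises, so `t` does
    have h3 : W ⊓ centralizer {t} = W := by
      apply inf_eq_left.2
      intro w hw
      rw [mem_centralizer_singleton_iff]
      have h4 := O.W_cent w hw _ h
      have h5 := hc w hw
      have h6 : w * t * s = t * w * s := by
        calc w * t * s = w * (t * s) := by group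
          _ = t * s * w := h4
          _ = t * (s * w) := by group
          _ = t * (w * s) := by rw [h5]
          _ = t * w * s := by group
      exact mul_right_cancel h6
    have h7 := O.Z_card
    rw [h3, O.W_card] at h7
    norm_num at h7
  · exfalso
    apply h2
    have h4 := O.W_cent z hz _ h
    have h6 : z * c * s = c * z * s := by
      calc z * c * s = z * (c * s) := by group
        _ = c * s * z := h4
        _ = c * (s * z) := by group
        _ = c * (z * s) := by rw [hz']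
        _ = c * z * s := by group
    exact mul_right_cancel h6
  · exfalso
    apply h2
    have h4 := O.W_cent z hz _ h
    have h6 : t * (z * c) * s = t * (c * z) * s := by
      calc t * (z * c) * s = t * z * (c * s) := by group
        _ = z * t * (c * s) := by rw [h1]
        _ = z * (t * c * s) := by group
        _ = t * c * s * z := h4
        _ = t * c * (s * z) := by group
        _ = t * c * (z * s) := by rw [hz']
        _ = t * (c * z) * s := by group
    exact mul_left_cancel (mul_right_cancel h6)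

/-- **H0**: 2-subgroups of `C(t) ∩ N(W)` are conjugate into `S`. -/
theorem conj_into [Finite G] (O : Outer t c h S S0 W D) {M : Subgroup G} (hM : IsPGroup 2 M)
    (hMt : ∀ m ∈ M, m * t = t * m) (hMW : M ≤ normalizer (W : Set G)) :
    ∃ k ∈ normalizer (W : Set G), k * t = t * k ∧ ∀ m ∈ M, k * m * k⁻¹ ∈ S := by
  have hfact : Fact (Nat.Prime 2) := ⟨Nat.prime_two⟩
  set NC := normalizer (W : Set G) ⊓ centralizer {t} with hNC
  have hT : S ⊓ centralizer {t} ≤ NC := fun x hx => ⟨O.S_le_norm hx.1, hx.2⟩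
  have hMle : M ≤ NC := fun m hm => ⟨hMW hm, mem_centralizer_singleton_iff.2 (hMt m hm)⟩
  have hidx : ¬ 2 ∣ (S ⊓ centralizer {t}).relIndex NC := by
    intro h2
    have h3 : (S ⊓ centralizer {t}).relIndex NC * NC.relIndex (centralizer {t}) =
        (S ⊓ centralizer {t}).relIndex (centralizer {t}) := relIndex_mul_relIndex _ _ _ hT inf_le_right
    have h5 : (S ⊓ centralizer {t}).relIndex (centralizer {t}) = S.relIndex (centralizer {t}) :=
      inf_relIndex_right _ _
    rw [h5] at h3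
    have h4 : 2 ∣ S.relIndex (centralizer {t}) := by rw [← h3]; exact h2.trans (dvd_mul_right _ _)
    exact (Nat.not_even_iff_odd.2 O.odd) (even_iff_two_dvd.2 h4)
  obtain ⟨k, hk, hkM⟩ := exists_conj_le hMle (O.pS.to_le inf_le_left) hM hidx
  exact ⟨k, hk.1, mem_centralizer_singleton_iff.1 hk.2, fun m hm => (hkM m hm).1⟩

theorem cent_conj {n x : G} (hn : n ∈ normalizer (W : Set G)) (hx : x ∈ centralizer (W : Set G)) :
    n * x * n⁻¹ ∈ centralizer (W : Set G) := by
  rw [mem_centralizer_iff] at hx ⊢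
  intro w hw
  have h1 : n⁻¹ * w * n ∈ W := by
    have := (mem_normalizer_iff.1 ((normalizer (W : Set G)).inv_mem hn) w).1 hw
    rwa [inv_inv] at this
  have h2 := hx _ h1
  calc w * (n * x * n⁻¹) = n * (n⁻¹ * w * n * x) * n⁻¹ := by group
    _ = n * (x * (n⁻¹ * w * n)) * n⁻¹ := by rw [h2]
    _ = _ := by group

theorem S0_cent (O : Outer t c h S S0 W D) {s : G} (hs : s ∈ S0) : s ∈ centralizer (W : Set G) := by
  rw [mem_centralizer_iff]
  intro w hw
  exact O.W_cent w hw s hs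

theorem t_notCent [Finite G] (O : Outer t c h S S0 W D) : t ∉ centralizer (W : Set G) :=
  fun h1 => O.t_notMem (O.S_cent O.t_mem h1)

/-- the group `C(W)⟨t⟩` -/
def XT [Finite G] (O : Outer t c h S S0 W D) : Subgroup G where
  carrier := {x | x ∈ centralizer (W : Set G) ∨ t * x ∈ centralizer (W : Set G)}
  one_mem' := Or.inl (one_mem _)
  mul_mem' := by
    have htN : t ∈ normalizer (W : Set G) := O.S_le_norm O.t_mem
    rintro x y (hx | hx) (hy | hy)
    · exact Or.inl (mul_mem hx hy)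
    · right
      have h1 := cent_conj htN hx
      have : t * (x * y) = (t * x * t⁻¹) * (t * y) := by group
      rw [this]; exact mul_mem h1 hy
    · right
      have : t * (x * y) = t * x * y := by group
      rw [this]; exact mul_mem hx hy
    · left
      have h1 := cent_conj htN hx
      have : x * y = (t * (t * x) * t⁻¹) * (t * y) := by
        rw [← mul_assoc t t x, O.tt, one_mul, O.t_inv, mul_assoc, ← mul_assoc t t y, O.tt, one_mul]
      rw [this]; exact mul_mem h1 hy
  inv_mem' := by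
    have htN : t ∈ normalizer (W : Set G) := O.S_le_norm O.t_mem
    rintro x (hx | hx)
    · exact Or.inl (inv_mem hx)
    · right
      have h1 := cent_conj htN (inv_mem hx)
      have : t * x⁻¹ = t * (t * x)⁻¹ * t⁻¹ := by
        rw [mul_inv_rev, O.t_inv, mul_assoc, mul_assoc, O.tt, mul_one]
      show t * x⁻¹ ∈ _
      rw [this]; exact h1

/-- **H1**: `t` is unique up to conjugacy in its coset of `C(W)`. -/
theorem exists_conj_t [Finite G] (O : Outer t c h S S0 W D) {s : G} (hs : s * s = 1)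
    (hts : t * s ∈ centralizer (W : Set G)) :
    ∃ x ∈ centralizer (W : Set G), s = x * t * x⁻¹ := by
  have hfact : Fact (Nat.Prime 2) := ⟨Nat.prime_two⟩
  have htN : t ∈ normalizer (W : Set G) := O.S_le_norm O.t_mem
  have hXTN : ∀ x ∈ O.XT, x ∈ normalizer (W : Set G) := by
    have hCN : centralizer (W : Set G) ≤ normalizer (W : Set G) := centralizer_le_normalizer _
    rintro x (hx | hx)
    · exact hCN hx
    · have : x = t⁻¹ * (t * x) := by group
      rw [this]; exact mul_mem (inv_mem htN) (hCN hx)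
  set P1 := O.XT ⊓ S with hP1
  have hmemP1 : ∀ x, x ∈ P1 ↔ x ∈ S0 ∨ t * x ∈ S0 := by
    intro x
    constructor
    · rintro ⟨h1 | h1, h2⟩
      · exact Or.inl (O.S_cent h2 h1)
      · exact Or.inr (O.S_cent (mul_mem O.t_mem h2) h1)
    · rintro (h1 | h1)
      · exact ⟨Or.inl (O.S0_cent h1), O.S0_le h1⟩
      · refine ⟨Or.inr (O.S0_cent h1), ?_⟩
        show x ∈ S
        have : x = t⁻¹ * (t * x) := by group
        rw [this]; exact mul_mem (inv_mem O.t_mem) (O.S0_le h1)
  have hP1p : IsPGroup 2 P1 := O.pS.to_le inf_le_right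
  have htP1 : t ∈ P1 := (hmemP1 t).2 (Or.inr (by rw [O.tt]; exact one_mem _))
  -- conjugates of `t` in `t C(W)`: elements of `P1` are conjugate to `t` under `S0`
  have hP1t : ∀ v ∈ P1, v * v = 1 → t * v ∈ centralizer (W : Set G) → ∃ x ∈ S0, v = x * t * x⁻¹ := by
    intro v hv hvv hvt
    rcases (hmemP1 v).1 hv with h1 | h1
    · exfalso
      apply O.t_notCent
      have : t = t * v * v⁻¹ := by group
      rw [this]; exact mul_mem hvt (inv_mem (O.S0_cent h1))
    · have e : t * (t * v) = v := by rw [← mul_assoc, O.tt, one_mul]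
      obtain ⟨x, hx, h2⟩ := O.free _ h1 (by rw [e]; exact hvv)
      rw [e] at h2
      exact ⟨x, hx, h2⟩
  -- a Sylow subgroup of `XT` containing `P1`
  obtain ⟨Q, hQ⟩ := (hP1p.comap_of_injective O.XT.subtype Subtype.val_injective :
    IsPGroup 2 (P1.subgroupOf O.XT)).exists_le_sylow
  set R := (Q : Subgroup O.XT).map O.XT.subtype with hR
  have hRle : R ≤ O.XT := map_subtype_le _
  have hRp : IsPGroup 2 R := Q.2.map _
  have hP1R : P1 ≤ R := by
    intro x hx
    exact ⟨⟨x, hx.1⟩, hQ (mem_subgroupOf.2 hx), rfl⟩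
  have hPR : P1 = R := by
    by_contra hne
    obtain ⟨n, hnR, hnP, hnn⟩ := exists_norm_grow hRp hP1R hne
    have h1 := hnn t htP1
    have hnXT := hRle hnR
    have hnN := hXTN n hnXT
    -- `n t n⁻¹ ∈ t C(W)`
    have h2 : t * (n * t * n⁻¹) ∈ centralizer (W : Set G) := by
      rcases hnXT with h3 | h3
      · have : t * (n * t * n⁻¹) = (t * n * t⁻¹) * n⁻¹ := by rw [O.t_inv]; group
        rw [this]; exact mul_mem (cent_conj htN h3) (inv_mem h3)
      · have : t * (n * t * n⁻¹) = (t * n) * (t * (t * n)⁻¹ * t⁻¹) := by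
          rw [mul_inv_rev, O.t_inv]
          calc t * (n * t * n⁻¹) = t * n * t * n⁻¹ * 1 := by group
            _ = t * n * t * n⁻¹ * (t * t) := by rw [O.tt]
            _ = t * n * (t * (n⁻¹ * t) * t) := by group
        rw [this]; exact mul_mem h3 (cent_conj htN (inv_mem h3))
    obtain ⟨x, hx, h3⟩ := hP1t _ h1 (by
      calc n * t * n⁻¹ * (n * t * n⁻¹) = n * (t * t) * n⁻¹ := by group
        _ = 1 := by rw [O.tt]; group) h2
    have hxP : x ∈ P1 := (hmemP1 x).2 (Or.inl hx)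
    set m := x⁻¹ * n with hm
    have hmR : m ∈ R := mul_mem (inv_mem (hP1R hxP)) hnR
    have hmt : m * t = t * m := by
      calc x⁻¹ * n * t = x⁻¹ * (n * t * n⁻¹) * n := by group
        _ = x⁻¹ * (x * t * x⁻¹) * n := by rw [h3]
        _ = t * (x⁻¹ * n) := by group
    have hmP : m ∉ P1 := by
      intro h4
      apply hnP
      have : n = x * m := by rw [hm]; group
      rw [this]; exact mul_mem hxP h4
    -- the group `C_R(t)`
    set M := R ⊓ centralizer {t} with hM
    have hMp : IsPGroup 2 M := hRp.to_le inf_le_left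
    obtain ⟨k, hk, hkt, hkM⟩ := O.conj_into hMp
      (fun m hm => mem_centralizer_singleton_iff.1 hm.2) (fun m hm => hXTN m (hRle hm.1))
    set U := S0 ⊓ centralizer {t} with hU
    set MX := M ⊓ centralizer (W : Set G) with hMX
    have hUM : U ≤ MX := by
      intro y hy
      exact ⟨⟨hP1R ((hmemP1 y).2 (Or.inl hy.1)), hy.2⟩, O.S0_cent hy.1⟩
    have hMXU : MX.map (MulAut.conj k).toMonoidHom ≤ U := by
      rintro _ ⟨y, hy, rfl⟩
      have h4 : k * y * k⁻¹ ∈ S := hkM y hy.1
      have h5 : k * y * k⁻¹ ∈ centralizer (W : Set G) := cent_conj hk hy.2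
      refine ⟨O.S_cent h4 h5, mem_centralizer_singleton_iff.2 ?_⟩
      have h6 : y * t = t * y := mem_centralizer_singleton_iff.1 hy.1.2
      have hkt' : k⁻¹ * t = t * k⁻¹ := by
        calc k⁻¹ * t = k⁻¹ * (t * k) * k⁻¹ := by group
          _ = k⁻¹ * (k * t) * k⁻¹ := by rw [hkt]
          _ = t * k⁻¹ := by group
      show k * y * k⁻¹ * t = t * (k * y * k⁻¹)
      calc k * y * k⁻¹ * t = k * y * (k⁻¹ * t) := by group
        _ = k * (y * t) * k⁻¹ := by rw [hkt']; group
        _ = k * t * y * k⁻¹ := by rw [h6]; group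
        _ = t * (k * y * k⁻¹) := by rw [hkt]; group
    have hcard : Nat.card MX ≤ Nat.card U := by
      have h4 : Nat.card (MX.map (MulAut.conj k).toMonoidHom) = Nat.card MX :=
        (Nat.card_congr (MX.equivMapOfInjective _ (MulAut.conj k).injective).toEquiv).symm
      rw [← h4]
      exact Subgroup.card_le_of_le hMXU
    have hUMX : U = MX := Subgroup.eq_of_le_of_card_ge hUM hcard
    have hmM : m ∈ M := ⟨hmR, mem_centralizer_singleton_iff.2 hmt⟩
    have htM : t ∈ M := ⟨hP1R htP1, mem_centralizer_singleton_iff.2 rfl⟩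
    rcases hRle hmR with h4 | h4
    · have : m ∈ U := by rw [hUMX]; exact ⟨hmM, h4⟩
      exact hmP ((hmemP1 m).2 (Or.inl this.1))
    · have : t * m ∈ U := by rw [hUMX]; exact ⟨mul_mem htM hmM, h4⟩
      exact hmP ((hmemP1 m).2 (Or.inr this.1))
  have hidx : ¬ 2 ∣ P1.relIndex O.XT := by
    have h1 : P1.subgroupOf O.XT = Q := by
      rw [hPR, hR]
      exact comap_map_eq_self_of_injective Subtype.val_injective _
    rw [relIndex, h1]
    exact Q.not_dvd_index
  -- move `s` into `P1`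
  have hsXT : s ∈ O.XT := Or.inr hts
  have hsp : IsPGroup 2 (zpowers s) := by
    rw [IsPGroup.iff_card, Nat.card_zpowers]
    have h2 : orderOf s ∣ 2 ^ 1 := orderOf_dvd_of_pow_eq_one (by rw [pow_one, pow_two, hs])
    obtain ⟨k, _, hk⟩ := (Nat.dvd_prime_pow Nat.prime_two).1 h2
    exact ⟨k, hk⟩
  obtain ⟨k, hk, hks⟩ := exists_conj_le (zpowers_le.2 hsXT) hP1p hsp hidx
  have h1 := hks s (mem_zpowers s)
  have hkN := hXTN k hk
  have h2 : t * (k * s * k⁻¹) ∈ centralizer (W : Set G) := by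
    rcases hk with h3 | h3
    · have : t * (k * s * k⁻¹) = (t * k * t⁻¹) * (t * s) * k⁻¹ := by group
      rw [this]; exact mul_mem (mul_mem (cent_conj htN h3) hts) (inv_mem h3)
    · have : t * (k * s * k⁻¹) = (t * k) * ((t * (t * s) * t⁻¹) * (t * (t * k)⁻¹ * t⁻¹)) := by
        have e1 : t * (t * s) * t⁻¹ = s * t := by rw [← mul_assoc, O.tt, one_mul, O.t_inv]
        have e2 : t * (t * k)⁻¹ * t⁻¹ = t * k⁻¹ := by
          rw [mul_inv_rev, O.t_inv, mul_assoc, mul_assoc, O.tt, mul_one]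
        rw [e1, e2]
        calc t * (k * s * k⁻¹) = t * k * (s * 1 * k⁻¹) := by group
          _ = t * k * (s * (t * t) * k⁻¹) := by rw [O.tt]
          _ = t * k * (s * t * (t * k⁻¹)) := by group
      rw [this]
      exact mul_mem h3 (mul_mem (cent_conj htN hts) (cent_conj htN (inv_mem h3)))
  obtain ⟨x, hx, h3⟩ := hP1t _ h1 (by
    calc k * s * k⁻¹ * (k * s * k⁻¹) = k * (s * s) * k⁻¹ := by group
      _ = 1 := by rw [hs]; group) h2
  have h4 : s = (k⁻¹ * x) * t * (k⁻¹ * x)⁻¹ := by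
    calc s = k⁻¹ * (k * s * k⁻¹) * k := by group
      _ = k⁻¹ * (x * t * x⁻¹) * k := by rw [h3]
      _ = _ := by group
  have h5 : k⁻¹ * x ∈ O.XT := mul_mem (inv_mem hk) (Or.inl (O.S0_cent hx))
  rcases h5 with h5 | h5
  · exact ⟨_, h5, h4⟩
  · refine ⟨k⁻¹ * x * t, ?_, ?_⟩
    · have : k⁻¹ * x * t = t * (t * (k⁻¹ * x)) * t⁻¹ := by
        rw [← mul_assoc t t, O.tt, one_mul, O.t_inv]
      rw [this]; exact cent_conj htN h5
    · rw [h4]
      have e : k⁻¹ * x * t * t * (k⁻¹ * x * t)⁻¹ = k⁻¹ * x * (t * t) * t⁻¹ * (k⁻¹ * x)⁻¹ := by group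
      rw [e, O.tt, O.t_inv]; group

/-- `N_G(W)` acting on `W`. -/
noncomputable abbrev act (W : Subgroup G) : normalizer (W : Set G) →* MulAut W := W.normalizerMonoidHom

theorem act_apply (n : normalizer (W : Set G)) (w : W) :
    ((act W n w : W) : G) = (n : G) * w * (n : G)⁻¹ := rfl

theorem act_eq_one_iff (n : normalizer (W : Set G)) :
    act W n = 1 ↔ (n : G) ∈ centralizer (W : Set G) := by
  rw [mem_centralizer_iff]
  constructor
  · intro h1 w hw
    have h2 := congrArg Subtype.val (DFunLike.congr_fun h1 ⟨w, hw⟩)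
    rw [act_apply] at h2
    have h3 : (n : G) * w * (n : G)⁻¹ = w := h2
    calc w * n = n * w * (n : G)⁻¹ * n := by rw [h3]
      _ = n * w := by group
  · intro h1
    ext ⟨w, hw⟩
    rw [act_apply]
    show (n : G) * w * (n : G)⁻¹ = w
    rw [← h1 w hw]; group

/-- the projection onto `K = N_G(W)/C_G(W)` -/
noncomputable abbrev pr (W : Subgroup G) : normalizer (W : Set G) →* (act W).range := (act W).rangeRestrict

theorem pr_surj (W : Subgroup G) : Function.Surjective (pr W) := (act W).rangeRestrict_surjective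

theorem pr_eq_one_iff (n : normalizer (W : Set G)) :
    pr W n = 1 ↔ (n : G) ∈ centralizer (W : Set G) := by
  rw [← act_eq_one_iff]
  constructor
  · intro h1; exact congrArg Subtype.val h1
  · intro h1; exact Subtype.ext h1

theorem card_four_le {K : Type*} [Group K] {a b : K} {M : Subgroup K} (hM : ∀ x ∈ M, x = 1 ∨ x = a ∨ x = b ∨ x = a * b) :
    Nat.card M ≤ 4 := by
  classical
  have h1 : Nat.card M = Set.ncard (M : Set K) := rfl
  rw [h1]
  have h2 : (M : Set K) ⊆ ({1, a, b, a * b} : Finset K) := by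
    intro x hx
    simpa using hM x hx
  refine (Set.ncard_le_ncard h2 (Finset.finite_toSet _)).trans ?_
  rw [Set.ncard_coe_finset]
  exact Finset.card_le_four

/-- **The contradiction** in the case `S/S₀ ≅ 2²`. -/
theorem false [Finite G] (O : Outer t c h S S0 W D) (hG : ∀ f : G →* ℤˣ, f t = 1) : False := by
  classical
  have hfact : Fact (Nat.Prime 2) := ⟨Nat.prime_two⟩
  have htN := O.S_le_norm O.t_mem
  have hcN := O.S_le_norm O.c_mem
  have hhN := O.mem_norm O.h_W
  set T : normalizer (W : Set G) := ⟨t, htN⟩ with hT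
  set C : normalizer (W : Set G) := ⟨c, hcN⟩ with hC
  set E : normalizer (W : Set G) := ⟨h, hhN⟩ with hE
  set a := pr W T with ha
  set b := pr W C with hb
  have haa : a * a = 1 := by
    rw [ha, ← map_mul, pr_eq_one_iff]
    show t * t ∈ _
    rw [O.tt]; exact one_mem _
  have hbb : b * b = 1 := by
    rw [hb, ← map_mul, pr_eq_one_iff]
    exact O.S0_cent O.cc
  have habab : a * b * (a * b) = 1 := by
    rw [ha, hb, ← map_mul, ← map_mul, pr_eq_one_iff]
    exact O.S0_cent O.tctc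
  have ia : a⁻¹ = a := inv_eq_of_mul_eq_one_right haa
  have ib : b⁻¹ = b := inv_eq_of_mul_eq_one_right hbb
  have iab : (a * b)⁻¹ = a * b := inv_eq_of_mul_eq_one_right habab
  have hab : a * b = b * a := by
    rw [← iab, mul_inv_rev, ia, ib]
  have ha1 : a ≠ 1 := by
    rw [Ne, ha, pr_eq_one_iff]; exact O.t_notCent
  have hb1 : b ≠ 1 := by
    rw [Ne, hb, pr_eq_one_iff]; exact fun h1 => O.c_notMem (O.S_cent O.c_mem h1)
  have hne : a ≠ b := by
    intro h1
    have h2 : a * b = 1 := by rw [← h1, haa]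
    rw [ha, hb, ← map_mul, pr_eq_one_iff] at h2
    have h3 : t * c ∈ S0 := O.S_cent O.tc_mem h2
    exact O.symm.c_notMem h3
  -- elements of `S`
  have hcov : ∀ s, ∀ hs : s ∈ S, pr W ⟨s, O.S_le_norm hs⟩ = 1 ∨ pr W ⟨s, O.S_le_norm hs⟩ = a ∨
      pr W ⟨s, O.S_le_norm hs⟩ = b ∨ pr W ⟨s, O.S_le_norm hs⟩ = a * b := by
    intro s hs
    set s' : normalizer (W : Set G) := ⟨s, O.S_le_norm hs⟩ with hs'
    rcases O.cover s hs with h1 | h1 | h1 | h1
    · exact Or.inl ((pr_eq_one_iff _).2 (O.S0_cent h1))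
    · right; left
      have h2 : pr W (T * s') = 1 := (pr_eq_one_iff _).2 (O.S0_cent h1)
      rw [map_mul, ← ha] at h2
      rw [← ia]; exact (inv_eq_of_mul_eq_one_right h2).symm
    · right; right; left
      have h2 : pr W (C * s') = 1 := (pr_eq_one_iff _).2 (O.S0_cent h1)
      rw [map_mul, ← hb] at h2
      rw [← ib]; exact (inv_eq_of_mul_eq_one_right h2).symm
    · right; right; right
      have h2 : pr W (T * C * s') = 1 := (pr_eq_one_iff _).2 (O.S0_cent h1)
      rw [map_mul, map_mul, ← ha, ← hb] at h2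
      rw [← iab]; exact (inv_eq_of_mul_eq_one_right h2).symm
  -- conjugacy
  have hconj : ∀ v : normalizer (W : Set G), pr W v * pr W v = 1 → ∀ n : G,
      (∀ w ∈ W, n * w * n⁻¹ ∈ W) → (v : G) * (n⁻¹ * t * n) ∈ S0 → IsConj a (pr W v) := by
    intro v hv n hn h1
    set n' : normalizer (W : Set G) := ⟨n, O.mem_norm hn⟩ with hn'
    have h2 : pr W (v * (n'⁻¹ * T * n')) = 1 := (pr_eq_one_iff _).2 (O.S0_cent h1)
    rw [map_mul] at h2
    rw [isConj_iff]
    refine ⟨pr W n'⁻¹, ?_⟩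
    have h3 : pr W (n'⁻¹ * T * n') = pr W v := by
      have h4 : (pr W v)⁻¹ = pr W v := inv_eq_of_mul_eq_one_right hv
      rw [← h4]; exact (inv_eq_of_mul_eq_one_right h2).symm
    rw [← h3, map_mul, map_mul, map_inv, inv_inv]
  have hc1 : IsConj a b := by
    obtain ⟨n, hn, h1⟩ := O.exists_norm hG
    exact hconj C hbb n hn h1
  have hc2 : IsConj a (a * b) := by
    obtain ⟨n, hn, h1⟩ := O.symm.exists_norm hG
    have := hconj (T * C) (by rw [map_mul]; exact habab) n hn h1
    rwa [map_mul] at this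
  -- 2-subgroups commuting with `a`
  have h4 : ∀ B : Subgroup (act W).range, IsPGroup 2 B → (∀ x ∈ B, x * a = a * x) →
      Nat.card B ≤ 4 := by
    intro B hB hBa
    set B1 : Subgroup (normalizer (W : Set G)) :=
      B.comap (pr W) ⊓ (centralizer {t}).subgroupOf (normalizer (W : Set G)) with hB1
    let φ : B1 →* B := ((pr W).comp B1.subtype).codRestrict B (fun x => x.2.1)
    have hφ : Function.Surjective φ := by
      rintro ⟨k, hk⟩
      obtain ⟨n, rfl⟩ := pr_surj W k
      have h1 := hBa _ hk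
      have h2 : t * ((n : G) * t * (n : G)⁻¹) ∈ centralizer (W : Set G) := by
        have h3 : pr W (T * (n * T * n⁻¹)) = 1 := by
          rw [map_mul, map_mul, map_mul, map_inv, ← ha, h1, mul_inv_cancel_right, haa]
        exact (pr_eq_one_iff _).1 h3
      obtain ⟨x, hx, h3⟩ := O.exists_conj_t (by
        calc (n : G) * t * (n : G)⁻¹ * ((n : G) * t * (n : G)⁻¹) = n * (t * t) * (n : G)⁻¹ := by group
          _ = 1 := by rw [O.tt]; group) h2
      have hxN : x ∈ normalizer (W : Set G) := centralizer_le_normalizer _ hx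
      set x' : normalizer (W : Set G) := ⟨x, hxN⟩ with hx'
      have hprx : pr W (x'⁻¹ * n) = pr W n := by
        rw [map_mul, map_inv, (pr_eq_one_iff x').2 hx, inv_one, one_mul]
      have hm : x'⁻¹ * n ∈ B1 := by
        refine ⟨?_, ?_⟩
        · show pr W (x'⁻¹ * n) ∈ B
          rw [hprx]; exact hk
        · show ((x'⁻¹ * n : normalizer (W : Set G)) : G) ∈ centralizer {t}
          rw [mem_centralizer_singleton_iff]
          show x⁻¹ * n * t = t * (x⁻¹ * n)
          calc x⁻¹ * n * t = x⁻¹ * (n * t * (n : G)⁻¹) * n := by group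
            _ = x⁻¹ * (x * t * x⁻¹) * n := by rw [h3]
            _ = t * (x⁻¹ * n) := by group
      refine ⟨⟨_, hm⟩, ?_⟩
      apply Subtype.ext
      exact hprx
    obtain ⟨M⟩ : Nonempty (Sylow 2 B1) := inferInstance
    have hMφ : (M : Subgroup B1).map φ = ⊤ := by
      have h1 : ((M.mapSurjective hφ : Sylow 2 B) : Subgroup B) = (M : Subgroup B1).map φ := rfl
      rw [← h1]
      have hB' : IsPGroup 2 (⊤ : Subgroup B) := hB.of_injective (⊤ : Subgroup B).subtype
        Subtype.val_injective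
      exact ((M.mapSurjective hφ).3 hB' le_top).symm
    set M' := ((M : Subgroup B1).map B1.subtype).map (normalizer (W : Set G)).subtype with hM'
    have hM'p : IsPGroup 2 M' := (M.2.map _).map _
    obtain ⟨k, hk, hkt, hkM⟩ := O.conj_into hM'p (by
      rintro _ ⟨_, ⟨m, hm, rfl⟩, rfl⟩
      exact mem_centralizer_singleton_iff.1 m.2.2) (map_subtype_le _)
    set k' : normalizer (W : Set G) := ⟨k, hk⟩ with hk'
    have h5 : Nat.card (B.map (MulAut.conj (pr W k')).toMonoidHom) = Nat.card B :=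
      (Nat.card_congr (B.equivMapOfInjective _ (MulAut.conj (pr W k')).injective).toEquiv).symm
    rw [← h5]
    apply card_four_le (a := a) (b := b)
    rintro _ ⟨x, hx, rfl⟩
    obtain ⟨m, hm, hmx⟩ : (⟨x, hx⟩ : B) ∈ (M : Subgroup B1).map φ := by rw [hMφ]; exact mem_top _
    have h6 : pr W m = x := congrArg Subtype.val hmx
    have h7 : k * (m : normalizer (W : Set G)) * k⁻¹ ∈ S :=
      hkM _ (mem_map_of_mem _ (mem_map_of_mem _ hm))
    have h8 := hcov _ h7
    have h9 : (⟨k * (m : normalizer (W : Set G)) * k⁻¹, O.S_le_norm h7⟩ : normalizer (W : Set G)) =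
        k' * m * k'⁻¹ := rfl
    rw [h9, map_mul, map_mul, map_inv, h6] at h8
    exact h8
  obtain ⟨P, hP⟩ := OuterSyl.exists_sylow haa hbb hab ha1 hb1 hne h4 hc1 hc2
  obtain ⟨r, hr⟩ := OuterSyl.exists_cyc ha1 hb1 hne hc1 hc2 hP
  -- the commutative group `W`
  have hWW : ∀ x y : W, x * y = y * x := fun x y =>
    Subtype.ext (O.W_cent x x.2 y (O.W_le y.2))
  let _ : CommGroup W := { (inferInstance : Group W) with mul_comm := hWW }
  have hsq : ∀ w : W, w * w = 1 := fun w => Subtype.ext (O.W_sq w w.2)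
  have hτ : ∀ w : W, act W T (act W T w) = w := by
    intro w
    apply Subtype.ext
    rw [act_apply, act_apply]
    show t * (t * w * t⁻¹) * t⁻¹ = w
    rw [O.t_inv]
    calc t * (t * w * t) * t = (t * t) * w * (t * t) := by group
      _ = w := by rw [O.tt]; group
  have hW0 : ∀ s ∈ S0, ∀ w : W, s * w * s⁻¹ = w := by
    intro s hs w
    rw [← O.W_cent w w.2 s hs]; group
  have hγ : ∀ w : W, act W C (act W C w) = w := by
    intro w
    apply Subtype.ext
    rw [act_apply, act_apply]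
    show c * (c * w * c⁻¹) * c⁻¹ = w
    calc c * (c * w * c⁻¹) * c⁻¹ = (c * c) * w * (c * c)⁻¹ := by group
      _ = w := hW0 _ O.cc w
  have hτγ : ∀ w : W, act W T (act W C w) = act W C (act W T w) := by
    intro w
    have h1 := DFunLike.congr_fun (congrArg Subtype.val hab) w
    exact h1
  -- the generator
  obtain ⟨z, hz, hzt, hzc⟩ := O.c_Z
  obtain ⟨e, he⟩ : ∃ e : W, e * act W T e = ⟨z, hz⟩ := by
    let ψ : W →* W :=
      { toFun := fun w => w * act W T w
        map_one' := by rw [map_one, mul_one]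
        map_mul' := by
          intro x y
          rw [map_mul]
          exact mul_mul_mul_comm x y _ _ }
    have hker : Nat.card ψ.ker = 4 := by
      rw [← O.Z_card]
      apply Nat.card_congr
      refine Equiv.ofBijective (fun x : ψ.ker => (⟨(x : W), ?_⟩ : (W ⊓ centralizer {t} : Subgroup G)))
        ⟨?_, ?_⟩
      · refine ⟨(x : W).2, mem_centralizer_singleton_iff.2 ?_⟩
        have h1 : (x : W) * act W T x = 1 := x.2
        have h2 : act W T x = x := by
          calc act W T x = (x : W) * x * act W T x := by rw [hsq, one_mul]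
            _ = (x : W) * (x * act W T x) := by rw [mul_assoc]
            _ = x := by rw [h1, mul_one]
        have h3 : t * ((x : W) : G) * t⁻¹ = (x : W) := by
          have := congrArg Subtype.val h2
          rwa [act_apply] at this
        calc ((x : W) : G) * t = t * (x : W) * t⁻¹ * t := by rw [h3]
          _ = t * (x : W) := by group
      · intro x y hxy
        exact Subtype.ext (Subtype.ext
          (congrArg (fun v : (W ⊓ centralizer {t} : Subgroup G) => (v : G)) hxy))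
      · rintro ⟨x, hx, hxt⟩
        have hxt' := mem_centralizer_singleton_iff.1 hxt
        refine ⟨⟨⟨x, hx⟩, ?_⟩, rfl⟩
        rw [MonoidHom.mem_ker]
        show (⟨x, hx⟩ : W) * act W T ⟨x, hx⟩ = 1
        apply Subtype.ext
        rw [Subgroup.coe_mul, act_apply]
        show x * (t * x * t⁻¹) = 1
        rw [← hxt', mul_assoc x t, mul_inv_cancel, mul_one, O.W_sq x hx]
    have hrange : Nat.card ψ.range = 4 := by
      have h1 := ψ.ker.card_mul_index
      rw [Subgroup.index_ker, hker, O.W_card] at h1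
      omega
    set F := (W ⊓ centralizer {t}).subgroupOf W with hF
    have hFc : Nat.card F = 4 := by
      rw [← O.Z_card, hF]
      exact Nat.card_congr (subgroupOfEquivOfLe inf_le_left).toEquiv
    have hle : ψ.range ≤ F := by
      rintro _ ⟨w, rfl⟩
      rw [hF, mem_subgroupOf]
      refine ⟨(ψ w).2, mem_centralizer_singleton_iff.2 ?_⟩
      have h1 : act W T (ψ w) = ψ w := by
        show act W T (w * act W T w) = w * act W T w
        rw [map_mul, hτ, mul_comm]
      have h2 : t * ((ψ w : W) : G) * t⁻¹ = (ψ w : W) := by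
        have := congrArg Subtype.val h1
        rwa [act_apply] at this
      calc ((ψ w : W) : G) * t = t * (ψ w : W) * t⁻¹ * t := by rw [h2]
        _ = t * (ψ w : W) := by group
    have heq : ψ.range = F := Subgroup.eq_of_le_of_card_ge hle (by rw [hrange, hFc])
    have hzF : (⟨z, hz⟩ : W) ∈ F := by
      rw [hF, mem_subgroupOf]
      exact ⟨hz, mem_centralizer_singleton_iff.2 hzt⟩
    rw [← heq] at hzF
    obtain ⟨e, he⟩ := hzF
    exact ⟨e, he⟩
  have he1 : e * act W T e * act W C e * act W T (act W C e) ≠ 1 := by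
    intro h1
    apply hzc
    have h2 : (⟨z, hz⟩ : W) * act W C ⟨z, hz⟩ = 1 := by
      rw [← he, map_mul, ← hτγ, ← mul_assoc]
      exact h1
    have h3 : act W C ⟨z, hz⟩ = ⟨z, hz⟩ := by
      calc act W C ⟨z, hz⟩ = (⟨z, hz⟩ : W) * ⟨z, hz⟩ * act W C ⟨z, hz⟩ := by rw [hsq, one_mul]
        _ = (⟨z, hz⟩ : W) * (⟨z, hz⟩ * act W C ⟨z, hz⟩) := by rw [mul_assoc]
        _ = ⟨z, hz⟩ := by rw [h2, mul_one]
    have h4 : c * z * c⁻¹ = z := by
      have := congrArg Subtype.val h3
      rwa [act_apply] at this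
    calc z * c = c * z * c⁻¹ * c := by rw [h4]
      _ = c * z := by group
  obtain ⟨y1, y2⟩ := OuterMat.order_four (W := W) O.W_card hsq (act W T) (act W C) (act W E) r.1
    hτ hγ hτγ e he1
    (by
      intro w; apply Subtype.ext
      rw [act_apply, act_apply, act_apply, act_apply]
      exact O.h_t w w.2)
    (by
      intro w; apply Subtype.ext
      rw [act_apply, act_apply, act_apply, act_apply]
      exact O.h_c w w.2)
    (by
      intro w; apply Subtype.ext
      rw [Subgroup.coe_mul, Subgroup.coe_mul, act_apply, act_apply, act_apply]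
      exact O.h_fpf w w.2)
    (by
      rcases hr with ⟨h1, h2⟩ | ⟨h1, h2⟩
      · left
        exact ⟨fun w => DFunLike.congr_fun (congrArg Subtype.val h1) w,
          fun w => DFunLike.congr_fun (congrArg Subtype.val h2) w⟩
      · right
        exact ⟨fun w => DFunLike.congr_fun (congrArg Subtype.val h1) w,
          fun w => DFunLike.congr_fun (congrArg Subtype.val h2) w⟩)
  have h5 : (a * pr W E * r * r * pr W E * r * r * r * r) ^ 4 = 1 := Subtype.ext y1
  have h6 := OuterSyl.sq_eq_one hP h5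
  exact y2 (congrArg Subtype.val h6)

end Outer

end Cfsg.Agent.GTwoFour.OuterFour

end

-- merged: Cfsg.Agent.OddHalf.NI3.Bad.CoreThree
section

/-!
# Node NI over `F₃`, bad types, steps (2)(A) and (3c): 2-groups with two commuting `SL₂(3)`

`H` a finite group, `P` a normal 2-subgroup, `J₁`, `J₂ ≅ SL₂(3)` with the same involution `z`, commuting,
`O₂(J₁)O₂(J₂) ≤ P`, `J₁`, `J₂` subnormal in `C_H(e)`, `e ∈ P` an involution.

* `exists_fixed` : coprime action of an element of order 3 on a coset of a 2-group;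
* `comm_of_norm` : a 2-element commuting with an element of order 3 of `SL₂(3)` and normalising `Q₈` centralises `Q₈`;
* `central_of` : if `C_P(w) ≤ C_P(e)` for some `w ∈ Q₁Q₂` then `e ∈ Z(P)`;
* `subnormal_of_central` : `e ∈ Z(P)` implies that `J₁` is subnormal in `H`.
-/

set_option autoImplicit false

namespace Cfsg.Agent.OddHalf.NI3.Bad.CoreThree

open Subgroup Cfsg Cfsg.Agent.Cit Cfsg.Agent.Cit.SolvTwo Cfsg.Agent.Cit.SLThree

variable {H : Type*} [Group H]

/-- **Coprime action on a coset**: `v` of order 3 normalises the 2-group `X` and the coset `n X`. -/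
theorem exists_fixed {X : Subgroup H} [Finite H] (hX : IsPGroup 2 X) {v n : H} (hv : v * v * v = 1)
    (hvX : ∀ x ∈ X, v * x * v⁻¹ ∈ X) (hn : n⁻¹ * v * n * v⁻¹ ∈ X) : ∃ x ∈ X, v * (n * x) = n * x * v := by
  classical
  have : Fact (Nat.Prime 3) := ⟨Nat.prime_three⟩
  have : Fintype ↥X := Fintype.ofFinite _
  set c := n⁻¹ * v * n * v⁻¹ with hc
  have hv' : v⁻¹ = v * v := (eq_inv_of_mul_eq_one_left hv).symm
  have hvX' : ∀ x ∈ X, v⁻¹ * x * v ∈ X := by
    intro x hx
    have h1 := hvX _ (hvX x hx)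
    have e : v * (v * x * v⁻¹) * v⁻¹ = v⁻¹ * x * v := by
      calc v * (v * x * v⁻¹) * v⁻¹ = (v * v) * x * (v * v)⁻¹ := by group
        _ = v⁻¹ * x * v⁻¹⁻¹ := by rw [← hv']
        _ = v⁻¹ * x * v := by rw [inv_inv]
    rwa [e] at h1
  let σ : Equiv.Perm ↥X :=
    { toFun := fun x => ⟨c * (v * x * v⁻¹), mul_mem hn (hvX x x.2)⟩
      invFun := fun x => ⟨v⁻¹ * (c⁻¹ * x) * v, hvX' _ (mul_mem (inv_mem hn) x.2)⟩
      left_inv := fun x => Subtype.ext (by
        show v⁻¹ * (c⁻¹ * (c * (v * x * v⁻¹))) * v = x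
        group)
      right_inv := fun x => Subtype.ext (by
        show c * (v * (v⁻¹ * (c⁻¹ * x) * v) * v⁻¹) = x
        group) }
  have hσ1 : ∀ x : ↥X, n * ((σ x : ↥X) : H) = v * (n * x) * v⁻¹ := by
    intro x
    show n * (c * (v * x * v⁻¹)) = v * (n * x) * v⁻¹
    rw [hc]; group
  have hσ : σ ^ 3 ^ 1 = 1 := by
    ext x
    rw [pow_one, pow_succ, pow_two]
    show ((σ (σ (σ x)) : ↥X) : H) = x
    have h1 : n * ((σ (σ (σ x)) : ↥X) : H) = n * x := by
      rw [hσ1, hσ1, hσ1]
      calc v * (v * (v * (n * x) * v⁻¹) * v⁻¹) * v⁻¹ = (v * v * v) * (n * x) * (v * v * v)⁻¹ := by group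
        _ = n * x := by rw [hv, one_mul, inv_one, mul_one]
    exact mul_left_cancel h1
  have hcard : ¬ 3 ∣ Fintype.card ↥X := by
    intro h3
    have : Fact (Nat.Prime 2) := ⟨Nat.prime_two⟩
    obtain ⟨k, hk⟩ := IsPGroup.iff_card.1 hX
    rw [← Nat.card_eq_fintype_card, hk] at h3
    have := (Nat.prime_three.dvd_of_dvd_pow h3)
    omega
  obtain ⟨x, hx⟩ := Equiv.Perm.exists_fixed_point_of_prime (n := 1) hcard hσ
  refine ⟨x, x.2, ?_⟩
  have h1 := hσ1 x
  rw [hx] at h1
  exact (eq_mul_inv_iff_mul_eq.1 h1).symm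

/-- an element of 2-power order whose cube commutes with `x` commutes with `x` -/
theorem comm_of_cube {n x : H} {k : ℕ} (hn : n ^ 2 ^ k = 1) (h : n * (n * (n * x * n⁻¹) * n⁻¹) * n⁻¹ = x) :
    n * x * n⁻¹ = x := by
  have hco : Nat.Coprime 3 (orderOf n) :=
    Nat.Coprime.coprime_dvd_right (orderOf_dvd_of_pow_eq_one hn) (Nat.Coprime.pow_right k (by norm_num))
  obtain ⟨m, hm⟩ := exists_pow_eq_self_of_coprime hco
  have h1 : Commute (n ^ 3) x := by
    show n ^ 3 * x = x * n ^ 3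
    have e3 : n ^ 3 = n * (n * n) := by rw [pow_succ, pow_two, mul_assoc]
    rw [e3]
    calc n * (n * n) * x = (n * (n * (n * x * n⁻¹) * n⁻¹) * n⁻¹) * (n * (n * n)) := by
          simp only [mul_assoc, inv_mul_cancel_left, inv_mul_cancel, mul_one]
      _ = x * (n * (n * n)) := by rw [h]
  have h2 := h1.pow_left m
  rw [hm] at h2
  rw [h2.eq]; group

/-- a 2-element commuting with `d` which maps `i` into `Q₈` centralises `Q₈` -/
theorem comm_of_norm {M : Subgroup H} {z i j d : H} (h : Sl M z i j d) {n : H} {k : ℕ} (hn : n ^ 2 ^ k = 1)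
    (hd : n * d = d * n) (hi : n * i * n⁻¹ ∈ closure ({i, j} : Set H)) : n * i = i * n ∧ n * j = j * n := by
  have hz := h.q.z1
  have hj : n * j * n⁻¹ = d * (n * i * n⁻¹) * d⁻¹ := by
    rw [← h.di]
    calc n * (d * i * d⁻¹) * n⁻¹ = (n * d) * i * (n * d)⁻¹ := by group
      _ = (d * n) * i * (d * n)⁻¹ := by rw [hd]
      _ = d * (n * i * n⁻¹) * d⁻¹ := by group
  have hij : n * (i * j) * n⁻¹ = d * (n * j * n⁻¹) * d⁻¹ := by
    rw [← h.dj]
    calc n * (d * j * d⁻¹) * n⁻¹ = (n * d) * j * (n * d)⁻¹ := by group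
      _ = (d * n) * j * (d * n)⁻¹ := by rw [hd]
      _ = d * (n * j * n⁻¹) * d⁻¹ := by group
  have hmul : (n * i * n⁻¹) * (n * j * n⁻¹) = n * (i * j) * n⁻¹ := by group
  have dd : ∀ x : H, d * (z * x) * d⁻¹ = z * (d * x * d⁻¹) := fun x => by
    calc d * (z * x) * d⁻¹ = (d * z) * x * d⁻¹ := by group
      _ = z * (d * x * d⁻¹) := by rw [h.dz]; group
  have hcan : ∀ x : H, z * x = x → False := fun x e => hz (by simpa using e)
  have key : n * i * n⁻¹ = i := by
    rcases h.q.mem_cases hi with e | e | e | e | e | e | e | e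
    · exfalso
      apply h.q.i_ne
      calc i = n⁻¹ * (n * i * n⁻¹) * n := by group
        _ = 1 := by rw [e]; group
    · exfalso
      apply hz
      calc z = n⁻¹ * ((n * i * n⁻¹) * (n * i * n⁻¹)) * n := by rw [← h.q.i2]; group
        _ = 1 := by rw [e, h.q.z2]; group
    · exact e
    · exfalso
      rw [hij, hj, e, dd, h.di, dd, h.dj] at hmul
      simp only [mul_assoc, h.q.zz, h.q.izx] at hmul
      exact hcan _ hmul.symm
    · refine comm_of_cube hn ?_
      rw [e, hj, e, h.dj, hij, hj, e, h.dj, h.dij]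
    · exfalso
      rw [hij, hj, e, dd, h.dj, dd, h.dij] at hmul
      simp only [mul_assoc, h.q.zz, h.q.jzx, h.q.jix, h.q.j2, h.q.iz] at hmul
      exact hcan _ hmul.symm
    · refine comm_of_cube hn ?_
      rw [e, hij, hj, e, h.dij, h.di, hj, e, h.dij]
    · exfalso
      rw [hij, hj, e, dd, h.dij, dd, h.di] at hmul
      simp only [mul_assoc, h.q.zz, h.q.jzx, h.q.iix, h.q.ji] at hmul
      exact hcan _ hmul.symm
  refine ⟨mul_inv_eq_iff_eq_mul.1 key, mul_inv_eq_iff_eq_mul.1 ?_⟩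
  rw [hj, key, h.di]

section One

variable [Finite H] {P J : Subgroup H} {z e i j d : H}

/-- the commutators with `d` of the elements of a 2-subgroup of `C(e)` are in `Q₈` -/
theorem comm_mem (h : Sl J z i j d) (hs : Sn J (centralizer ({e} : Set H))) {X : Subgroup H}
    (hX : IsPGroup 2 X) (hXe : X ≤ centralizer ({e} : Set H)) (hn : J ≤ normalizer (X : Set H)) (hi : i ∈ X)
    (hj : j ∈ X) {x : H} (hx : x ∈ X) : x⁻¹ * (d * x * d⁻¹) ∈ closure ({i, j} : Set H) := by
  have h1 : x⁻¹ * d * x ∈ J := by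
    refine mem_of_sup (P := X) (hs.restrict (sup_le hs.1 hXe) le_sup_left) hX hn ?_ ?_
    · exact mul_mem (mul_mem (inv_mem (mem_sup_right hx)) (mem_sup_left h.hd)) (mem_sup_right hx)
    · refine odd_of_cube ?_
      calc x⁻¹ * d * x * (x⁻¹ * d * x) * (x⁻¹ * d * x) = x⁻¹ * (d * d * d) * x := by group
        _ = 1 := by rw [h.d3]; group
  have h2 : x⁻¹ * (d * x * d⁻¹) ∈ X := mul_mem (inv_mem hx) ((mem_normalizer_iff.1 (hn h.hd) x).1 hx)
  have h3 : x⁻¹ * (d * x * d⁻¹) ∈ J := by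
    have e1 : x⁻¹ * (d * x * d⁻¹) = x⁻¹ * d * x * d⁻¹ := by group
    rw [e1]
    exact mul_mem h1 (inv_mem h.hd)
  refine h.mem_Q h3 hX ?_ h2
  rw [closure_le]
  rintro y (rfl | rfl)
  · exact hi
  · exact hj

omit [Finite H] in
theorem le_norm_inf (hs : J ≤ centralizer ({e} : Set H)) (hn : J ≤ normalizer (P : Set H)) :
    J ≤ normalizer ((P ⊓ centralizer ({e} : Set H) : Subgroup H) : Set H) :=
  (le_inf hn (hs.trans le_normalizer)).trans inf_normalizer_le_normalizer_inf

/-- `d` commutes with `Z(X)` -/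
theorem comm_center (hJ : IsPr J z) (h : Sl J z i j d) (hs : Sn J (centralizer ({e} : Set H))) {X : Subgroup H}
    (hX : IsPGroup 2 X) (hXe : X ≤ centralizer ({e} : Set H)) (hn : J ≤ normalizer (X : Set H)) (hi : i ∈ X)
    {w : H} (hw : w ∈ X) (hwX : ∀ x ∈ X, x * w = w * x) : d * w = w * d := by
  have h1 : IsPGroup 2 ↥(X ⊓ centralizer (X : Set H)) := hX.to_le inf_le_left
  refine NI3.T3.comm_of_sn hJ.t3 hs (P := X ⊓ centralizer (X : Set H)) (inf_le_left.trans hXe) h1 ?_ ?_ h.hd h.d3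
    ⟨hw, mem_centralizer_iff.2 hwX⟩
  · intro g hg
    have hg' := mem_normalizer_iff.1 (hn hg)
    rw [mem_normalizer_iff]
    intro x
    rw [mem_inf, mem_inf, ← hg' x]
    refine and_congr_right fun _ => ?_
    rw [mem_centralizer_iff, mem_centralizer_iff]
    constructor
    · intro hx y hy
      have h2 := hx (g⁻¹ * y * g) (by
        have : y ∈ X ↔ _ := Iff.rfl
        have h3 := hg' (g⁻¹ * y * g)
        rw [show g * (g⁻¹ * y * g) * g⁻¹ = y by group] at h3
        exact h3.2 hy)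
      calc y * (g * x * g⁻¹) = g * ((g⁻¹ * y * g) * x) * g⁻¹ := by group
        _ = g * x * g⁻¹ * y := by rw [h2]; group
    · intro hx y hy
      have h2 := hx (g * y * g⁻¹) ((hg' y).1 hy)
      calc y * x = g⁻¹ * (g * y * g⁻¹ * (g * x * g⁻¹)) * g := by group
        _ = x * y := by rw [h2]; group
  · intro h2
    have h3 := (h2 j h.hj h.q.j2).2
    exact h.q.not_comm (mem_centralizer_iff.1 h3 i hi)

variable (hJ : IsPr J z) (h : Sl J z i j d) (hs : Sn J (centralizer ({e} : Set H))) (hP : IsPGroup 2 P)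
  (hn : J ≤ normalizer (P : Set H)) (hi : i ∈ P) (hj : j ∈ P) (he : e ∈ P)

include hJ h hs hP hn hi he in
theorem coset_mem {n : H} (hnP : n ∈ P) (hnX : n ∈ normalizer ((P ⊓ centralizer ({e} : Set H) : Subgroup H) : Set H)) :
    n⁻¹ * d * n * d⁻¹ ∈ P ⊓ centralizer ({e} : Set H) := by
  have hJe : ∀ g ∈ J, g * e = e * g := fun g hg => mem_centralizer_singleton_iff.1 (hs.1 hg)
  have hX2 : IsPGroup 2 ↥(P ⊓ centralizer ({e} : Set H)) := hP.to_le inf_le_left
  have hnX' := mem_normalizer_iff.1 hnX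
  have hde := hJe d h.hd
  have hiX : i ∈ P ⊓ centralizer ({e} : Set H) := ⟨hi, mem_centralizer_singleton_iff.2 (hJe i h.hi)⟩
  have heX : e ∈ P ⊓ centralizer ({e} : Set H) := ⟨he, mem_centralizer_singleton_iff.2 rfl⟩
  have h1 : d * (n * e * n⁻¹) = n * e * n⁻¹ * d := by
    refine comm_center hJ h hs hX2 inf_le_right (le_norm_inf hs.1 hn) hiX ((hnX' e).1 heX) ?_
    intro x hx
    have h2 : n⁻¹ * x * n ∈ P ⊓ centralizer ({e} : Set H) := by
      have h3 := hnX' (n⁻¹ * x * n)
      rw [show n * (n⁻¹ * x * n) * n⁻¹ = x by group] at h3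
      exact h3.2 hx
    have h4 : n⁻¹ * x * n * e = e * (n⁻¹ * x * n) := mem_centralizer_singleton_iff.1 h2.2
    calc x * (n * e * n⁻¹) = n * (n⁻¹ * x * n * e) * n⁻¹ := by group
      _ = n * e * n⁻¹ * x := by rw [h4]; group
  refine mem_inf.2 ⟨?_, mem_centralizer_singleton_iff.2 ?_⟩
  · have e1 : n⁻¹ * d * n * d⁻¹ = n⁻¹ * (d * n * d⁻¹) := by group
    rw [e1]
    exact mul_mem (inv_mem hnP) ((mem_normalizer_iff.1 (hn h.hd) n).1 hnP)
  · have e2 : d⁻¹ * e = e * d⁻¹ := (show Commute d e from hde).inv_left.eq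
    calc n⁻¹ * d * n * d⁻¹ * e = n⁻¹ * d * n * (d⁻¹ * e) := by group
      _ = n⁻¹ * d * n * (e * d⁻¹) := by rw [e2]
      _ = n⁻¹ * (d * (n * e * n⁻¹)) * n * d⁻¹ := by group
      _ = e * (n⁻¹ * d * n * d⁻¹) := by rw [h1]; group

include h hs hP hn hi hj in
/-- an element of `P` which normalises `C_P(e)` and commutes with `d` commutes with `Q₈` -/
theorem comm_of_normX {n : H} (hnP : n ∈ P)
    (hnX : n ∈ normalizer ((P ⊓ centralizer ({e} : Set H) : Subgroup H) : Set H)) (hd : n * d = d * n) :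
    n * i = i * n ∧ n * j = j * n := by
  have hJe : ∀ g ∈ J, g * e = e * g := fun g hg => mem_centralizer_singleton_iff.1 (hs.1 hg)
  have hX2 : IsPGroup 2 ↥(P ⊓ centralizer ({e} : Set H)) := hP.to_le inf_le_left
  have hnX' := mem_normalizer_iff.1 hnX
  have hiX : i ∈ P ⊓ centralizer ({e} : Set H) := ⟨hi, mem_centralizer_singleton_iff.2 (hJe i h.hi)⟩
  have hjX : j ∈ P ⊓ centralizer ({e} : Set H) := ⟨hj, mem_centralizer_singleton_iff.2 (hJe j h.hj)⟩
  have key : ∀ x ∈ P ⊓ centralizer ({e} : Set H), n * (x⁻¹ * (d * x * d⁻¹)) * n⁻¹ ∈ closure ({i, j} : Set H) := by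
    intro x hx
    have h1 := comm_mem h hs hX2 inf_le_right (le_norm_inf hs.1 hn) hiX hjX ((hnX' x).1 hx)
    have e1 : (n * x * n⁻¹)⁻¹ * (d * (n * x * n⁻¹) * d⁻¹) = n * (x⁻¹ * (d * x * d⁻¹)) * n⁻¹ := by
      calc (n * x * n⁻¹)⁻¹ * (d * (n * x * n⁻¹) * d⁻¹) = n * x⁻¹ * n⁻¹ * (d * n) * x * (d * n)⁻¹ := by group
        _ = n * x⁻¹ * n⁻¹ * (n * d) * x * (n * d)⁻¹ := by rw [hd]
        _ = n * (x⁻¹ * (d * x * d⁻¹)) * n⁻¹ := by group
    rwa [e1] at h1
  have h2 : n * (z * i) * n⁻¹ ∈ closure ({i, j} : Set H) := by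
    have h3 := key j hjX
    have e2 : j⁻¹ * (d * j * d⁻¹) = z * i := by
      rw [h.dj, h.q.j_inv]
      simp only [mul_assoc, h.q.jix, h.q.j2, h.q.iz, h.q.zz]
    rwa [e2] at h3
  have h3 : n * z * n⁻¹ ∈ closure ({i, j} : Set H) := by
    have e2 : n * z * n⁻¹ = (n * (z * i) * n⁻¹) * (n * (z * i) * n⁻¹) := by
      have e3 : z * i * (z * i) = z := by simp only [mul_assoc, h.q.izx, h.q.i2, h.q.zz]
      calc n * z * n⁻¹ = n * (z * i * (z * i)) * n⁻¹ := by rw [e3]
        _ = (n * (z * i) * n⁻¹) * (n * (z * i) * n⁻¹) := by group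
    rw [e2]; exact mul_mem h2 h2
  have h4 : n * i * n⁻¹ ∈ closure ({i, j} : Set H) := by
    have e2 : n * i * n⁻¹ = (n * z * n⁻¹) * (n * (z * i) * n⁻¹) := by
      have e3 : z * (z * i) = i := h.q.zz i
      calc n * i * n⁻¹ = n * (z * (z * i)) * n⁻¹ := by rw [e3]
        _ = (n * z * n⁻¹) * (n * (z * i) * n⁻¹) := by group
    rw [e2]; exact mul_mem h3 h2
  obtain ⟨k, hk⟩ := hP ⟨n, hnP⟩
  have hk' : n ^ 2 ^ k = 1 := by simpa using congrArg Subtype.val hk
  exact comm_of_norm h hk' hd h4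

end One

section Two

variable [Finite H] {P J₁ J₂ : Subgroup H} {z z' e i₁ j₁ d₁ i₂ j₂ d₂ : H}

/-- **`C_P(w) ≤ C_P(e)` for some `w ∈ Q₁Q₂` implies `e ∈ Z(P)`** -/
theorem central_of (hP : IsPGroup 2 P) (p1 : IsPr J₁ z) (p2 : IsPr J₂ z') (s1 : Sl J₁ z i₁ j₁ d₁)
    (s2 : Sl J₂ z' i₂ j₂ d₂) (n1 : J₁ ≤ normalizer (P : Set H)) (n2 : J₂ ≤ normalizer (P : Set H))
    (sn1 : Sn J₁ (centralizer ({e} : Set H))) (sn2 : Sn J₂ (centralizer ({e} : Set H)))
    (hc : ∀ a ∈ J₁, ∀ b ∈ J₂, a * b = b * a) (hi1 : i₁ ∈ P) (hj1 : j₁ ∈ P) (hi2 : i₂ ∈ P) (hj2 : j₂ ∈ P) (he : e ∈ P)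
    (hw : ∀ c ∈ P, c * i₁ = i₁ * c → c * j₁ = j₁ * c → c * i₂ = i₂ * c → c * j₂ = j₂ * c → c * e = e * c) :
    ∀ p ∈ P, p * e = e * p := by
  set X : Subgroup H := P ⊓ centralizer ({e} : Set H) with hXdef
  have hX2 : IsPGroup 2 X := hP.to_le inf_le_left
  suffices hX : X = P by
    intro p hp
    rw [← hX] at hp
    exact mem_centralizer_singleton_iff.1 hp.2
  by_contra hne
  obtain ⟨n, hnP, hnX, hn⟩ := GTwoFour.OuterFour.exists_norm_grow hP inf_le_left hne
  have hn' : n ∈ normalizer (X : Set H) := mem_normalizer_fintype fun x hx => hn x hx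
  have v1X : ∀ x ∈ X, d₁ * x * d₁⁻¹ ∈ X := fun x hx => (mem_normalizer_iff.1 (le_norm_inf sn1.1 n1 s1.hd) x).1 hx
  have v2X : ∀ x ∈ X, d₂ * x * d₂⁻¹ ∈ X := fun x hx => (mem_normalizer_iff.1 (le_norm_inf sn2.1 n2 s2.hd) x).1 hx
  have h1 := coset_mem p1 s1 sn1 hP n1 hi1 he hnP hn'
  obtain ⟨x, hx, hxv⟩ := exists_fixed hX2 s1.d3 v1X h1
  -- the second element
  set m := n * x with hm
  have hmP : m ∈ P := mul_mem hnP hx.1
  have hm' : m ∈ normalizer (X : Set H) := mul_mem hn' (le_normalizer hx)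
  have h2 := coset_mem p2 s2 sn2 hP n2 hi2 he hmP hm'
  have hdd : d₁ * d₂ = d₂ * d₁ := hc _ s1.hd _ s2.hd
  have hY2 : IsPGroup 2 ↥(X ⊓ centralizer ({d₁} : Set H)) := hX2.to_le inf_le_left
  have v2Y : ∀ y ∈ X ⊓ centralizer ({d₁} : Set H), d₂ * y * d₂⁻¹ ∈ X ⊓ centralizer ({d₁} : Set H) := by
    intro y hy
    refine ⟨v2X y hy.1, mem_centralizer_singleton_iff.2 ?_⟩
    have h3 : y * d₁ = d₁ * y := mem_centralizer_singleton_iff.1 hy.2
    have h4 : Commute d₁ (d₂ * y * d₂⁻¹) := by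
      refine (Commute.mul_right (Commute.mul_right hdd h3.symm) ?_)
      exact (show Commute d₁ d₂ from hdd).inv_right
    exact h4.symm
  have h3 : m⁻¹ * d₂ * m * d₂⁻¹ ∈ X ⊓ centralizer ({d₁} : Set H) := by
    refine ⟨h2, mem_centralizer_singleton_iff.2 ?_⟩
    have h4 : Commute d₁ m := hxv
    have h5 : Commute d₁ d₂ := hdd
    exact (((h4.inv_right.mul_right h5).mul_right h4).mul_right h5.inv_right).symm.eq
  obtain ⟨y, hy, hyv⟩ := exists_fixed hY2 s2.d3 v2Y h3
  have hkP : m * y ∈ P := mul_mem hmP hy.1.1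
  have hk' : m * y ∈ normalizer (X : Set H) := mul_mem hm' (le_normalizer hy.1)
  have hk1 : m * y * d₁ = d₁ * (m * y) := by
    have h4 : Commute d₁ m := hxv
    have h5 : Commute d₁ y := (mem_centralizer_singleton_iff.1 hy.2).symm
    exact (h4.mul_right h5).symm.eq
  have c1 := comm_of_normX s1 sn1 hP n1 hi1 hj1 hkP hk' hk1
  have c2 := comm_of_normX s2 sn2 hP n2 hi2 hj2 hkP hk' hyv.symm
  have h6 := hw _ hkP c1.1 c1.2 c2.1 c2.2
  have h7 : m * y ∈ X := ⟨hkP, mem_centralizer_singleton_iff.2 h6⟩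
  apply hnX
  have h8 : n = m * y * (x * y)⁻¹ := by rw [hm]; group
  rw [h8]
  exact mul_mem h7 (inv_mem (mul_mem hx hy.1))

/-- `e ∈ Z(P)`: `J₁` is subnormal in `H` -/
theorem subnormal_of_central [P.Normal] (hP : IsPGroup 2 P) (p1 : IsPr J₁ z)
    (sn1 : Sn J₁ (centralizer ({e} : Set H))) (he : e ∈ P) (hc : ∀ p ∈ P, p * e = e * p) : J₁.IsSubnormal := by
  obtain ⟨i, j, d, s1⟩ := p1.sl
  set Z : Subgroup H := P ⊓ centralizer (P : Set H) with hZ
  have hZn : Z.Normal := by rw [hZ]; infer_instance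
  have hZ2 : IsPGroup 2 Z := hP.to_le inf_le_left
  have heZ : e ∈ Z := ⟨he, mem_centralizer_iff.2 hc⟩
  have hZe : Z ≤ centralizer ({e} : Set H) := fun x hx => mem_centralizer_singleton_iff.2 (hc x hx.1)
  have h1 : J₁ ≤ centralizer (Z : Set H) := by
    refine p1.le_of_cube fun v hv h3 => ?_
    rw [mem_centralizer_iff]
    intro w hw
    refine (NI3.T3.comm_of_sn p1.t3 sn1 hZe hZ2 ?_ ?_ hv h3 hw).symm
    · rw [normalizer_eq_top_iff.2 hZn]; exact le_top
    · intro h2
      exact s1.q.not_comm (mem_centralizer_iff.1 (h2 j s1.hj s1.q.j2).2 i (h2 i s1.hi s1.q.i2).1)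
  have h2 : (centralizer (Z : Set H)).Normal := by infer_instance
  exact (sn1.restrict (centralizer_le (Set.singleton_subset_iff.2 heZ)) h1).isSubnormal h2.isSubnormal

end Two

/-! ### Subgroups isomorphic to `A₄` -/

abbrev AA4 := ↥(alternatingGroup (Fin 4))

theorem aa4_cases : ∀ x : AA4, x * x = 1 ∨ x * x * x = 1 := by decide +kernel

theorem aa4_comm : ∀ x y : AA4, x * x = 1 → y * y = 1 → x * y = y * x := by decide +kernel

theorem aa4_conj' : ∀ v : AA4, v * v * v = 1 ∧ v ≠ 1 → ∀ x : AA4, x * x = 1 ∧ x ≠ 1 → ∀ y : AA4, y * y = 1 ∧ y ≠ 1 →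
    y = x ∨ y = v * x * v⁻¹ ∨ y = v * (v * x * v⁻¹) * v⁻¹ := by decide +kernel

theorem aa4_conj (v x y : AA4) (h1 : v * v * v = 1) (h2 : v ≠ 1) (h3 : x * x = 1) (h4 : x ≠ 1) (h5 : y * y = 1)
    (h6 : y ≠ 1) : y = x ∨ y = v * x * v⁻¹ ∨ y = v * (v * x * v⁻¹) * v⁻¹ :=
  aa4_conj' v ⟨h1, h2⟩ x ⟨h3, h4⟩ y ⟨h5, h6⟩

theorem aa4_gen : ∀ x : AA4, ∃ v w : AA4, v * v * v = 1 ∧ w * w * w = 1 ∧ x = v * w := by decide +kernel

theorem aa4_ex : ∃ v : AA4, v * v * v = 1 ∧ v ≠ 1 := by decide +kernel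

/-- `B ≅ A₄` -/
structure Alt4 (B : Subgroup H) : Prop where
  cases : ∀ x ∈ B, x * x = 1 ∨ x * x * x = 1
  comm : ∀ x ∈ B, ∀ y ∈ B, x * x = 1 → y * y = 1 → x * y = y * x
  conj : ∀ v ∈ B, ∀ x ∈ B, ∀ y ∈ B, v * v * v = 1 → v ≠ 1 → x * x = 1 → x ≠ 1 → y * y = 1 → y ≠ 1 →
    y = x ∨ y = v * x * v⁻¹ ∨ y = v * (v * x * v⁻¹) * v⁻¹
  gen : ∀ x ∈ B, ∃ v ∈ B, ∃ w ∈ B, v * v * v = 1 ∧ w * w * w = 1 ∧ x = v * w
  ex : ∃ v ∈ B, v * v * v = 1 ∧ v ≠ 1

theorem Alt4.of_equiv {B : Subgroup H} (e : ↥B ≃* AA4) : Alt4 B := by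
  have hm : ∀ x y : H, ∀ (hx : x ∈ B) (hy : y ∈ B), e ⟨x * y, mul_mem hx hy⟩ = e ⟨x, hx⟩ * e ⟨y, hy⟩ :=
    fun x y hx hy => by rw [← map_mul]; rfl
  have h1 : ∀ x : H, ∀ hx : x ∈ B, e ⟨x, hx⟩ = 1 ↔ x = 1 := fun x hx => by
    rw [map_eq_one_iff e e.injective]
    exact ⟨fun h => congrArg Subtype.val h, fun h => Subtype.ext h⟩
  have hi : ∀ x : H, ∀ hx : x ∈ B, e ⟨x⁻¹, inv_mem hx⟩ = (e ⟨x, hx⟩)⁻¹ := fun x hx => by rw [← map_inv]; rfl
  have hinj : ∀ x y : H, ∀ (hx : x ∈ B) (hy : y ∈ B), e ⟨x, hx⟩ = e ⟨y, hy⟩ → x = y := fun x y hx hy h =>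
    congrArg Subtype.val (e.injective h)
  constructor
  · intro x hx
    rcases aa4_cases (e ⟨x, hx⟩) with h | h
    · left
      rw [← hm, h1] at h; exact h
    · right
      rw [← hm, ← hm, h1] at h; exact h
  · intro x hx y hy hx2 hy2
    have h := aa4_comm (e ⟨x, hx⟩) (e ⟨y, hy⟩) (by rw [← hm, h1]; exact hx2) (by rw [← hm, h1]; exact hy2)
    rw [← hm, ← hm] at h
    exact hinj _ _ _ _ h
  · intro v hv x hx y hy hv3 hv1 hx2 hx1 hy2 hy1
    have h := aa4_conj (e ⟨v, hv⟩) (e ⟨x, hx⟩) (e ⟨y, hy⟩) (by rw [← hm, ← hm, h1]; exact hv3)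
      (by rw [Ne, h1]; exact hv1) (by rw [← hm, h1]; exact hx2) (by rw [Ne, h1]; exact hx1)
      (by rw [← hm, h1]; exact hy2) (by rw [Ne, h1]; exact hy1)
    rw [← hi] at h
    rcases h with h | h | h
    · exact Or.inl (hinj _ _ _ _ h)
    · rw [← hm, ← hm] at h
      exact Or.inr (Or.inl (hinj _ _ _ _ h))
    · rw [← hm, ← hm, ← hm, ← hm] at h
      exact Or.inr (Or.inr (hinj _ _ _ _ h))
  · intro x hx
    obtain ⟨v, w, hv, hw, hx'⟩ := aa4_gen (e ⟨x, hx⟩)
    refine ⟨_, (e.symm v).2, _, (e.symm w).2, ?_, ?_, ?_⟩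
    · have : e.symm v * e.symm v * e.symm v = 1 := by rw [← map_mul, ← map_mul, hv, map_one]
      exact congrArg Subtype.val this
    · have : e.symm w * e.symm w * e.symm w = 1 := by rw [← map_mul, ← map_mul, hw, map_one]
      exact congrArg Subtype.val this
    · have : (⟨x, hx⟩ : B) = e.symm v * e.symm w := by rw [← map_mul, ← hx', e.symm_apply_apply]
      exact congrArg Subtype.val this
  · obtain ⟨v, hv, hv1⟩ := aa4_ex
    refine ⟨_, (e.symm v).2, ?_, ?_⟩
    · have : e.symm v * e.symm v * e.symm v = 1 := by rw [← map_mul, ← map_mul, hv, map_one]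
      exact congrArg Subtype.val this
    · intro h
      apply hv1
      have h2 : e.symm v = 1 := Subtype.ext h
      rw [← e.apply_symm_apply v, h2, map_one]

namespace Alt4

variable {B : Subgroup H} (hB : Alt4 B)

/-- the normal four-group -/
def V : Subgroup H where
  carrier := {x | x ∈ B ∧ x * x = 1}
  one_mem' := ⟨one_mem _, one_mul 1⟩
  mul_mem' := by
    rintro x y ⟨hx, hx2⟩ ⟨hy, hy2⟩
    refine ⟨mul_mem hx hy, ?_⟩
    have h1 := hB.comm x hx y hy hx2 hy2
    calc x * y * (x * y) = x * (y * x) * y := by group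
      _ = (x * x) * (y * y) := by rw [← h1]; group
      _ = 1 := by rw [hx2, hy2, one_mul]
  inv_mem' := by
    rintro x ⟨hx, hx2⟩
    refine ⟨inv_mem hx, ?_⟩
    rw [← mul_inv_rev, hx2, inv_one]

theorem mem_V {x : H} : x ∈ hB.V ↔ x ∈ B ∧ x * x = 1 := Iff.rfl

theorem V_le : hB.V ≤ B := fun _ hx => hx.1

theorem V_two : IsPGroup 2 hB.V := by
  rintro ⟨x, hx⟩
  refine ⟨1, Subtype.ext ?_⟩
  show x ^ 2 ^ 1 = 1
  rw [pow_one, pow_two]; exact hx.2

theorem conj_V {n x : H} (hn : n * x * n⁻¹ ∈ B) (hx : x ∈ hB.V) : n * x * n⁻¹ ∈ hB.V := by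
  refine ⟨hn, ?_⟩
  calc n * x * n⁻¹ * (n * x * n⁻¹) = n * (x * x) * n⁻¹ := by group
    _ = 1 := by rw [hx.2]; group

end Alt4

section ThreeC

variable [Finite H] {B P : Subgroup H} {e f : H}

/-- **(3c)** `B ≅ A₄` subnormal in `C_H(f)`, `f ∈ P = O₂(H)`, `e` an involution of `B`: `C_P(f) ≤ C_P(e)` and `e ∈ P` -/
theorem alt4_le (hB : Alt4 B) (hs : Sn B (centralizer ({f} : Set H))) (hf : f ∈ pCore 2 H) (hf2 : f * f = 1)
    (heB : e ∈ B) (he2 : e * e = 1) (he1 : e ≠ 1) :
    e ∈ pCore 2 H ∧ ∀ x ∈ pCore 2 H, x * f = f * x → x * e = e * x := by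
  classical
  have : Fact (Nat.Prime 2) := ⟨Nat.prime_two⟩
  set P : Subgroup H := pCore 2 H with hPdef
  have hPn : P.Normal := Lib.Cores.pCore_normal 2
  have hP : IsPGroup 2 P := Lib.Cores.pCore_isPGroup 2
  set W : Subgroup H := P ⊓ centralizer ({f} : Set H) with hWdef
  have hW : IsPGroup 2 W := hP.to_le inf_le_left
  have hBW : B ≤ normalizer (W : Set H) := by
    refine le_norm_inf hs.1 ?_
    rw [normalizer_eq_top_iff.2 hPn]; exact le_top
  have two : ∀ x ∈ P, x * x * x = 1 → x = 1 := by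
    intro x hx h3
    obtain ⟨n, hn⟩ := hP ⟨x, hx⟩
    exact Sl.eq_one_of_cube h3 (n := n) (by simpa using congrArg Subtype.val hn)
  have hconj : ∀ v ∈ B, v * v * v = 1 → ∀ x ∈ W, x⁻¹ * v * x ∈ B := by
    intro v hv h3 x hx
    refine mem_of_sup (P := W) (hs.restrict (sup_le hs.1 inf_le_right) le_sup_left) hW hBW ?_ ?_
    · exact mul_mem (mul_mem (inv_mem (mem_sup_right hx)) (mem_sup_left hv)) (mem_sup_right hx)
    · refine odd_of_cube ?_
      calc x⁻¹ * v * x * (x⁻¹ * v * x) * (x⁻¹ * v * x) = x⁻¹ * (v * v * v) * x := by group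
        _ = 1 := by rw [h3]; group
  obtain ⟨v, hv, hv3, hv1⟩ := hB.ex
  have hVP : ∀ x ∈ hB.V, e ∈ P → x ∈ P := by
    intro x hx heP
    by_cases hx1 : x = 1
    · rw [hx1]; exact one_mem _
    rcases hB.conj v hv e heB x hx.1 hv3 hv1 he2 he1 hx.2 hx1 with h | h | h
    · rw [h]; exact heP
    · rw [h]; exact hPn.conj_mem _ heP _
    · rw [h]; exact hPn.conj_mem _ (hPn.conj_mem _ heP _) _
  have heP : e ∈ P := by
    by_contra heP
    -- `P ∩ B = 1`
    have hPB : ∀ x ∈ P, x ∈ B → x = 1 := by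
      intro x hx hxB
      rcases hB.cases x hxB with h2 | h3
      · by_contra hx1
        apply heP
        rcases hB.conj v hv x hxB e heB hv3 hv1 h2 hx1 he2 he1 with h | h | h
        · rw [h]; exact hx
        · rw [h]; exact hPn.conj_mem _ hx _
        · rw [h]; exact hPn.conj_mem _ (hPn.conj_mem _ hx _) _
      · exact two x hx h3
    have hcomm : ∀ u ∈ B, u * u * u = 1 → ∀ p ∈ P, p * u = u * p := by
      intro u hu hu3
      have h1 : zpowers u ≤ centralizer (P : Set H) := by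
        refine SolvTwo.le_cent (z := f) hf2 (W := zpowers u) (P := P) hP ?_ ?_ ?_
        · rw [Nat.card_zpowers]
          exact (Nat.coprime_two_right.2 (odd_of_cube hu3))
        · rintro w ⟨n, rfl⟩
          have : Commute u f := mem_centralizer_singleton_iff.1 (hs.1 hu)
          exact (this.zpow_left n).eq
        · rintro x hx hxf w ⟨n, rfl⟩
          have hxW : x ∈ W := ⟨hx, mem_centralizer_singleton_iff.2 hxf⟩
          have h2 : x⁻¹ * (u * x * u⁻¹) ∈ B := by
            have e1 : x⁻¹ * (u * x * u⁻¹) = x⁻¹ * u * x * u⁻¹ := by group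
            rw [e1]; exact mul_mem (hconj u hu hu3 x hxW) (inv_mem hu)
          have h3 := hPB _ (mul_mem (inv_mem hx) (hPn.conj_mem _ hx u)) h2
          have h4 : x * u = u * x := by
            calc x * u = x * (x⁻¹ * (u * x * u⁻¹)) * u := by rw [h3, mul_one]
              _ = u * x := by group
          exact (show Commute x u from h4).zpow_right n
      intro p hp
      exact mem_centralizer_iff.1 (h1 (mem_zpowers u)) p hp
    have hBC : B ≤ centralizer (P : Set H) := by
      intro b hb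
      obtain ⟨u, hu, w, hw, hu3, hw3, rfl⟩ := hB.gen b hb
      refine mul_mem (mem_centralizer_iff.2 fun p hp => hcomm u hu hu3 p hp)
        (mem_centralizer_iff.2 fun p hp => hcomm w hw hw3 p hp)
    have hCn : (centralizer (P : Set H)).Normal := inferInstance
    have h1 : B.IsSubnormal :=
      (hs.restrict (centralizer_le (Set.singleton_subset_iff.2 hf)) hBC).isSubnormal hCn.isSubnormal
    have h2 : hB.V.IsSubnormal := by
      refine (Sn.of_normal hB.V_le ?_).isSubnormal h1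
      intro b hb
      refine mem_normalizer_fintype fun x hx => hB.conj_V ?_ hx
      exact mul_mem (mul_mem hb hx.1) (inv_mem hb)
    have h3 := SignalizersComponents.CompBasic.subnormal_pGroup_le_pCore h2 hB.V_two
    exact heP (h3 ⟨heB, he2⟩)
  refine ⟨heP, fun x hx hxf => ?_⟩
  have hxW : x ∈ W := ⟨hx, mem_centralizer_singleton_iff.2 hxf⟩
  have hVW : ∀ t ∈ hB.V, t ∈ W := fun t ht => ⟨hVP t ht heP, hs.1 ht.1⟩
  -- the coset
  have h1 : x⁻¹ * v * x * v⁻¹ ∈ hB.V := by
    have h2 : x⁻¹ * v * x * v⁻¹ ∈ B := mul_mem (hconj v hv hv3 x hxW) (inv_mem hv)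
    refine ⟨h2, ?_⟩
    rcases hB.cases _ h2 with h3 | h3
    · exact h3
    · have h4 : x⁻¹ * v * x * v⁻¹ ∈ P := by
        have e1 : x⁻¹ * v * x * v⁻¹ = x⁻¹ * (v * x * v⁻¹) := by group
        rw [e1]; exact mul_mem (inv_mem hx) (hPn.conj_mem _ hx v)
      rw [two _ h4 h3, one_mul]
  have h2 : ∀ t ∈ hB.V, v * t * v⁻¹ ∈ hB.V := fun t ht =>
    hB.conj_V (mul_mem (mul_mem hv ht.1) (inv_mem hv)) ht
  obtain ⟨t, ht, hvt⟩ := exists_fixed hB.V_two hv3 h2 h1
  set n := x * t with hn
  have hnW : n ∈ W := mul_mem hxW (hVW t ht)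
  have hnB : ∀ b ∈ B, n * b * n⁻¹ ∈ B := by
    intro b hb
    obtain ⟨u, hu, w, hw, hu3, hw3, rfl⟩ := hB.gen b hb
    have h3 := hconj u hu hu3 n⁻¹ (inv_mem hnW)
    have h4 := hconj w hw hw3 n⁻¹ (inv_mem hnW)
    have e1 : n * (u * w) * n⁻¹ = (n⁻¹⁻¹ * u * n⁻¹) * (n⁻¹⁻¹ * w * n⁻¹) := by group
    rw [e1]; exact mul_mem h3 h4
  obtain ⟨k, hk⟩ := hP ⟨n, hnW.1⟩
  have hk' : n ^ 2 ^ k = 1 := by simpa using congrArg Subtype.val hk
  have h3 : n * e * n⁻¹ = e := by
    have h4 := hB.conj_V (hnB e heB) (⟨heB, he2⟩ : e ∈ hB.V)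
    have h5 : n * e * n⁻¹ ≠ 1 := by
      intro h6
      apply he1
      calc e = n⁻¹ * (n * e * n⁻¹) * n := by group
        _ = 1 := by rw [h6]; group
    have hcv : ∀ y : H, n * (v * y * v⁻¹) * n⁻¹ = v * (n * y * n⁻¹) * v⁻¹ := by
      intro y
      calc n * (v * y * v⁻¹) * n⁻¹ = (n * v) * y * (n * v)⁻¹ := by group
        _ = (v * n) * y * (v * n)⁻¹ := by rw [← hvt]
        _ = v * (n * y * n⁻¹) * v⁻¹ := by group
    have hv' : ∀ y : H, v * (v * (v * y * v⁻¹) * v⁻¹) * v⁻¹ = y := by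
      intro y
      calc v * (v * (v * y * v⁻¹) * v⁻¹) * v⁻¹ = (v * v * v) * y * (v * v * v)⁻¹ := by group
        _ = y := by rw [hv3]; group
    rcases hB.conj v hv e heB _ h4.1 hv3 hv1 he2 he1 h4.2 h5 with h | h | h
    · exact h
    · refine comm_of_cube hk' ?_
      simp only [h, hcv, hv']
    · refine comm_of_cube hk' ?_
      simp only [h, hcv, hv']
  have h4 : n * e = e * n := mul_inv_eq_iff_eq_mul.1 h3
  have h5 : t * e = e * t := hB.comm t ht.1 e heB ht.2 he2
  have h6 : x = n * t⁻¹ := by rw [hn]; group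
  rw [h6]
  exact ((show Commute n e from h4).mul_left ((show Commute t e from h5).inv_left)).eq

end ThreeC

end Cfsg.Agent.OddHalf.NI3.Bad.CoreThree

end

-- merged: Cfsg.Agent.OddHalf.NI3.Bad.HLoc
section

/-!
# THEOREM NIB, step (3): the rows (3a), (3a'), (3b), (3c) at the level of `H = C(z)`

`Loc J₁ J₂ z f e` : `J₁, J₂ ≅ SL₂(3)` commuting, with the same central involution `z` of `H`, subnormal in `C_H(e)`,
`O₂(J₁), O₂(J₂) ≤ P = O₂(H)`, `f = p q` with `p ∈ J₁`, `q ∈ J₂` of order 4.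

* `Loc.falseA` : there is no `SL₂(3)` subnormal in `C_H(z f)` with involution `z f`;
* `Loc.falseA'` : `z f` is not in a component of `C_H(f)`;
* `Loc.subB` : if `e` lies in a component `E` of `C_H(f)` and `Aut(E)` has no element of order 3 trivial on `C_E(e)`,
  then `J₁` is subnormal in `H`;
* `Loc.subC` : if `e` lies in a subnormal subgroup `A₄` of `C_H(f)`, then `J₁` is subnormal in `H`.
-/

set_option autoImplicit false

namespace Cfsg.Agent.OddHalf.NI3.Bad.HLoc

open Subgroup Cfsg Cfsg.Agent.Cit Cfsg.Agent.Cit.SolvTwo Cfsg.Agent.Cit.SLThree Cfsg.Agent.OddHalf.NI3.Bad.CoreThree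
open Cfsg.Agent.SignalizersComponents

/-- a perfect finite group is generated by its elements of odd order -/
theorem closure_odd {Y : Type*} [Group Y] [Finite Y] (hperf : commutator Y = ⊤) :
    closure {y : Y | Odd (orderOf y)} = ⊤ := by
  have hp : Fact (Nat.Prime 2) := ⟨Nat.prime_two⟩
  set N : Subgroup Y := closure {y : Y | Odd (orderOf y)} with hN
  have hn : N.Normal := by
    refine ⟨fun a ha g => ?_⟩
    have h1 : N.map (MulAut.conj g).toMonoidHom ≤ N := by
      rw [hN, MonoidHom.map_closure, closure_le]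
      rintro _ ⟨y, hy, rfl⟩
      apply Subgroup.subset_closure
      show Odd (orderOf ((MulAut.conj g).toMonoidHom y))
      rw [orderOf_injective _ (MulAut.conj g).injective]
      exact hy
    exact h1 ⟨a, ha, rfl⟩
  have h2 : IsPGroup 2 (Y ⧸ N) := by
    intro x
    obtain ⟨y, rfl⟩ := QuotientGroup.mk_surjective x
    obtain ⟨n, m, hm, hnm⟩ := Nat.exists_eq_two_pow_mul_odd (n := orderOf y) (orderOf_pos y).ne'
    refine ⟨n, ?_⟩
    rw [← QuotientGroup.mk_pow, QuotientGroup.eq_one_iff]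
    apply Subgroup.subset_closure
    show Odd (orderOf (y ^ 2 ^ n))
    refine hm.of_dvd_nat (orderOf_dvd_of_pow_eq_one ?_)
    rw [← pow_mul, ← hnm, pow_orderOf_eq_one]
  have h3 : commutator (Y ⧸ N) = ⊤ := by
    have h1 : (commutator Y).map (QuotientGroup.mk' N) = commutator (Y ⧸ N) := by
      rw [_root_.commutator_def, _root_.commutator_def, Subgroup.map_commutator,
        ← MonoidHom.range_eq_map,
        MonoidHom.range_eq_top.mpr (QuotientGroup.mk'_surjective N)]
    rw [← h1, hperf, ← MonoidHom.range_eq_map,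
      MonoidHom.range_eq_top.mpr (QuotientGroup.mk'_surjective N)]
  by_contra hne
  have hnt : Nontrivial (Y ⧸ N) := QuotientGroup.nontrivial_iff.2 hne
  have := h2.isNilpotent
  have h4 : commutator (Y ⧸ N) < ⊤ := by
    exact Group.IsSolvable.commutator_lt_top_of_nontrivial (Y ⧸ N)
  exact h4.ne h3

section

variable {H : Type*} [Group H] [Finite H]

/-- a quasisimple subnormal subgroup of `C_H(f)`, `f ∈ O₂(H)` an involution, centralises `O₂(H)` -/
theorem comm_P {E : Subgroup H} {f : H} (hE : Sn E (centralizer ({f} : Set H))) (hq : IsQuasisimple ↥E)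
    (hf : f ∈ pCore 2 H) (hff : f * f = 1) : E ≤ centralizer (pCore 2 H : Set H) := by
  have : Fact (Nat.Prime 2) := ⟨Nat.prime_two⟩
  set P : Subgroup H := pCore 2 H with hPdef
  have hPn : P.Normal := Lib.Cores.pCore_normal 2
  have hP : IsPGroup 2 P := Lib.Cores.pCore_isPGroup 2
  set C := centralizer ({f} : Set H) with hC
  have hcomp : IsComponent (E.subgroupOf C) :=
    ⟨hE.2, LayerBasic.quasisimple_congr (subgroupOfEquivOfLe hE.1).symm hq⟩
  have hPC : (P.subgroupOf C).Normal := inferInstance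
  have hPC2 : IsPGroup 2 (P.subgroupOf C) := hP.comap_subtype
  have h1 := LocalLayer.component_commutator_pGroup hcomp hPC hPC2
  rw [commutator_eq_bot_iff_le_centralizer] at h1
  have h2 : ∀ x ∈ E, ∀ p ∈ P, p * f = f * p → x * p = p * x := by
    intro x hx p hp hpf
    have hpC : p ∈ C := mem_centralizer_singleton_iff.2 hpf
    have h3 := mem_centralizer_iff.1 (h1 (mem_subgroupOf.2 hx : (⟨x, hE.1 hx⟩ : C) ∈ E.subgroupOf C)) ⟨p, hpC⟩
      (mem_subgroupOf.2 hp)
    exact (congrArg Subtype.val h3).symm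
  have hodd : ∀ x ∈ E, Odd (orderOf x) → x ∈ centralizer (P : Set H) := by
    intro x hx ho
    have h3 : zpowers x ≤ centralizer (P : Set H) := by
      refine SolvTwo.le_cent (z := f) hff (W := zpowers x) (P := P) hP ?_ ?_ ?_
      · rw [Nat.card_zpowers]
        exact Nat.coprime_two_right.2 ho
      · rintro w ⟨n, rfl⟩
        have : Commute x f := mem_centralizer_singleton_iff.1 (hE.1 hx)
        exact (this.zpow_left n).eq
      · rintro p hp hpf w ⟨n, rfl⟩
        have : Commute p x := (h2 x hx p hp hpf).symm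
        exact (this.zpow_right n).eq
    exact h3 (mem_zpowers x)
  intro x hx
  have h3 := closure_odd (Y := ↥E) hq.1.commutator_eq_top
  have h4 : (⟨x, hx⟩ : E) ∈ closure {y : E | Odd (orderOf y)} := by rw [h3]; trivial
  have h5 : closure {y : E | Odd (orderOf y)} ≤ (centralizer (P : Set H)).comap E.subtype := by
    rw [closure_le]
    intro y hy
    refine hodd _ y.2 ?_
    have hy' : Odd (orderOf y) := hy
    rwa [← orderOf_coe] at hy'
  exact h5 h4

/-- ... and is a component of `H` -/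
theorem component {E : Subgroup H} {f : H} (hE : Sn E (centralizer ({f} : Set H))) (hq : IsQuasisimple ↥E)
    (hf : f ∈ pCore 2 H) (hff : f * f = 1) : IsComponent E := by
  have h1 := comm_P hE hq hf hff
  have hPn : (pCore 2 H).Normal := Lib.Cores.pCore_normal 2
  have hCn : (centralizer (pCore 2 H : Set H)).Normal := inferInstance
  exact ⟨(hE.restrict (centralizer_le (Set.singleton_subset_iff.2 hf)) h1).isSubnormal hCn.isSubnormal, hq⟩

/-- (L2) a classical pair `(b, J)` with `b ∈ O₂(H)` has `b ∈ Z(O₂(H))` -/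
theorem central_cl {J : Subgroup H} {b : H} (h : Cl b J) (hb : b ∈ pCore 2 H) :
    ∀ p ∈ pCore 2 H, p * b = b * p := by
  have : Fact (Nat.Prime 2) := ⟨Nat.prime_two⟩
  obtain ⟨i, j, d, s⟩ := h.pr.sl
  set P : Subgroup H := pCore 2 H with hPdef
  have hPn : P.Normal := Lib.Cores.pCore_normal 2
  have hP : IsPGroup 2 P := Lib.Cores.pCore_isPGroup 2
  have hbb : b * b = 1 := s.q.z2
  have hn : J ≤ normalizer (P : Set H) := by rw [normalizer_eq_top_iff.2 hPn]; exact le_top
  have hJb : ∀ x ∈ J, x * b = b * x := fun x hx => s.comm_z hx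
  by_cases hQ : ∀ y ∈ J, y * y = b → y ∈ P
  · -- `C_P(b)` is self-normalising
    have hi : i ∈ P := hQ i s.hi s.q.i2
    have hj : j ∈ P := hQ j s.hj s.q.j2
    set X : Subgroup H := P ⊓ centralizer ({b} : Set H) with hXdef
    suffices hX : X = P by
      intro p hp
      rw [← hX] at hp
      exact mem_centralizer_singleton_iff.1 hp.2
    by_contra hne
    obtain ⟨n, hnP, hnX, hn1⟩ := GTwoFour.OuterFour.exists_norm_grow hP inf_le_left hne
    have hn' : n ∈ normalizer (X : Set H) := mem_normalizer_fintype fun x hx => hn1 x hx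
    have vX : ∀ x ∈ X, d * x * d⁻¹ ∈ X := fun x hx =>
      (mem_normalizer_iff.1 (le_norm_inf h.sn.1 hn s.hd) x).1 hx
    have h1 := coset_mem h.pr s h.sn hP hn hi hb hnP hn'
    obtain ⟨x, hx, hxv⟩ := exists_fixed (hP.to_le inf_le_left) s.d3 vX h1
    have hmP : n * x ∈ P := mul_mem hnP hx.1
    have hm' : n * x ∈ normalizer (X : Set H) := mul_mem hn' (le_normalizer hx)
    have c1 := comm_of_normX s h.sn hP hn hi hj hmP hm' hxv.symm
    have h2 : n * x * b = b * (n * x) := by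
      rw [← s.q.i2]
      exact ((show Commute (n * x) i from c1.1).mul_right (show Commute (n * x) i from c1.1)).eq
    apply hnX
    have h3 : n = n * x * x⁻¹ := by group
    rw [h3]
    exact mul_mem (show n * x ∈ X from ⟨hmP, mem_centralizer_singleton_iff.2 h2⟩) (inv_mem hx)
  · -- `d` centralises `P`
    have h1 : ∀ v ∈ J, v * v * v = 1 → v ∈ centralizer (P : Set H) := by
      intro v hv hv3
      have h3 : zpowers v ≤ centralizer (P : Set H) := by
        refine SolvTwo.le_cent (z := b) hbb (W := zpowers v) (P := P) hP ?_ ?_ ?_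
        · rw [Nat.card_zpowers]
          exact Nat.coprime_two_right.2 (odd_of_cube hv3)
        · rintro w ⟨n, rfl⟩
          have : Commute v b := hJb v hv
          exact (this.zpow_left n).eq
        · rintro p hp hpb w ⟨n, rfl⟩
          have h4 : v * p = p * v := by
            refine NI3.T3.comm_of_sn h.pr.t3 h.sn (P := P ⊓ centralizer ({b} : Set H)) inf_le_right
              (hP.to_le inf_le_left) (le_norm_inf h.sn.1 hn) ?_ hv hv3 ⟨hp, mem_centralizer_singleton_iff.2 hpb⟩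
            intro h5
            exact hQ fun y hy hyb => (h5 y hy hyb).1
          have : Commute p v := h4.symm
          exact (this.zpow_right n).eq
      exact h3 (mem_zpowers v)
    have h2 : J ≤ centralizer (P : Set H) := h.pr.le_of_cube h1
    intro p hp
    exact mem_centralizer_iff.1 (h2 h.pr.mem) p hp

end

/-- the local situation in `H = C(z)` -/
structure Loc {H : Type*} [Group H] (J₁ J₂ : Subgroup H) (z f e : H) : Prop where
  p1 : IsPr J₁ z
  p2 : IsPr J₂ z
  comm : ∀ x ∈ J₁, ∀ y ∈ J₂, x * y = y * x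
  sn1 : Sn J₁ (centralizer ({e} : Set H))
  sn2 : Sn J₂ (centralizer ({e} : Set H))
  P1 : ∀ x ∈ J₁, x * x = z → x ∈ pCore 2 H
  P2 : ∀ x ∈ J₂, x * x = z → x ∈ pCore 2 H
  dec : ∃ p ∈ J₁, ∃ q ∈ J₂, p * p = z ∧ q * q = z ∧ f = p * q

namespace Loc

variable {H : Type*} [Group H] [Finite H] {J₁ J₂ : Subgroup H} {z f e : H} (h : Loc J₁ J₂ z f e)

include h

omit [Finite H] in
theorem zz : z * z = 1 := h.p1.t3.z_sq

omit [Finite H] in
theorem f_mem : f ∈ pCore 2 H := by
  obtain ⟨p, hp, q, hq, hpp, hqq, rfl⟩ := h.dec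
  exact mul_mem (h.P1 p hp hpp) (h.P2 q hq hqq)

omit [Finite H] in
theorem z_mem : z ∈ pCore 2 H := by
  obtain ⟨p, hp, q, hq, hpp, hqq, rfl⟩ := h.dec
  rw [← hpp]
  exact mul_mem (h.P1 p hp hpp) (h.P1 p hp hpp)

omit [Finite H] in
theorem ff : f * f = 1 := by
  obtain ⟨p, hp, q, hq, hpp, hqq, rfl⟩ := h.dec
  calc p * q * (p * q) = p * (q * p) * q := by group
    _ = (p * p) * (q * q) := by rw [← h.comm p hp q hq]; group
    _ = 1 := by rw [hpp, hqq, h.zz]

omit [Finite H] in
/-- `z f` does not centralise `O₂(J₁)` -/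
theorem not_central (hc : ∀ p ∈ pCore 2 H, p * (z * f) = z * f * p) : False := by
  obtain ⟨p, hp, q, hq, hpp, hqq, rfl⟩ := h.dec
  obtain ⟨x, hx, y, hy, hxx, hyy, hxy⟩ := h.p1.t3.ex4
  -- every element of order 4 of `J₁` commutes with `p`
  have key : ∀ y ∈ J₁, y * y = z → y * p = p * y := by
    intro y hy hyy
    have h1 := hc y (h.P1 y hy hyy)
    have hyz : y * z = z * y := by rw [← hyy, mul_assoc]
    have hyq := h.comm y hy q hq
    have h2 : z * (y * p) * q = z * (p * y) * q := by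
      calc z * (y * p) * q = (z * y) * p * q := by group
        _ = y * (z * (p * q)) := by rw [← hyz]; group
        _ = z * p * (q * y) := by rw [h1]; group
        _ = z * (p * y) * q := by rw [← hyq]; group
    exact mul_left_cancel (mul_right_cancel h2)
  obtain ⟨g, hg, hgx⟩ := h.p1.t3.conj p hp x hx hpp hxx
  have h1 := key (g⁻¹ * y * g) (mul_mem (mul_mem (inv_mem hg) hy) hg) (by
    calc g⁻¹ * y * g * (g⁻¹ * y * g) = g⁻¹ * (y * y) * g := by group
      _ = g⁻¹ * (z * g) := by rw [hyy]; group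
      _ = g⁻¹ * (g * z) := by rw [h.p1.comm_z hg]
      _ = z := by group)
  apply hxy
  rw [← hgx]
  calc g * p * g⁻¹ * y = g * (p * (g⁻¹ * y * g)) * g⁻¹ := by group
    _ = y * (g * p * g⁻¹) := by rw [← h1]; group

/-- **(3a)** -/
theorem falseA {J : Subgroup H} (hJ : Cl (z * f) J) : False :=
  h.not_central (central_cl hJ (mul_mem h.z_mem h.f_mem))

/-- **(3a')** -/
theorem falseA' {E : Subgroup H} (hE : Sn E (centralizer ({f} : Set H))) (hq : IsQuasisimple ↥E)
    (hm : z * f ∈ E) : False :=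
  h.not_central fun p hp => mem_centralizer_iff.1 (comm_P hE hq h.f_mem h.ff hm) p hp

/-- **(3b)** -/
theorem subB (hO : pPrimeCore 2 ↥(centralizer ({e} : Set H)) = ⊥) {E : Subgroup H}
    (hE : Sn E (centralizer ({f} : Set H))) (hq : IsQuasisimple ↥E) (he : e ∈ E)
    (hα : ∀ α : MulAut ↥E, α ^ 3 = 1 → (∀ g : ↥E, (g : H) * e = e * g → α g = g) → α = 1) : J₁.IsSubnormal := by
  have : Fact (Nat.Prime 2) := ⟨Nat.prime_two⟩
  have hc := component hE hq h.f_mem h.ff
  have hEP := comm_P hE hq h.f_mem h.ff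
  have hJc : IsPr (J₁.subgroupOf (centralizer ({e} : Set H))) (⟨z, h.sn1.1 h.p1.mem⟩ : centralizer ({e} : Set H)) :=
    h.p1.subgroupOf h.sn1.1
  -- components in `C(e)`
  have hL : ∀ L : Subgroup H, IsComponent L → L ≤ centralizer ({e} : Set H) → ∀ x ∈ J₁, ∀ l ∈ L, x * l = l * x := by
    intro L hL hLe x hx l hl
    have h2 := comm_component hJc h.sn1.2 (Components.isComponent_subgroupOf hLe hL)
    exact congrArg Subtype.val (h2 ⟨x, h.sn1.1 hx⟩ hx ⟨l, hLe hl⟩ hl)
  -- `J₁` commutes with `E`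
  have hJE : J₁ ≤ centralizer (E : Set H) := by
    by_cases hEe : E ≤ centralizer ({e} : Set H)
    · intro x hx
      rw [mem_centralizer_iff]
      intro y hy
      exact (hL E hc hEe x hx y hy).symm
    -- `J₁` normalises `E`
    have hn : J₁ ≤ normalizer (E : Set H) := by
      intro x hx
      rw [mem_normalizer_iff_cj]
      by_contra hne
      apply hEe
      have h1 : IsComponent (Cit.cj x E) := Comp.isComponent_cj hc x
      have h2 := Components.component_le_centralizer_of_ne h1 hc hne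
      have h3 : e ∈ Cit.cj x E := by
        rw [Cit.mem_cj]
        have h4 : x * e = e * x := mem_centralizer_singleton_iff.1 (h.sn1.1 hx)
        have h5 : x⁻¹ * e * x = e := by
          calc x⁻¹ * e * x = x⁻¹ * (e * x) := by group
            _ = e := by rw [← h4]; group
        rw [h5]; exact he
      intro y hy
      rw [mem_centralizer_singleton_iff]
      exact mem_centralizer_iff.1 (h2 h3) y hy
    refine h.p1.le_of_cube fun v hv hv3 => ?_
    -- `v` centralises `C_E(e)`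
    have hfix : ∀ c ∈ E, c * e = e * c → v * c = c * v := by
      intro c hcE hce
      have hcC : c ∈ centralizer ({e} : Set H) := mem_centralizer_singleton_iff.2 hce
      have h4 := comm_subnormal hO hJc h.sn1.2 (C := E.subgroupOf (centralizer ({e} : Set H)))
        (hc.1.comap _) ?_ ?_ (v := ⟨v, h.sn1.1 hv⟩) hv (Subtype.ext hv3) ⟨c, hcC⟩ hcE
      · exact congrArg Subtype.val h4
      · intro g hg
        rw [mem_normalizer_iff]
        intro k
        exact mem_normalizer_iff.1 (hn hg) k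
      · intro h5
        obtain ⟨x, hx, y, hy, hxx, hyy, hxy⟩ := h.p1.t3.ex4
        have h6 : x ∈ E := h5 ⟨x, h.sn1.1 hx⟩ hx (Subtype.ext hxx)
        exact hxy (mem_centralizer_iff.1 (hEP h6) y (h.P1 y hy hyy)).symm
    -- the automorphism
    have hvn := hn hv
    let α : MulAut ↥E := E.normalizerMonoidHom ⟨v, hvn⟩
    have hα' : ∀ g : ↥E, ((α g : ↥E) : H) = v * g * v⁻¹ := fun g => rfl
    have h1 : α = 1 := by
      refine hα α ?_ ?_
      · ext g
        rw [pow_succ, pow_succ, pow_one]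
        show ((α (α (α g)) : ↥E) : H) = g
        rw [hα', hα', hα']
        calc v * (v * (v * g * v⁻¹) * v⁻¹) * v⁻¹ = (v * v * v) * g * (v * v * v)⁻¹ := by group
          _ = g := by rw [hv3]; group
      · intro g hg
        apply Subtype.ext
        rw [hα', hfix g g.2 hg]; group
    rw [mem_centralizer_iff]
    intro y hy
    have h2 := hα' ⟨y, hy⟩
    rw [h1] at h2
    have h3 : y = v * y * v⁻¹ := h2
    calc y * v = (v * y * v⁻¹) * v := by rw [← h3]
      _ = v * y := by group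
  -- `J₁` centralises the layer
  have hJL : J₁ ≤ centralizer (layer H : Set H) := by
    rw [le_centralizer_iff, Components.layer_le_iff]
    intro L hLc
    by_cases hLE : L = E
    · rw [hLE, ← le_centralizer_iff]; exact hJE
    have h1 := Components.component_le_centralizer_of_ne hLc hc hLE
    have hLe : L ≤ centralizer ({e} : Set H) := h1.trans (centralizer_le (Set.singleton_subset_iff.2 he))
    intro l hl
    rw [mem_centralizer_iff]
    intro x hx
    exact hL L hLc hLe x hx l hl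
  have hn : (centralizer (layer H : Set H)).Normal := by
    have := Components.layer_normal (G := H)
    infer_instance
  refine (h.sn1.restrict ?_ hJL).isSubnormal hn.isSubnormal
  exact centralizer_le (Set.singleton_subset_iff.2 (Components.component_le_layer hc he))

/-- **(3c)** -/
theorem subC (hee : e * e = 1) (he1 : e ≠ 1) {E : Subgroup H} (hE : Sn E (centralizer ({f} : Set H))) (he : e ∈ E)
    (hiso : Nonempty (↥E ≃* ↥(alternatingGroup (Fin 4)))) : J₁.IsSubnormal := by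
  have : Fact (Nat.Prime 2) := ⟨Nat.prime_two⟩
  obtain ⟨iso⟩ := hiso
  have hA := Alt4.of_equiv iso
  obtain ⟨heP, hfe⟩ := alt4_le hA hE h.f_mem h.ff he hee he1
  have hPn : (pCore 2 H).Normal := Lib.Cores.pCore_normal 2
  have hP : IsPGroup 2 (pCore 2 H) := Lib.Cores.pCore_isPGroup 2
  have hn : ∀ J : Subgroup H, J ≤ normalizer (pCore 2 H : Set H) := fun J => by
    rw [normalizer_eq_top_iff.2 hPn]; exact le_top
  obtain ⟨i₁, j₁, d₁, s1⟩ := h.p1.sl
  obtain ⟨i₂, j₂, d₂, s2⟩ := h.p2.sl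
  have hc : ∀ p ∈ pCore 2 H, p * e = e * p := by
    refine central_of hP h.p1 h.p2 s1 s2 (hn _) (hn _) h.sn1 h.sn2 h.comm (h.P1 _ s1.hi s1.q.i2) (h.P1 _ s1.hj s1.q.j2)
      (h.P2 _ s2.hi s2.q.i2) (h.P2 _ s2.hj s2.q.j2) heP ?_
    intro c hcP ci1 cj1 ci2 cj2
    refine hfe c hcP ?_
    obtain ⟨p, hp, q, hq, hpp, hqq, rfl⟩ := h.dec
    have m1 : p ∈ closure ({i₁, j₁} : Set H) := by
      refine s1.mem_Q hp hP ?_ (h.P1 p hp hpp)
      rw [closure_le]
      rintro y (rfl | rfl)
      · exact h.P1 _ s1.hi s1.q.i2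
      · exact h.P1 _ s1.hj s1.q.j2
    have m2 : q ∈ closure ({i₂, j₂} : Set H) := by
      refine s2.mem_Q hq hP ?_ (h.P2 q hq hqq)
      rw [closure_le]
      rintro y (rfl | rfl)
      · exact h.P2 _ s2.hi s2.q.i2
      · exact h.P2 _ s2.hj s2.q.j2
    have k1 : closure ({i₁, j₁} : Set H) ≤ centralizer ({c} : Set H) := by
      rw [closure_le]
      rintro y (rfl | rfl)
      · exact mem_centralizer_singleton_iff.2 ci1.symm
      · exact mem_centralizer_singleton_iff.2 cj1.symm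
    have k2 : closure ({i₂, j₂} : Set H) ≤ centralizer ({c} : Set H) := by
      rw [closure_le]
      rintro y (rfl | rfl)
      · exact mem_centralizer_singleton_iff.2 ci2.symm
      · exact mem_centralizer_singleton_iff.2 cj2.symm
    have k3 : Commute c p := (mem_centralizer_singleton_iff.1 (k1 m1)).symm
    have k4 : Commute c q := (mem_centralizer_singleton_iff.1 (k2 m2)).symm
    exact (k3.mul_right k4).eq
  exact subnormal_of_central hP h.p1 h.sn1 heP hc

end Loc

end Cfsg.Agent.OddHalf.NI3.Bad.HLoc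

end

-- merged: Cfsg.Agent.OddHalf.NI3.Bad.StepThree
section

/-!
# THEOREM NIB, step (3): the rows (3a), (3a'), (3b), (3c) in `G`

`Cfg N a b e A B` (`a = -1₁₂`, `b = -1₃₄`, `e = -1₅₆`, `z = a b`), `RP a b A B` : `O₂(A), O₂(B) ≤ O₂(C(z))`,
`In a b e A B c D` : `c ∈ N` the rotation, `D` a component of `C(a)` containing `A^c`, `B^c`.

`falseO`, `falseA`, `falseA'`, `falseB`, `falseC` : `D` has none of the properties `RowO`, `RowA`, `RowA'`, `RowB`, `RowC`.
-/

set_option autoImplicit false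

namespace Cfsg.Agent.OddHalf.NI3.Bad.StepThree

open Subgroup Cfsg Cfsg.Agent.OddHalf.Iface Cfsg.Agent.OddHalf.NI3.Bad Cfsg.Agent.OddHalf.NI3.Bad.HLoc
open Cfsg.Agent.OddHalf.NI (CompIn)
open Cfsg.Agent.Cit (cj TStmt)

universe u

section

variable {G : Type*} [Group G] {N A B : Subgroup G} {a b e : G}

/-- `R = O₂(A) O₂(B) ≤ O₂(C(z))` -/
def RP (a b : G) (A B : Subgroup G) : Prop :=
  (∀ x ∈ A, x * x = a * b → x ∈ PP (a * b)) ∧ (∀ x ∈ B, x * x = a * b → x ∈ PP (a * b))

theorem a_mem (h : Cfg N a b e A B) : a ∈ centralizer ({a * b} : Set G) :=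
  mem_centralizer_singleton_iff.2 (by rw [← mul_assoc, h.aa, one_mul, h.ab, mul_assoc, h.aa, mul_one])

theorem e_mem (h : Cfg N a b e A B) : e ∈ centralizer ({a * b} : Set G) :=
  mem_centralizer_singleton_iff.2 (by
    calc e * (a * b) = (e * a) * b := by group
      _ = a * (e * b) := by rw [← h.ae]; group
      _ = a * b * e := by rw [← h.be]; group)

theorem comap_cent {z x : G} (hx : x ∈ centralizer ({z} : Set G)) :
    (centralizer ({z} : Set G) ⊓ centralizer ({x} : Set G)).comap (centralizer ({z} : Set G)).subtype =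
      centralizer ({(⟨x, hx⟩ : ↥(centralizer ({z} : Set G)))} : Set ↥(centralizer ({z} : Set G))) := by
  ext y
  rw [mem_comap, mem_inf]
  simp only [coe_subtype, mem_centralizer_singleton_iff]
  constructor
  · rintro ⟨-, h⟩
    exact Subtype.ext h
  · intro h
    exact ⟨mem_centralizer_singleton_iff.1 y.2, congrArg Subtype.val h⟩

/-- the local situation in `C(z)` -/
theorem loc (h : Cfg N a b e A B) (hR : RP a b A B) :
    Loc (A.subgroupOf (centralizer ({a * b} : Set G))) (B.subgroupOf (centralizer ({a * b} : Set G)))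
      (⟨a * b, h.A_le_z h.prA.mem⟩ : ↥(centralizer ({a * b} : Set G))) ⟨a, a_mem h⟩ ⟨e, e_mem h⟩ where
  p1 := h.prA.subgroupOf h.A_le_z
  p2 := h.prB.subgroupOf h.B_le_z
  comm := fun x hx y hy => Subtype.ext (h.AB x hx y hy)
  sn1 := by
    rw [← comap_cent]
    exact h.snA_e.comap _
  sn2 := by
    rw [← comap_cent]
    exact h.snB_e.comap _
  P1 := fun x hx hxx => (mem_PP x.2).1 (hR.1 x hx (congrArg Subtype.val hxx))
  P2 := fun x hx hxx => (mem_PP x.2).1 (hR.2 x hx (congrArg Subtype.val hxx))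
  dec := by
    obtain ⟨p, hp, q, hq, h1, h2, h3⟩ := h.a_eq
    exact ⟨⟨p, h.A_le_z hp⟩, hp, ⟨q, h.B_le_z hq⟩, hq, Subtype.ext h1, Subtype.ext h2, Subtype.ext h3⟩

/-- a subnormal subgroup of `C_D(b)` is subnormal in `C_{C(z)}(a)` -/
theorem sn_of (h : Cfg N a b e A B) {D : Subgroup G} (hD : Sn D (centralizer ({a} : Set G))) (hb : b ∈ D)
    {E : Subgroup ↥D} (hE : Sn E (centralizer ({(⟨b, hb⟩ : ↥D)} : Set ↥D))) :
    Sn ((E.map D.subtype).subgroupOf (centralizer ({a * b} : Set G)))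
      (centralizer ({(⟨a, a_mem h⟩ : ↥(centralizer ({a * b} : Set G)))} : Set ↥(centralizer ({a * b} : Set G)))) ∧
      E.map D.subtype ≤ centralizer ({a * b} : Set G) := by
  have h1 := hE.map D.subtype
  have h2 : (centralizer ({(⟨b, hb⟩ : ↥D)} : Set ↥D)).map D.subtype = D ⊓ centralizer ({b} : Set G) := by
    ext x
    rw [mem_map, mem_inf]
    constructor
    · rintro ⟨y, hy, rfl⟩
      rw [mem_centralizer_singleton_iff] at hy
      exact ⟨y.2, mem_centralizer_singleton_iff.2 (congrArg Subtype.val hy)⟩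
    · rintro ⟨hx, hxb⟩
      exact ⟨⟨x, hx⟩, mem_centralizer_singleton_iff.2 (Subtype.ext (mem_centralizer_singleton_iff.1 hxb)), rfl⟩
  rw [h2] at h1
  have h3 := h1.trans (hD.inf (centralizer ({b} : Set G)))
  have h4 : centralizer ({a} : Set G) ⊓ centralizer ({b} : Set G) =
      centralizer ({a * b} : Set G) ⊓ centralizer ({a} : Set G) := by
    rw [← cent_inf_eq, inf_comm]
  rw [h4] at h3
  refine ⟨?_, h3.le.trans inf_le_left⟩
  rw [← comap_cent]
  exact h3.comap _

end

section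

variable {G : Type u} [Group G] {N A B : Subgroup G} {a b e : G}

/-- `z a = b` in `C(z)` -/
theorem za_eq (h : Cfg N a b e A B) :
    (⟨a * b, h.A_le_z h.prA.mem⟩ : ↥(centralizer ({a * b} : Set G))) * ⟨a, a_mem h⟩ =
      ⟨b, mem_centralizer_singleton_iff.2 (by rw [← mul_assoc, h.ab])⟩ :=
  Subtype.ext h.z_a

theorem cent_za (h : Cfg N a b e A B) :
    centralizer ({(⟨a * b, h.A_le_z h.prA.mem⟩ : ↥(centralizer ({a * b} : Set G))) * ⟨a, a_mem h⟩} :
      Set ↥(centralizer ({a * b} : Set G))) =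
    centralizer ({(⟨a, a_mem h⟩ : ↥(centralizer ({a * b} : Set G)))} : Set ↥(centralizer ({a * b} : Set G))) := by
  ext y
  rw [mem_centralizer_singleton_iff, mem_centralizer_singleton_iff]
  have hz : y * (⟨a * b, h.A_le_z h.prA.mem⟩ : ↥(centralizer ({a * b} : Set G))) =
      ⟨a * b, h.A_le_z h.prA.mem⟩ * y := Subtype.ext (mem_centralizer_singleton_iff.1 y.2)
  constructor
  · intro h3
    rw [← mul_assoc, hz, mul_assoc, mul_assoc] at h3
    exact mul_left_cancel h3
  · intro h3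
    rw [← mul_assoc, hz, mul_assoc, h3, mul_assoc]

/-- `O(C_{C(z)}(e)) = 1` -/
theorem core_bot [Finite G] (hT : TStmt.{u}) (h : Cfg N a b e A B)
    (hO : pPrimeCore 2 ↥(centralizer ({e} : Set G)) = ⊥) :
    pPrimeCore 2 ↥(centralizer ({(⟨e, e_mem h⟩ : ↥(centralizer ({a * b} : Set G)))} :
      Set ↥(centralizer ({a * b} : Set G)))) = ⊥ := by
  have h1 := core_cent_eq_bot hT hO h.clA
  rw [← comap_cent] at h1 ⊢
  have e1 : ↥((centralizer ({e} : Set G) ⊓ centralizer ({a * b} : Set G)).comap (centralizer ({e} : Set G)).subtype) ≃*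
      ↥(centralizer ({e} : Set G) ⊓ centralizer ({a * b} : Set G)) := subgroupOfEquivOfLe inf_le_left
  have e2 : ↥((centralizer ({a * b} : Set G) ⊓ centralizer ({e} : Set G)).comap (centralizer ({a * b} : Set G)).subtype) ≃*
      ↥(centralizer ({a * b} : Set G) ⊓ centralizer ({e} : Set G)) := subgroupOfEquivOfLe inf_le_left
  have e3 : ↥(centralizer ({e} : Set G) ⊓ centralizer ({a * b} : Set G)) ≃*
      ↥(centralizer ({a * b} : Set G) ⊓ centralizer ({e} : Set G)) := MulEquiv.subgroupCongr (inf_comm _ _)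
  have h2 := Lib.Cores.map_equiv_pPrimeCore ((e1.trans e3).trans e2.symm) 2
  rw [h1, Subgroup.map_bot] at h2
  exact h2.symm

theorem core_of_ctx (C : Ctx G) {x : G} (hx : orderOf x = 2) : pPrimeCore 2 ↥(centralizer ({x} : Set G)) = ⊥ :=
  (Subgroup.map_eq_bot_iff_of_injective _ (centralizer ({x} : Set G)).subtype_injective).1 (C.bal x hx)

/-- `J₁` is not subnormal in `C(z)` -/
theorem false_of_sn (C : Ctx G) (h : Cfg N a b e A B)
    (hs : (A.subgroupOf (centralizer ({a * b} : Set G))).IsSubnormal) : False :=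
  Cfg.not_cl C (x := a * b) (J := A) ⟨h.prA, h.A_le_z, hs⟩

theorem e_ne [Finite G] (h : Cfg N a b e A B) : e ≠ 1 := by
  rintro rfl
  obtain ⟨c, hc, h1, h2, h3⟩ := h.rot
  have h4 : a = 1 := by rw [← h3]; group
  have h5 : b = 1 := by rw [← h1, h4]; group
  apply h.y_ne
  rw [h4, h5]; simp

/-- the data of step (3) -/
structure In (a b e : G) (A B : Subgroup G) (c : G) (D : Subgroup G) : Prop where
  h1 : c * a * c⁻¹ = b
  h2 : c * b * c⁻¹ = e
  h3 : c * e * c⁻¹ = a
  cD : D3.Comp a D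
  cA : cj c A ≤ D
  cB : cj c B ≤ D

theorem b_mem (h : Cfg N a b e A B) {c : G} {D : Subgroup G} (i : In a b e A B c D) : b ∈ D := by
  obtain ⟨p, hp, q, hq, -, -, h3⟩ := h.a_eq
  have h4 : b = (c * p * c⁻¹) * (c * q * c⁻¹) := by rw [← i.h1, h3]; group
  rw [h4]
  exact mul_mem (i.cA ⟨p, hp, rfl⟩) (i.cB ⟨q, hq, rfl⟩)

theorem be_mem (h : Cfg N a b e A B) {c : G} {D : Subgroup G} (i : In a b e A B c D) : b * e ∈ D := by
  have h4 : b * e = c * (a * b) * c⁻¹ := by
    calc b * e = (c * a * c⁻¹) * (c * b * c⁻¹) := by rw [i.h1, i.h2]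
      _ = c * (a * b) * c⁻¹ := by group
  rw [h4]
  exact i.cA ⟨_, h.prA.mem, rfl⟩

theorem snD {c : G} {D : Subgroup G} (i : In a b e A B c D) : Sn D (centralizer ({a} : Set G)) :=
  ⟨i.cD.le, i.cD.comp.1⟩

/-- the position in `D` -/
theorem posD (h : Cfg N a b e A B) {c : G} (hc : c ∈ N) {D : Subgroup G} (i : In a b e A B c D) :
    Pos (⟨b * e, be_mem h i⟩ : D) ((cj c A).subgroupOf D) ((cj c B).subgroupOf D) ⟨b, b_mem h i⟩ :=
  h.pos hc i.h1 i.h2 i.h3 i.cD.le i.cA i.cB (b_mem h i) (be_mem h i)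

/-- `b (b e) = e` in `D` -/
theorem wx_eq (h : Cfg N a b e A B) {c : G} {D : Subgroup G} (i : In a b e A B c D) :
    ((⟨b, b_mem h i⟩ * ⟨b * e, be_mem h i⟩ : ↥D) : G) = e := by
  show b * (b * e) = e
  rw [← mul_assoc, h.bb, one_mul]

/-- **(3), no position** -/
theorem falseO (h : Cfg N a b e A B) {c : G} (hc : c ∈ N) {D : Subgroup G} (i : In a b e A B c D)
    (hr : RowO ↥D) : False :=
  hr _ _ _ _ (posD h hc i)

/-- **(3a)** -/
theorem falseA (C : Ctx G) (h : Cfg N a b e A B) (hR : RP a b A B) {c : G} (hc : c ∈ N) {D : Subgroup G}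
    (i : In a b e A B c D) (hr : RowA ↥D) : False := by
  have := C.fin
  obtain ⟨J, hJ⟩ := hr _ _ _ _ (posD h hc i)
  obtain ⟨h1, h2⟩ := sn_of h (snD i) (b_mem h i) hJ.sn
  refine (loc h hR).falseA (J := (J.map D.subtype).subgroupOf (centralizer ({a * b} : Set G))) ?_
  refine ⟨?_, ?_⟩
  · rw [za_eq h]
    have h3 := hJ.pr.map D.subtype (fun h4 => hJ.pr.t3.z_ne (Subtype.ext h4))
    exact h3.subgroupOf h2
  · rw [cent_za h]
    exact h1

theorem qs_of {D : Subgroup G} {E : Subgroup ↥D} {x : ↥D} (hE : CompIn (centralizer ({x} : Set ↥D)) E) {K : Subgroup G}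
    (hK : E.map D.subtype ≤ K) : IsQuasisimple ↥((E.map D.subtype).subgroupOf K) :=
  SignalizersComponents.LayerBasic.quasisimple_congr
    ((E.equivMapOfInjective _ D.subtype_injective).trans (subgroupOfEquivOfLe hK).symm) hE.quasi

/-- **(3a')** -/
theorem falseA' (C : Ctx G) (h : Cfg N a b e A B) (hR : RP a b A B) {c : G} (hc : c ∈ N) {D : Subgroup G}
    (i : In a b e A B c D) (hr : RowA' ↥D) : False := by
  have := C.fin
  obtain ⟨E, hE, hm⟩ := hr _ _ _ _ (posD h hc i)
  obtain ⟨h1, h2⟩ := sn_of h (snD i) (b_mem h i) ⟨hE.le, hE.comp.1⟩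
  refine (loc h hR).falseA' h1 (qs_of hE h2) ?_
  rw [za_eq h]
  exact ⟨_, hm, rfl⟩

/-- **(3b)** -/
theorem falseB (C : Ctx G) (hT : TStmt.{u}) (h : Cfg N a b e A B) (hR : RP a b A B) {c : G} (hc : c ∈ N)
    {D : Subgroup G} (i : In a b e A B c D) (hr : RowB ↥D) : False := by
  have := C.fin
  obtain ⟨E, hE, hm, hα⟩ := hr _ _ _ _ (posD h hc i)
  obtain ⟨h1, h2⟩ := sn_of h (snD i) (b_mem h i) ⟨hE.le, hE.comp.1⟩
  have hee : orderOf e = 2 := orderOf_eq_prime (by rw [pow_two, h.ee]) (e_ne h)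
  refine false_of_sn C h ((loc h hR).subB (core_bot hT h (core_of_ctx C hee)) h1 (qs_of hE h2) ?_ ?_)
  · exact ⟨_, hm, wx_eq h i⟩
  · intro α hα3 hfix
    set f : ↥E ≃* ↥((E.map D.subtype).subgroupOf (centralizer ({a * b} : Set G))) :=
      (E.equivMapOfInjective _ D.subtype_injective).trans (subgroupOfEquivOfLe h2).symm with hf
    have hfv : ∀ g : ↥E, (((f g : ↥(centralizer ({a * b} : Set G))) : G)) = ((g : ↥D) : G) := fun g => rfl
    have h3 := hα ((MulAut.congr f).symm α) (by rw [← map_pow, hα3, map_one]) (by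
      intro g hg
      show f.symm (α (f g)) = g
      rw [hfix (f g) (Subtype.ext ?_), f.symm_apply_apply]
      have h4 : ((g : ↥D) : G) * e = e * ((g : ↥D) : G) := by
        have h5 : ((g : ↥D) : G) * (b * (b * e)) = b * (b * e) * ((g : ↥D) : G) := congrArg Subtype.val hg
        rwa [← mul_assoc b b e, h.bb, one_mul] at h5
      exact h4)
    have h4 := congrArg (MulAut.congr f) h3
    rwa [MulEquiv.apply_symm_apply, map_one] at h4

/-- **(3c)** -/
theorem falseC (C : Ctx G) (h : Cfg N a b e A B) (hR : RP a b A B) {c : G} (hc : c ∈ N)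
    {D : Subgroup G} (i : In a b e A B c D) (hr : RowC ↥D) : False := by
  have := C.fin
  obtain ⟨E, hE, hm, ⟨iso⟩⟩ := hr _ _ _ _ (posD h hc i)
  obtain ⟨h1, h2⟩ := sn_of h (snD i) (b_mem h i) hE
  refine false_of_sn C h ((loc h hR).subC (Subtype.ext h.ee) (fun h4 => e_ne h (congrArg Subtype.val h4)) h1 ?_ ?_)
  · exact ⟨_, hm, wx_eq h i⟩
  · exact ⟨((E.equivMapOfInjective _ D.subtype_injective).trans (subgroupOfEquivOfLe h2).symm).symm.trans iso⟩

/-- **(3), (3a), (3a'), (3b), (3c)** -/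
theorem false_of_rows (C : Ctx G) (hT : TStmt.{u}) (h : Cfg N a b e A B) (hR : RP a b A B) {c : G} (hc : c ∈ N)
    {D : Subgroup G} (i : In a b e A B c D)
    (hr : RowO ↥D ∨ RowA ↥D ∨ RowA' ↥D ∨ RowB ↥D ∨ RowC ↥D) : False := by
  rcases hr with hr | hr | hr | hr | hr
  · exact falseO h hc i hr
  · exact falseA C h hR hc i hr
  · exact falseA' C h hR hc i hr
  · exact falseB C hT h hR hc i hr
  · exact falseC C h hR hc i hr

end

end Cfsg.Agent.OddHalf.NI3.Bad.StepThree

end
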