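import Cfsg.Agent.OddHalf.NI3.Bad.Basic
import Cfsg.Agent.OddHalf.NI3.SLThree
import Cfsg.Agent.OddHalf.NI3.TC
import Cfsg.Agent.OddHalf.NI3.Final
import Cfsg.Agent.OddHalf.NI.Quot
import Cfsg.Agent.OddHalf.NI.NotBigOf
import Cfsg.Agent.S1152
import Cfsg.Agent.S1157

-- merged: Cfsg.Agent.OddHalf.NI3.Bad.Piece
section

/-!
# NI over `F₃`, THEOREM NIB: the component `D` of `C(a)` containing `A^c` and `B^c`
-/

set_option autoImplicit false
set_option linter.style.haveILetI false
set_option linter.unusedSectionVars false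

namespace Cfsg.Agent.OddHalf.NI3.Bad

open Subgroup Cfsg Cfsg.Agent.OddHalf.Iface Cfsg.Agent.OddHalf.LieOddFam Cfsg.Agent.SignalizersComponents
open Cfsg.Agent.OddHalf.D3 (Comp)
open Cfsg.Agent.OddHalf.NI (CompIn)
open Cfsg.Agent.Cit (cj TStmt pc cls)

universe u

section

variable {X : Type u} [Group X] [Finite X]

/-- **Two commuting classical `SL₂(3)` with the same involution**: subnormal, or both in one component. -/
theorem exists_piece (hT : TStmt.{u}) (hO : pPrimeCore 2 X = ⊥) {x : X} {A B : Subgroup X} (hA : Cl x A)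
    (hB : Cl x B) (hc : B ≤ centralizer (A : Set X)) (hA' : ¬ A.IsSubnormal) (hB' : ¬ B.IsSubnormal) :
    ∃ D : Subgroup X, IsComponent D ∧ IsPGroup 2 (center ↥D) ∧ A ≤ D ∧ B ≤ D := by
  have hc' : A ≤ centralizer (B : Set X) := (le_centralizer_iff).1 hc
  obtain ⟨hD, hD2, hBD⟩ := (step' hT hO hA hB.pr hB.sn hc).resolve_left hB'
  obtain ⟨hE, -, hAE⟩ := (step' hT hO hB hA.pr hA.sn hc').resolve_left hA'
  have hAD : A ≤ pc (cls A) A := Cit.le_pc
  have hBE : B ≤ pc (cls B) B := Cit.le_pc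
  by_cases h : pc (cls A) A = pc (cls B) B
  · exact ⟨pc (cls A) A, hD, hD2, hAD, by rw [h]; exact hBE⟩
  · exfalso
    have h1 := Components.component_le_centralizer_of_ne hD hE h
    obtain ⟨s, hs, t, ht, hsz, htz, hst⟩ := hB.pr.t3.ex4
    exact hst (mem_centralizer_iff.1 (h1 (hBD t ht htz)) s (hBE hs))

end

section

variable {G : Type u} [Group G] {N : Subgroup G} {a b e : G} {A B : Subgroup G}

/-- **The component `D` of `C(a)`.** -/
theorem Cfg.exists_D (C : Ctx G) (hT : TStmt.{u}) (h : Cfg N a b e A B) {c : G} (hc : c ∈ N)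
    (h1 : c * a * c⁻¹ = b) (h2 : c * b * c⁻¹ = e) (h3 : c * e * c⁻¹ = a)
    (hA : ¬ Sn (cj c A) (centralizer ({a} : Set G))) (hB : ¬ Sn (cj c B) (centralizer ({a} : Set G))) :
    ∃ D : Subgroup G, Comp a D ∧ cj c A ≤ D ∧ cj c B ≤ D := by
  have := C.fin
  have h' := h.rotate hc h1 h2 h3
  have ha : orderOf a = 2 := by
    refine orderOf_eq_prime (by rw [pow_two, h.aa]) ?_
    rintro rfl
    have h4 : b * e ≠ 1 := h'.z_ne
    have h5 : b = 1 := by rw [← h1]; group
    have h6 : e = 1 := by rw [← h2, h5]; group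
    rw [h5, h6, mul_one] at h4
    exact h4 rfl
  have hO : pPrimeCore 2 ↥(centralizer ({a} : Set G)) = ⊥ := by
    have h4 := C.bal a ha
    rw [centralizerPPrimeCore] at h4
    exact (Subgroup.map_eq_bot_iff_of_injective _ (centralizer ({a} : Set G)).subtype_injective).1 h4
  have hcl1 := h'.clA
  have hcl2 := h'.clB
  obtain ⟨D, hD, -, hAD, hBD⟩ := exists_piece hT hO hcl1 hcl2 (by
      intro x hx
      rw [mem_centralizer_iff]
      intro y hy
      exact Subtype.ext (h'.AB y hy x hx)) (fun h5 => hA ⟨h'.A_le_e, h5⟩) (fun h5 => hB ⟨h'.B_le_e, h5⟩)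
  refine ⟨D.map (centralizer ({a} : Set G)).subtype, ⟨map_subtype_le _, ?_⟩, ?_, ?_⟩
  · rw [subgroupOf, comap_map_eq_self_of_injective (centralizer ({a} : Set G)).subtype_injective]
    exact hD
  · intro x hx
    exact ⟨⟨x, h'.A_le_e hx⟩, hAD hx, rfl⟩
  · intro x hx
    exact ⟨⟨x, h'.B_le_e hx⟩, hBD hx, rfl⟩

end

end Cfsg.Agent.OddHalf.NI3.Bad

end

-- merged: Cfsg.Agent.OddHalf.NI3.Bad.PslTwo
section

/-!
# `PSL(2,F)`, `|F|` odd, has no subgroup `SL₂(3)`
-/

set_option autoImplicit false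

namespace Cfsg.Agent.OddHalf.NI3.Bad.PslTwo

open Subgroup Matrix Cfsg

variable {F : Type*} [Field F]

/-- two matrices commuting with a nonscalar matrix commute -/
theorem comm_of_comm {X A B : Matrix (Fin 2) (Fin 2) F} (hX : X 0 1 ≠ 0 ∨ X 1 0 ≠ 0 ∨ X 0 0 - X 1 1 ≠ 0)
    (hA : A * X = X * A) (hB : B * X = X * B) : A * B = B * A := by
  have a1 := congrFun (congrFun hA 0) 0
  have a2 := congrFun (congrFun hA 0) 1
  have a3 := congrFun (congrFun hA 1) 0
  have b1 := congrFun (congrFun hB 0) 0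
  have b2 := congrFun (congrFun hB 0) 1
  have b3 := congrFun (congrFun hB 1) 0
  simp only [mul_apply, Fin.sum_univ_two] at a1 a2 a3 b1 b2 b3
  have key : ∀ {x1 x2 x3 α1 α2 α3 β1 β2 β3 : F}, (x1 ≠ 0 ∨ x2 ≠ 0 ∨ x3 ≠ 0) → α1 * x2 = α2 * x1 →
      α1 * x3 = α3 * x1 → α2 * x3 = α3 * x2 → β1 * x2 = β2 * x1 → β1 * x3 = β3 * x1 → β2 * x3 = β3 * x2 →
      α1 * β2 = α2 * β1 ∧ α1 * β3 = α3 * β1 ∧ α2 * β3 = α3 * β2 := by
    intro x1 x2 x3 α1 α2 α3 β1 β2 β3 hx h1 h2 h3 h4 h5 h6
    rcases hx with hx | hx | hx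
    · have e2 : α2 = α1 * x2 / x1 := by field_simp; exact h1.symm
      have e3 : α3 = α1 * x3 / x1 := by field_simp; exact h2.symm
      have f2 : β2 = β1 * x2 / x1 := by field_simp; exact h4.symm
      have f3 : β3 = β1 * x3 / x1 := by field_simp; exact h5.symm
      subst e2 e3 f2 f3
      refine ⟨?_, ?_, ?_⟩ <;> field_simp
    · have e1 : α1 = α2 * x1 / x2 := by field_simp; exact h1
      have e3 : α3 = α2 * x3 / x2 := by field_simp; exact h3.symm
      have f1 : β1 = β2 * x1 / x2 := by field_simp; exact h4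
      have f3 : β3 = β2 * x3 / x2 := by field_simp; exact h6.symm
      subst e1 e3 f1 f3
      refine ⟨?_, ?_, ?_⟩ <;> field_simp
    · have e1 : α1 = α3 * x1 / x3 := by field_simp; exact h2
      have e2 : α2 = α3 * x2 / x3 := by field_simp; exact h3
      have f1 : β1 = β3 * x1 / x3 := by field_simp; exact h5
      have f2 : β2 = β3 * x2 / x3 := by field_simp; exact h6
      subst e1 e2 f1 f2
      refine ⟨?_, ?_, ?_⟩ <;> field_simp
  obtain ⟨k1, k2, k3⟩ := key hX (α1 := A 0 1) (α2 := A 1 0) (α3 := A 0 0 - A 1 1) (β1 := B 0 1) (β2 := B 1 0)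
    (β3 := B 0 0 - B 1 1) (by linear_combination a1) (by linear_combination (-1 : F) * a2)
    (by linear_combination a3) (by linear_combination b1) (by linear_combination (-1 : F) * b2)
    (by linear_combination b3)
  ext i j
  fin_cases i <;> fin_cases j <;> simp only [mul_apply, Fin.sum_univ_two, Fin.mk_zero, Fin.mk_one, Fin.isValue]
  · linear_combination k1
  · linear_combination (-1 : F) * k2
  · linear_combination k3
  · linear_combination (-1 : F) * k1

/-- a noncentral element of `SL(2,F)` is not scalar -/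
theorem nonscalar {X : SpecialLinearGroup (Fin 2) F} (hX : X ∉ center (SpecialLinearGroup (Fin 2) F)) :
    (X : Matrix (Fin 2) (Fin 2) F) 0 1 ≠ 0 ∨ (X : Matrix (Fin 2) (Fin 2) F) 1 0 ≠ 0 ∨
      (X : Matrix (Fin 2) (Fin 2) F) 0 0 - (X : Matrix (Fin 2) (Fin 2) F) 1 1 ≠ 0 := by
  by_contra h
  simp only [not_or, not_not] at h
  obtain ⟨h1, h2, h3⟩ := h
  apply hX
  rw [mem_center_iff]
  intro g
  have h4 : (X : Matrix (Fin 2) (Fin 2) F) 1 1 = (X : Matrix (Fin 2) (Fin 2) F) 0 0 := (sub_eq_zero.1 h3).symm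
  refine Matrix.SpecialLinearGroup.ext _ _ fun i j => ?_
  rw [Matrix.SpecialLinearGroup.coe_mul, Matrix.SpecialLinearGroup.coe_mul]
  fin_cases i <;> fin_cases j <;> simp [mul_apply, Fin.sum_univ_two, h1, h2, h4, mul_comm]

/-- `PSL(2,F)`, `|F|` odd, has no subgroup `SL₂(3)`. -/
theorem false_of_isPr [Fintype F] (hF : Odd (Fintype.card F)) {J : Subgroup (ProjectiveSpecialLinearGroup (Fin 2) F)}
    {z : ProjectiveSpecialLinearGroup (Fin 2) F} (h : IsPr J z) : False := by
  have h2 : (2 : F) ≠ 0 := by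
    intro h0
    have h1 : ringChar F = 2 := by
      have h3 : ringChar F ∣ 2 := (CharP.cast_eq_zero_iff F (ringChar F) 2).1 (by exact_mod_cast h0)
      rcases (Nat.dvd_prime Nat.prime_two).1 h3 with h4 | h4
      · exfalso
        have h5 := CharP.cast_eq_zero F (ringChar F)
        rw [h4, Nat.cast_one] at h5
        exact one_ne_zero h5
      · exact h4
    have h3 := (FiniteField.even_card_iff_char_two (F := F)).1 h1
    rw [Nat.odd_iff] at hF
    omega
  obtain ⟨X, rfl⟩ := QuotientGroup.mk_surjective z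
  have hXc : X ∉ center (SpecialLinearGroup (Fin 2) F) := by
    intro h1
    have := h.ord
    rw [(QuotientGroup.eq_one_iff X).2 h1, orderOf_one] at this
    omega
  have hXn := nonscalar hXc
  -- central elements have square one
  have hc2 : ∀ c ∈ center (SpecialLinearGroup (Fin 2) F), (c : Matrix (Fin 2) (Fin 2) F) = 1 ∨
      (c : Matrix (Fin 2) (Fin 2) F) = -1 := by
    intro c hc
    obtain ⟨r, hr, hrc⟩ := Matrix.SpecialLinearGroup.mem_center_iff.1 hc
    rw [← hrc]
    simp only [Fintype.card_fin] at hr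
    have h5 : (r - 1) * (r + 1) = 0 := by linear_combination hr
    rcases mul_eq_zero.1 h5 with h6 | h6
    · left
      rw [sub_eq_zero.1 h6, map_one]
    · right
      rw [eq_neg_of_add_eq_zero_left h6, map_neg, map_one]
  -- lifts of the elements of order three
  have key : ∀ g : SpecialLinearGroup (Fin 2) F,
      (QuotientGroup.mk g : ProjectiveSpecialLinearGroup (Fin 2) F) ∈ J →
      (QuotientGroup.mk g : ProjectiveSpecialLinearGroup (Fin 2) F) * QuotientGroup.mk g * QuotientGroup.mk g = 1 →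
      (g : Matrix (Fin 2) (Fin 2) F) * X = X * g := by
    intro g hg h3
    have h4 : (QuotientGroup.mk g : ProjectiveSpecialLinearGroup (Fin 2) F) * QuotientGroup.mk X =
      QuotientGroup.mk X * QuotientGroup.mk g := h.comm_z hg
    have h5 : (X * g)⁻¹ * (g * X) ∈ center (SpecialLinearGroup (Fin 2) F) := QuotientGroup.eq.1 h4.symm
    have h6 : g * g * g ∈ center (SpecialLinearGroup (Fin 2) F) := (QuotientGroup.eq_one_iff _).1 h3
    set ζ := (X * g)⁻¹ * (g * X) with hζ
    have h7 : g * X = X * g * ζ := by rw [hζ]; group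
    have h7' : (g : Matrix (Fin 2) (Fin 2) F) * X = X * g * ζ := by
      have := congrArg (fun y : SpecialLinearGroup (Fin 2) F => (y : Matrix (Fin 2) (Fin 2) F)) h7
      simpa using this
    rcases hc2 ζ h5 with h8 | h8
    · rw [h7', h8, mul_one]
    · exfalso
      have e1 : (g : Matrix (Fin 2) (Fin 2) F) * X = -(X * g) := by rw [h7', h8, mul_neg, mul_one]
      set g' : Matrix (Fin 2) (Fin 2) F := (g : Matrix (Fin 2) (Fin 2) F)
      set X' : Matrix (Fin 2) (Fin 2) F := (X : Matrix (Fin 2) (Fin 2) F)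
      have e2 : g' * g' * g' * X' = -(X' * (g' * g' * g')) := by
        calc g' * g' * g' * X' = g' * g' * (g' * X') := by noncomm_ring
          _ = g' * (g' * -(X' * g')) := by rw [e1, mul_assoc]
          _ = g' * (-(g' * X') * g') := by noncomm_ring
          _ = g' * (X' * g' * g') := by rw [e1, neg_neg]
          _ = (g' * X') * g' * g' := by noncomm_ring
          _ = -(X' * (g' * g' * g')) := by rw [e1]; noncomm_ring
      have e3 : g' * g' * g' = 1 ∨ g' * g' * g' = -1 := by
        have := hc2 _ h6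
        rwa [Matrix.SpecialLinearGroup.coe_mul, Matrix.SpecialLinearGroup.coe_mul] at this
      have e4 : X' = -X' := by
        rcases e3 with h9 | h9
        · rw [h9, one_mul, mul_one] at e2; exact e2
        · rw [h9, neg_one_mul, mul_neg_one, neg_neg] at e2; exact e2.symm
      have e5 : X' = 0 := by
        ext i j
        have h10 := congrFun (congrFun e4 i) j
        rw [Matrix.neg_apply] at h10
        have h11 : (2 : F) * X' i j = 0 := by linear_combination h10
        rw [Matrix.zero_apply]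
        exact (mul_eq_zero.1 h11).resolve_left h2
      have e6 : X'.det = 1 := X.2
      rw [e5, det_zero] at e6
      exact zero_ne_one e6
  -- the elements of order three commute
  have hcomm : ∀ v ∈ J, v * v * v = 1 → ∀ w ∈ J, w * w * w = 1 → v * w = w * v := by
    intro v hv hv3 w hw hw3
    obtain ⟨g, rfl⟩ := QuotientGroup.mk_surjective v
    obtain ⟨k, rfl⟩ := QuotientGroup.mk_surjective w
    have h3 := comm_of_comm hXn (key g hv hv3) (key k hw hw3)
    have h4 : g * k = k * g := Subtype.ext h3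
    rw [← QuotientGroup.mk_mul, h4, QuotientGroup.mk_mul]
  have h3 : ∀ w ∈ J, w * w * w = 1 → J ≤ centralizer ({w} : Set _) := fun w hw hw3 =>
    h.le_of_cube fun v hv hv3 => mem_centralizer_singleton_iff.2 (hcomm v hv hv3 w hw hw3)
  have h4 : J ≤ centralizer (J : Set _) := h.le_of_cube fun v hv hv3 => by
    rw [mem_centralizer_iff]
    intro y hy
    exact mem_centralizer_singleton_iff.1 (h3 v hv hv3 hy)
  obtain ⟨s, hs, t, ht, -, -, hst⟩ := h.t3.ex4
  exact hst (mem_centralizer_iff.1 (h4 ht) s hs)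

end Cfsg.Agent.OddHalf.NI3.Bad.PslTwo

end

-- merged: Cfsg.Agent.OddHalf.NI3.Bad.Types
section

/-!
# NI over `F₃`, THEOREM NIB: the types of the component `D`

`D` a component of an involution centralizer with a position `Pos x A B w`: `D` is one of the simple groups of `Small3`, or
`2.U₄(3)`.
-/

set_option autoImplicit false
set_option linter.style.haveILetI false
set_option linter.unusedSectionVars false

namespace Cfsg.Agent.OddHalf.NI3.Bad

open Subgroup Cfsg Cfsg.Agent.OddHalf.Iface Cfsg.Agent.OddHalf.LieOddFam Cfsg.Agent.SignalizersComponents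
open Cfsg.Agent.OddHalf.D3 (Comp)
open Cfsg.Agent.OddHalf.NI (CompIn)
open Cfsg.Agent.Cit (cj TStmt pc cls)

universe u

/-- Rank at least 2 over `F₃`, the centre a nontrivial 2-group: the multiplier is even. -/
def CovOf : Prop :=
  ∀ (K : Type u) [Group K] [Finite K], IsQuasisimple K → IsPGroup 2 ↥(center K) → center K ≠ ⊥ →
    Rk (K ⧸ center K) 3 → Cov3 (K ⧸ center K)

/-- The input of `types`. -/
structure TypeHyps : Prop where
  p1310 : Stmts.P1310.{u}
  noThree : NoThree.{u}
  noBig : NI.NoBig.{u}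
  f13 : F13.{u}
  f13c : F13c.{u}
  cov : CovOf.{u}

section

variable {D : Type u} [Group D] [Finite D]

theorem Pos.not_center (hq : IsQuasisimple D) {x w : D} {A B : Subgroup D} (hp : Pos x A B w) : x ∉ center D := by
  intro hx
  obtain ⟨e⟩ := hp.a.pr.iso
  refine not_subnormal hq e ?_
  have h1 : centralizer ({x} : Set D) = ⊤ := by
    rw [eq_top_iff]
    intro g _
    rw [mem_centralizer_singleton_iff]
    exact mem_center_iff.1 hx g
  have h2 := hp.a.sn
  rw [h1] at h2
  exact h2.isSubnormal IsSubnormal.top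

/-- the image of `A` in the simple quotient -/
theorem Pos.map_pr (hq : IsQuasisimple D) {x w : D} {A B : Subgroup D} (hp : Pos x A B w) {Y : Type*} [Group Y]
    (e : D ⧸ center D ≃* Y) : ∃ (J : Subgroup Y) (z : Y), IsPr J z := by
  let f : D →* Y := e.toMonoidHom.comp (QuotientGroup.mk' (center D))
  have hf : f x ≠ 1 := by
    intro h1
    apply hp.not_center hq
    have h2 : e (QuotientGroup.mk x) = e 1 := by rw [map_one]; exact h1
    exact (QuotientGroup.eq_one_iff x).1 (e.injective h2)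
  exact ⟨_, _, hp.a.pr.map f hf⟩

/-- the Ree groups have no `SL₂(3)` -/
theorem ree_false {Y : Type*} [Group Y] [Finite Y] (hY : Lie.IsoRee Y) {J : Subgroup Y} {z : Y} (h : IsPr J z) :
    False := by
  haveI : Fact (Nat.Prime 2) := ⟨Nat.prime_two⟩
  obtain ⟨K, _, _, m, -, hK, ⟨e⟩⟩ := hY
  obtain ⟨a, haH, ha1, ha2⟩ := Cfsg.Agent.S1157.exists_involution hK
  obtain ⟨-, hS⟩ := Cfsg.Agent.S1152.result hK a haH ha1 ha2
  obtain ⟨s, hs, t, ht, hsz, -, -⟩ := h.t3.ex4
  have h4 : s ^ 2 ^ 2 = 1 := by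
    have : s ^ 4 = (s * s) * (s * s) := by rw [pow_succ, pow_succ, pow_two, mul_assoc]
    rw [show (2 : ℕ) ^ 2 = 4 by norm_num, this, hsz, h.t3.z_sq]
  have hp : IsPGroup 2 (zpowers (e s)) := by
    refine IsPGroup.of_card_dvd_pow (n := 2) ?_
    rw [Nat.card_zpowers]
    refine orderOf_dvd_of_pow_eq_one ?_
    rw [← map_pow, h4, map_one]
  obtain ⟨Q, hQ⟩ := hp.exists_le_sylow
  have h5 := (hS Q).2 (e s) (hQ (mem_zpowers _))
  apply h.t3.z_ne
  rw [← hsz]
  apply e.injective
  rw [map_mul, map_one, h5]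

end

section

variable {G : Type u} [Group G]

/-- **The types of `D`.** -/
theorem types (T : TypeHyps.{u}) (hM11 : ∀ (X : Type u) [Group X] [Finite X], IsQuasisimple X →
      IsPGroup 2 ↥(center X) → Spor.IsoM11 (X ⧸ center X) → RowO X) (C : Ctx G) {a : G}
    (ha : orderOf a = 2) {D : Subgroup G} (hD : Comp a D) {x w : ↥D} {A B : Subgroup ↥D} (hp : Pos x A B w) :
    (center ↥D = ⊥ ∧ Small3 ↥D) ∨ IsN ↥D := by
  have := C.fin
  have hq : IsQuasisimple ↥D := hD.quasi
  have hZ : IsPGroup 2 ↥(center ↥D) := Soft.CompOf.center_isPGroup (C.bal a ha) ⟨hD.le, hD.comp⟩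
  obtain ⟨e⟩ := hp.a.pr.iso
  have hY : ¬ HasY ↥D := T.noThree G C a D ha ⟨hD.le, hD.comp⟩
  rcases NI.Quot.lieOdd_of_classical T.p1310 hq hp.a.pr.ord (hp.not_center hq) hp.a.sn.1 hp.a.pr.mem hp.a.sn.2
    (F := ZMod 3) (by rw [ZMod.card]; decide) e with h | h
  · rcases NI.lieOdd_split h with ⟨F, _, _, hF, ⟨f⟩⟩ | h | ⟨q, hq', h⟩
    · exfalso
      obtain ⟨J, z, hJ⟩ := hp.map_pr hq f
      exact PslTwo.false_of_isPr hF hJ
    · exfalso
      obtain ⟨J, z, hJ⟩ := hp.map_pr hq (MulEquiv.refl _)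
      exact ree_false h hJ
    · by_cases hq3 : q = 3
      · subst hq3
        by_cases hc : center ↥D = ⊥
        · left
          refine ⟨hc, ?_⟩
          have e1 : ↥D ⧸ center ↥D ≃* ↥D := (QuotientGroup.quotientMulEquivOfEq hc).trans QuotientGroup.quotientBot
          by_contra hs
          exact hY (T.f13 ↥D (NI3.Final.simple_of_center hc hq.2) (rk_congr e1 h) hs).hasY
        · right
          by_contra hN
          refine hY (T.f13c ↥D hq hZ hc (T.cov ↥D hq hZ hc h) ?_)
          rintro ⟨h1, h2⟩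
          exact hN ⟨hq, h1, h2⟩
      · exfalso
        exact T.noBig G C a D ha ⟨hD.le, hD.comp⟩ (NI.Rows.lieBig_of_rk hq' (hq'.ne_four hq3) h)
  · exfalso
    exact hM11 ↥D hq hZ h x A B w hp

end

end Cfsg.Agent.OddHalf.NI3.Bad

end
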