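import Cfsg.Agent.OddHalf.NI3.Step
import Cfsg.Agent.StandardComponent.AltExists
import Cfsg.Agent.SignalizersComponents.OddFixed
import Cfsg.Agent.OddHalf.NI3.Bad.Unb
import Cfsg.Agent.Omega.Lie.OutT
import Cfsg.Agent.OddHalf.NI3.Bad.StepThree
import Cfsg.Agent.OddHalf.NI3.Bad.Types
import Cfsg.Agent.OddHalf.NI3.Entrance
import Cfsg.Agent.OddHalf.NI3.Ex.Cut

-- merged: Cfsg.Agent.OddHalf.NI3.Bad.StepOne
section

/-!
# NI over `F₃`, THEOREM NIB, step (1), the K-free part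

`H` finite, `O(H) = 1`, `w` an involution of `H` with `O(C(w)) = 1`, `J ≅ SL₂(3)` subnormal in `C(w)`, `v ∈ J` of order 3.

* `cube_core` : a `2`-element `u` of `C(w)` which commutes with its conjugate under `v` is centralised by `v`.
* `comm_pCore` : if `O₂(J) ≰ O₂(H)`, then `v` centralises `O₂(H)`.
* `main` : `O₂(J) ≤ O₂(H)`, or a component `L = L^w` of `H` is normalised by `J` and contains `O₂(J)`, or a component
  `L = L^w` of `H` is normalised and not centralised by `J`, and the elements of order 3 of `J` centralise `C_L(w)`.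
-/

set_option autoImplicit false
set_option linter.style.haveILetI false

namespace Cfsg.Agent.OddHalf.NI3.Bad.StepOne

open Subgroup Cfsg Cfsg.Agent.Cit Cfsg.Agent.Cit.SolvTwo Cfsg.Agent.SignalizersComponents

universe u

/-! ### Two-elements -/

section

variable {X : Type*} [Group X]

theorem sq_pow {a b : X} (h : a * b = b * a) {m n : ℕ} (ha : a ^ 2 ^ m = 1) (hb : b ^ 2 ^ n = 1) :
    (a * b) ^ 2 ^ (m + n) = 1 := by
  have h1 : a ^ 2 ^ (m + n) = 1 := by rw [pow_add, pow_mul, ha, one_pow]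
  have h2 : b ^ 2 ^ (m + n) = 1 := by rw [add_comm, pow_add, pow_mul, hb, one_pow]
  rw [(show Commute a b from h).mul_pow, h1, h2, one_mul]

/-- `c³ ∈ H` and `c` a 2-element imply `c ∈ H` -/
theorem mem_of_cube_mem {H : Subgroup X} {c : X} {n : ℕ} (h2 : c ^ 2 ^ n = 1) (h3 : c * c * c ∈ H) : c ∈ H := by
  have h4 : Nat.gcd 3 (2 ^ n) = 1 := Nat.Coprime.pow_right n (by norm_num)
  have h5 : c ^ 3 ∈ H := by rw [pow_succ, pow_succ, pow_one]; exact h3
  have h6 : c = (c ^ 3) ^ (Nat.gcdA 3 (2 ^ n)) := by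
    have h7 := Nat.gcd_eq_gcd_ab 3 (2 ^ n)
    rw [h4] at h7
    calc c = c ^ (((1 : ℕ)) : ℤ) := by rw [Nat.cast_one, zpow_one]
      _ = (c ^ 3) ^ (Nat.gcdA 3 (2 ^ n)) * ((c ^ 2 ^ n) ^ (Nat.gcdB 3 (2 ^ n))) := by
        rw [h7, zpow_add, zpow_mul, zpow_mul, zpow_natCast, zpow_natCast]
      _ = (c ^ 3) ^ (Nat.gcdA 3 (2 ^ n)) := by rw [h2, one_zpow, mul_one]
  rw [h6]
  exact H.zpow_mem h5 _

/-- **Lemma K0** -/
theorem cube_mem {K : Subgroup X} (hK : K.IsSubnormal) : ∀ {v u : X}, v ∈ K → v * v * v = 1 →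
    (∃ n : ℕ, u ^ 2 ^ n = 1) → u * (v * u * v⁻¹) = (v * u * v⁻¹) * u → u⁻¹ * (v * u * v⁻¹) ∈ K := by
  induction hK with
  | top => intro v u _ _ _ _; exact mem_top _
  | step H K hle hK hHK ih =>
    intro v u hv h3 hu huv
    have hc := ih (hle hv) h3 hu huv
    obtain ⟨n, hn⟩ := hu
    have hc2 : (u⁻¹ * (v * u * v⁻¹)) ^ 2 ^ (n + n) = 1 := by
      refine sq_pow ?_ (by rw [inv_pow, hn, inv_one]) ?_
      · exact (show Commute u (v * u * v⁻¹) from huv).inv_left.eq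
      · rw [conj_pow, hn, mul_one, mul_inv_cancel]
    have e3 : (u⁻¹ * (v * u * v⁻¹)) * (v * (u⁻¹ * (v * u * v⁻¹)) * v⁻¹) *
        (v * (v * (u⁻¹ * (v * u * v⁻¹)) * v⁻¹) * v⁻¹) = 1 := by
      have h5 : (u⁻¹ * (v * u * v⁻¹)) * (v * (u⁻¹ * (v * u * v⁻¹)) * v⁻¹) *
        (v * (v * (u⁻¹ * (v * u * v⁻¹)) * v⁻¹) * v⁻¹) = u⁻¹ * ((v * v * v) * u * (v * v * v)⁻¹) := by
        group
      rw [h5, h3]; group
    generalize u⁻¹ * (v * u * v⁻¹) = c at hc hc2 e3 ⊢
    have hnorm : ∀ {k x : X}, k ∈ K → x ∈ H → k * x * k⁻¹ ∈ H := by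
      intro k x hk hx
      have := hHK.conj_mem ⟨x, hle hx⟩ hx ⟨k, hk⟩
      exact this
    have hvK := hle hv
    -- `[v, c] ∈ H`
    have e1 : v * c * v⁻¹ * c⁻¹ ∈ H := by
      have h4 : c * v⁻¹ * c⁻¹ ∈ H := hnorm hc (inv_mem hv)
      have h5 : v * c * v⁻¹ * c⁻¹ = v * (c * v⁻¹ * c⁻¹) := by group
      rw [h5]; exact mul_mem hv h4
    have e2 : v * (v * c * v⁻¹) * v⁻¹ * c⁻¹ ∈ H := by
      have h5 : v * (v * c * v⁻¹) * v⁻¹ * c⁻¹ = v * (v * c * v⁻¹ * c⁻¹) * v⁻¹ * (v * c * v⁻¹ * c⁻¹) := by group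
      rw [h5]
      exact mul_mem (hnorm hvK e1) e1
    have e4 : c * c * c ∈ H := by
      have h6 : (c * (v * c * v⁻¹ * c⁻¹) * c⁻¹) * (c * c * (v * (v * c * v⁻¹) * v⁻¹ * c⁻¹) * (c * c)⁻¹) * (c * c * c)
          = c * (v * c * v⁻¹) * (v * (v * c * v⁻¹) * v⁻¹) := by group
      rw [e3] at h6
      rw [eq_inv_of_mul_eq_one_right h6]
      exact inv_mem (mul_mem (hnorm hc e1) (hnorm (mul_mem hc hc) e2))
    exact mem_of_cube_mem hc2 e4

end

/-! ### Lemma K -/

section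

variable {H : Type*} [Group H]

/-- **Lemma K** -/
theorem cube_core {J : Subgroup H} {w z : H} (h : IsPr J z) (hs : Sn J (centralizer ({w} : Set H))) {v u : H}
    (hv : v ∈ J) (h3 : v * v * v = 1) (hu : ∃ n : ℕ, u ^ 2 ^ n = 1) (huw : u * w = w * u)
    (huv : u * (v * u * v⁻¹) = (v * u * v⁻¹) * u) : v * u = u * v := by
  have hc : u⁻¹ * (v * u * v⁻¹) ∈ J := by
    have h4 := cube_mem hs.2 (v := ⟨v, hs.1 hv⟩) (u := ⟨u, mem_centralizer_singleton_iff.2 huw⟩) hv
      (Subtype.ext h3) (hu.imp fun n hn => Subtype.ext (by simpa using hn)) (Subtype.ext huv)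
    exact h4
  obtain ⟨n, hn⟩ := hu
  have hc2 : (u⁻¹ * (v * u * v⁻¹)) ^ 2 ^ (n + n) = 1 := by
    refine sq_pow ?_ (by rw [inv_pow, hn, inv_one]) ?_
    · exact (show Commute u (v * u * v⁻¹) from huv).inv_left.eq
    · rw [conj_pow, hn, mul_one, mul_inv_cancel]
  obtain ⟨u1, hu1⟩ : ∃ u1, u1 = v * u * v⁻¹ := ⟨_, rfl⟩
  obtain ⟨u2, hu2⟩ : ∃ u2, u2 = v * u1 * v⁻¹ := ⟨_, rfl⟩
  have hu3 : v * u2 * v⁻¹ = u := by
    rw [hu2, hu1]
    calc v * (v * (v * u * v⁻¹) * v⁻¹) * v⁻¹ = (v * v * v) * u * (v * v * v)⁻¹ := by group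
      _ = u := by rw [h3]; group
  rw [← hu1] at huv hc hc2
  have c01 : Commute u u1 := huv
  have c12 : Commute u1 u2 := by
    show u1 * u2 = u2 * u1
    have : v * (u * u1) * v⁻¹ = v * (u1 * u) * v⁻¹ := by rw [huv]
    calc u1 * u2 = v * (u * u1) * v⁻¹ := by rw [hu2, hu1]; group
      _ = v * (u1 * u) * v⁻¹ := this
      _ = u2 * u1 := by rw [hu2, hu1]; group
  have c20 : Commute u2 u := by
    show u2 * u = u * u2
    have h5 : u1 * u2 = u2 * u1 := c12
    have : v * (u1 * u2) * v⁻¹ = v * (u2 * u1) * v⁻¹ := by rw [h5]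
    calc u2 * u = (v * u1 * v⁻¹) * (v * u2 * v⁻¹) := by rw [hu3, ← hu2]
      _ = v * (u1 * u2) * v⁻¹ := by group
      _ = v * (u2 * u1) * v⁻¹ := this
      _ = (v * u2 * v⁻¹) * (v * u1 * v⁻¹) := by group
      _ = u * u2 := by rw [hu3, ← hu2]
  -- the three conjugates of `c`
  have hvc : v * (u⁻¹ * u1) * v⁻¹ = u1⁻¹ * u2 := by rw [hu2, hu1]; group
  have hvc2 : v * (u1⁻¹ * u2) * v⁻¹ = u2⁻¹ * u := by
    calc v * (u1⁻¹ * u2) * v⁻¹ = (v * u1 * v⁻¹)⁻¹ * (v * u2 * v⁻¹) := by group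
      _ = u2⁻¹ * u := by rw [hu3, ← hu2]
  have hprod : (u⁻¹ * u1) * (u1⁻¹ * u2) * (u2⁻¹ * u) = 1 := by group
  have hvz : v * z * v⁻¹ = z := by rw [h.comm_z hv]; group
  have hzz : z * z = 1 := h.t3.z_sq
  have hz1 := h.t3.z_ne
  rcases h.t3.cases_two hc hc2 with h4 | h4 | h4
  · -- `c² = z`
    exfalso
    have h5 : (u1⁻¹ * u2) * (u1⁻¹ * u2) = z := by
      rw [← hvc]
      calc v * (u⁻¹ * u1) * v⁻¹ * (v * (u⁻¹ * u1) * v⁻¹) = v * ((u⁻¹ * u1) * (u⁻¹ * u1)) * v⁻¹ := by group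
        _ = z := by rw [h4, hvz]
    have h6 : (u2⁻¹ * u) * (u2⁻¹ * u) = z := by
      rw [← hvc2]
      calc v * (u1⁻¹ * u2) * v⁻¹ * (v * (u1⁻¹ * u2) * v⁻¹) = v * ((u1⁻¹ * u2) * (u1⁻¹ * u2)) * v⁻¹ := by group
        _ = z := by rw [h5, hvz]
    have c1 : Commute (u⁻¹ * u1) (u1⁻¹ * u2) :=
      (Commute.mul_left (c01.inv_left.inv_right.mul_right c20.symm.inv_left)
        ((Commute.refl u1).inv_right.mul_right c12))
    have c2 : Commute ((u⁻¹ * u1) * (u1⁻¹ * u2)) (u2⁻¹ * u) := by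
      refine Commute.mul_left (Commute.mul_left ?_ ?_) (Commute.mul_left ?_ ?_)
      · exact (c20.symm.inv_left.inv_right).mul_right (Commute.refl u).inv_left
      · exact c12.inv_right.mul_right c01.symm
      · exact c12.inv_left.inv_right.mul_right c01.symm.inv_left
      · exact (Commute.refl u2).inv_right.mul_right c20
    have h7 : ((u⁻¹ * u1) * (u1⁻¹ * u2) * (u2⁻¹ * u)) * ((u⁻¹ * u1) * (u1⁻¹ * u2) * (u2⁻¹ * u)) = z := by
      rw [← pow_two, c2.mul_pow, c1.mul_pow, pow_two, pow_two, pow_two, h4, h5, h6, hzz, one_mul]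
    rw [hprod, one_mul] at h7
    exact hz1 h7.symm
  · -- `c = 1`
    have h5 : u1 = u := by
      have := congrArg (fun x => u * x) h4
      simpa using this
    rw [hu1, mul_inv_eq_iff_eq_mul] at h5
    exact h5
  · -- `c = z`
    exfalso
    rw [h4] at hvc hprod
    rw [hvz] at hvc
    rw [← hvc] at hvc2
    rw [hvz] at hvc2
    rw [← hvc, ← hvc2, hzz, one_mul] at hprod
    exact hz1 hprod

end

/-! ### The components -/

section

variable {H : Type u} [Group H] [Finite H] {J : Subgroup H} {w z : H}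

/-- if `O₂(J) ≰ O₂(H)`, the elements of order 3 of `J` centralise `O₂(H)` -/
theorem comm_pCore (hw : w * w = 1) (h : IsPr J z) (hs : Sn J (centralizer ({w} : Set H)))
    (hne : ¬ ∀ y ∈ J, y * y = z → y ∈ pCore 2 H) {v : H} (hv : v ∈ J) (h3 : v * v * v = 1) :
    ∀ x ∈ pCore 2 H, v * x = x * v := by
  haveI : Fact (Nat.Prime 2) := ⟨Nat.prime_two⟩
  haveI hPn : (pCore 2 H).Normal := Lib.Cores.pCore_normal 2
  have hP : IsPGroup 2 (pCore 2 H) := Lib.Cores.pCore_isPGroup (G := H) 2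
  have hvw : v * w = w * v := mem_centralizer_singleton_iff.1 (hs.1 hv)
  have h1 : zpowers v ≤ centralizer (pCore 2 H : Set H) := by
    refine le_cent (z := w) hw hP ?_ ?_ ?_
    · rw [Nat.card_zpowers]
      exact (Nat.coprime_two_right).2 (odd_of_cube h3)
    · rintro _ ⟨k, rfl⟩
      exact ((show Commute v w from hvw).zpow_left k).eq
    · intro x hx hxw y hy
      have h2 : v * x = x * v := by
        refine T3.comm_of_sn h.t3 hs (P := pCore 2 H ⊓ centralizer {w}) inf_le_right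
          (hP.to_le inf_le_left) ?_ ?_ hv h3 ⟨hx, mem_centralizer_singleton_iff.2 hxw⟩
        · refine (le_inf ?_ ?_).trans inf_normalizer_le_normalizer_inf
          · rw [normalizer_eq_top_iff.2 hPn]; exact le_top
          · exact hs.1.trans le_normalizer
        · intro h4
          exact hne fun y hy hyz => (h4 y hy hyz).1
      obtain ⟨k, rfl⟩ := hy
      exact ((show Commute v x from h2).zpow_left k).symm.eq
  intro x hx
  exact ((mem_centralizer_iff.1 (h1 (mem_zpowers v))) x hx).symm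

omit [Finite H] in
/-- a central 2-element of a component lies in `O₂(H)` -/
theorem mem_pCore_of_center {L : Subgroup H} (hL : IsComponent L) {x : L} (hx : x ∈ center L) {n : ℕ}
    (h2 : x ^ 2 ^ n = 1) : (x : H) ∈ pCore 2 H := by
  haveI : Fact (Nat.Prime 2) := ⟨Nat.prime_two⟩
  have h1 : zpowers (x : H) ≤ pCore 2 H := by
    refine CompBasic.subnormal_pGroup_le_pCore ?_ ?_
    · have h2 : Sn (zpowers (x : H)) L := by
        refine Sn.of_normal (zpowers_le.2 x.2) ?_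
        intro l hl
        refine centralizer_le_normalizer _ ?_
        rw [mem_centralizer_iff]
        rintro _ ⟨k, rfl⟩
        have h4 : l * (x : H) = x * l := congrArg Subtype.val (mem_center_iff.1 hx ⟨l, hl⟩)
        exact ((show Commute l (x : H) from h4).zpow_right k).eq.symm
      exact h2.isSubnormal hL.1
    · rintro ⟨_, k, rfl⟩
      refine ⟨n, Subtype.ext ?_⟩
      have h5 : (x : H) ^ 2 ^ n = 1 := by
        have := congrArg Subtype.val h2
        simpa using this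
      show ((x : H) ^ k) ^ 2 ^ n = 1
      rw [← zpow_natCast, ← zpow_mul, mul_comm, zpow_mul, zpow_natCast, h5, one_zpow]
  exact h1 (mem_zpowers _)

/-- **the elements of order 3 of `J` fix every component** -/
theorem comp_fixed (hO : pPrimeCore 2 H = ⊥) (hw : w * w = 1) (h : IsPr J z)
    (hs : Sn J (centralizer ({w} : Set H))) (hne : ¬ ∀ y ∈ J, y * y = z → y ∈ pCore 2 H)
    {v : H} (hv : v ∈ J) (h3 : v * v * v = 1) {L : Subgroup H} (hL : IsComponent L) : cj v L = L := by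
  haveI : Fact (Nat.Prime 2) := ⟨Nat.prime_two⟩
  by_contra hv1
  have hvw : v * w = w * v := mem_centralizer_singleton_iff.1 (hs.1 hv)
  have hv3 : cj v (cj v (cj v L)) = L := by rw [← cj_mul, ← cj_mul, h3, cj_one]
  have hv2 : cj v (cj v L) ≠ L := by
    intro h4
    rw [h4] at hv3
    exact hv1 hv3
  have hc0 : IsComponent (cj v L) := Comp.isComponent_cj hL v
  have hc1 : IsComponent (cj v (cj v L)) := Comp.isComponent_cj hc0 v
  by_cases hwL : cj w L = L
  · -- `L^w = L`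
    have hwn : w ∈ normalizer (L : Set H) := mem_normalizer_iff_cj.2 hwL
    obtain ⟨t, ht, ⟨n, htn⟩, hζ, ⟨m, hζm⟩⟩ := CompBasic.exists_almost_fixed hL.2.1 2
      (OddFixed.two_dvd_card_component hO hL) (L.normalizerMonoidHom ⟨w, hwn⟩) (k := 1) (by
        rw [← map_pow]
        have : (⟨w, hwn⟩ : normalizer (L : Set H)) ^ 2 ^ 1 = 1 := by
          apply Subtype.ext
          rw [pow_one, pow_two]
          exact hw
        rw [this, map_one])
    set ζ : L := t⁻¹ * L.normalizerMonoidHom ⟨w, hwn⟩ t with hζdef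
    have hζP : v * (ζ : H) = ζ * v := comm_pCore hw h hs hne hv h3 _ (mem_pCore_of_center hL hζ hζm)
    have hwt : w * (t : H) * w⁻¹ = t * ζ := by
      have h4 : (L.normalizerMonoidHom ⟨w, hwn⟩ t : H) = w * t * w⁻¹ := rfl
      rw [hζdef, coe_mul, h4, coe_inv]; group
    have htn' : (t : H) ^ 2 ^ n = 1 := by
      have := congrArg Subtype.val htn
      simpa using this
    have ht1 : v * (t : H) * v⁻¹ ∈ cj v L := conj_mem_cj t.2
    have ht2 : v * (v * (t : H) * v⁻¹) * v⁻¹ ∈ cj v (cj v L) := conj_mem_cj ht1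
    have hc01 : ∀ l ∈ L, l * (v * (t : H) * v⁻¹) = (v * (t : H) * v⁻¹) * l := fun l hl =>
      Comp.comm_of_ne hL hc0 (Ne.symm hv1) hl ht1
    have hc02 : ∀ l ∈ L, l * (v * (v * (t : H) * v⁻¹) * v⁻¹) = (v * (v * (t : H) * v⁻¹) * v⁻¹) * l := fun l hl =>
      Comp.comm_of_ne hL hc1 (Ne.symm hv2) hl ht2
    have hc12 : (v * (t : H) * v⁻¹) * (v * (v * (t : H) * v⁻¹) * v⁻¹) =
        (v * (v * (t : H) * v⁻¹) * v⁻¹) * (v * (t : H) * v⁻¹) :=
      Comp.comm_of_ne hc0 hc1 (fun h4 => hv1 (cj_inj.1 h4).symm) ht1 ht2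
    obtain ⟨t1, ht1'⟩ : ∃ t1, t1 = v * (t : H) * v⁻¹ := ⟨_, rfl⟩
    obtain ⟨t2, ht2'⟩ : ∃ t2, t2 = v * t1 * v⁻¹ := ⟨_, rfl⟩
    rw [← ht1', ← ht2'] at hc12 ht2
    rw [← ht1'] at hc02
    rw [← ht2'] at hc02
    rw [← ht1'] at hc01 ht1
    -- `u = t t₁⁻¹` commutes with `w`
    have hut : v * ((t : H) * t1⁻¹) * v⁻¹ = t1 * t2⁻¹ := by rw [ht2', ht1']; group
    have hwt1 : w * t1 * w⁻¹ = t1 * ζ := by
      have e1 : w * t1 * w⁻¹ = v * (w * t * w⁻¹) * v⁻¹ := by
        rw [ht1']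
        calc w * (v * (t : H) * v⁻¹) * w⁻¹ = (w * v) * t * (w * v)⁻¹ := by group
          _ = (v * w) * t * (v * w)⁻¹ := by rw [hvw]
          _ = v * (w * t * w⁻¹) * v⁻¹ := by group
      rw [e1, hwt]
      calc v * ((t : H) * ζ) * v⁻¹ = v * t * v⁻¹ * (v * ζ) * v⁻¹ := by group
        _ = v * t * v⁻¹ * ζ := by rw [hζP]; group
        _ = t1 * ζ := by rw [ht1']
    have huw : ((t : H) * t1⁻¹) * w = w * ((t : H) * t1⁻¹) := by
      have e1 : w * ((t : H) * t1⁻¹) * w⁻¹ = (t : H) * t1⁻¹ := by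
        calc w * ((t : H) * t1⁻¹) * w⁻¹ = (w * t * w⁻¹) * (w * t1 * w⁻¹)⁻¹ := by group
          _ = t * ζ * (t1 * ζ)⁻¹ := by rw [hwt, hwt1]
          _ = (t : H) * t1⁻¹ := by group
      rw [mul_inv_eq_iff_eq_mul] at e1
      exact e1.symm
    have hu2 : ((t : H) * t1⁻¹) ^ 2 ^ (n + n) = 1 := by
      refine sq_pow ?_ htn' ?_
      · exact (show Commute (t : H) t1 from hc01 t t.2).inv_right.eq
      · rw [inv_pow, ht1', conj_pow, htn', mul_one, mul_inv_cancel, inv_one]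
    have h01 : Commute (t : H) t1 := hc01 t t.2
    have h02 : Commute (t : H) t2 := hc02 t t.2
    have h12 : Commute t1 t2 := hc12
    have huv : ((t : H) * t1⁻¹) * (v * ((t : H) * t1⁻¹) * v⁻¹) = (v * ((t : H) * t1⁻¹) * v⁻¹) * ((t : H) * t1⁻¹) := by
      rw [hut]
      exact Commute.mul_left (h01.mul_right h02.inv_right)
        ((Commute.refl t1).inv_left.mul_right h12.inv_left.inv_right)
    have h4 := cube_core h hs hv h3 ⟨_, hu2⟩ huw huv
    rw [← mul_inv_eq_iff_eq_mul, hut] at h4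
    -- `t = t₁ t₂⁻¹ t₁`
    have h5 : (t : H) = t1 * t2⁻¹ * t1 := by rw [h4]; group
    apply ht
    rw [mem_center_iff]
    intro l
    apply Subtype.ext
    show (l : H) * t = t * l
    rw [h5]
    have c1 : Commute (l : H) t1 := hc01 l l.2
    have c2 : Commute (l : H) t2 := hc02 l l.2
    exact ((c1.mul_right c2.inv_right).mul_right c1).eq
  · -- `L^w ≠ L`
    obtain ⟨D, hDw, -, hDc, -, hD⟩ := Comp.exists_diag hL hw hwL
    have hww : ∀ M : Subgroup H, cj w (cj w M) = M := fun M => by rw [← cj_mul, hw, cj_one]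
    have hne1 : cj v L ≠ cj w L := by
      intro h4
      apply hv2
      calc cj v (cj v L) = cj v (cj w L) := by rw [h4]
        _ = cj w (cj v L) := by rw [← cj_mul, hvw, cj_mul]
        _ = cj w (cj w L) := by rw [h4]
        _ = L := hww L
    have hne2 : cj v (cj w L) ≠ L := by
      intro h4
      apply hne1
      have h5 : cj w (cj v L) = L := by rw [← cj_mul, ← hvw, cj_mul]; exact h4
      rw [← h5, hww, h5]
    have hab : ∀ e ∈ L, ∀ l ∈ L, l * e = e * l := by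
      intro e he l hl
      have h4 := comm_component (h.subgroupOf hs.1) hs.2 hDc ⟨v, hs.1 hv⟩ hv
        ⟨e * (w * e * w⁻¹), hDw (hD e he)⟩ (hD e he)
      have h5 : v * (e * (w * e * w⁻¹)) = (e * (w * e * w⁻¹)) * v := congrArg Subtype.val h4
      have c1 : Commute l (v * e * v⁻¹) := Comp.comm_of_ne hL hc0 (Ne.symm hv1) hl (conj_mem_cj he)
      have c2 : Commute l (v * (w * e * w⁻¹) * v⁻¹) :=
        Comp.comm_of_ne hL (Comp.isComponent_cj (Comp.isComponent_cj hL w) v) (Ne.symm hne2) hl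
          (conj_mem_cj (conj_mem_cj he))
      have c3 : Commute l (w * e * w⁻¹) :=
        Comp.comm_of_ne hL (Comp.isComponent_cj hL w) (Ne.symm hwL) hl (conj_mem_cj he)
      have h6 : e = (v * e * v⁻¹) * (v * (w * e * w⁻¹) * v⁻¹) * (w * e * w⁻¹)⁻¹ := by
        calc e = (e * (w * e * w⁻¹)) * v * v⁻¹ * (w * e * w⁻¹)⁻¹ := by group
          _ = v * (e * (w * e * w⁻¹)) * v⁻¹ * (w * e * w⁻¹)⁻¹ := by rw [← h5]
          _ = (v * e * v⁻¹) * (v * (w * e * w⁻¹) * v⁻¹) * (w * e * w⁻¹)⁻¹ := by group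
      rw [h6]
      exact ((c1.mul_right c2).mul_right c3.inv_right).eq
    apply Components.quasisimple_not_isMulCommutative hL.2
    exact ⟨⟨fun a b => Subtype.ext (hab b b.2 a a.2)⟩⟩

/-- a component moved by `w` is centralised by `J` -/
theorem comm_of_moved (hO : pPrimeCore 2 H = ⊥) (hw : w * w = 1) (h : IsPr J z)
    (hs : Sn J (centralizer ({w} : Set H))) (hne : ¬ ∀ y ∈ J, y * y = z → y ∈ pCore 2 H)
    {v : H} (hv : v ∈ J) (h3 : v * v * v = 1) {L : Subgroup H} (hL : IsComponent L) (hwL : cj w L ≠ L) :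
    ∀ l ∈ L, v * l = l * v := by
  have hvw : v * w = w * v := mem_centralizer_singleton_iff.1 (hs.1 hv)
  have hvL := comp_fixed hO hw h hs hne hv h3 hL
  have hvL' : cj v (cj w L) = cj w L := by rw [← cj_mul, hvw, cj_mul, hvL]
  obtain ⟨D, hDw, -, hDc, -, hD⟩ := Comp.exists_diag hL hw hwL
  refine StandardComponent.AltExists.comm_of_perfect L hL.2.1 v ?_ ?_
  · intro x hx
    have := conj_mem_cj (g := v) hx
    rwa [hvL] at this
  · intro e he l hl
    have h4 := comm_component (h.subgroupOf hs.1) hs.2 hDc ⟨v, hs.1 hv⟩ hv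
      ⟨e * (w * e * w⁻¹), hDw (hD e he)⟩ (hD e he)
    have h5 : v * (e * (w * e * w⁻¹)) = (e * (w * e * w⁻¹)) * v := congrArg Subtype.val h4
    have hf : w * e * w⁻¹ ∈ cj w L := conj_mem_cj he
    have hf' : v * (w * e * w⁻¹) * v⁻¹ ∈ cj w L := by
      have := conj_mem_cj (g := v) hf
      rwa [hvL'] at this
    have hcw : ∀ a ∈ L, ∀ b ∈ cj w L, a * b = b * a := fun a ha b hb =>
      Comp.comm_of_ne hL (Comp.isComponent_cj hL w) (Ne.symm hwL) ha hb
    have h6 : v * e * v⁻¹ * e⁻¹ = (w * e * w⁻¹) * (v * (w * e * w⁻¹) * v⁻¹)⁻¹ := by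
      have c1 : e * (w * e * w⁻¹) = (w * e * w⁻¹) * e := hcw e he _ hf
      have c2 : Commute e (v * (w * e * w⁻¹) * v⁻¹) := hcw e he _ hf'
      calc v * e * v⁻¹ * e⁻¹ = (v * (e * (w * e * w⁻¹))) * v⁻¹ * (v * (w * e * w⁻¹) * v⁻¹)⁻¹ * e⁻¹ := by group
        _ = (e * (w * e * w⁻¹)) * (v * (w * e * w⁻¹) * v⁻¹)⁻¹ * e⁻¹ := by rw [h5]; group
        _ = (w * e * w⁻¹) * (e * (v * (w * e * w⁻¹) * v⁻¹)⁻¹) * e⁻¹ := by rw [c1]; group
        _ = (w * e * w⁻¹) * (v * (w * e * w⁻¹) * v⁻¹)⁻¹ := by rw [c2.inv_right.eq]; group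
    rw [h6]
    exact (hcw l hl _ (mul_mem hf (inv_mem hf'))).symm

/-- **STEP (1), K-free part** -/
theorem main (hO : pPrimeCore 2 H = ⊥) (hw : w * w = 1)
    (hOw : pPrimeCore 2 ↥(centralizer ({w} : Set H)) = ⊥) (h : IsPr J z) (hs : Sn J (centralizer ({w} : Set H))) :
    (∀ y ∈ J, y * y = z → y ∈ pCore 2 H) ∨
    (∃ L : Subgroup H, IsComponent L ∧ cj w L = L ∧ J ≤ normalizer (L : Set H) ∧ ∀ y ∈ J, y * y = z → y ∈ L) ∨
    (∃ L : Subgroup H, IsComponent L ∧ cj w L = L ∧ J ≤ normalizer (L : Set H) ∧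
      (∃ y ∈ J, y * y = z ∧ y ∉ centralizer (L : Set H)) ∧
      (∀ v ∈ J, v * v * v = 1 → ∀ c ∈ pCore 2 H, v * c = c * v) ∧
      ∀ v ∈ J, v * v * v = 1 → ∀ c ∈ L, c * w = w * c → v * c = c * v) := by
  haveI : Fact (Nat.Prime 2) := ⟨Nat.prime_two⟩
  by_cases hne : ∀ y ∈ J, y * y = z → y ∈ pCore 2 H
  · exact Or.inl hne
  right
  -- a component not centralised by `O₂(J)`
  obtain ⟨L, hL, y, hy, hyz, hyL⟩ : ∃ L : Subgroup H, IsComponent L ∧
      ∃ y ∈ J, y * y = z ∧ y ∉ centralizer (L : Set H) := by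
    by_contra hcon
    push Not at hcon
    apply hne
    intro y hy hyz
    refine OneComp.centralizer_genFit_le hO (OneComp.mem_centralizer_genFit hO (fun L hL => hcon L hL y hy hyz) ?_)
    have h2 : J ≤ centralizer (pCore 2 H : Set H) := by
      refine h.le_of_cube fun v hv h3 => ?_
      rw [mem_centralizer_iff]
      intro x hx
      exact (comm_pCore hw h hs hne hv h3 x hx).symm
    exact h2 hy
  have hwL : cj w L = L := by
    by_contra hwL
    apply hyL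
    have h2 : J ≤ centralizer (L : Set H) := by
      refine h.le_of_cube fun v hv h3 => ?_
      rw [mem_centralizer_iff]
      intro l hl
      exact (comm_of_moved hO hw h hs hne hv h3 hL hwL l hl).symm
    exact h2 hy
  have hJn : J ≤ normalizer (L : Set H) :=
    h.le_of_cube fun v hv h3 => mem_normalizer_iff_cj.2 (comp_fixed hO hw h hs hne hv h3 hL)
  by_cases hJL2 : ∀ y ∈ J, y * y = z → y ∈ L
  · exact Or.inl ⟨L, hL, hwL, hJn, hJL2⟩
  right
  refine ⟨L, hL, hwL, hJn, ⟨y, hy, hyz, hyL⟩, fun v hv h3 => comm_pCore hw h hs hne hv h3, ?_⟩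
  intro v hv h3 c hc hcw
  have h4 := comm_subnormal hOw (h.subgroupOf hs.1) hs.2 (C := L.subgroupOf (centralizer ({w} : Set H)))
    (hL.1.comap _) ?_ ?_ (v := ⟨v, hs.1 hv⟩) hv (Subtype.ext h3) ⟨c, mem_centralizer_singleton_iff.2 hcw⟩ hc
  · exact congrArg Subtype.val h4
  · intro g hg
    rw [mem_normalizer_iff]
    intro k
    exact mem_normalizer_iff.1 (hJn hg) k
  · intro h5
    apply hJL2
    intro y hy hyz
    exact h5 ⟨y, hs.1 hy⟩ hy (Subtype.ext hyz)

end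

end Cfsg.Agent.OddHalf.NI3.Bad.StepOne

end

-- merged: Cfsg.Agent.OddHalf.NI3.Bad.StepOneOut
section

/-!
# NI over `F₃`, THEOREM NIB, step (1): the outer case

`Out3 L J w z` : the third alternative of `StepOne.main`.

* `Out3.not_outNil` : `Out3` implies `¬ OutNil L` (`A₄ ≤ Out(L)`).
* `Out3.not_noFix` : `¬ NoFix L`; `NoFix L`: no automorphism of order 3 of `L` is trivial on the fixed points of a
  commuting automorphism of order at most two.
* `Out3.unb` : `L / Z(L)` is in the list of S1311.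
-/

set_option autoImplicit false
set_option linter.style.haveILetI false

namespace Cfsg.Agent.OddHalf.NI3.Bad.StepOne

open Subgroup Cfsg Cfsg.Agent.Cit Cfsg.Agent.Cit.SolvTwo Cfsg.Agent.SignalizersComponents
open Cfsg.Agent.Omega.Lie.OutT (OutNil)

universe u

/-- No automorphism of order 3 is trivial on the fixed points of a commuting automorphism of order at most two. -/
def NoFix (X : Type*) [Group X] : Prop :=
  ∀ α β : MulAut X, α * α = 1 → β * β * β = 1 → α * β = β * α → (∀ x, α x = x → β x = x) → β = 1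

theorem NoFix.of_equiv {X Y : Type*} [Group X] [Group Y] (e : X ≃* Y) (h : NoFix X) : NoFix Y := by
  intro α β hα hβ hc hf
  let E : MulAut Y ≃* MulAut X := MulAut.congr e.symm
  have hE : ∀ (γ : MulAut Y) (x : X), E γ x = e.symm (γ (e x)) := fun γ x => by simp [E, MulAut.congr]
  have h1 := h (E α) (E β) (by rw [← map_mul, hα, map_one]) (by rw [← map_mul, ← map_mul, hβ, map_one])
    (by rw [← map_mul, hc, map_mul]) (by
      intro x hx
      rw [hE] at hx ⊢
      have h2 : α (e x) = e x := by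
        apply e.symm.injective
        rw [hx, e.symm_apply_apply]
      rw [hf _ h2, e.symm_apply_apply])
  exact E.injective (by rw [h1, map_one])

section

variable {H : Type u} [Group H]

/-- the third alternative of `main` -/
structure Out3 (L J : Subgroup H) (w z : H) : Prop where
  comp : IsComponent L
  wL : cj w L = L
  JL : J ≤ normalizer (L : Set H)
  ne : ∃ y ∈ J, y * y = z ∧ y ∉ centralizer (L : Set H)
  cenP : ∀ v ∈ J, v * v * v = 1 → ∀ c ∈ pCore 2 H, v * c = c * v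
  cen : ∀ v ∈ J, v * v * v = 1 → ∀ c ∈ L, c * w = w * c → v * c = c * v

namespace Out3

variable {L J : Subgroup H} {w z : H}

theorem nL (h : Out3 L J w z) {g : H} (hg : g ∈ J) {x : H} (hx : x ∈ L) : g * x * g⁻¹ ∈ L :=
  (mem_normalizer_iff.1 (h.JL hg) x).1 hx

theorem wx (h : Out3 L J w z) {x : H} (hx : x ∈ L) : w * x * w⁻¹ ∈ L := by
  have := conj_mem_cj (g := w) hx
  rwa [h.wL] at this

theorem not_cent (h : Out3 L J w z) : ¬ J ≤ centralizer (L : Set H) := by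
  intro h1
  obtain ⟨y, hy, -, h2⟩ := h.ne
  exact h2 (h1 hy)

/-- an element `k ∈ J` with `k² = z` does not centralise `L` -/
theorem k_not (h : Out3 L J w z) (hp : IsPr J z) {k : H} (hk : k ∈ J) (hkz : k * k = z)
    (hkL : ∀ x ∈ L, k * x * k⁻¹ = x) : False := by
  obtain ⟨y, hy, hyz, hyL⟩ := h.ne
  obtain ⟨g, hg, rfl⟩ := hp.t3.conj k hk y hy hkz hyz
  apply hyL
  rw [mem_centralizer_iff]
  intro x hx
  have h1 : g⁻¹ * x * g ∈ L := by
    have := h.nL (inv_mem hg) hx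
    rwa [inv_inv] at this
  have h2 := hkL _ h1
  have h3 : g * k * g⁻¹ * x * (g * k * g⁻¹)⁻¹ = x := by
    calc g * k * g⁻¹ * x * (g * k * g⁻¹)⁻¹ = g * (k * (g⁻¹ * x * g) * k⁻¹) * g⁻¹ := by group
      _ = x := by rw [h2]; group
  rw [mul_inv_eq_iff_eq_mul] at h3
  exact h3.symm

/-- a central element of `L` is centralised by `v` -/
theorem comm_center (h : Out3 L J w z) (hZ : IsPGroup 2 ↥(center ↥L)) {v : H} (hv : v ∈ J) (h3 : v * v * v = 1)
    {ζ : H} (hζ : ζ ∈ L) (hc : ∀ x ∈ L, x * ζ = ζ * x) : v * ζ = ζ * v := by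
  have h1 : (⟨ζ, hζ⟩ : L) ∈ center L := by
    rw [mem_center_iff]
    intro x
    exact Subtype.ext (hc x x.2)
  obtain ⟨n, hn⟩ := hZ ⟨⟨ζ, hζ⟩, h1⟩
  have h2 : (⟨ζ, hζ⟩ : L) ^ 2 ^ n = 1 := by
    have := congrArg Subtype.val hn
    simpa using this
  exact h.cenP v hv h3 ζ (mem_pCore_of_center h.comp h1 h2)

/-- **no element of order 4 of `J` acts as an inner automorphism of `L`** -/
theorem inner_false (h : Out3 L J w z) (hp : IsPr J z) (hJw : J ≤ centralizer ({w} : Set H))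
    (hz : ∀ x ∈ L, z * x = x * z) (hZ : IsPGroup 2 ↥(center ↥L)) {i j d : H} (hs : SLThree.Sl J z i j d)
    {l : H} (hl : l ∈ L) (hil : ∀ x ∈ L, i * x * i⁻¹ = l * x * l⁻¹) : False := by
  have hiw : i * w = w * i := mem_centralizer_singleton_iff.1 (hJw hs.hi)
  have hdw : d * w = w * d := mem_centralizer_singleton_iff.1 (hJw hs.hd)
  have hwl := h.wx hl
  -- `ζ = l⁻¹ l^w` is central in `L`
  obtain ⟨ζ, hζ⟩ : ∃ ζ, ζ = l⁻¹ * (w * l * w⁻¹) := ⟨_, rfl⟩
  have hζL : ζ ∈ L := by rw [hζ]; exact mul_mem (inv_mem hl) hwl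
  have hwl' : w * l * w⁻¹ = l * ζ := by rw [hζ]; group
  have hw' : ∀ x ∈ L, w⁻¹ * x * w ∈ L := by
    intro x hx
    have h1 : x ∈ cj w L := by rw [h.wL]; exact hx
    exact Cit.mem_cj.1 h1
  have hζc : ∀ x ∈ L, x * ζ = ζ * x := by
    intro x hx
    have h1 : (w * l * w⁻¹) * x * (w * l * w⁻¹)⁻¹ = l * x * l⁻¹ := by
      calc (w * l * w⁻¹) * x * (w * l * w⁻¹)⁻¹ = w * (l * (w⁻¹ * x * w) * l⁻¹) * w⁻¹ := by group
        _ = w * (i * (w⁻¹ * x * w) * i⁻¹) * w⁻¹ := by rw [hil _ (hw' x hx)]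
        _ = (w * i) * (w⁻¹ * x * w) * (w * i)⁻¹ := by group
        _ = (i * w) * (w⁻¹ * x * w) * (i * w)⁻¹ := by rw [hiw]
        _ = i * x * i⁻¹ := by group
        _ = l * x * l⁻¹ := hil x hx
    rw [hwl'] at h1
    have h2 : ζ * x * ζ⁻¹ = x := by
      calc ζ * x * ζ⁻¹ = l⁻¹ * (l * ζ * x * (l * ζ)⁻¹) * l := by group
        _ = x := by rw [h1]; group
    rw [mul_inv_eq_iff_eq_mul] at h2
    exact h2.symm
  have hdζ : d * ζ = ζ * d := h.comm_center hZ hs.hd hs.d3 hζL hζc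
  -- `m = l⁻¹ l^d`
  obtain ⟨m, hm⟩ : ∃ m, m = l⁻¹ * (d * l * d⁻¹) := ⟨_, rfl⟩
  have hdl : d * l * d⁻¹ = l * m := by rw [hm]; group
  have hmL : m ∈ L := by rw [hm]; exact mul_mem (inv_mem hl) (h.nL hs.hd hl)
  have hmw : m * w = w * m := by
    have h1 : w * m * w⁻¹ = m := by
      calc w * m * w⁻¹ = (w * l * w⁻¹)⁻¹ * ((w * d) * l * (w * d)⁻¹) := by rw [hm]; group
        _ = (w * l * w⁻¹)⁻¹ * ((d * w) * l * (d * w)⁻¹) := by rw [hdw]
        _ = (w * l * w⁻¹)⁻¹ * (d * (w * l * w⁻¹) * d⁻¹) := by group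
        _ = (l * ζ)⁻¹ * (d * l * d⁻¹ * (d * ζ) * d⁻¹) := by rw [hwl']; group
        _ = (l * ζ)⁻¹ * (d * l * d⁻¹ * (ζ * d) * d⁻¹) := by rw [hdζ]
        _ = ζ⁻¹ * (m * ζ) := by rw [hm]; group
        _ = m := by rw [hζc m hmL]; group
    rw [mul_inv_eq_iff_eq_mul] at h1
    exact h1.symm
  have hdm : d * m = m * d := h.cen d hs.hd hs.d3 m hmL hmw
  have hdm' : d * m * d⁻¹ = m := by rw [hdm]; group
  have hm3 : m * m * m = 1 := by
    have h1 : l * (m * m * m) = l := by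
      calc l * (m * m * m) = (d * l * d⁻¹) * m * m := by rw [hdl]; group
        _ = (d * l * d⁻¹) * (d * m * d⁻¹) * (d * m * d⁻¹) := by rw [hdm']
        _ = d * (l * m) * (m) * d⁻¹ := by group
        _ = d * (d * l * d⁻¹) * (d * m * d⁻¹) * d⁻¹ := by rw [hdl, hdm']
        _ = d * (d * (l * m) * d⁻¹) * d⁻¹ := by group
        _ = (d * d * d) * l * (d * d * d)⁻¹ := by rw [← hdl]; group
        _ = l := by rw [hs.d3]; group
    have h2 : l * (m * m * m) = l * 1 := by rw [h1, mul_one]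
    exact mul_left_cancel h2
  -- `m` acts as `k = i⁻¹ j`
  have hd' : ∀ x ∈ L, d⁻¹ * x * d ∈ L := by
    intro x hx
    have := h.nL (inv_mem hs.hd) hx
    rwa [inv_inv] at this
  have hmk : ∀ x ∈ L, m * x * m⁻¹ = (i⁻¹ * j) * x * (i⁻¹ * j)⁻¹ := by
    intro x hx
    have h1 : d * l * d⁻¹ * x * (d * l * d⁻¹)⁻¹ = j * x * j⁻¹ := by
      calc d * l * d⁻¹ * x * (d * l * d⁻¹)⁻¹ = d * (l * (d⁻¹ * x * d) * l⁻¹) * d⁻¹ := by group
        _ = d * (i * (d⁻¹ * x * d) * i⁻¹) * d⁻¹ := by rw [hil _ (hd' x hx)]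
        _ = (d * i * d⁻¹) * x * (d * i * d⁻¹)⁻¹ := by group
        _ = j * x * j⁻¹ := by rw [hs.di]
    have hy : j * x * j⁻¹ ∈ L := h.nL hs.hj hx
    have h2 : l⁻¹ * (j * x * j⁻¹) * l = i⁻¹ * (j * x * j⁻¹) * i := by
      have h3 : i⁻¹ * (j * x * j⁻¹) * i ∈ L := by
        have := h.nL (inv_mem hs.hi) hy
        rwa [inv_inv] at this
      have h4 := hil _ h3
      calc l⁻¹ * (j * x * j⁻¹) * l = l⁻¹ * (i * (i⁻¹ * (j * x * j⁻¹) * i) * i⁻¹) * l := by group
        _ = i⁻¹ * (j * x * j⁻¹) * i := by rw [h4]; group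
    calc m * x * m⁻¹ = l⁻¹ * (d * l * d⁻¹ * x * (d * l * d⁻¹)⁻¹) * l := by rw [hm]; group
      _ = i⁻¹ * (j * x * j⁻¹) * i := by rw [h1, h2]
      _ = (i⁻¹ * j) * x * (i⁻¹ * j)⁻¹ := by group
  have hk2 : (i⁻¹ * j) * (i⁻¹ * j) = z := by
    simp only [hs.q.i_inv, mul_assoc, hs.q.jzx, hs.q.izx, hs.q.zz, hs.q.jix, hs.q.j2, hs.q.iz, hs.q.i2]
  have hmm : ∀ x ∈ L, (m * m) * x * (m * m)⁻¹ = x := by
    intro x hx
    have hx' : m * x * m⁻¹ ∈ L := mul_mem (mul_mem hmL hx) (inv_mem hmL)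
    calc (m * m) * x * (m * m)⁻¹ = m * (m * x * m⁻¹) * m⁻¹ := by group
      _ = (i⁻¹ * j) * (m * x * m⁻¹) * (i⁻¹ * j)⁻¹ := hmk _ hx'
      _ = (i⁻¹ * j) * ((i⁻¹ * j) * x * (i⁻¹ * j)⁻¹) * (i⁻¹ * j)⁻¹ := by rw [hmk x hx]
      _ = ((i⁻¹ * j) * (i⁻¹ * j)) * x * ((i⁻¹ * j) * (i⁻¹ * j))⁻¹ := by group
      _ = x := by rw [hk2, hz x hx]; group
  have hmi : m = (m * m)⁻¹ := eq_inv_of_mul_eq_one_right (by rw [mul_assoc] at hm3 ⊢; exact hm3)
  have hmc : ∀ x ∈ L, m * x * m⁻¹ = x := by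
    intro x hx
    have h1 := hmm x hx
    rw [hmi]
    calc (m * m)⁻¹ * x * (m * m)⁻¹⁻¹ = (m * m)⁻¹ * ((m * m) * x * (m * m)⁻¹) * (m * m) := by rw [h1, inv_inv]
      _ = x := by group
  refine h.k_not hp (mul_mem (inv_mem hs.hi) hs.hj) hk2 fun x hx => ?_
  rw [← hmk x hx, hmc x hx]

/-- the action on `L` -/
noncomputable def ρ (_h : Out3 L J w z) : ↥(normalizer (L : Set H)) →* MulAut ↥L := L.normalizerMonoidHom

theorem coe_ρ (h : Out3 L J w z) (g : ↥(normalizer (L : Set H))) (x : L) : ((h.ρ g x : L) : H) = g * x * g⁻¹ := rfl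

/-- **`A₄ ≤ Out(L)`** -/
theorem not_outNil [Finite H] (h : Out3 L J w z) (hp : IsPr J z) (hJw : J ≤ centralizer ({w} : Set H))
    (hz : ∀ x ∈ L, z * x = x * z) (hZ : IsPGroup 2 ↥(center ↥L)) : ¬ OutNil ↥L := by
  intro hO
  obtain ⟨i, j, d, hs⟩ := hp.sl
  set i' : MulAut L := h.ρ ⟨i, h.JL hs.hi⟩ with hi'
  set j' : MulAut L := h.ρ ⟨j, h.JL hs.hj⟩ with hj'
  set d' : MulAut L := h.ρ ⟨d, h.JL hs.hd⟩ with hd'
  have hz' : h.ρ ⟨z, h.JL hp.mem⟩ = 1 := by
    ext x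
    rw [coe_ρ, MulAut.one_apply]
    show z * (x : H) * z⁻¹ = x
    rw [hz x x.2]; group
  have hii : i' * i' = 1 := by
    rw [hi', ← map_mul, ← hz']
    congr 1
    exact Subtype.ext hs.q.i2
  have hjj : j' * j' = 1 := by
    rw [hj', ← map_mul, ← hz']
    congr 1
    exact Subtype.ext hs.q.j2
  have hji : j' * i' = i' * j' := by
    have h1 : h.ρ (⟨j, h.JL hs.hj⟩ * ⟨i, h.JL hs.hi⟩) = h.ρ (⟨z, h.JL hp.mem⟩ * (⟨i, h.JL hs.hi⟩ * ⟨j, h.JL hs.hj⟩)) := by
      congr 1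
      exact Subtype.ext hs.q.ji
    rw [map_mul, map_mul, map_mul, hz', one_mul] at h1
    exact h1
  have hdi : d' * i' * d'⁻¹ = j' := by
    rw [hd', hi', hj', ← map_inv, ← map_mul, ← map_mul]
    congr 1
    exact Subtype.ext hs.di
  have hdj : d' * j' * d'⁻¹ = i' * j' := by
    rw [hd', hi', hj', ← map_inv, ← map_mul, ← map_mul, ← map_mul]
    congr 1
    exact Subtype.ext hs.dj
  have hd3 : d' * d' * d' = 1 := by
    rw [hd', ← map_mul, ← map_mul, ← map_one h.ρ]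
    congr 1
    exact Subtype.ext hs.d3
  set X : Subgroup (MulAut L) := closure {i', j'} with hX
  have hiX : i' ∈ X := subset_closure (Or.inl rfl)
  have hjX : j' ∈ X := subset_closure (Or.inr rfl)
  have hgc : ∀ g : MulAut L, g * i' = i' * g → g * j' = j' * g → ∀ x ∈ X, g * x = x * g := by
    intro g h1 h2 x hx
    have h3 : X ≤ centralizer ({g} : Set (MulAut L)) := by
      rw [hX, closure_le]
      rintro k (rfl | rfl)
      · exact mem_centralizer_singleton_iff.2 h1.symm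
      · exact mem_centralizer_singleton_iff.2 h2.symm
    exact (mem_centralizer_singleton_iff.1 (h3 hx)).symm
  have hXc : ∀ x ∈ X, ∀ y ∈ X, x * y = y * x := by
    intro x hx y hy
    exact hgc x (hgc i' rfl hji.symm x hx).symm (hgc j' hji rfl x hx).symm y hy
  have hXsq : ∀ x ∈ X, x * x = 1 := by
    intro x hx
    induction hx using closure_induction with
    | mem x hx =>
      rcases hx with rfl | rfl
      · exact hii
      · exact hjj
    | one => rw [one_mul]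
    | mul x y hx hy h1 h2 =>
      calc x * y * (x * y) = x * (y * x) * y := by group
        _ = x * (x * y) * y := by rw [hXc y hy x hx]
        _ = (x * x) * (y * y) := by group
        _ = 1 := by rw [h1, h2, one_mul]
    | inv x hx h1 => rw [← mul_inv_rev, h1, inv_one]
  have hnorm : zpowers d' ≤ normalizer (X : Set (MulAut L)) := by
    rw [zpowers_le, Cit.mem_normalizer_iff_cj]
    have h1 : cj d' X ≤ X := by
      rw [Cit.cj_def, map_le_iff_le_comap, hX, closure_le]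
      rintro k (rfl | rfl)
      · show d' * i' * d'⁻¹ ∈ X
        rw [hdi]; exact hjX
      · show d' * j' * d'⁻¹ ∈ X
        rw [hdj]; exact mul_mem hiX hjX
    exact Subgroup.eq_of_le_of_card_ge h1 (by rw [Cit.card_cj])
  have h1 := hO X (zpowers d') hXsq (by rw [Nat.card_zpowers]; exact odd_of_cube hd3)
    (fun t ht x hx => (mem_normalizer_iff.1 (hnorm ht) x).1 hx) (by
      set S : Subgroup (MulAut L) := closure {y | ∃ x ∈ X, ∃ t ∈ zpowers d', x⁻¹ * (t * x * t⁻¹) = y} with hS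
      have e1 : i' ∈ S := by
        refine subset_closure ⟨j', hjX, d', mem_zpowers d', ?_⟩
        rw [hdj, ← hji]; group
      have e2 : i' * j' ∈ S := by
        refine subset_closure ⟨i', hiX, d', mem_zpowers d', ?_⟩
        rw [hdi, inv_eq_of_mul_eq_one_right hii]
      rw [hX, closure_le]
      rintro k (rfl | rfl)
      · exact e1
      · have e3 := mul_mem e1 e2
        rw [← mul_assoc, hii, one_mul] at e3
        exact e3) hiX
  obtain ⟨l, hl⟩ := h1
  refine h.inner_false hp hJw hz hZ hs l.2 fun x hx => ?_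
  have h2 := congrArg Subtype.val (DFunLike.congr_fun hl ⟨x, hx⟩)
  exact h2.symm

/-- the automorphisms induced by `w` and `v` -/
theorem aut (h : Out3 L J w z) (hw : w * w = 1) (hJw : J ≤ centralizer ({w} : Set H)) {v : H}
    (hv : v ∈ J) (h3 : v * v * v = 1) : ∃ α β : MulAut ↥L, α * α = 1 ∧ β * β * β = 1 ∧ α * β = β * α ∧
      (∀ x, α x = x → β x = x) ∧ (∀ x : L, ((β x : L) : H) = v * x * v⁻¹) := by
  have hwn : w ∈ normalizer (L : Set H) := Cit.mem_normalizer_iff_cj.2 h.wL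
  have hvw : v * w = w * v := mem_centralizer_singleton_iff.1 (hJw hv)
  refine ⟨h.ρ ⟨w, hwn⟩, h.ρ ⟨v, h.JL hv⟩, ?_, ?_, ?_, ?_, fun x => rfl⟩
  · rw [← map_mul, ← map_one h.ρ]
    congr 1
    exact Subtype.ext hw
  · rw [← map_mul, ← map_mul, ← map_one h.ρ]
    congr 1
    exact Subtype.ext h3
  · rw [← map_mul, ← map_mul]
    congr 1
    exact Subtype.ext hvw.symm
  · intro x hx
    have h1 : w * (x : H) * w⁻¹ = x := congrArg Subtype.val hx
    rw [mul_inv_eq_iff_eq_mul] at h1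
    apply Subtype.ext
    show v * (x : H) * v⁻¹ = x
    rw [h.cen v hv h3 x x.2 h1.symm]; group

theorem not_noFix (h : Out3 L J w z) (hw : w * w = 1) (hp : IsPr J z) (hJw : J ≤ centralizer ({w} : Set H)) :
    ¬ NoFix ↥L := by
  intro hN
  apply h.not_cent
  refine hp.le_of_cube fun v hv h3 => ?_
  obtain ⟨α, β, h1, h2, h4, h5, h6⟩ := h.aut hw hJw hv h3
  have h7 := hN α β h1 h2 h4 h5
  rw [mem_centralizer_iff]
  intro x hx
  have h8 := h6 ⟨x, hx⟩
  rw [h7, MulAut.one_apply, eq_mul_inv_iff_mul_eq] at h8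
  exact h8

theorem unb [Finite H] (h1311 : Stmts.P1311.{u}) (h : Out3 L J w z) (hw : w * w = 1) (hp : IsPr J z)
    (hJw : J ≤ centralizer ({w} : Set H)) (hZ : IsPGroup 2 ↥(center ↥L)) : Unb.IsUnb (↥L ⧸ center ↥L) := by
  by_contra hcon
  apply h.not_cent
  refine hp.le_of_cube fun v hv h3 => ?_
  obtain ⟨α, β, h1, h2, h4, h5, h6⟩ := h.aut hw hJw hv h3
  have h7 : β = 1 := by
    by_contra hβ
    refine hcon (Unb.unbQ h1311 h.comp.2 h1 h2 hβ h4 h5 ?_)
    intro x hx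
    apply Subtype.ext
    rw [h6]
    rw [h.comm_center hZ hv h3 x.2 (fun y hy => congrArg Subtype.val (mem_center_iff.1 hx ⟨y, hy⟩))]
    group
  rw [mem_centralizer_iff]
  intro x hx
  have h8 := h6 ⟨x, hx⟩
  rw [h7, MulAut.one_apply, eq_mul_inv_iff_mul_eq] at h8
  exact h8

end Out3

end

end Cfsg.Agent.OddHalf.NI3.Bad.StepOne

end

-- merged: Cfsg.Agent.OddHalf.NI3.Bad.StepOneG
section

/-!
# NI over `F₃`, THEOREM NIB, step (1) in `G`: `O₂(A), O₂(B) ≤ O₂(C(z))`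

`hR` : from `Ctx G`, `Cfg N a b e A B` and the named inputs `OneHyps`.
-/

set_option autoImplicit false
set_option linter.style.haveILetI false

namespace Cfsg.Agent.OddHalf.NI3.Bad.StepOneG

open Subgroup Cfsg Cfsg.Agent.OddHalf.Iface Cfsg.Agent.OddHalf.LieOddFam Cfsg.Agent.OddHalf.D9.Cut
  Cfsg.Agent.SignalizersComponents Cfsg.Agent.OddHalf.NI3.Bad Cfsg.Agent.OddHalf.NI3.Bad.StepThree
open Cfsg.Agent.OddHalf.D3 (Comp)
open Cfsg.Agent.OddHalf.NI (CompIn Even8)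
open Cfsg.Agent.OddHalf.NI.Ex (MulOdd rankOne_false altCover_comp)
open Cfsg.Agent.Cit (cj TStmt)
open Cfsg.Agent.Omega.Lie.OutT (OutNil)

universe u

/-- The second alternative: `O₂(J) ≤ L`, a component of `C(z)`. -/
structure In2 {G : Type u} [Group G] (z w g : G) (L J : Subgroup G) : Prop where
  z2 : orderOf z = 2
  w2 : orderOf w = 2
  zw : z * w = w * z
  comp : Comp z L
  pr : IsPr J z
  sn : Sn J (centralizer ({z} : Set G) ⊓ centralizer ({w} : Set G))
  core : pPrimeCore 2 ↥(centralizer ({z} : Set G) ⊓ centralizer ({w} : Set G)) = ⊥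
  wL : cj w L = L
  JL : J ≤ normalizer (L : Set G)
  Q : ∀ y ∈ J, y * y = z → y ∈ L
  gz : g * z = z * g
  gJ : cj g J = J
  gL : cj g L = L
  g4 : (g * g) * (g * g) = 1
  inn : ∃ l ∈ L, ∃ c ∈ centralizer (L : Set G), g * g * w = l * c

/-- **(EX4)** in `G` (helper219). -/
def Ex4G : Prop :=
  ∀ (G : Type u) [Group G], Ctx G → ∀ (z w g : G) (L J : Subgroup G), In2 z w g L J →
    ¬ LieOdd (↥L ⧸ center ↥L) → False

/-- The K-facts for the third alternative. -/
structure OutRows : Prop where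
  l2 : ∀ (F : Type) [Field F] [Fintype F], Odd (Fintype.card F) →
    IsSimpleGroup (Matrix.ProjectiveSpecialLinearGroup (Fin 2) F) →
    OutNil (Matrix.ProjectiveSpecialLinearGroup (Fin 2) F)
  ree : ∀ (X : Type u) [Group X] [Finite X], IsSimpleGroup X → Lie.IsoRee X → OutNil X
  alt : ∀ n : ℕ, Odd n → 7 ≤ n → OutNil ↥(alternatingGroup (Fin n))
  l34 : ∀ (F : Type) [Field F] [Fintype F], Fintype.card F = 4 →
    OutNil (Matrix.ProjectiveSpecialLinearGroup (Fin 3) F)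
  he : ∀ (X : Type u) [Group X] [Finite X], Spor.IsoHe X → OutNil X
  small : ∀ (X : Type u) [Group X] [Finite X], Small3 X → ¬ XO8p X → OutNil X
  u43 : ∀ (X : Type u) [Group X] [Finite X], XU43 X → OutNil X
  o8p : ∀ (X : Type u) [Group X] [Finite X], XO8p X → StepOne.NoFix X

/-- The inputs of step (1), besides `TypeHyps`. -/
structure OneHyps : Prop where
  gw : RankOne.GW.{u}
  p1738 : Stmts.P1738.{u}
  p1311 : Stmts.P1311.{u}
  d5 : D5cover.{u}
  mulOdd : MulOdd.{u}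
  frame : FrameFact3.{u}
  x3 : ∀ (G : Type u) [Group G], Ctx G → NoFam3 G
  ex4 : Ex4G.{u}
  rows : OutRows.{u}

variable {G : Type u} [Group G]

/-! ### The second alternative -/

theorem In2.z_mem {z w g : G} {L J : Subgroup G} (h : In2 z w g L J) : z ∈ L := by
  obtain ⟨x, hx, -, -, hxz, -, -⟩ := h.pr.t3.ex4
  rw [← hxz]
  exact mul_mem (h.Q x hx hxz) (h.Q x hx hxz)

theorem In2.even {z w g : G} {L J : Subgroup G} (h : In2 z w g L J) : Even8 (⟨z, h.z_mem⟩ : ↥L) := by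
  obtain ⟨i, j, d, hs⟩ := h.pr.sl
  refine ⟨by rw [Subgroup.orderOf_mk]; exact h.z2, ⟨i, h.Q i hs.hi hs.q.i2⟩, ⟨j, h.Q j hs.hj hs.q.j2⟩,
    Subtype.ext hs.q.i2, Subtype.ext hs.q.j2, ?_⟩
  apply Subtype.ext
  show i * j * i⁻¹ * j⁻¹ = z
  have h1 := hs.q.ji
  rw [mul_inv_eq_iff_eq_mul, mul_inv_eq_iff_eq_mul, mul_assoc, h1, ← mul_assoc, hs.q.z2, one_mul]

theorem In2.false (T : TypeHyps.{u}) (O : OneHyps.{u}) (C : Ctx G) {z w g : G} {L J : Subgroup G}
    (h : In2 z w g L J) : False := by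
  have := C.fin
  have := C.simple
  have hzL := h.z_mem
  have hc : CompOf z L := NI.Final.compOf_of_comp h.comp
  have hq : IsQuasisimple ↥L := h.comp.quasi
  have hyZ : (⟨z, hzL⟩ : ↥L) ∈ center ↥L := by
    rw [mem_center_iff]
    intro g
    exact Subtype.ext (mem_centralizer_singleton_iff.mp (h.comp.le g.2))
  have hyo : orderOf (⟨z, hzL⟩ : ↥L) = 2 := by rw [Subgroup.orderOf_mk]; exact h.z2
  have hzne : center ↥L ≠ ⊥ := by
    intro h
    rw [h, mem_bot] at hyZ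
    rw [hyZ, orderOf_one] at hyo
    omega
  have hz : IsPGroup 2 ↥(center ↥L) := Soft.CompOf.center_isPGroup (C.bal z h.z2) hc
  have hrk : ¬ PRankLE 2 1 ↥L := fun h' => rankOne_false O.gw C h.z2 hc hzL h'
  by_cases halt : IsAlternating (↥L ⧸ center ↥L)
  · obtain ⟨n, hn, f⟩ := halt
    obtain ⟨h8, hcov⟩ := O.d5 ↥L inferInstance hq hz hzne hrk n hn f
    exact altCover_comp O.p1738 C h.z2 hc hzL n h8 hcov
  by_cases hodd : LieOdd (↥L ⧸ center ↥L)
  · rcases lieOdd_cases hodd halt with h' | h' | h' | ⟨q, hOq, h'⟩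
    · exact hrk (O.mulOdd.l2 ↥L hq hz hzne (Or.inl h'))
    · exact hrk (O.mulOdd.l2 ↥L hq hz hzne (Or.inr h'))
    · exact O.mulOdd.ree ↥L hq hz hzne h'
    · by_cases h3 : q = 3
      · subst h3
        exact comp_rk3_false O.frame C (O.x3 G C) h.z2 h.comp hzL h.even h'
      · exact T.noBig G C z L h.z2 hc (NI.Rows.lieBig_of_rk hOq (hOq.ne_four h3) h')
  exact O.ex4 G C z w g L J h hodd

/-! ### The third alternative -/

theorem types_out (T : TypeHyps.{u}) (O : OneHyps.{u}) (C : Ctx G) {z : G} (hzo : orderOf z = 2) {K : Subgroup G}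
    (hK : Comp z K) (hout : ¬ OutNil ↥K) (hfix : ¬ StepOne.NoFix ↥K) (hunb : Unb.IsUnb (↥K ⧸ center ↥K)) :
    False := by
  have := C.fin
  have hc' : CompOf z K := NI.Final.compOf_of_comp hK
  have hZ : IsPGroup 2 ↥(center ↥K) := Soft.CompOf.center_isPGroup (C.bal z hzo) hc'
  have hY : ¬ HasY ↥K := T.noThree G C z K hzo hc'
  have hq : IsQuasisimple ↥K := hK.quasi
  have hout' : ¬ OutNil (↥K ⧸ center ↥K) := fun h1 => hout (h1.lift hq.1)
  have hs : IsSimpleGroup (↥K ⧸ center ↥K) := hq.2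
  rcases hunb with h1 | ⟨n, hn, h7, ⟨e⟩⟩ | ⟨F, i, j, hF, ⟨e⟩⟩ | h1
  · rcases NI.lieOdd_split h1 with ⟨F, i, j, hF, ⟨e⟩⟩ | h1 | ⟨q, hq', h1⟩
    · exact hout' ((O.rows.l2 F hF e.symm.isSimpleGroup).of_equiv e.symm)
    · exact hout' (O.rows.ree _ hs h1)
    · by_cases hq3 : q = 3
      · subst hq3
        by_cases hc : center ↥K = ⊥
        · have e1 : ↥K ⧸ center ↥K ≃* ↥K := (QuotientGroup.quotientMulEquivOfEq hc).trans QuotientGroup.quotientBot
          have hS : Small3 ↥K := by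
            by_contra hs
            exact hY (T.f13 ↥K (NI3.Final.simple_of_center hc hq.2) (rk_congr e1 h1) hs).hasY
          by_cases h8 : XO8p ↥K
          · exact hfix (O.rows.o8p ↥K h8)
          · exact hout (O.rows.small ↥K hS h8)
        · have hU : XU43 (↥K ⧸ center ↥K) := by
            by_contra hN
            exact hY (T.f13c ↥K hq hZ hc (T.cov ↥K hq hZ hc h1) (fun h2 => hN h2.2))
          exact hout' (O.rows.u43 _ hU)
      · exact T.noBig G C z K hzo hc' (NI.Rows.lieBig_of_rk hq' (hq'.ne_four hq3) h1)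
  · exact hout' ((O.rows.alt n hn h7).of_equiv e.symm)
  · exact hout' ((O.rows.l34 F hF).of_equiv e.symm)
  · exact hout' (O.rows.he _ h1)

/-! ### Step (1) -/

section

variable {N A B : Subgroup G} {a b e : G}

/-- a component of the centralizer as a subgroup of `G` -/
theorem comp_map {z : G} {L : Subgroup ↥(centralizer ({z} : Set G))} (hL : IsComponent L) :
    Comp z (L.map (centralizer ({z} : Set G)).subtype) := by
  refine ⟨map_subtype_le L, ?_⟩
  have h1 : (L.map (centralizer ({z} : Set G)).subtype).subgroupOf (centralizer ({z} : Set G)) = L :=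
    comap_map_eq_self_of_injective (subtype_injective _) L
  rw [h1]; exact hL

theorem cj_map {H : Subgroup G} (g : ↥H) (K : Subgroup ↥H) : cj (g : G) (K.map H.subtype) = (cj g K).map H.subtype := by
  rw [Cit.cj_def, Cit.cj_def, Subgroup.map_map, Subgroup.map_map]
  congr 1

/-- `O(C(z) ∩ C(e)) = 1` -/
theorem core_inf [Finite G] (hT : TStmt.{u}) (h : Cfg N a b e A B)
    (hO : pPrimeCore 2 ↥(centralizer ({e} : Set G)) = ⊥) :
    pPrimeCore 2 ↥(centralizer ({a * b} : Set G) ⊓ centralizer ({e} : Set G)) = ⊥ := by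
  have h1 := core_bot hT h hO
  rw [← comap_cent] at h1
  have e2 : ↥((centralizer ({a * b} : Set G) ⊓ centralizer ({e} : Set G)).comap (centralizer ({a * b} : Set G)).subtype) ≃*
      ↥(centralizer ({a * b} : Set G) ⊓ centralizer ({e} : Set G)) := subgroupOfEquivOfLe inf_le_left
  have h2 := Lib.Cores.map_equiv_pPrimeCore e2 2
  rw [h1, Subgroup.map_bot] at h2
  exact h2.symm

/-- the second alternative gives `In2` -/
theorem exists_in2 [Finite G] (hT : TStmt.{u}) (h : Cfg N a b e A B)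
    (hO : pPrimeCore 2 ↥(centralizer ({e} : Set G)) = ⊥) {L : Subgroup ↥(centralizer ({a * b} : Set G))}
    (hL : IsComponent L) (hwL : cj ⟨e, e_mem h⟩ L = L)
    (hJL : A.subgroupOf (centralizer ({a * b} : Set G)) ≤ normalizer (L : Set ↥(centralizer ({a * b} : Set G))))
    (hQ : ∀ y ∈ A.subgroupOf (centralizer ({a * b} : Set G)), y * y = ⟨a * b, h.A_le_z h.prA.mem⟩ → y ∈ L) :
    ∃ g : G, In2 (a * b) e g (L.map (centralizer ({a * b} : Set G)).subtype) A := by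
  obtain ⟨g, hgN, hgg, hgz, hgA, hgB⟩ := h.root
  have hgC : g ∈ centralizer ({a * b} : Set G) := mem_centralizer_singleton_iff.2 hgz
  -- `Q ≤ L`
  have hQ' : ∀ (y : G) (hy : y ∈ A), y * y = a * b → (⟨y, h.A_le_z hy⟩ : ↥(centralizer ({a * b} : Set G))) ∈ L :=
    fun y hy hyy => hQ ⟨y, h.A_le_z hy⟩ hy (Subtype.ext hyy)
  obtain ⟨i, j, d, hs⟩ := h.prA.sl
  have hiL := hQ' i hs.hi hs.q.i2
  have hjL := hQ' j hs.hj hs.q.j2
  -- `L^g = L`
  have hgL : cj (⟨g, hgC⟩ : ↥(centralizer ({a * b} : Set G))) L = L := by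
    by_contra hne
    have h1 : (⟨i, h.A_le_z hs.hi⟩ : ↥(centralizer ({a * b} : Set G))) ∈ cj ⟨g, hgC⟩ L := by
      rw [Cit.mem_cj]
      have h2 : g⁻¹ * i * g ∈ A := by
        rw [← Cit.mem_cj, hgA]; exact hs.hi
      have h3 : (g⁻¹ * i * g) * (g⁻¹ * i * g) = a * b := by
        calc (g⁻¹ * i * g) * (g⁻¹ * i * g) = g⁻¹ * (i * i) * g := by group
          _ = g⁻¹ * (g * (a * b)) := by rw [hs.q.i2, mul_assoc, hgz]
          _ = a * b := by group
      exact hQ' _ h2 h3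
    have h2 := Cit.Comp.comm_of_ne (Cit.Comp.isComponent_cj hL _) hL hne h1 hjL
    exact hs.q.not_comm (congrArg Subtype.val h2)
  -- `a ∈ L C(L)`
  have hinn : ∃ l ∈ L.map (centralizer ({a * b} : Set G)).subtype,
      ∃ c ∈ centralizer ((L.map (centralizer ({a * b} : Set G)).subtype : Subgroup G) : Set G), g * g * e = l * c := by
    obtain ⟨p, hp, q, hq, hpp, hqq, hpq⟩ := h.a_eq
    obtain ⟨s, hsN, hss, hse, hsz, hsA, hsB⟩ := h.swap
    have hsC : s ∈ centralizer ({a * b} : Set G) := mem_centralizer_singleton_iff.2 hsz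
    have hga : g * g * e = p * q := by rw [hgg, mul_assoc, h.ee, mul_one, hpq]
    have hqs : (⟨q, h.B_le_z hq⟩ : ↥(centralizer ({a * b} : Set G))) ∈ cj ⟨s, hsC⟩ L := by
      rw [Cit.mem_cj]
      have h2 : s⁻¹ * q * s ∈ A := by
        rw [← Cit.mem_cj, hsA]; exact hq
      have h3 : (s⁻¹ * q * s) * (s⁻¹ * q * s) = a * b := by
        calc (s⁻¹ * q * s) * (s⁻¹ * q * s) = s⁻¹ * (q * q) * s := by group
          _ = s⁻¹ * (s * (a * b)) := by rw [hqq, mul_assoc, hsz]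
          _ = a * b := by group
      exact hQ' _ h2 h3
    by_cases hsL : cj (⟨s, hsC⟩ : ↥(centralizer ({a * b} : Set G))) L = L
    · rw [hsL] at hqs
      exact ⟨p * q, ⟨_, mul_mem (hQ' p hp hpp) hqs, rfl⟩, 1, one_mem _, by rw [hga, mul_one]⟩
    · refine ⟨p, ⟨_, hQ' p hp hpp, rfl⟩, q, ?_, hga⟩
      rw [mem_centralizer_iff]
      rintro _ ⟨l, hl, rfl⟩
      exact congrArg Subtype.val (Cit.Comp.comm_of_ne hL (Cit.Comp.isComponent_cj hL _) (Ne.symm hsL) hl hqs)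
  refine ⟨g, ?_⟩
  exact
    { z2 := h.z_ord
      w2 := orderOf_eq_prime (by rw [pow_two]; exact h.ee) (e_ne h)
      zw := (mem_centralizer_singleton_iff.1 (e_mem h)).symm
      comp := comp_map hL
      pr := h.prA
      sn := h.snA_e
      core := core_inf hT h hO
      wL := by rw [cj_map ⟨e, e_mem h⟩, hwL]
      JL := by
        intro x hx
        rw [Cit.mem_normalizer_iff_cj]
        have h1 := Cit.mem_normalizer_iff_cj.1 (hJL (show (⟨x, h.A_le_z hx⟩ : ↥(centralizer ({a * b} : Set G))) ∈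
          A.subgroupOf (centralizer ({a * b} : Set G)) from hx))
        rw [cj_map ⟨x, h.A_le_z hx⟩, h1]
      Q := fun y hy hyy => ⟨_, hQ' y hy hyy, rfl⟩
      gz := hgz
      gJ := hgA
      gL := by rw [cj_map ⟨g, hgC⟩, hgL]
      g4 := by
        rw [hgg]
        calc a * e * (a * e) = a * (e * a) * e := by group
          _ = (a * a) * (e * e) := by rw [← h.ae]; group
          _ = 1 := by rw [h.aa, h.ee, one_mul]
      inn := hinn }

theorem hRA (T : TypeHyps.{u}) (O : OneHyps.{u}) (C : Ctx G) (hT : TStmt.{u}) (h : Cfg N a b e A B) :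
    ∀ x ∈ A, x * x = a * b → x ∈ PP (a * b) := by
  have := C.fin
  have hzo : orderOf (a * b) = 2 := h.z_ord
  have heo : orderOf e = 2 := orderOf_eq_prime (by rw [pow_two]; exact h.ee) (e_ne h)
  have hpr := h.prA.subgroupOf h.A_le_z
  have hsn : Sn (A.subgroupOf (centralizer ({a * b} : Set G)))
      (centralizer ({(⟨e, e_mem h⟩ : ↥(centralizer ({a * b} : Set G)))} : Set ↥(centralizer ({a * b} : Set G)))) := by
    rw [← comap_cent]
    exact h.snA_e.comap _
  have hO : pPrimeCore 2 ↥(centralizer ({a * b} : Set G)) = ⊥ := core_of_ctx C hzo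
  have hOw := core_bot hT h (core_of_ctx C heo)
  have hee : (⟨e, e_mem h⟩ : ↥(centralizer ({a * b} : Set G))) * ⟨e, e_mem h⟩ = 1 := Subtype.ext h.ee
  have hzc : ∀ x : ↥(centralizer ({a * b} : Set G)), (⟨a * b, h.A_le_z h.prA.mem⟩ : ↥(centralizer ({a * b} : Set G))) * x =
      x * ⟨a * b, h.A_le_z h.prA.mem⟩ := fun x => Subtype.ext (mem_centralizer_singleton_iff.1 x.2).symm
  rcases StepOne.main hO hee hOw hpr hsn with h1 | ⟨L, hL, hwL, hJL, hQ⟩ | ⟨L, hL, hwL, hJL, hne, hP, hcen⟩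
  · intro x hx hxx
    exact (mem_PP (h.A_le_z hx)).2 (h1 ⟨x, h.A_le_z hx⟩ hx (Subtype.ext hxx))
  · exfalso
    obtain ⟨g, hg⟩ := exists_in2 hT h (core_of_ctx C heo) hL hwL hJL hQ
    exact hg.false T O C
  · exfalso
    have h3 : StepOne.Out3 L (A.subgroupOf (centralizer ({a * b} : Set G))) ⟨e, e_mem h⟩
        ⟨a * b, h.A_le_z h.prA.mem⟩ := ⟨hL, hwL, hJL, hne, hP, hcen⟩
    have hc : Comp (a * b) (L.map (centralizer ({a * b} : Set G)).subtype) := comp_map hL
    have hc' : CompOf (a * b) (L.map (centralizer ({a * b} : Set G)).subtype) := NI.Final.compOf_of_comp hc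
    have e1 : ↥L ≃* ↥(L.map (centralizer ({a * b} : Set G)).subtype) :=
      L.equivMapOfInjective _ (subtype_injective _)
    have hZ : IsPGroup 2 ↥(center ↥L) := by
      have h4 := Soft.CompOf.center_isPGroup (C.bal (a * b) hzo) hc'
      exact h4.of_equiv (Subgroup.centerCongr e1).symm
    have h5 := h3.not_outNil hpr hsn.1 (fun x _ => hzc x) hZ
    have h6 := h3.not_noFix hee hpr hsn.1
    have h7 := h3.unb O.p1311 hee hpr hsn.1 hZ
    exact types_out T O C hzo hc (fun h8 => h5 (h8.of_equiv e1.symm)) (fun h8 => h6 (h8.of_equiv e1.symm))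
      (h7.congr (NI3.Final.quoCongr e1))

/-- **STEP (1)**: `O₂(A), O₂(B) ≤ O₂(C(z))`. -/
theorem hR (T : TypeHyps.{u}) (O : OneHyps.{u}) (C : Ctx G) (hT : TStmt.{u}) (h : Cfg N a b e A B) :
    (∀ x ∈ A, x * x = a * b → x ∈ PP (a * b)) ∧ (∀ x ∈ B, x * x = a * b → x ∈ PP (a * b)) := by
  have h1 := hRA T O C hT h
  refine ⟨h1, ?_⟩
  intro x hx hxx
  obtain ⟨s, hsN, hss, hse, hsz, hsA, hsB⟩ := h.swap
  have hsC : s ∈ centralizer ({a * b} : Set G) := mem_centralizer_singleton_iff.2 hsz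
  have h2 : s⁻¹ * x * s ∈ A := by
    rw [← Cit.mem_cj, hsA]; exact hx
  have h3 : (s⁻¹ * x * s) * (s⁻¹ * x * s) = a * b := by
    calc (s⁻¹ * x * s) * (s⁻¹ * x * s) = s⁻¹ * (x * x) * s := by group
      _ = s⁻¹ * (s * (a * b)) := by rw [hxx, mul_assoc, hsz]
      _ = a * b := by group
  have h4 := h1 _ h2 h3
  have h5 := (mem_PP (h.A_le_z h2)).1 h4
  haveI : (pCore 2 ↥(centralizer ({a * b} : Set G))).Normal := Lib.Cores.pCore_normal 2
  have h6 := (inferInstance : (pCore 2 ↥(centralizer ({a * b} : Set G))).Normal).conj_mem _ h5 ⟨s, hsC⟩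
  refine ⟨_, h6, ?_⟩
  show s * (s⁻¹ * x * s) * s⁻¹ = x
  group

end

end Cfsg.Agent.OddHalf.NI3.Bad.StepOneG

end
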