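import Cfsg.Agent.OddHalf.NI3.Step
import Cfsg.Agent.OddHalf.NI.LemmaP
import Cfsg.Agent.OddHalf.NI3.Bad.Basic
import Cfsg.Agent.OddHalf.NI3.Bad.Types
import Cfsg.Agent.KFacts.MulOdd.UThree
import Cfsg.Agent.UGT.End.MEleven
import Cfsg.Agent.OddHalf.NI3.Bad.StepThree
import Cfsg.Agent.OddHalf.NI3.Bad.CovOf
import Cfsg.Agent.OddHalf.NI.Niv

-- merged: Cfsg.Agent.OddHalf.NI3.Bad.CaseA
section

/-!
# Node NI over `F₃`, bad types, step (2)(A) (bb #14136, helper515)

`caseA` : `H` finite, `O(H) = 1`, `z` central, `J₁, J₂ ≅ SL₂(3)` with involution `z`, subnormal in `C(w)`,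
`[J₁, J₂] = 1`, `O₂(J₁) O₂(J₂) ≤ O₂(H)`, `q₁ q₂ ∈ O₂(J₁) O₂(J₂)` an involution with `C(q₁ q₂) ≤ C(w)`. Then `J₁` is
subnormal in `H`.
-/

set_option autoImplicit false
set_option linter.style.haveILetI false
set_option linter.unusedSectionVars false
set_option linter.unusedSimpArgs false

namespace Cfsg.Agent.OddHalf.NI3.Bad

open Subgroup Cfsg Cfsg.Agent.Cit Cfsg.Agent.Cit.SolvTwo Cfsg.Agent.SignalizersComponents
open Cfsg.Agent.Cit.SLThree (Qt Sl)

section

variable {H : Type*} [Group H] {J : Subgroup H} {z i j d : H}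

theorem conj_mem_Q (h : Sl J z i j d) {x g : H} (hg : g ∈ J) (hx : x ∈ closure {i, j}) :
    g * x * g⁻¹ ∈ closure {i, j} := by
  obtain ⟨q, hq, h1⟩ := h.mem_cases hg
  have h2 : d * x * d⁻¹ ∈ closure {i, j} := h.conj_mem hx
  have h3 : d * (d * x * d⁻¹) * d⁻¹ ∈ closure {i, j} := h.conj_mem h2
  rcases h1 with rfl | rfl | rfl
  · exact mul_mem (mul_mem hq hx) (inv_mem hq)
  · have := mul_mem (mul_mem hq h2) (inv_mem hq)
    convert this using 1
    group
  · have := mul_mem (mul_mem hq h3) (inv_mem hq)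
    convert this using 1
    group

/-- the elements of `J` with square `z` -/
theorem mem_Q_of_sq (h : Sl J z i j d) (h3 : T3 J z) {a : H} (ha : a ∈ J) (ha2 : a * a = z) :
    a ∈ closure {i, j} := by
  obtain ⟨g, hg, hga⟩ := h3.conj i h.hi a ha h.q.i2 ha2
  rw [← hga]
  exact conj_mem_Q h hg (Qt.mem_i z i j)

theorem not_comm_pow (h : Sl J z i j d) {m : ℕ} (hm : ¬ 3 ∣ m) : ¬ d ^ m * i = i * d ^ m := by
  intro h1
  have h0 : ¬ d * i = i * d := by
    intro h2
    have h3 : d * i * d⁻¹ = i := by rw [h2]; group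
    rw [h.di] at h3
    exact h.q.not_comm (by rw [h3])
  have h2 : d ^ m = d ^ (m % 3) := by
    conv_lhs => rw [← Nat.div_add_mod m 3, pow_add, pow_mul]
    have : d ^ 3 = 1 := by rw [pow_succ, pow_succ, pow_one]; exact h.d3
    rw [this, one_pow, one_mul]
  have h3 : m % 3 = 1 ∨ m % 3 = 2 := by omega
  rcases h3 with h3 | h3
  · rw [h2, h3, pow_one] at h1
    exact h0 h1
  · rw [h2, h3, pow_two, ← h.d_inv] at h1
    apply h0
    exact (show Commute d⁻¹ i from h1).inv_left.eq.trans (by rw [inv_inv]) |>.symm.symm |> fun h4 => by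
      rw [inv_inv] at h4; exact h4

theorem false_of_comm (h : Sl J z i j d) {g : H} {n e : ℕ} (he : ¬ 3 ∣ e) (h2 : g ^ 2 ^ n = 1) (hgd : g * d = d * g)
    (hi : (d ^ e)⁻¹ * g * i = i * ((d ^ e)⁻¹ * g)) : False := by
  have hc : Commute ((d ^ e)⁻¹) g := ((show Commute g d from hgd).symm.pow_left e).inv_left
  have h3 : ((d ^ e)⁻¹ * g) ^ 2 ^ n * i = i * ((d ^ e)⁻¹ * g) ^ 2 ^ n :=
    (show Commute ((d ^ e)⁻¹ * g) i from hi).pow_left _
  rw [hc.mul_pow, h2, mul_one, inv_pow, ← pow_mul] at h3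
  have h4 : Commute (d ^ (e * 2 ^ n)) i := by
    have := (show Commute (d ^ (e * 2 ^ n))⁻¹ i from h3).inv_left
    rwa [inv_inv] at this
  refine not_comm_pow h ?_ h4.eq
  intro h5
  rcases (Nat.Prime.dvd_mul Nat.prime_three).1 h5 with h6 | h6
  · exact he h6
  · have := Nat.Prime.dvd_of_dvd_pow Nat.prime_three h6
    omega

/-- a 2-element normalising `J ≅ SL₂(3)` and centralising an element of order 3 of `J` centralises `O₂(J)` -/
theorem comm_Q (h : Sl J z i j d) (h3 : T3 J z) {g : H} (hg : g ∈ normalizer (J : Set H)) {n : ℕ}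
    (h2 : g ^ 2 ^ n = 1) (hgz : g * z = z * g) (hgd : g * d = d * g) :
    ∀ x ∈ closure ({i, j} : Set H), g * x = x * g := by
  have key : g * i = i * g ∧ g * j = j * g := by
    set a := g * i * g⁻¹ with ha
    have haJ : a ∈ J := (mem_normalizer_iff.1 hg i).1 h.hi
    have ha2 : a * a = z := by
      calc a * a = g * (i * i) * g⁻¹ := by rw [ha]; group
        _ = (g * z) * g⁻¹ := by rw [h.q.i2]
        _ = z := by rw [hgz]; group
    have hj : g * j * g⁻¹ = d * a * d⁻¹ := by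
      have e1 : g⁻¹ * d = d * g⁻¹ := ((show Commute g d from hgd).inv_left).eq
      have e2 : g⁻¹ * d⁻¹ = d⁻¹ * g⁻¹ := ((show Commute g d from hgd).inv_left.inv_right).eq
      calc g * j * g⁻¹ = g * (d * i * d⁻¹) * g⁻¹ := by rw [h.di]
        _ = (g * d) * i * (d⁻¹ * g⁻¹) := by group
        _ = (d * g) * i * (g⁻¹ * d⁻¹) := by rw [hgd, e2]
        _ = d * a * d⁻¹ := by rw [ha]; group
    have hij : a * (d * a * d⁻¹) = d * (d * a * d⁻¹) * d⁻¹ := by
      have e2 : g⁻¹ * d⁻¹ = d⁻¹ * g⁻¹ := ((show Commute g d from hgd).inv_left.inv_right).eq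
      calc a * (d * a * d⁻¹) = (g * i * g⁻¹) * (g * j * g⁻¹) := by rw [hj]
        _ = g * (i * j) * g⁻¹ := by group
        _ = g * (d * j * d⁻¹) * g⁻¹ := by rw [h.dj]
        _ = (g * d) * j * (d⁻¹ * g⁻¹) := by group
        _ = (d * g) * j * (g⁻¹ * d⁻¹) := by rw [hgd, e2]
        _ = d * (g * j * g⁻¹) * d⁻¹ := by group
        _ = d * (d * a * d⁻¹) * d⁻¹ := by rw [hj]
    have hz := h.q.z1
    have dzi : ∀ x : H, d * (z * x) * d⁻¹ = z * (d * x * d⁻¹) := by
      intro x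
      calc d * (z * x) * d⁻¹ = (d * z) * x * d⁻¹ := by group
        _ = z * (d * x * d⁻¹) := by rw [h.dz]; group
    rcases h.q.mem_cases (mem_Q_of_sq h h3 haJ ha2) with h4 | h4 | h4 | h4 | h4 | h4 | h4 | h4
    · exfalso; rw [h4, one_mul] at ha2; exact hz ha2.symm
    · exfalso; rw [h4, h.q.z2] at ha2; exact hz ha2.symm
    · rw [h4, h.di] at hj
      rw [ha, mul_inv_eq_iff_eq_mul] at h4
      rw [mul_inv_eq_iff_eq_mul] at hj
      exact ⟨h4, hj⟩
    · exfalso
      rw [h4, dzi, h.di, dzi, h.dj] at hij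
      simp only [mul_assoc, one_mul, mul_one, h.q.z2, h.q.zz, h.q.iz, h.q.jz, h.q.izx, h.q.jzx, h.q.i2, h.q.j2, h.q.iix,
        h.q.jjx, h.q.ji, h.q.jix] at hij
      exact hz (mul_right_cancel (b := i * j) (by rw [one_mul]; exact hij.symm))
    · exfalso
      have h5 : (d ^ 1)⁻¹ * g * i = i * ((d ^ 1)⁻¹ * g) := by
        have h6 : g * i = j * g := by rw [ha, mul_inv_eq_iff_eq_mul] at h4; exact h4
        calc (d ^ 1)⁻¹ * g * i = d⁻¹ * (g * i) := by group
          _ = d⁻¹ * ((d * i * d⁻¹) * g) := by rw [h6, h.di]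
          _ = i * ((d ^ 1)⁻¹ * g) := by group
      exact false_of_comm h (by norm_num) h2 hgd h5
    · exfalso
      rw [h4, dzi, h.dj, dzi, h.dij] at hij
      simp only [mul_assoc, one_mul, mul_one, h.q.z2, h.q.zz, h.q.iz, h.q.jz, h.q.izx, h.q.jzx, h.q.i2, h.q.j2, h.q.iix,
        h.q.jjx, h.q.ji, h.q.jix] at hij
      exact hz (mul_right_cancel (b := i) (by rw [one_mul]; exact hij.symm))
    · exfalso
      have h5 : (d ^ 2)⁻¹ * g * i = i * ((d ^ 2)⁻¹ * g) := by
        have h6 : g * i = (i * j) * g := by rw [ha, mul_inv_eq_iff_eq_mul] at h4; exact h4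
        calc (d ^ 2)⁻¹ * g * i = (d ^ 2)⁻¹ * (g * i) := by group
          _ = (d ^ 2)⁻¹ * ((d * (d * i * d⁻¹) * d⁻¹) * g) := by rw [h6, h.di, h.dj]
          _ = i * ((d ^ 2)⁻¹ * g) := by group
      exact false_of_comm h (by norm_num) h2 hgd h5
    · exfalso
      rw [h4, dzi, h.dij, dzi, h.di] at hij
      simp only [mul_assoc, one_mul, mul_one, h.q.z2, h.q.zz, h.q.iz, h.q.jz, h.q.izx, h.q.jzx, h.q.i2, h.q.j2, h.q.iix,
        h.q.jjx, h.q.ji, h.q.jix] at hij
      exact hz (mul_right_cancel (b := j) (by rw [one_mul]; exact hij.symm))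
  intro x hx
  have h4 : closure ({i, j} : Set H) ≤ centralizer ({g} : Set H) := by
    rw [closure_le]
    rintro y (rfl | rfl)
    · exact mem_centralizer_singleton_iff.2 key.1.symm
    · exact mem_centralizer_singleton_iff.2 key.2.symm
  exact (mem_centralizer_singleton_iff.1 (h4 hx)).symm

/-- the elements of order 3 in the coset `O₂(J) d` -/
theorem exists_adj (h : Sl J z i j d) {c : H} (hc : c ∈ closure ({i, j} : Set H))
    (h3 : (c * d) * (c * d) * (c * d) = 1) : ∃ x ∈ closure ({i, j} : Set H), c = x * (d * x⁻¹ * d⁻¹) := by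
  have hz := h.q.z1
  have h4 : c * (d * c * d⁻¹) * (d * (d * c * d⁻¹) * d⁻¹) = 1 := by
    calc c * (d * c * d⁻¹) * (d * (d * c * d⁻¹) * d⁻¹) = (c * d) * (c * d) * (c * d) * (d * d * d)⁻¹ := by group
      _ = 1 := by rw [h3, h.d3]; group
  have dzi : ∀ x : H, d * (z * x) * d⁻¹ = z * (d * x * d⁻¹) := by
    intro x
    calc d * (z * x) * d⁻¹ = (d * z) * x * d⁻¹ := by group
      _ = z * (d * x * d⁻¹) := by rw [h.dz]; group
  have dz : d * z * d⁻¹ = z := by rw [h.dz]; group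
  have hij : (i * j)⁻¹ = z * (i * j) := by
    refine inv_eq_of_mul_eq_one_right ?_
    simp only [mul_assoc, one_mul, mul_one, h.q.z2, h.q.zz, h.q.iz, h.q.jz, h.q.izx, h.q.jzx, h.q.i2, h.q.j2, h.q.iix,
      h.q.jjx, h.q.ji, h.q.jix]
  rcases h.q.mem_cases hc with rfl | h5 | h5 | h5 | h5 | h5 | h5 | h5
  · exact ⟨1, one_mem _, by group⟩
  · exfalso
    subst h5
    rw [dz, dz] at h4
    rw [h.q.z2, one_mul] at h4
    exact hz h4
  · exfalso
    subst h5
    rw [h.di, h.dj] at h4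
    simp only [mul_assoc, one_mul, mul_one, h.q.z2, h.q.zz, h.q.iz, h.q.jz, h.q.izx, h.q.jzx, h.q.i2, h.q.j2, h.q.iix,
      h.q.jjx, h.q.ji, h.q.jix] at h4
    exact hz h4
  · refine ⟨j, Qt.mem_j z i j, ?_⟩
    rw [h5, h.q.j_inv, dzi, h.dj]
    simp only [mul_assoc, one_mul, mul_one, h.q.z2, h.q.zz, h.q.iz, h.q.jz, h.q.izx, h.q.jzx, h.q.i2, h.q.j2, h.q.iix,
      h.q.jjx, h.q.ji, h.q.jix]
  · exfalso
    subst h5
    rw [h.dj, h.dij] at h4
    simp only [mul_assoc, one_mul, mul_one, h.q.z2, h.q.zz, h.q.iz, h.q.jz, h.q.izx, h.q.jzx, h.q.i2, h.q.j2, h.q.iix,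
      h.q.jjx, h.q.ji, h.q.jix] at h4
    exact hz h4
  · refine ⟨i * j, mul_mem (Qt.mem_i z i j) (Qt.mem_j z i j), ?_⟩
    rw [h5, hij, dzi, h.dij]
    simp only [mul_assoc, one_mul, mul_one, h.q.z2, h.q.zz, h.q.iz, h.q.jz, h.q.izx, h.q.jzx, h.q.i2, h.q.j2, h.q.iix,
      h.q.jjx, h.q.ji, h.q.jix]
  · exfalso
    subst h5
    rw [h.dij, h.di] at h4
    simp only [mul_assoc, one_mul, mul_one, h.q.z2, h.q.zz, h.q.iz, h.q.jz, h.q.izx, h.q.jzx, h.q.i2, h.q.j2, h.q.iix,
      h.q.jjx, h.q.ji, h.q.jix] at h4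
    exact hz h4
  · refine ⟨i, Qt.mem_i z i j, ?_⟩
    rw [h5, h.q.i_inv, dzi, h.di]
    simp only [mul_assoc, one_mul, mul_one, h.q.z2, h.q.zz, h.q.iz, h.q.jz, h.q.izx, h.q.jzx, h.q.i2, h.q.j2, h.q.iix,
      h.q.jjx, h.q.ji, h.q.jix]

end

section

variable {H : Type*} [Group H] [Finite H] {J : Subgroup H} {z i j d : H}

/-- an element of the 2-group `X` commuting with `O₂(J)` commutes with the elements of order 3 of `J` -/
theorem comm_of_cent (h3 : T3 J z) {X : Subgroup H} (hX : IsPGroup 2 X) (hn : J ≤ normalizer (X : Set H))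
    (hs : Sn J (J ⊔ X)) (hJz : ∀ a ∈ J, a * z = z * a) {ζ : H} (hζ : ζ ∈ X)
    (hc : ∀ a ∈ J, a * a = z → ζ * a = a * ζ) {v : H} (hv : v ∈ J) (hv3 : v * v * v = 1) : ζ * v = v * ζ := by
  have h1 : ζ⁻¹ * v * ζ ∈ J := by
    refine mem_of_sup hs hX hn ?_ ?_
    · exact mul_mem (mul_mem (inv_mem (mem_sup_right hζ)) (mem_sup_left hv)) (mem_sup_right hζ)
    · have h4 : orderOf (ζ⁻¹ * v * ζ) = orderOf v := by
        have := orderOf_injective (MulAut.conj ζ⁻¹).toMonoidHom (MulAut.conj ζ⁻¹).injective v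
        simpa using this
      rw [h4]; exact odd_of_cube hv3
  set c := ζ⁻¹ * v * ζ * v⁻¹ with hcdef
  have hcJ : c ∈ J := mul_mem h1 (inv_mem hv)
  have h2 : c = 1 ∨ c = z := by
    refine h3.cen c hcJ fun a ha haz => ?_
    have hb : v⁻¹ * a * v ∈ J := mul_mem (mul_mem (inv_mem hv) ha) hv
    have hbz : (v⁻¹ * a * v) * (v⁻¹ * a * v) = z := by
      calc (v⁻¹ * a * v) * (v⁻¹ * a * v) = v⁻¹ * (a * a) * v := by group
        _ = v⁻¹ * (z * v) := by rw [haz]; group
        _ = z := by rw [← hJz v hv]; group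
    have e1 := hc _ hb hbz
    have e2 := hc _ ha haz
    have e3 : ζ * (v⁻¹ * a * v) * ζ⁻¹ = v⁻¹ * a * v := by rw [e1]; group
    have e4 : ζ⁻¹ * a * ζ = a := by
      calc ζ⁻¹ * a * ζ = ζ⁻¹ * (a * ζ) := by group
        _ = ζ⁻¹ * (ζ * a) := by rw [e2]
        _ = a := by group
    rw [← mul_inv_eq_iff_eq_mul]
    calc c * a * c⁻¹ = ζ⁻¹ * v * (ζ * (v⁻¹ * a * v) * ζ⁻¹) * v⁻¹ * ζ := by rw [hcdef]; group
      _ = ζ⁻¹ * a * ζ := by rw [e3]; group
      _ = a := e4
  have h5 : ζ⁻¹ * v * ζ = c * v := by rw [hcdef]; group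
  have h6 : (c * v) * (c * v) * (c * v) = 1 := by
    rw [← h5]
    calc (ζ⁻¹ * v * ζ) * (ζ⁻¹ * v * ζ) * (ζ⁻¹ * v * ζ) = ζ⁻¹ * (v * v * v) * ζ := by group
      _ = 1 := by rw [hv3]; group
  rcases h2 with h2 | h2
  · rw [h2, one_mul] at h5
    calc ζ * v = ζ * (ζ⁻¹ * v * ζ) := by rw [h5]
      _ = v * ζ := by group
  · exfalso
    rw [h2] at h6
    have e5 : (z * v) * (z * v) * (z * v) = z := by
      have e6 := hJz v hv
      calc (z * v) * (z * v) * (z * v) = z * (v * z) * (v * z) * v := by group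
        _ = z * (z * v) * (z * v) * v := by rw [e6]
        _ = (z * z) * (v * z) * v * v := by group
        _ = (z * z) * (z * v) * v * v := by rw [e6]
        _ = z * (v * v * v) := by rw [h3.z_sq]; group
        _ = z := by rw [hv3, mul_one]
    rw [e5] at h6
    exact h3.z_ne h6

/-- an element of the 2-group `PP` normalising `X = PP ∩ C(w)` normalises `J` -/
theorem normalizer_J (hp : IsPr J z) {w : H} {PP : Subgroup H} (hPP : IsPGroup 2 PP)
    (hn : J ≤ normalizer (PP : Set H)) (hw : w ∈ PP) (hs : Sn J (centralizer ({w} : Set H)))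
    (hQ : ∀ a ∈ J, a * a = z → a ∈ PP) (hJz : ∀ a ∈ J, a * z = z * a) {g : H} (hg : g ∈ PP)
    (hgX : g ∈ normalizer ((PP ⊓ centralizer ({w} : Set H) : Subgroup H) : Set H)) {v : H} (hv : v ∈ J)
    (hv3 : v * v * v = 1) :
    g⁻¹ * v * g ∈ J ∧ g⁻¹ * v * g * v⁻¹ ∈ PP ⊓ centralizer ({w} : Set H) := by
  set X : Subgroup H := PP ⊓ centralizer ({w} : Set H) with hX
  have hXp : IsPGroup 2 X := hPP.to_le inf_le_left
  have hJw : ∀ a ∈ J, a * w = w * a := fun a ha => mem_centralizer_singleton_iff.1 (hs.le ha)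
  have hnX : J ≤ normalizer (X : Set H) := by
    refine (le_inf hn ?_).trans inf_normalizer_le_normalizer_inf
    exact hs.le.trans le_normalizer
  have hsX : Sn J (J ⊔ X) := hs.restrict (sup_le hs.le inf_le_right) le_sup_left
  -- `g w g⁻¹` commutes with `X`
  have h1 : g * w * g⁻¹ ∈ X := by
    refine (mem_normalizer_iff.1 hgX w).1 ⟨hw, mem_centralizer_singleton_iff.2 rfl⟩
  have h2 : ∀ x ∈ X, (g * w * g⁻¹) * x = x * (g * w * g⁻¹) := by
    intro x hx
    have h3 : g⁻¹ * x * g ∈ X := by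
      have h4 := (mem_normalizer_iff.1 (inv_mem hgX) x).1 hx
      rwa [inv_inv] at h4
    have h4 : (g⁻¹ * x * g) * w = w * (g⁻¹ * x * g) := mem_centralizer_singleton_iff.1 h3.2
    calc (g * w * g⁻¹) * x = g * (w * (g⁻¹ * x * g)) * g⁻¹ := by group
      _ = g * ((g⁻¹ * x * g) * w) * g⁻¹ := by rw [h4]
      _ = x * (g * w * g⁻¹) := by group
  have h3 : (g * w * g⁻¹) * v = v * (g * w * g⁻¹) := by
    refine comm_of_cent hp.t3 hXp hnX hsX hJz h1 (fun a ha haz => h2 a ⟨hQ a ha haz, ?_⟩) hv hv3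
    exact mem_centralizer_singleton_iff.2 (hJw a ha)
  have h4 : g⁻¹ * v * g * v⁻¹ ∈ X := by
    refine mem_inf.2 ⟨?_, ?_⟩
    · have h5 : v * g * v⁻¹ ∈ PP := (mem_normalizer_iff.1 (hn hv) g).1 hg
      have h6 := mul_mem (inv_mem hg) h5
      convert h6 using 1
      group
    · rw [mem_centralizer_singleton_iff]
      have h5 : (g⁻¹ * v * g) * w = w * (g⁻¹ * v * g) := by
        calc (g⁻¹ * v * g) * w = g⁻¹ * (v * (g * w * g⁻¹)) * g := by group
          _ = g⁻¹ * ((g * w * g⁻¹) * v) * g := by rw [h3]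
          _ = w * (g⁻¹ * v * g) := by group
      have h6 := hJw v⁻¹ (inv_mem hv)
      calc g⁻¹ * v * g * v⁻¹ * w = (g⁻¹ * v * g) * (v⁻¹ * w) := by group
        _ = ((g⁻¹ * v * g) * w) * v⁻¹ := by rw [h6]; group
        _ = w * (g⁻¹ * v * g * v⁻¹) := by rw [h5]; group
  refine ⟨?_, h4⟩
  refine mem_of_sup hsX hXp hnX ?_ ?_
  · have h5 : g⁻¹ * v * g = (g⁻¹ * v * g * v⁻¹) * v := by group
    rw [h5]
    exact mul_mem (mem_sup_right h4) (mem_sup_left hv)
  · have h5 : orderOf (g⁻¹ * v * g) = orderOf v := by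
      have := orderOf_injective (MulAut.conj g⁻¹).toMonoidHom (MulAut.conj g⁻¹).injective v
      simpa using this
    rw [h5]; exact odd_of_cube hv3

theorem mem_normalizer_J (hp : IsPr J z) {w : H} {PP : Subgroup H} (hPP : IsPGroup 2 PP)
    (hn : J ≤ normalizer (PP : Set H)) (hw : w ∈ PP) (hs : Sn J (centralizer ({w} : Set H)))
    (hQ : ∀ a ∈ J, a * a = z → a ∈ PP) (hJz : ∀ a ∈ J, a * z = z * a) {g : H} (hg : g ∈ PP)
    (hgX : g ∈ normalizer ((PP ⊓ centralizer ({w} : Set H) : Subgroup H) : Set H)) :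
    g ∈ normalizer (J : Set H) := by
  have key : ∀ g : H, g ∈ PP → g ∈ normalizer ((PP ⊓ centralizer ({w} : Set H) : Subgroup H) : Set H) →
      ∀ a ∈ J, g⁻¹ * a * g ∈ J := by
    intro g hg hgX
    have h1 : J ≤ J.comap (MulAut.conj g⁻¹).toMonoidHom := by
      refine hp.le_of_cube fun v hv hv3 => ?_
      have h2 := (normalizer_J hp hPP hn hw hs hQ hJz hg hgX hv hv3).1
      show g⁻¹ * v * g⁻¹⁻¹ ∈ J
      rwa [inv_inv]
    intro a ha
    have h2 : g⁻¹ * a * g⁻¹⁻¹ ∈ J := h1 ha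
    rwa [inv_inv] at h2
  rw [mem_normalizer_iff]
  intro a
  constructor
  · intro ha
    have h2 := key g⁻¹ (inv_mem hg) (inv_mem hgX) a ha
    rwa [inv_inv] at h2
  · intro ha
    have h2 := key g hg hgX _ ha
    convert h2 using 1
    group

/-- the adjusting element -/
theorem exists_adjust (hl : Sl J z i j d) {X : Subgroup H} (hX : IsPGroup 2 X) (hQX : closure {i, j} ≤ X)
    {g : H} (h1 : g⁻¹ * d * g ∈ J) (h2 : g⁻¹ * d * g * d⁻¹ ∈ X) :
    ∃ x ∈ closure ({i, j} : Set H), (g * x) * d = d * (g * x) := by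
  have hcJ : g⁻¹ * d * g * d⁻¹ ∈ J := mul_mem h1 (inv_mem hl.hd)
  have hc := hl.mem_Q hcJ hX hQX h2
  obtain ⟨x, hx, h3⟩ := exists_adj hl hc (by
    have e1 : g⁻¹ * d * g * d⁻¹ * d = g⁻¹ * d * g := by group
    rw [e1]
    calc g⁻¹ * d * g * (g⁻¹ * d * g) * (g⁻¹ * d * g) = g⁻¹ * (d * d * d) * g := by group
      _ = 1 := by rw [hl.d3]; group)
  refine ⟨x, hx, ?_⟩
  have h4 : g⁻¹ * d * g = x * (d * x⁻¹) := by
    calc g⁻¹ * d * g = (g⁻¹ * d * g * d⁻¹) * d := by group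
      _ = x * (d * x⁻¹ * d⁻¹) * d := by rw [h3]
      _ = x * (d * x⁻¹) := by group
  calc g * x * d = g * (x * (d * x⁻¹)) * x := by group
    _ = g * (g⁻¹ * d * g) * x := by rw [h4]
    _ = d * (g * x) := by group

/-- a self-normalising subgroup `X` of a 2-group `PP` is `PP` -/
theorem le_of_normalizer_le {PP X : Subgroup H} (hPP : IsPGroup 2 PP)
    (h : ∀ g ∈ PP, g ∈ normalizer (X : Set H) → g ∈ X) (hX : X ≤ PP) : PP ≤ X := by
  haveI : Fact (Nat.Prime 2) := ⟨Nat.prime_two⟩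
  haveI : Group.IsNilpotent PP := hPP.isNilpotent
  by_contra hcon
  have hlt : X.subgroupOf PP < ⊤ := by
    rw [lt_top_iff_ne_top, Ne, subgroupOf_eq_top]
    exact hcon
  obtain ⟨g, hg, hg'⟩ := SetLike.exists_of_lt (Group.normalizerCondition_of_isNilpotent (G := PP) _ hlt)
  apply hg'
  rw [mem_subgroupOf]
  refine h g g.2 ?_
  rw [mem_normalizer_iff]
  intro x
  constructor
  · intro hx
    have h1 := (mem_normalizer_iff.1 hg ⟨x, hX hx⟩).1 (by rw [mem_subgroupOf]; exact hx)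
    rw [mem_subgroupOf] at h1
    exact h1
  · intro hx
    have hx' : x ∈ PP := by
      have h2 := mul_mem (mul_mem (inv_mem g.2) (hX hx)) g.2
      have h3 : ((g : H)⁻¹ * (g * x * (g : H)⁻¹) * g) = x := by group
      rwa [h3] at h2
    have h1 := (mem_normalizer_iff.1 hg ⟨x, hx'⟩).2 (by rw [mem_subgroupOf]; exact hx)
    rw [mem_subgroupOf] at h1
    exact h1

end

section

variable {H : Type*} [Group H] [Finite H]

/-- `C_P(w) = P` for a 2-subgroup `P ∋ w` containing `O₂(J₁) O₂(J₂)` -/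
theorem comm_of_pp {z w q1 q2 : H} {J1 J2 : Subgroup H} (h1 : IsPr J1 z) (h2 : IsPr J2 z)
    (hz : ∀ g : H, g * z = z * g) (hs1 : Sn J1 (centralizer ({w} : Set H)))
    (hs2 : Sn J2 (centralizer ({w} : Set H))) (hc : J2 ≤ centralizer (J1 : Set H)) {PP : Subgroup H}
    (hPP : IsPGroup 2 PP) (hn1 : J1 ≤ normalizer (PP : Set H)) (hn2 : J2 ≤ normalizer (PP : Set H)) (hw : w ∈ PP)
    (hP1 : ∀ a ∈ J1, a * a = z → a ∈ PP) (hP2 : ∀ a ∈ J2, a * a = z → a ∈ PP)
    (hq1 : q1 ∈ J1) (hq1z : q1 * q1 = z) (hq2 : q2 ∈ J2) (hq2z : q2 * q2 = z)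
    (hA : ∀ c : H, c * (q1 * q2) = (q1 * q2) * c → c * w = w * c) : ∀ g ∈ PP, g * w = w * g := by
  obtain ⟨i1, j1, d1, hl1⟩ := h1.sl
  obtain ⟨i2, j2, d2, hl2⟩ := h2.sl
  set X : Subgroup H := PP ⊓ centralizer ({w} : Set H) with hX
  have hXp : IsPGroup 2 X := hPP.to_le inf_le_left
  have hQ1 : closure ({i1, j1} : Set H) ≤ X := by
    rw [closure_le]
    rintro a (rfl | rfl)
    · exact ⟨hP1 _ hl1.hi hl1.q.i2, hs1.le hl1.hi⟩
    · exact ⟨hP1 _ hl1.hj hl1.q.j2, hs1.le hl1.hj⟩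
  have hQ2 : closure ({i2, j2} : Set H) ≤ X := by
    rw [closure_le]
    rintro a (rfl | rfl)
    · exact ⟨hP2 _ hl2.hi hl2.q.i2, hs2.le hl2.hi⟩
    · exact ⟨hP2 _ hl2.hj hl2.q.j2, hs2.le hl2.hj⟩
  have key : ∀ g ∈ PP, g ∈ normalizer (X : Set H) → g * w = w * g := by
    intro g hg hgX
    -- first adjustment
    obtain ⟨ha, hb⟩ := normalizer_J h1 hPP hn1 hw hs1 hP1 (fun a _ => hz a) hg hgX hl1.hd hl1.d3
    obtain ⟨x1, hx1, hc1⟩ := exists_adjust hl1 hXp hQ1 ha hb
    set g1 := g * x1 with hg1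
    have hg1P : g1 ∈ PP := mul_mem hg (hQ1 hx1).1
    have hg1X : g1 ∈ normalizer (X : Set H) := mul_mem hgX (le_normalizer (hQ1 hx1))
    -- second adjustment
    obtain ⟨ha2, hb2⟩ := normalizer_J h2 hPP hn2 hw hs2 hP2 (fun a _ => hz a) hg1P hg1X hl2.hd hl2.d3
    obtain ⟨x2, hx2, hc2⟩ := exists_adjust hl2 hXp hQ2 ha2 hb2
    set g2 := g1 * x2 with hg2
    have hg2P : g2 ∈ PP := mul_mem hg1P (hQ2 hx2).1
    have hg2X : g2 ∈ normalizer (X : Set H) := mul_mem hg1X (le_normalizer (hQ2 hx2))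
    -- `g2` centralises both quaternion groups
    have hx2J : x2 ∈ J2 := hl2.Qle hx2
    have e1 : ∀ x ∈ closure ({i1, j1} : Set H), g2 * x = x * g2 := by
      have hN := mem_normalizer_J h1 hPP hn1 hw hs1 hP1 (fun a _ => hz a) hg2P hg2X
      obtain ⟨n, hn⟩ := hPP ⟨g2, hg2P⟩
      refine comm_Q hl1 h1.t3 hN (n := n) (by simpa using congrArg Subtype.val hn) (hz g2) ?_
      have e3 : x2 * d1 = d1 * x2 := (mem_centralizer_iff.1 (hc hx2J) d1 hl1.hd).symm
      calc g2 * d1 = g1 * (x2 * d1) := by rw [hg2]; group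
        _ = g1 * (d1 * x2) := by rw [e3]
        _ = (g1 * d1) * x2 := by group
        _ = d1 * g2 := by rw [hc1, hg2]; group
    have e2 : ∀ x ∈ closure ({i2, j2} : Set H), g2 * x = x * g2 := by
      have hN := mem_normalizer_J h2 hPP hn2 hw hs2 hP2 (fun a _ => hz a) hg2P hg2X
      obtain ⟨n, hn⟩ := hPP ⟨g2, hg2P⟩
      exact comm_Q hl2 h2.t3 hN (n := n) (by simpa using congrArg Subtype.val hn) (hz g2) hc2
    have e3 : g2 * (q1 * q2) = (q1 * q2) * g2 := by
      have f1 := e1 q1 (mem_Q_of_sq hl1 h1.t3 hq1 hq1z)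
      have f2 := e2 q2 (mem_Q_of_sq hl2 h2.t3 hq2 hq2z)
      calc g2 * (q1 * q2) = (g2 * q1) * q2 := by group
        _ = q1 * (g2 * q2) := by rw [f1]; group
        _ = (q1 * q2) * g2 := by rw [f2]; group
    have e4 := hA g2 e3
    have e5 : x1 * w = w * x1 := mem_centralizer_singleton_iff.1 (hQ1 hx1).2
    have e6 : x2 * w = w * x2 := mem_centralizer_singleton_iff.1 (hQ2 hx2).2
    have e7 : g = g2 * x2⁻¹ * x1⁻¹ := by rw [hg2, hg1]; group
    have c1 : Commute g2 w := e4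
    have c2 : Commute x1 w := e5
    have c3 : Commute x2 w := e6
    rw [e7]
    exact ((c1.mul_left c3.inv_left).mul_left c2.inv_left).eq
  have h3 := le_of_normalizer_le hPP (fun g hg hgX => (⟨hg, mem_centralizer_singleton_iff.2 (key g hg hgX)⟩ : g ∈ X))
    inf_le_left
  exact fun g hg => mem_centralizer_singleton_iff.1 (h3 hg).2

/-- an element of order 3 of `J` centralises `Z(P)`, `P = O₂(H) ≤ C(w)`; if `w ∈ P` then `J` is subnormal in `H` -/
theorem subnormal_of_mem {z w : H} {J : Subgroup H} (h : IsPr J z) (hz : ∀ g : H, g * z = z * g)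
    (hs : Sn J (centralizer ({w} : Set H))) (hw : w ∈ pCore 2 H) (hwP : ∀ p ∈ pCore 2 H, p * w = w * p)
    (hP : ∀ a ∈ J, a * a = z → a ∈ pCore 2 H) : J.IsSubnormal := by
  haveI : Fact (Nat.Prime 2) := ⟨Nat.prime_two⟩
  haveI hPn : (pCore 2 H).Normal := Lib.Cores.pCore_normal 2
  have hPp : IsPGroup 2 (pCore 2 H) := Lib.Cores.pCore_isPGroup 2
  set Z : Subgroup H := pCore 2 H ⊓ centralizer (pCore 2 H : Set H) with hZ
  have hZn : Z.Normal := by
    haveI : (centralizer (pCore 2 H : Set H)).Normal := inferInstance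
    infer_instance
  have hPw : pCore 2 H ≤ centralizer ({w} : Set H) := fun p hp => mem_centralizer_singleton_iff.2 (hwP p hp)
  have h1 : J ≤ centralizer (Z : Set H) := by
    refine h.le_of_cube fun v hv hv3 => ?_
    rw [mem_centralizer_iff]
    intro ζ hζ
    refine comm_of_cent h.t3 hPp ?_ (hs.restrict (sup_le hs.le hPw) le_sup_left) (fun a _ => hz a) hζ.1 ?_ hv hv3
    · rw [normalizer_eq_top_iff.2 hPn]; exact le_top
    · intro a ha haz
      exact (mem_centralizer_iff.1 hζ.2 a (hP a ha haz)).symm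
  have h2 : w ∈ Z := by
    refine mem_inf.2 ⟨hw, ?_⟩
    rw [mem_centralizer_iff]
    intro p hp
    exact hwP p hp
  have h3 : centralizer (Z : Set H) ≤ centralizer ({w} : Set H) :=
    centralizer_le (Set.singleton_subset_iff.2 h2)
  have h4 : (centralizer (Z : Set H)).Normal := inferInstance
  exact (hs.restrict h3 h1).isSubnormal h4.isSubnormal

/-- **(2)(A)** -/
theorem caseA (hO : pPrimeCore 2 H = ⊥) {z w q1 q2 : H} {J1 J2 : Subgroup H} (h1 : IsPr J1 z) (h2 : IsPr J2 z)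
    (hz : ∀ g : H, g * z = z * g) (hww : w * w = 1) (hs1 : Sn J1 (centralizer ({w} : Set H)))
    (hs2 : Sn J2 (centralizer ({w} : Set H))) (hc : J2 ≤ centralizer (J1 : Set H))
    (hP1 : ∀ a ∈ J1, a * a = z → a ∈ pCore 2 H) (hP2 : ∀ a ∈ J2, a * a = z → a ∈ pCore 2 H)
    (hq1 : q1 ∈ J1) (hq1z : q1 * q1 = z) (hq2 : q2 ∈ J2) (hq2z : q2 * q2 = z)
    (hA : ∀ c : H, c * (q1 * q2) = (q1 * q2) * c → c * w = w * c) : J1.IsSubnormal := by
  haveI : Fact (Nat.Prime 2) := ⟨Nat.prime_two⟩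
  haveI hPn : (pCore 2 H).Normal := Lib.Cores.pCore_normal 2
  have hPp : IsPGroup 2 (pCore 2 H) := Lib.Cores.pCore_isPGroup 2
  set PP : Subgroup H := pCore 2 H ⊔ zpowers w with hPPdef
  have hPP : IsPGroup 2 PP := by
    refine IsPGroup.to_sup_of_normal_left hPp ?_
    rintro ⟨x, k, rfl⟩
    refine ⟨1, Subtype.ext ?_⟩
    change (w ^ k) ^ (2 ^ 1) = 1
    rw [pow_one, ← zpow_natCast, ← zpow_mul, mul_comm, zpow_mul, zpow_natCast, pow_two, hww, one_zpow]
  have hle : pCore 2 H ≤ PP := le_sup_left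
  have hn : ∀ J : Subgroup H, J ≤ centralizer ({w} : Set H) → J ≤ normalizer (PP : Set H) := by
    intro J hJ g hg
    rw [mem_normalizer_iff_cj, hPPdef]
    have e1 : Cit.cj g (pCore 2 H) = pCore 2 H := by
      rw [← mem_normalizer_iff_cj, normalizer_eq_top_iff.2 hPn]; exact mem_top g
    have e2 : Cit.cj g (zpowers w) = zpowers w := by
      rw [← mem_normalizer_iff_cj]
      refine centralizer_le_normalizer _ ?_
      rw [mem_centralizer_iff]
      rintro _ ⟨n, rfl⟩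
      exact ((show Commute g w from mem_centralizer_singleton_iff.1 (hJ hg)).zpow_right n).eq.symm
    have e3 : Cit.cj g (pCore 2 H ⊔ zpowers w) = Cit.cj g (pCore 2 H) ⊔ Cit.cj g (zpowers w) := Subgroup.map_sup _ _ _
    rw [e3, e1, e2]
  have key := comm_of_pp h1 h2 hz hs1 hs2 hc hPP (hn J1 hs1.le) (hn J2 hs2.le)
    (mem_sup_right (mem_zpowers w)) (fun a ha haz => hle (hP1 a ha haz)) (fun a ha haz => hle (hP2 a ha haz))
    hq1 hq1z hq2 hq2z hA
  -- `w` centralises `F*(H)`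
  have hw1 : w ∈ centralizer (pCore 2 H : Set H) := by
    rw [mem_centralizer_iff]
    intro p hp
    exact key p (hle hp)
  have hw2 : w ∈ pCore 2 H := by
    apply OneComp.centralizer_genFit_le hO
    refine OneComp.mem_centralizer_genFit hO (fun L hL => ?_) hw1
    rw [mem_centralizer_iff]
    intro l hl
    refine hA l ?_
    have e1 : ∀ q ∈ pCore 2 H, l * q = q * l := by
      intro q hq
      have h3 : pCore 2 H ≤ centralizer (L : Set H) := by
        rcases Components.component_le_or_commutator_eq_bot hL hPn.isSubnormal with h4 | h4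
        · exfalso
          haveI : Group.IsNilpotent (pCore 2 H) := hPp.isNilpotent
          have h5 : Group.IsSolvable (pCore 2 H) := inferInstance
          have h6 : Group.IsSolvable L :=
            Group.isSolvable_of_isSolvable_injective (Subgroup.inclusion_injective h4)
          exact Components.quasisimple_not_isSolvable hL.2 h6
        · rw [commutator_eq_bot_iff_le_centralizer] at h4
          rwa [le_centralizer_iff] at h4
      exact mem_centralizer_iff.1 (h3 hq) l hl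
    have f1 := e1 q1 (hP1 q1 hq1 hq1z)
    have f2 := e1 q2 (hP2 q2 hq2 hq2z)
    calc l * (q1 * q2) = (l * q1) * q2 := by group
      _ = q1 * (l * q2) := by rw [f1]; group
      _ = (q1 * q2) * l := by rw [f2]; group
  exact subnormal_of_mem h1 hz hs1 hw2 (fun p hp => key p (hle hp)) hP1

end

end Cfsg.Agent.OddHalf.NI3.Bad

end

-- merged: Cfsg.Agent.OddHalf.NI3.Bad.StepTwo
section

/-!
# Node NI over `F₃`, bad types, step (2) (bb #14136, helper515; (2)(B) = bb #14641)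

`Fr N J₁ J₂ y z w q₁ q₂ s n` : the facts about `N ≅ Ω₆⁻(3)` used in step (2) (`y = -1`, `z = -1₁₂₃₄`, `w = -1₅₆`,
`J₁ J₂ = Ω(1234)`, `q₁ q₂ = -1₁₂`).
`stepTwo` : `N` a component of `C(y)`, `J₁` subnormal in `C(w)`, `O₂(J₁) O₂(J₂) ≤ O₂(C(z))`. Then `J₁` is subnormal in
`C(z)`.
-/

set_option autoImplicit false
set_option linter.style.haveILetI false
set_option linter.unusedSectionVars false

namespace Cfsg.Agent.OddHalf.NI3.Bad

open Subgroup Cfsg Cfsg.Agent.Cit Cfsg.Agent.Cit.SolvTwo Cfsg.Agent.SignalizersComponents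
open Cfsg.Agent.OddHalf.D3 (Comp FT BL)
open Cfsg.Agent.OddHalf.NI (CompIn Dg pump2)

universe u

/-- the facts about `N ≅ Ω₆⁻(3)` used in step (2) -/
structure Fr {G : Type*} [Group G] (N J1 J2 : Subgroup G) (y z w q1 q2 s n : G) : Prop where
  p1 : IsPr J1 z
  le1 : J1 ≤ N
  comm : J2 ≤ centralizer (J1 : Set G)
  yN : y ∈ N
  yc : ∀ a ∈ N, a * y = y * a
  yo : orderOf y = 2
  wo : orderOf w = 2
  wN : w ∈ N
  yzw : y = z * w
  sn1 : Sn J1 (N ⊓ centralizer ({z} : Set G))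
  nor : ∀ g ∈ N, g * z = z * g → ∀ a ∈ J1 ⊔ J2, g * a * g⁻¹ ∈ J1 ⊔ J2
  cen : ∀ g ∈ N, (∀ a ∈ J1, g * a = a * g) → (∀ a ∈ J2, g * a = a * g) → g = 1 ∨ g = z ∨ g = y ∨ g = w
  hq1 : q1 ∈ J1
  q1z : q1 * q1 = z
  hq2 : q2 ∈ J2
  q2z : q2 * q2 = z
  sN : s ∈ N
  sw : s * w = w * s
  sJ : Cit.cj s J1 = J2
  nN : n ∈ N
  nw : n * w * n⁻¹ = q1 * q2

namespace Fr

variable {G : Type*} [Group G] {N J1 J2 : Subgroup G} {y z w q1 q2 s n : G}

theorem zz (h : Fr N J1 J2 y z w q1 q2 s n) : z * z = 1 := h.p1.t3.z_sq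

theorem ww (h : Fr N J1 J2 y z w q1 q2 s n) : w * w = 1 := by
  rw [← pow_two, ← h.wo, pow_orderOf_eq_one]

theorem yy (h : Fr N J1 J2 y z w q1 q2 s n) : y * y = 1 := by
  rw [← pow_two, ← h.yo, pow_orderOf_eq_one]

theorem zN (h : Fr N J1 J2 y z w q1 q2 s n) : z ∈ N := h.le1 h.p1.mem

theorem le2 (h : Fr N J1 J2 y z w q1 q2 s n) : J2 ≤ N := by
  rw [← h.sJ]
  rintro _ ⟨a, ha, rfl⟩
  exact mul_mem (mul_mem h.sN (h.le1 ha)) (inv_mem h.sN)

theorem zw (h : Fr N J1 J2 y z w q1 q2 s n) : z * w = w * z := by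
  have h1 := h.yc z h.zN
  rw [h.yzw] at h1
  calc z * w = z * z * (z * w) := by rw [h.zz, one_mul]
    _ = z * (z * (z * w)) := by group
    _ = z * (z * w * z) := by rw [h1]
    _ = (z * z) * (w * z) := by group
    _ = w * z := by rw [h.zz, one_mul]

theorem w_eq (h : Fr N J1 J2 y z w q1 q2 s n) : w = z * y := by
  rw [h.yzw, ← mul_assoc, h.zz, one_mul]

theorem z_eq (h : Fr N J1 J2 y z w q1 q2 s n) : z = y * w := by
  rw [h.yzw, mul_assoc, h.ww, mul_one]

theorem sz (h : Fr N J1 J2 y z w q1 q2 s n) : s * z * s⁻¹ = z := by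
  have h1 := h.yc s h.sN
  have h2 : s * z = z * s := by
    rw [h.z_eq]
    calc s * (y * w) = (s * y) * w := by group
      _ = y * (s * w) := by rw [h1]; group
      _ = y * w * s := by rw [h.sw]; group
  rw [h2]; group

theorem p2 (h : Fr N J1 J2 y z w q1 q2 s n) : IsPr J2 z := by
  have h1 := h.p1.cj s
  rwa [h.sJ, h.sz] at h1

/-- elements commuting with `z` and `w` commute with `y` -/
theorem y_of (h : Fr N J1 J2 y z w q1 q2 s n) {g : G} (hz : g * z = z * g) (hw : g * w = w * g) : g * y = y * g := by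
  rw [h.yzw]
  exact ((show Commute g z from hz).mul_right (show Commute g w from hw)).eq

theorem w_of (h : Fr N J1 J2 y z w q1 q2 s n) {g : G} (hz : g * z = z * g) (hy : g * y = y * g) : g * w = w * g := by
  rw [h.w_eq]
  exact ((show Commute g z from hz).mul_right (show Commute g y from hy)).eq

theorem z_of (h : Fr N J1 J2 y z w q1 q2 s n) {g : G} (hw : g * w = w * g) (hy : g * y = y * g) : g * z = z * g := by
  rw [h.z_eq]
  exact ((show Commute g y from hy).mul_right (show Commute g w from hw)).eq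

theorem J1z (h : Fr N J1 J2 y z w q1 q2 s n) {a : G} (ha : a ∈ J1) : a * z = z * a := h.p1.comm_z ha

theorem J2z (h : Fr N J1 J2 y z w q1 q2 s n) {a : G} (ha : a ∈ J2) : a * z = z * a := h.p2.comm_z ha

theorem J1w (h : Fr N J1 J2 y z w q1 q2 s n) {a : G} (ha : a ∈ J1) : a * w = w * a :=
  h.w_of (h.J1z ha) (h.yc a (h.le1 ha))

theorem J2w (h : Fr N J1 J2 y z w q1 q2 s n) {a : G} (ha : a ∈ J2) : a * w = w * a :=
  h.w_of (h.J2z ha) (h.yc a (h.le2 ha))

theorem cen_eq (h : Fr N J1 J2 y z w q1 q2 s n) :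
    centralizer ({y} : Set G) ⊓ centralizer ({z} : Set G) =
      centralizer ({w} : Set G) ⊓ centralizer ({z} : Set G) := by
  ext g
  simp only [mem_inf, mem_centralizer_singleton_iff]
  exact ⟨fun hg => ⟨h.w_of hg.2 hg.1, hg.2⟩, fun hg => ⟨h.y_of hg.2 hg.1, hg.2⟩⟩

/-- `q₁ q₂ ≠ w` -/
theorem ne_w (h : Fr N J1 J2 y z w q1 q2 s n) : q1 * q2 ≠ w := by
  intro h1
  obtain ⟨a, ha, b, hb, haz, hbz, hab⟩ := h.p1.t3.ex4
  -- some element of order 4 of `J1` does not commute with `q1`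
  have h2 : ∃ c ∈ J1, c * q1 ≠ q1 * c := by
    by_contra hcon
    push Not at hcon
    obtain ⟨g, hg, hga⟩ := h.p1.t3.conj q1 h.hq1 a ha h.q1z haz
    apply hab
    have h3 := hcon (g⁻¹ * b * g) (mul_mem (mul_mem (inv_mem hg) hb) hg)
    rw [← hga]
    calc g * q1 * g⁻¹ * b = g * (q1 * (g⁻¹ * b * g)) * g⁻¹ := by group
      _ = g * ((g⁻¹ * b * g) * q1) * g⁻¹ := by rw [h3]
      _ = b * (g * q1 * g⁻¹) := by group
  obtain ⟨c, hc, hcq⟩ := h2
  apply hcq
  have h3 : c * q2 = q2 * c := mem_centralizer_iff.1 (h.comm h.hq2) c hc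
  have h4 := h.J1w hc
  rw [← h1] at h4
  have h5 : c * q1 * q2 = q1 * c * q2 := by
    calc c * q1 * q2 = c * (q1 * q2) := by group
      _ = q1 * (q2 * c) := by rw [h4]; group
      _ = q1 * c * q2 := by rw [← h3]; group
  exact mul_right_cancel h5

/-- `n z n⁻¹ = y q₁ q₂` -/
theorem nz (h : Fr N J1 J2 y z w q1 q2 s n) : n * z * n⁻¹ = y * (q1 * q2) := by
  have h1 : n * y * n⁻¹ = y := by rw [h.yc n h.nN]; group
  calc n * z * n⁻¹ = (n * y * n⁻¹) * (n * w * n⁻¹) := by rw [h.z_eq]; group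
    _ = y * (q1 * q2) := by rw [h1, h.nw]

theorem uu (h : Fr N J1 J2 y z w q1 q2 s n) : (q1 * q2) * (q1 * q2) = 1 := by
  rw [← h.nw]
  calc n * w * n⁻¹ * (n * w * n⁻¹) = n * (w * w) * n⁻¹ := by group
    _ = 1 := by rw [h.ww]; group

theorem uo (h : Fr N J1 J2 y z w q1 q2 s n) : orderOf (q1 * q2) = 2 := by
  rw [← h.nw, ← h.wo]
  have := orderOf_injective (MulAut.conj n).toMonoidHom (MulAut.conj n).injective w
  simpa using this

/-- `w` is not central in `N` -/
theorem w_not_central (h : Fr N J1 J2 y z w q1 q2 s n) : ¬ ∀ a ∈ N, a * w = w * a := by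
  intro h1
  apply h.ne_w
  rw [← h.nw, h1 n h.nN]
  group

end Fr

section

variable {G : Type u} [Group G] [Finite G] {N J1 J2 : Subgroup G} {y z w q1 q2 s n : G}

/-- `J₁` is subnormal in `C(y) ∩ C(z)` -/
theorem Fr.sn_yz (h : Fr N J1 J2 y z w q1 q2 s n) (hN : Comp y N) :
    Sn J1 (centralizer ({y} : Set G) ⊓ centralizer ({z} : Set G)) := by
  refine h.sn1.trans ?_
  exact Sn.inf ⟨hN.le, hN.comp.1⟩ _

theorem Fr.sn_wz (h : Fr N J1 J2 y z w q1 q2 s n) (hN : Comp y N) :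
    Sn J1 (centralizer ({w} : Set G) ⊓ centralizer ({z} : Set G)) := by
  rw [← h.cen_eq]
  exact h.sn_yz hN

/-- `(z, J₁)` is a classical pair of `C(g)`, `g = y` or `w` -/
theorem cl_of {g : G} (p1 : IsPr J1 z) (hg : J1 ≤ centralizer ({g} : Set G))
    (hs : Sn J1 (centralizer ({g} : Set G) ⊓ centralizer ({z} : Set G))) :
    Cl (⟨z, hg p1.mem⟩ : centralizer ({g} : Set G)) (J1.subgroupOf (centralizer ({g} : Set G))) := by
  refine ⟨p1.subgroupOf hg, ?_⟩
  rw [← centralizer_subgroupOf (hg p1.mem)]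
  have h1 : (centralizer ({g} : Set G) ⊓ centralizer ({z} : Set G)).subgroupOf (centralizer ({g} : Set G)) =
      (centralizer ({z} : Set G)).subgroupOf (centralizer ({g} : Set G)) := by
    ext x
    simp only [mem_subgroupOf, mem_inf]
    exact ⟨fun hx => hx.2, fun hx => ⟨x.2, hx⟩⟩
  rw [← h1]
  exact hs.comap _

end

/-! ### Conjugates of a subnormal classical pair -/

section

variable {H : Type u} [Group H] [Finite H]

/-- the piece of a subnormal classical pair `(x, J)` is `J` -/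
theorem pc_eq (hT : TStmt.{u}) (hO : pPrimeCore 2 H = ⊥) {x : H} {J : Subgroup H} (h : Cl x J)
    (hs : J.IsSubnormal) : pc (cls J) J = J := by
  haveI : Fact (Nat.Prime 2) := ⟨Nat.prime_two⟩
  have hOm := h.hyp' hT hO
  have hm : J ∈ cls J := self_mem_cls _
  rcases (h.pieces hT hO).eq_or_quasisimple hOm hm with hD | ⟨-, hDq, hD2⟩
  · exact hD
  exfalso
  set D := pc (cls J) J with hDdef
  have hJD : J ≤ D := le_pc
  have hDc : IsComponent D := by
    refine ⟨?_, hDq⟩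
    have h1 : Sn D (sSup (cls J)) :=
      Sn.of_normal (sSup_le fun K hK => le_sSup (chn_mem hm hK)) (sSup_le_normalizer_pc hm)
    have h2 : (sSup (cls J)).Normal := by
      refine ⟨fun n hn g => ?_⟩
      have h3 : Cit.cj g (sSup (cls J)) ≤ sSup (cls J) := by
        rw [Cit.cj_le_iff]
        refine sSup_le fun K hK => ?_
        rw [← Cit.cj_le_iff]
        exact le_sSup (hOm.conj K hK g)
      exact h3 (conj_mem_cj hn)
    exact h1.isSubnormal h2.isSubnormal
  obtain ⟨a, ha, b, hb, -, -, hab⟩ := h.pr.t3.ex4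
  exact hab (comm_component h.pr hs hDc a ha b (hJD hb))

/-- a subnormal `SL₂(3)` (from a classical pair) commutes with its conjugates with other involutions -/
theorem comm_conj (hT : TStmt.{u}) (hO : pPrimeCore 2 H = ⊥) {x : H} {J : Subgroup H} (h : Cl x J)
    (hs : J.IsSubnormal) {g : H} (hg : g * x * g⁻¹ ≠ x) {a b : H} (ha : a ∈ J) (hb : b ∈ J) :
    a * (g * b * g⁻¹) = (g * b * g⁻¹) * a := by
  have hOm := h.hyp' hT hO
  have hD := pc_eq hT hO h hs
  have hcj : pc (cls J) (Cit.cj g J) = Cit.cj g J := by rw [← cj_pc hOm.conj, hD]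
  have hne : pc (cls J) (Cit.cj g J) ≠ pc (cls J) J := by
    rw [hcj, hD]
    intro he
    have hxg : g * x * g⁻¹ ∈ Cit.cj g J := conj_mem_cj h.pr.mem
    rw [he] at hxg
    apply hg
    have h1 := hOm.uniq J (self_mem_cls _) (g * x * g⁻¹) ?_ ?_
    · rw [← h.zz_eq hT hO] at h1 ⊢
      exact h1
    · exact hxg
    · have := orderOf_injective (MulAut.conj g).toMonoidHom (MulAut.conj g).injective x
      rw [← h.pr.ord, ← this]; rfl
  have h2 := pc_comm (hOm.conj J (self_mem_cls _) g) (self_mem_cls _) hne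
  rw [hcj, hD] at h2
  exact mem_centralizer_iff.1 (h2 (conj_mem_cj hb)) a ha

end

/-! ### The two cases -/

/-- coprime action: `v` of order 3 centralises `A` and `C_N(A) ≤ C(v)` is elementary -/
theorem comm_of_cen {G : Type*} [Group G] {v x : G} {A : Subgroup G} (hvA : ∀ a ∈ A, v * a = a * v)
    (hx : ∀ a ∈ A, x * a * x⁻¹ ∈ A) (h3 : v * v * v = 1)
    (hc : ∀ g : G, (∀ a ∈ A, g * a = a * g) → g = x⁻¹ * (v * x * v⁻¹) → g * g = 1 ∧ v * g = g * v) :
    v * x = x * v := by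
  set ζ := x⁻¹ * (v * x * v⁻¹) with hζ
  have h1 : ∀ a ∈ A, ζ * a = a * ζ := by
    intro a ha
    have e1 : v⁻¹ * a * v = a := by
      calc v⁻¹ * a * v = v⁻¹ * (a * v) := by group
        _ = v⁻¹ * (v * a) := by rw [hvA a ha]
        _ = a := by group
    have e2 : v * (x * a * x⁻¹) * v⁻¹ = x * a * x⁻¹ := by rw [hvA _ (hx a ha)]; group
    rw [← mul_inv_eq_iff_eq_mul]
    calc ζ * a * ζ⁻¹ = x⁻¹ * (v * (x * (v⁻¹ * a * v) * x⁻¹) * v⁻¹) * x := by rw [hζ]; group
      _ = x⁻¹ * (x * a * x⁻¹) * x := by rw [e1, e2]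
      _ = a := by group
  obtain ⟨h2, h4⟩ := hc ζ h1 rfl
  have e1 : v * x * v⁻¹ = x * ζ := by rw [hζ]; group
  have e2 : v * ζ * v⁻¹ = ζ := by rw [h4]; group
  have e3 : v * (v * x * v⁻¹) * v⁻¹ = x := by
    calc v * (v * x * v⁻¹) * v⁻¹ = v * (x * ζ) * v⁻¹ := by rw [e1]
      _ = (v * x * v⁻¹) * (v * ζ * v⁻¹) := by group
      _ = x * (ζ * ζ) := by rw [e1, e2]; group
      _ = x := by rw [h2, mul_one]
  have e4 : x = v * x * v⁻¹ := by
    calc x = (v * v * v) * x * (v * v * v)⁻¹ := by rw [h3]; group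
      _ = v * (v * (v * x * v⁻¹) * v⁻¹) * v⁻¹ := by group
      _ = v * x * v⁻¹ := by rw [e3]
  exact (eq_mul_inv_iff_mul_eq.1 e4).symm

section

variable {G : Type u} [Group G] [Finite G] {N J1 J2 : Subgroup G} {y z w q1 q2 s n : G}

/-- conjugates of `J₁` under `C(w)` -/
theorem Fr.comm_cj (hT : TStmt.{u}) (h : Fr N J1 J2 y z w q1 q2 s n) (hN : Comp y N)
    (hOw : pPrimeCore 2 ↥(centralizer ({w} : Set G)) = ⊥) (hs : Sn J1 (centralizer ({w} : Set G))) {g : G}
    (hgw : g * w = w * g) (hgz : g * z * g⁻¹ ≠ z) {a b : G} (ha : a ∈ J1) (hb : b ∈ J1) :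
    a * (g * b * g⁻¹) = (g * b * g⁻¹) * a := by
  have hcl := cl_of h.p1 hs.le (h.sn_wz hN)
  have h1 := comm_conj hT hOw hcl hs.2 (g := ⟨g, mem_centralizer_singleton_iff.2 hgw⟩)
    (fun he => hgz (congrArg Subtype.val he)) (a := ⟨a, hs.le ha⟩) (b := ⟨b, hs.le hb⟩) ha hb
  exact congrArg Subtype.val h1

/-- (α) -/
theorem Fr.comm_D (hT : TStmt.{u}) (h : Fr N J1 J2 y z w q1 q2 s n) (hN : Comp y N)
    (hOw : pPrimeCore 2 ↥(centralizer ({w} : Set G)) = ⊥) (hs : Sn J1 (centralizer ({w} : Set G))) {c : G}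
    (hcw : c * w = w * c) (hcz : c * z * c⁻¹ ≠ z) {b : G} (hb : b ∈ J1 ∨ b ∈ J2) :
    ∀ a ∈ J1 ⊔ J2, a * (c * b * c⁻¹) = (c * b * c⁻¹) * a := by
  -- the first group
  have h1 : ∀ g : G, g * w = w * g → g * z * g⁻¹ ≠ z → ∀ a ∈ J1, ∀ b : G, b ∈ J1 ∨ b ∈ J2 →
      a * (g * b * g⁻¹) = (g * b * g⁻¹) * a := by
    intro g hgw hgz a ha b hb
    rcases hb with hb | hb
    · exact h.comm_cj hT hN hOw hs hgw hgz ha hb
    · rw [← h.sJ] at hb
      obtain ⟨b', hb', rfl⟩ := hb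
      have h2 : (g * s) * w = w * (g * s) := by
        calc (g * s) * w = g * (s * w) := by group
          _ = (g * w) * s := by rw [h.sw]; group
          _ = w * (g * s) := by rw [hgw]; group
      have h3 : (g * s) * z * (g * s)⁻¹ ≠ z := by
        have e : (g * s) * z * (g * s)⁻¹ = g * (s * z * s⁻¹) * g⁻¹ := by group
        rw [e, h.sz]; exact hgz
      have h4 := h.comm_cj hT hN hOw hs h2 h3 ha hb'
      have e : g * (s * b' * s⁻¹) * g⁻¹ = (g * s) * b' * (g * s)⁻¹ := by group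
      show a * (g * (s * b' * s⁻¹) * g⁻¹) = (g * (s * b' * s⁻¹) * g⁻¹) * a
      rw [e]; exact h4
  have h2 : J1 ⊔ J2 ≤ centralizer ({c * b * c⁻¹} : Set G) := by
    refine sup_le ?_ ?_
    · intro a ha
      exact mem_centralizer_singleton_iff.2 (h1 c hcw hcz a ha b hb)
    · rw [← h.sJ]
      rintro _ ⟨a', ha', rfl⟩
      rw [mem_centralizer_singleton_iff]
      have h3 : (s⁻¹ * c) * w = w * (s⁻¹ * c) := by
        have e : s⁻¹ * w = w * s⁻¹ := ((show Commute s w from h.sw).inv_left).eq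
        calc (s⁻¹ * c) * w = s⁻¹ * (c * w) := by group
          _ = (s⁻¹ * w) * c := by rw [hcw]; group
          _ = w * (s⁻¹ * c) := by rw [e]; group
      have h4 : (s⁻¹ * c) * z * (s⁻¹ * c)⁻¹ ≠ z := by
        intro h5
        apply hcz
        calc c * z * c⁻¹ = s * ((s⁻¹ * c) * z * (s⁻¹ * c)⁻¹) * s⁻¹ := by group
          _ = z := by rw [h5, h.sz]
      have h5 := h1 _ h3 h4 a' ha' b hb
      show (s * a' * s⁻¹) * (c * b * c⁻¹) = (c * b * c⁻¹) * (s * a' * s⁻¹)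
      calc (s * a' * s⁻¹) * (c * b * c⁻¹) = s * (a' * ((s⁻¹ * c) * b * (s⁻¹ * c)⁻¹)) * s⁻¹ := by group
        _ = s * (((s⁻¹ * c) * b * (s⁻¹ * c)⁻¹) * a') * s⁻¹ := by rw [h5]
        _ = (c * b * c⁻¹) * (s * a' * s⁻¹) := by group
  intro a ha
  exact mem_centralizer_singleton_iff.1 (h2 ha)

/-- (β): `(J₁ J₂)^c` centralises `N` -/
theorem Fr.comm_N (hT : TStmt.{u}) (h : Fr N J1 J2 y z w q1 q2 s n) (hN : Comp y N)
    (hZ : IsPGroup 2 ↥(center ↥N))
    (hOw : pPrimeCore 2 ↥(centralizer ({w} : Set G)) = ⊥) (hs : Sn J1 (centralizer ({w} : Set G))) {c : G}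
    (hcw : c * w = w * c) (hcz : c * z * c⁻¹ ≠ z) {b : G} (hb : b ∈ J1 ∨ b ∈ J2) :
    ∀ x ∈ N, (c * b * c⁻¹) * x = x * (c * b * c⁻¹) := by
  -- elements of order 3 first
  have key : ∀ b : G, (b ∈ J1 ∨ b ∈ J2) → b * b * b = 1 → ∀ x ∈ N, (c * b * c⁻¹) * x = x * (c * b * c⁻¹) := by
    intro b hb hb3
    set v := c * b * c⁻¹ with hv
    have hvD : ∀ a ∈ J1 ⊔ J2, a * v = v * a := h.comm_D hT hN hOw hs hcw hcz hb
    have hv3 : v * v * v = 1 := by
      calc v * v * v = c * (b * b * b) * c⁻¹ := by rw [hv]; group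
        _ = 1 := by rw [hb3]; group
    have hvz : v * z = z * v := (hvD z (mem_sup_left h.p1.mem)).symm
    have hbw : b * w = w * b := by
      rcases hb with hb | hb
      · exact h.J1w hb
      · exact h.J2w hb
    have hvw : v * w = w * v := by
      have c1 : Commute c w := hcw
      have c2 : Commute b w := hbw
      exact ((c1.mul_left c2).mul_left c1.inv_left).eq
    have hvy : v * y = y * v := h.y_of hvz hvw
    -- `v` normalises `N`
    have hvN : D3.cj v N = N := by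
      by_contra hne
      have h1 := (hN.conj_of_comm hvy).comm hN hne
      obtain ⟨a, ha, a', ha', -, -, haa⟩ := h.p1.t3.ex4
      have h2 : a ∈ D3.cj v N := by
        refine ⟨a, h.le1 ha, ?_⟩
        show v * a * v⁻¹ = a
        rw [← hvD a (mem_sup_left ha)]; group
      exact haa (mem_centralizer_iff.1 (h1 h2) a' (h.le1 ha')).symm
    have hvn : v ∈ normalizer (N : Set G) := by
      rw [mem_normalizer_iff_cj]; exact hvN
    have hNc : ∀ x ∈ N, v * x * v⁻¹ ∈ N := fun x hx => (mem_normalizer_iff.1 hvn x).1 hx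
    -- the fixed point theorem in `C(y)`
    have hcl := cl_of h.p1 (h.le1.trans hN.le) (h.sn_yz hN)
    have hq : IsQuasisimple (N.subgroupOf (centralizer ({y} : Set G))) := hN.comp.2
    have hZ' : IsPGroup 2 (center ↥(N.subgroupOf (centralizer ({y} : Set G)))) := by
      have e := Subgroup.subgroupOfEquivOfLe hN.le
      exact hZ.of_equiv (Subgroup.centerCongr e).symm
    have h1 := hcl.fix hT hq hZ' (fun a ha => h.le1 ha) (v := ⟨v, mem_centralizer_singleton_iff.2 hvy⟩) ?_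
      (Subtype.ext hv3) ?_
    · intro x hx
      exact congrArg Subtype.val (h1 ⟨x, hN.le hx⟩ hx)
    · rw [mem_normalizer_iff]
      intro k
      exact mem_normalizer_iff.1 hvn k
    · rintro ⟨x, hxy⟩ hxN hxz
      have hxN' : x ∈ N := hxN
      have hxz' : x * z = z * x := congrArg Subtype.val hxz
      refine Subtype.ext (comm_of_cen (A := J1 ⊔ J2) (fun a ha => (hvD a ha).symm) (h.nor x hxN' hxz') hv3 ?_)
      intro g hg hgx
      have hgN : g ∈ N := by rw [hgx]; exact mul_mem (inv_mem hxN') (hNc x hxN')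
      rcases h.cen g hgN (fun a ha => hg a (mem_sup_left ha)) (fun a ha => hg a (mem_sup_right ha)) with
        h4 | h4 | h4 | h4
      · rw [h4]; exact ⟨by simp, by simp⟩
      · rw [h4]; exact ⟨h.zz, hvz⟩
      · rw [h4]; exact ⟨h.yy, hvy⟩
      · rw [h4]; exact ⟨h.ww, hvw⟩
  -- generation
  have gen : ∀ K : Subgroup G, IsPr K z → (∀ b ∈ K, b ∈ J1 ∨ b ∈ J2) → ∀ b ∈ K, ∀ x ∈ N,
      (c * b * c⁻¹) * x = x * (c * b * c⁻¹) := by
    intro K hK hKJ b hb x hx
    have h1 : K ≤ (centralizer ({x} : Set G)).comap (MulAut.conj c).toMonoidHom := by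
      refine hK.le_of_cube fun v hv hv3 => ?_
      show c * v * c⁻¹ ∈ centralizer ({x} : Set G)
      exact mem_centralizer_singleton_iff.2 (key v (hKJ v hv) hv3 x hx)
    exact mem_centralizer_singleton_iff.1 (h1 hb)
  intro x hx
  rcases hb with hb | hb
  · exact gen J1 h.p1 (fun b hb => Or.inl hb) b hb x hx
  · exact gen J2 h.p2 (fun b hb => Or.inr hb) b hb x hx

/-- **(2)(B)**: `C(w) ≤ C(z)` -/
theorem Fr.caseB (hT : TStmt.{u}) (hFT : FT G) (hB : BL G) (h : Fr N J1 J2 y z w q1 q2 s n) (hN : Comp y N)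
    (hZ : IsPGroup 2 ↥(center ↥N))
    (hOw : pPrimeCore 2 ↥(centralizer ({w} : Set G)) = ⊥) (hs : Sn J1 (centralizer ({w} : Set G))) {c : G}
    (hcw : c * w = w * c) : c * z = z * c := by
  by_contra hcon
  have hcz : c * z * c⁻¹ ≠ z := by
    intro h1
    exact hcon (mul_inv_eq_iff_eq_mul.1 h1)
  have hNc : ∀ b : G, (b ∈ J1 ∨ b ∈ J2) → ∀ x ∈ N, (c * b * c⁻¹) * x = x * (c * b * c⁻¹) := fun b hb =>
    h.comm_N hT hN hZ hOw hs hcw hcz hb
  set u := q1 * q2 with hu
  set N' : Subgroup G := D3.cj c⁻¹ N with hN'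
  set y' := c⁻¹ * y * c⁻¹⁻¹ with hy'
  have hNc' : ∀ b : G, (b ∈ J1 ∨ b ∈ J2) → ∀ x ∈ N', b * x = x * b := by
    rintro b hb _ ⟨x, hx, rfl⟩
    have h1 := hNc b hb x hx
    show b * (c⁻¹ * x * c⁻¹⁻¹) = (c⁻¹ * x * c⁻¹⁻¹) * b
    calc b * (c⁻¹ * x * c⁻¹⁻¹) = c⁻¹ * ((c * b * c⁻¹) * x) * c := by group
      _ = c⁻¹ * (x * (c * b * c⁻¹)) * c := by rw [h1]
      _ = (c⁻¹ * x * c⁻¹⁻¹) * b := by group
  have hNu : ∀ x ∈ N', u * x = x * u := by
    intro x hx
    have c1 : Commute q1 x := hNc' q1 (Or.inl h.hq1) x hx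
    have c2 : Commute q2 x := hNc' q2 (Or.inr h.hq2) x hx
    exact (c1.mul_left c2).eq
  have hyN' : y' ∈ N' := ⟨y, h.yN, rfl⟩
  have hcN : Comp y' N' := hN.conj c⁻¹
  have hy'o : orderOf y' = 2 := by
    rw [← h.yo]
    have := orderOf_injective (MulAut.conj c⁻¹).toMonoidHom (MulAut.conj c⁻¹).injective y
    simpa [hy'] using this
  have huy : u * y' = y' * u := hNu y' hyN'
  have hin : CompIn (centralizer ({u} : Set G) ⊓ centralizer ({y'} : Set G)) N' := by
    refine (NI.compIn_of_comp hcN).mono (le_inf ?_ hcN.le) inf_le_right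
    intro x hx
    exact mem_centralizer_singleton_iff.2 (hNu x hx).symm
  obtain ⟨D, hD, hcase⟩ := pump2 hFT hB h.uo hy'o huy hin
  -- `J₅ = J₁^n`
  have hJ5 : Sn (Cit.cj n J1) (centralizer ({u} : Set G)) := by
    have h1 := hs.cj n
    have h2 : Cit.cj n (centralizer ({w} : Set G)) = centralizer ({u} : Set G) := by
      have h3 := D3.cj_centralizer_singleton n w
      rw [h.nw] at h3
      exact h3
    rwa [h2] at h1
  have hp5 : IsPr (Cit.cj n J1) (n * z * n⁻¹) := h.p1.cj n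
  have hcomm : ∀ E : Subgroup G, Comp u E → ∀ e ∈ E, (n * z * n⁻¹) * e = e * (n * z * n⁻¹) := by
    intro E hE e he
    have h1 := comm_component (hp5.subgroupOf hJ5.le) hJ5.2 hE.comp ⟨_, hJ5.le hp5.mem⟩ hp5.mem
      ⟨e, hE.le he⟩ he
    exact congrArg Subtype.val h1
  have hz5 : ∀ x ∈ N', (n * z * n⁻¹) * x = x * (n * z * n⁻¹) := by
    rcases hcase with h1 | h1 | h1
    · intro x hx
      rw [h1] at hx
      exact hcomm D hD x hx
    · intro x hx
      exact hcomm D hD x (h1.1.le hx)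
    · intro x hx
      obtain ⟨d, hd, rfl⟩ := h1.ex x hx
      have h2 := hD.conj_of_comm huy.symm
      have c1 : Commute (n * z * n⁻¹) d := hcomm D hD d hd
      have c2 : Commute (n * z * n⁻¹) (y' * d * y'⁻¹) := hcomm _ h2 _ ⟨d, hd, rfl⟩
      exact (c1.mul_right c2).eq
  -- so `w` centralises `N'`
  have hwN : ∀ x ∈ N', w * x = x * w := by
    intro x hx
    have c1 : Commute (y * u) x := by
      have h1 := hz5 x hx
      rw [h.nz] at h1
      exact h1
    have c2 : Commute u x := hNu x hx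
    have c3 : Commute z x := hNc' z (Or.inl h.p1.mem) x hx
    have c4 : Commute y x := by
      have h1 : y = (y * u) * u⁻¹ := by group
      rw [h1]
      exact c1.mul_left c2.inv_left
    rw [h.w_eq]
    exact (c3.mul_left c4).eq
  apply h.w_not_central
  intro a ha
  have h1 := hwN (c⁻¹ * a * c⁻¹⁻¹) ⟨a, ha, rfl⟩
  have h2 : c * w * c⁻¹ = w := by rw [hcw]; group
  calc a * w = a * (c * w * c⁻¹) := by rw [h2]
    _ = c * ((c⁻¹ * a * c⁻¹⁻¹) * w) * c⁻¹ := by group
    _ = c * (w * (c⁻¹ * a * c⁻¹⁻¹)) * c⁻¹ := by rw [h1]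
    _ = (c * w * c⁻¹) * a := by group
    _ = w * a := by rw [h2]

/-- **STEP (2)** -/
theorem stepTwo (hT : TStmt.{u}) (hFT : FT G) (hB : BL G)
    (hO : ∀ g : G, orderOf g = 2 → pPrimeCore 2 ↥(centralizer ({g} : Set G)) = ⊥)
    (h : Fr N J1 J2 y z w q1 q2 s n) (hN : Comp y N) (hZ : IsPGroup 2 ↥(center ↥N))
    (hs : Sn J1 (centralizer ({w} : Set G)))
    (hR1 : ∀ a ∈ J1, a * a = z →
      a ∈ (pCore 2 ↥(centralizer ({z} : Set G))).map (centralizer ({z} : Set G)).subtype)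
    (hR2 : ∀ a ∈ J2, a * a = z →
      a ∈ (pCore 2 ↥(centralizer ({z} : Set G))).map (centralizer ({z} : Set G)).subtype) :
    Sn J1 (centralizer ({z} : Set G)) := by
  have hcz : ∀ c : G, c * w = w * c → c * z = z * c := fun c hc =>
    h.caseB hT hFT hB hN hZ (hO w h.wo) hs hc
  set H : Subgroup G := centralizer ({z} : Set G) with hH
  have hle : ∀ {a : G}, a * z = z * a → a ∈ H := fun ha => mem_centralizer_singleton_iff.2 ha
  have hJ1H : J1 ≤ H := fun a ha => hle (h.J1z ha)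
  have hJ2H : J2 ≤ H := fun a ha => hle (h.J2z ha)
  have hs' : ∀ J : Subgroup G, J ≤ H → Sn J (centralizer ({w} : Set G)) →
      Sn (J.subgroupOf H) (centralizer ({(⟨w, hle h.zw.symm⟩ : H)} : Set H)) := by
    intro J hJ hJs
    rw [← centralizer_subgroupOf (hle h.zw.symm)]
    exact hJs.comap _
  have hs2 : Sn J2 (centralizer ({w} : Set G)) := by
    have h1 := hs.cj s
    have h2 : Cit.cj s (centralizer ({w} : Set G)) = centralizer ({w} : Set G) := by
      have h3 := D3.cj_centralizer_singleton s w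
      have h4 : s * w * s⁻¹ = w := by rw [h.sw]; group
      rw [h4] at h3
      exact h3
    rwa [h2, h.sJ] at h1
  refine ⟨hJ1H, ?_⟩
  refine caseA (hO z h.p1.ord) (h.p1.subgroupOf hJ1H) (h.p2.subgroupOf hJ2H) ?_ (Subtype.ext h.ww)
    (hs' J1 hJ1H hs) (hs' J2 hJ2H hs2) ?_ ?_ ?_ (q1 := ⟨q1, hJ1H h.hq1⟩) (q2 := ⟨q2, hJ2H h.hq2⟩) h.hq1
    (Subtype.ext h.q1z) h.hq2 (Subtype.ext h.q2z) ?_
  · intro g
    exact Subtype.ext (mem_centralizer_singleton_iff.1 g.2)
  · intro a ha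
    rw [mem_centralizer_iff]
    intro b hb
    exact Subtype.ext (mem_centralizer_iff.1 (h.comm ha) b hb)
  · intro a ha haz
    obtain ⟨a', ha', hae⟩ := hR1 a ha (congrArg Subtype.val haz)
    have h1 : a' = a := Subtype.ext hae
    rwa [← h1]
  · intro a ha haz
    obtain ⟨a', ha', hae⟩ := hR2 a ha (congrArg Subtype.val haz)
    have h1 : a' = a := Subtype.ext hae
    rwa [← h1]
  · intro c hc
    have hc' : (c : G) * (q1 * q2) = (q1 * q2) * c := congrArg Subtype.val hc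
    apply Subtype.ext
    show (c : G) * w = w * c
    have hcz' : (c : G) * z = z * c := mem_centralizer_singleton_iff.1 c.2
    refine h.w_of hcz' ?_
    -- `n⁻¹ c n` commutes with `w`, hence with `z` and `y`
    have h1 : (n⁻¹ * c * n) * w = w * (n⁻¹ * c * n) := by
      have h2 : w = n⁻¹ * (q1 * q2) * n := by rw [← h.nw]; group
      rw [h2]
      calc n⁻¹ * c * n * (n⁻¹ * (q1 * q2) * n) = n⁻¹ * (c * (q1 * q2)) * n := by group
        _ = n⁻¹ * ((q1 * q2) * c) * n := by rw [hc']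
        _ = n⁻¹ * (q1 * q2) * n * (n⁻¹ * c * n) := by group
    have h2 := h.y_of (hcz _ h1) h1
    have h3 : n * y * n⁻¹ = y := by rw [h.yc n h.nN]; group
    calc (c : G) * y = c * (n * y * n⁻¹) := by rw [h3]
      _ = n * ((n⁻¹ * c * n) * y) * n⁻¹ := by group
      _ = n * (y * (n⁻¹ * c * n)) * n⁻¹ := by rw [h2]
      _ = (n * y * n⁻¹) * c := by group
      _ = y * c := by rw [h3]

end

end Cfsg.Agent.OddHalf.NI3.Bad

end

-- merged: Cfsg.Agent.OddHalf.NI3.Bad.StepTwoCfg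
section

/-!
# THEOREM NIB: step (2) for a configuration `Cfg N a b e A B`

* `Sheet.fr` : the facts `Fr` of step (2);
* `Cfg.caseB` : if `A` is subnormal in `C(e)` then `C(e) ≤ C(a b)`;
* `Cfg.stepTwo` : if `A` is subnormal in `C(e)` and `O₂(A) O₂(B) ≤ O₂(C(a b))` then `A` is subnormal in `C(a b)`;
* `Cfg.false_of_sn` : contradiction in `Ctx G`.
-/

set_option autoImplicit false
set_option linter.style.haveILetI false

namespace Cfsg.Agent.OddHalf.NI3.Bad

open Subgroup Cfsg Cfsg.Agent.OddHalf.Iface Cfsg.Agent.OddHalf.LieOddFam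
open Cfsg.Agent.OddHalf.D3 (Comp FT BL)
open Cfsg.Agent.OddHalf.NI (CompIn)
open Cfsg.Agent.Cit (cj TStmt)

universe u

section

variable {G : Type*} [Group G] {N : Subgroup G} {a b e : G} {A B : Subgroup G}

theorem Sheet.e_ne (h : Sheet N a b e A B) : e ≠ 1 := by
  obtain ⟨c, -, -, h2, h3⟩ := h.rot
  intro he
  have hb : b = 1 := by
    have : b = c⁻¹ * (c * b * c⁻¹) * c := by group
    rw [this, h2, he]; group
  have ha : a = 1 := by rw [← h3, he]; group
  exact h.z_ne (by rw [ha, hb, mul_one])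

theorem Sheet.fr (h : Sheet N a b e A B) : ∃ p q s n : G, Fr N A B (a * b * e) (a * b) e p q s n := by
  obtain ⟨p, hp, q, hq, h1, h2, h3⟩ := h.a_eq
  obtain ⟨c, hc, h4, h5, h6⟩ := h.rot
  obtain ⟨s, hs, h7, h8, h9, h10, h11⟩ := h.swap
  refine ⟨p, q, s, c, ?_⟩
  exact
    { p1 := h.prA
      le1 := h.AN
      comm := fun x hx => mem_centralizer_iff.2 fun y hy => h.AB y hy x hx
      yN := h.yN
      yc := h.y_comm
      yo := h.y_ord
      wo := orderOf_eq_prime (by rw [pow_two, h.ee]) h.e_ne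
      wN := h.eN
      yzw := rfl
      sn1 := h.snA
      nor := by
        intro g hg hgz x hx
        have h12 := h.nor g hg hgz
        have h13 : g * x * g⁻¹ ∈ cj g (A ⊔ B) := ⟨x, hx, rfl⟩
        rwa [h12] at h13
      cen := by
        intro g hg hgA hgB
        rcases h.cAB g hg hgA hgB with h1 | h1 | h1 | h1
        · exact Or.inl h1
        · exact Or.inr (Or.inl h1)
        · exact Or.inr (Or.inr (Or.inr h1))
        · exact Or.inr (Or.inr (Or.inl h1))
      hq1 := hp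
      q1z := h1
      hq2 := hq
      q2z := h2
      sN := hs
      sw := h8
      sJ := h10
      nN := hc
      nw := by rw [h6, h3] }

/-- the centre of `N` is a 2-group -/
theorem Sheet.center_two (h : Sheet N a b e A B) : IsPGroup 2 ↥(center ↥N) := by
  rintro ⟨⟨x, hxN⟩, hx⟩
  refine ⟨1, ?_⟩
  have h1 : ∀ g ∈ N, g * x = x * g := by
    intro g hg
    exact congrArg Subtype.val (mem_center_iff.1 hx ⟨g, hg⟩)
  apply Subtype.ext
  apply Subtype.ext
  show x ^ 2 ^ 1 = 1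
  rw [pow_one, pow_two]
  rcases h.cen x hxN h1 with h2 | h2
  · rw [h2, mul_one]
  · rw [h2]; exact h.yy

end

section

variable {G : Type u} [Group G] [Finite G] {N : Subgroup G} {a b e : G} {A B : Subgroup G}

/-- **(2)(B)** -/
theorem Cfg.caseB (hT : TStmt.{u}) (hFT : FT G) (hB : BL G) (h : Cfg N a b e A B)
    (hOe : pPrimeCore 2 ↥(centralizer ({e} : Set G)) = ⊥) (hs : Sn A (centralizer ({e} : Set G))) {c : G}
    (hc : c * e = e * c) : c * (a * b) = a * b * c := by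
  obtain ⟨p, q, s, n, hfr⟩ := h.fr
  exact hfr.caseB hT hFT hB h.comp h.center_two hOe hs hc

/-- **STEP (2)** -/
theorem Cfg.stepTwo (hT : TStmt.{u}) (hFT : FT G) (hB : BL G)
    (hO : ∀ g : G, orderOf g = 2 → pPrimeCore 2 ↥(centralizer ({g} : Set G)) = ⊥)
    (h : Cfg N a b e A B) (hs : Sn A (centralizer ({e} : Set G)))
    (hA : ∀ x ∈ A, x * x = a * b → x ∈ PP (a * b)) (hBB : ∀ x ∈ B, x * x = a * b → x ∈ PP (a * b)) :
    Sn A (centralizer ({a * b} : Set G)) := by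
  obtain ⟨p, q, s, n, hfr⟩ := h.fr
  exact Bad.stepTwo hT hFT hB hO hfr h.comp h.center_two hs hA hBB

end

/-- `O(C(g)) = 1` in `Ctx G` -/
theorem core_of_ctx {G : Type u} [Group G] (C : Ctx G) (g : G) (hg : orderOf g = 2) :
    pPrimeCore 2 ↥(centralizer ({g} : Set G)) = ⊥ := by
  have h1 := C.bal g hg
  rwa [centralizerPPrimeCore, Subgroup.map_eq_bot_iff_of_injective _ (Subgroup.subtype_injective _)] at h1

/-- **STEP (2)**: `A` is not subnormal in `C(e)` -/
theorem Cfg.false_of_sn {G : Type u} [Group G] (C : Ctx G) (hT : TStmt.{u}) (hFT : FT G) (hB : BL G) {N : Subgroup G}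
    {a b e : G} {A B : Subgroup G} (h : Cfg N a b e A B) (hs : Sn A (centralizer ({e} : Set G)))
    (hA : ∀ x ∈ A, x * x = a * b → x ∈ PP (a * b)) (hBB : ∀ x ∈ B, x * x = a * b → x ∈ PP (a * b)) : False := by
  haveI := C.fin
  have h1 := h.stepTwo hT hFT hB (core_of_ctx C) hs hA hBB
  exact Cfg.not_cl C ⟨h.prA, h1⟩

end Cfsg.Agent.OddHalf.NI3.Bad

end

-- merged: Cfsg.Agent.OddHalf.NI3.Bad.RowZero
section

/-!
# NI over `F₃`, THEOREM NIB: `M₁₁`, `L₃(3)`, `U₃(3)` have no two commuting `SL₂(3)` with the same involution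
-/

set_option autoImplicit false
set_option linter.style.haveILetI false

namespace Cfsg.Agent.OddHalf.NI3.Bad

open Subgroup Cfsg Cfsg.Agent.Cit

universe u

section

variable {Y : Type*} [Group Y] [Finite Y] {A B : Subgroup Y} {x : Y}

/-- two commuting `SL₂(3)` with the same involution generate a group of order 288 -/
theorem dvd_card (hA : IsPr A x) (hB : IsPr B x) (hc : B ≤ centralizer (A : Set Y)) : 288 ∣ Nat.card Y := by
  obtain ⟨i, j, d, hl⟩ := hA.sl
  obtain ⟨i', j', d', hl'⟩ := hB.sl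
  let f : ↥A × ↥B →* Y := A.subtype.noncommCoprod B.subtype (fun a b =>
    (mem_centralizer_iff.1 (hc b.2) a a.2 : (a : Y) * b = b * a))
  have hf : ∀ p : ↥A × ↥B, f p = (p.1 : Y) * p.2 := fun p => rfl
  have hxx : x * x = 1 := hA.t3.z_sq
  have hk : ∀ p : ↥A × ↥B, f p = 1 → p = 1 ∨ p = (⟨x, hA.mem⟩, ⟨x, hB.mem⟩) := by
    rintro ⟨⟨p, hp⟩, ⟨q, hq⟩⟩ h1
    rw [hf] at h1
    change p * q = 1 at h1
    have hpq : p = q⁻¹ := eq_inv_of_mul_eq_one_left h1
    have h2 : ∀ y ∈ A, y * y = x → p * y = y * p := by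
      intro y hy _
      have h3 : p ∈ B := by rw [hpq]; exact inv_mem hq
      exact (mem_centralizer_iff.1 (hc h3) y hy).symm
    rcases hA.t3.cen p hp h2 with h3 | h3
    · left
      have h4 : q = 1 := by rw [h3, one_mul] at h1; exact h1
      simp only [h3, h4]
      rfl
    · right
      have h4 : q = x := by
        rw [h3] at h1
        have h5 : x * q = x * x := by rw [h1, hxx]
        exact mul_left_cancel h5
      simp only [h3, h4]
  have hkc : Nat.card f.ker = 2 := by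
    have h1 : f.ker = zpowers (⟨x, hA.mem⟩, ⟨x, hB.mem⟩) := by
      refine le_antisymm ?_ ?_
      · intro p hp
        rcases hk p hp with h2 | h2
        · rw [h2]; exact one_mem _
        · rw [h2]; exact mem_zpowers _
      · rw [zpowers_le, MonoidHom.mem_ker, hf]
        exact hxx
    rw [h1, Nat.card_zpowers]
    refine orderOf_eq_prime ?_ ?_
    · rw [pow_two]
      exact Prod.ext (Subtype.ext hxx) (Subtype.ext hxx)
    · intro h2
      exact hA.t3.z_ne (congrArg (fun p : ↥A × ↥B => ((p.1 : ↥A) : Y)) h2)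
  have h1 := f.ker.card_mul_index
  rw [Subgroup.index_ker, hkc, Nat.card_prod, hl.card, hl'.card] at h1
  have h2 : Nat.card f.range = 288 := by omega
  rw [← h2]
  exact Subgroup.card_subgroup_dvd_card _

/-- a Sylow 2-subgroup with an abelian subgroup of index two does not contain `Q₈ * Q₈` -/
theorem false_of_index_two (hA : IsPr A x) (hB : IsPr B x) (hc : B ≤ centralizer (A : Set Y)) {P T : Subgroup Y}
    (hP : IsPGroup 2 ↥P) (hodd : ¬ 2 ∣ P.index) (hTP : T ≤ P) (hT : T.relIndex P = 2)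
    (hab : ∀ s ∈ T, ∀ t ∈ T, s * t = t * s) : False := by
  haveI : Fact (Nat.Prime 2) := ⟨Nat.prime_two⟩
  obtain ⟨i, j, d, hl⟩ := hA.sl
  obtain ⟨i', j', d', hl'⟩ := hB.sl
  have hcomm : ∀ a ∈ A, ∀ b ∈ B, a * b = b * a := fun a ha b hb => mem_centralizer_iff.1 (hc hb) a ha
  -- the 2-group
  have hS : IsPGroup 2 ↥(closure ({i, j} : Set Y) ⊔ closure ({i', j'} : Set Y)) := by
    refine IsPGroup.to_sup_of_normal_right' hl.q.isPGroup hl'.q.isPGroup ?_
    refine le_trans ?_ (centralizer_le_normalizer _)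
    intro a ha
    rw [mem_centralizer_iff]
    intro b hb
    exact (hcomm a (hl.Qle ha) b (hl'.Qle hb)).symm
  obtain ⟨S, hSle⟩ := hS.exists_le_sylow
  let PS : Sylow 2 Y := hP.toSylow hodd
  obtain ⟨g, hg⟩ := MulAction.exists_smul_eq Y S PS
  have hgP : ∀ s ∈ closure ({i, j} : Set Y) ⊔ closure ({i', j'} : Set Y), g * s * g⁻¹ ∈ P := by
    intro s hs
    have h1 : g * s * g⁻¹ ∈ ((g • S : Sylow 2 Y) : Subgroup Y) := by
      rw [Sylow.coe_subgroup_smul, mem_pointwise_smul_iff_inv_smul_mem]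
      have h2 : (MulAut.conj g)⁻¹ • (g * s * g⁻¹) = s := by
        simp [MulAut.smul_def, mul_assoc]
      rw [h2]
      exact hSle hs
    rw [hg] at h1
    exact h1
  -- membership in `T`
  have hidx : ∀ p ∈ P, ∀ q ∈ P, p ∉ T → q ∉ T → p * q ∈ T := by
    intro p hp q hq hp' hq'
    have h1 := Subgroup.mul_mem_iff_of_index_two (G := ↥P) (H := T.subgroupOf P) hT (a := ⟨p, hp⟩) (b := ⟨q, hq⟩)
    have h2 : (⟨p, hp⟩ * ⟨q, hq⟩ : ↥P) ∈ T.subgroupOf P := h1.2 (by
      rw [mem_subgroupOf, mem_subgroupOf]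
      exact ⟨fun h => absurd h hp', fun h => absurd h hq'⟩)
    exact h2
  set c : Y → Y := fun s => g * s * g⁻¹ with hcdef
  have cm : ∀ s t : Y, c (s * t) = c s * c t := fun s t => by simp only [hcdef]; group
  have ci : Function.Injective c := fun s t h => by
    simpa [hcdef] using h
  have hiS : i ∈ closure ({i, j} : Set Y) ⊔ closure ({i', j'} : Set Y) := mem_sup_left (subset_closure (by simp))
  have hjS : j ∈ closure ({i, j} : Set Y) ⊔ closure ({i', j'} : Set Y) := mem_sup_left (subset_closure (by simp))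
  have hiS' : i' ∈ closure ({i, j} : Set Y) ⊔ closure ({i', j'} : Set Y) := mem_sup_right (subset_closure (by simp))
  have hjS' : j' ∈ closure ({i, j} : Set Y) ⊔ closure ({i', j'} : Set Y) := mem_sup_right (subset_closure (by simp))
  have hnc := hl.q.not_comm
  have hnc' := hl'.q.not_comm
  -- an element of `Q'` outside `T`
  obtain ⟨k', hk'B, hk'P, hk'T⟩ : ∃ k' ∈ B, c k' ∈ P ∧ c k' ∉ T := by
    by_contra hno
    push Not at hno
    have h1 := hno i' hl'.hi (hgP _ hiS')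
    have h2 := hno j' hl'.hj (hgP _ hjS')
    have h3 := hab _ h1 _ h2
    rw [← cm, ← cm] at h3
    exact hnc' (ci h3)
  -- two noncommuting elements `s`, `k` of `Q`, `s` in `T`, `k` not
  obtain ⟨s, k, hsA, hkA, hkP, hsT, hkT, hsk⟩ : ∃ s k : Y, s ∈ A ∧ k ∈ A ∧ c k ∈ P ∧ c s ∈ T ∧ c k ∉ T ∧
      s * k ≠ k * s := by
    by_cases h1 : c i ∈ T
    · by_cases h2 : c j ∈ T
      · exfalso
        have h3 := hab _ h1 _ h2
        rw [← cm, ← cm] at h3
        exact hnc (ci h3)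
      · exact ⟨i, j, hl.hi, hl.hj, hgP _ hjS, h1, h2, hnc⟩
    · by_cases h2 : c j ∈ T
      · exact ⟨j, i, hl.hj, hl.hi, hgP _ hiS, h2, h1, fun h => hnc h.symm⟩
      · refine ⟨i * j, i, mul_mem hl.hi hl.hj, hl.hi, hgP _ hiS, ?_, h1, ?_⟩
        · rw [cm]; exact hidx _ (hgP _ hiS) _ (hgP _ hjS) h1 h2
        · intro h
          apply hnc
          rw [mul_assoc] at h
          exact (mul_left_cancel h).symm
  have h1 : c (k * k') ∈ T := by rw [cm]; exact hidx _ hkP _ hk'P hkT hk'T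
  have h2 := hab _ hsT _ h1
  rw [← cm, ← cm] at h2
  have h3 := ci h2
  apply hsk
  have h4 : s * k * k' = k * s * k' := by
    calc s * k * k' = s * (k * k') := by group
      _ = k * k' * s := h3
      _ = k * (k' * s) := by group
      _ = k * (s * k') := by rw [hcomm s hsA k' hk'B]
      _ = k * s * k' := by group
  exact mul_right_cancel h4

end

/-- from `Y` to a position -/
theorem Pos.pair {D : Type*} [Group D] {x w : D} {A B : Subgroup D} (h : Pos x A B w) :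
    IsPr A x ∧ IsPr B x ∧ B ≤ centralizer (A : Set D) := ⟨h.a.pr, h.b.pr, h.comm⟩

theorem Pos.pair_map {D : Type*} [Group D] {x w : D} {A B : Subgroup D} (h : Pos x A B w) {Y : Type*} [Group Y]
    (f : D →* Y) (hf : f x ≠ 1) :
    IsPr (A.map f) (f x) ∧ IsPr (B.map f) (f x) ∧ B.map f ≤ centralizer ((A.map f : Subgroup Y) : Set Y) := by
  refine ⟨h.a.pr.map f hf, h.b.pr.map f hf, ?_⟩
  rintro _ ⟨b, hb, rfl⟩
  rw [mem_centralizer_iff]
  rintro _ ⟨a, ha, rfl⟩
  rw [← map_mul, ← map_mul, mem_centralizer_iff.1 (h.comm hb) a ha]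

/-- **Row `M₁₁`**, with the centre. -/
theorem rowO_m11' (X : Type u) [Group X] [Finite X] (hq : IsQuasisimple X) (h : Spor.IsoM11 (X ⧸ center X)) :
    RowO X := by
  intro x A B w hp
  have hx : QuotientGroup.mk' (center X) x ≠ 1 := fun h1 => hp.not_center hq ((QuotientGroup.eq_one_iff x).1 h1)
  obtain ⟨h1, h2, h3⟩ := hp.pair_map (QuotientGroup.mk' (center X)) hx
  have h4 := dvd_card h1 h2 h3
  have h11 := UGT.End.MEleven.isM11 h
  rw [h11.2] at h4
  omega

theorem rowO_m11 (X : Type u) [Group X] [Finite X] (h : Spor.IsoM11 X) : RowO X := by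
  intro x A B w hp
  obtain ⟨h1, h2, h3⟩ := hp.pair
  have h4 := dvd_card h1 h2 h3
  have h11 := UGT.End.MEleven.isM11 h
  rw [h11.2] at h4
  omega

theorem rowO_l3 (X : Type u) [Group X] [Finite X] (h : XL3 X) : RowO X := by
  intro x A B w hp
  obtain ⟨F, _, _, hF, ⟨e⟩⟩ := h
  obtain ⟨h1, h2, h3⟩ := hp.pair
  have h4 := dvd_card h1 h2 h3
  rw [Nat.card_congr e.toEquiv] at h4
  have h5 := Cfsg.Agent.S0243.result hF 3 (by omega)
  have h6 : Nat.card (Matrix.ProjectiveSpecialLinearGroup (Fin 3) F) = 5616 := by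
    rw [Fin.prod_univ_three] at h5
    norm_num at h5
    omega
  rw [h6] at h4
  omega

theorem rowO_u3 (X : Type u) [Group X] [Finite X] (h : XU3 X) : RowO X := by
  intro x A B w hp
  obtain ⟨F, _, _, hF, ⟨e⟩⟩ := h
  have hF' : Fintype.card F = 3 ^ 2 := hF
  have hc := Cfsg.Agent.S0279.result (F := F) hF' 3 le_rfl
  have hcb : center (SU 3 F 3) = ⊥ := Subgroup.card_eq_one.1 (hc.trans (by decide))
  let e2 : SU 3 F 3 ≃* PSU 3 F 3 :=
    MulEquiv.ofBijective (QuotientGroup.mk' (center (SU 3 F 3))) ⟨by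
      rw [← MonoidHom.ker_eq_bot_iff, QuotientGroup.ker_mk', hcb], QuotientGroup.mk'_surjective _⟩
  let f : X →* SU 3 F 3 := e2.symm.toMonoidHom.comp e.toMonoidHom
  have hfi : Function.Injective f := e2.symm.injective.comp e.injective
  have hx : f x ≠ 1 := fun h1 => hp.a.pr.t3.z_ne (hfi (by rw [h1, map_one]))
  obtain ⟨h1, h2, h3⟩ := hp.pair_map f hx
  have hcard : Nat.card (KFacts.MulOdd.UThree.PP F 3) = 2 ^ 5 := KFacts.MulOdd.UThree.relindex hF'
  have hle : KFacts.MulOdd.UThree.AA F 3 ≤ KFacts.MulOdd.UThree.PP F 3 := fun g hg => Or.inl hg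
  refine false_of_index_two h1 h2 h3 (P := KFacts.MulOdd.UThree.PP F 3) (T := KFacts.MulOdd.UThree.AA F 3)
    (IsPGroup.of_card hcard) (KFacts.MulOdd.UThree.index_odd hF' (by norm_num)) hle ?_ ?_
  · have h4 := Subgroup.card_mul_index ((KFacts.MulOdd.UThree.AA F 3).subgroupOf (KFacts.MulOdd.UThree.PP F 3))
    rw [Nat.card_congr (Subgroup.subgroupOfEquivOfLe hle).toEquiv, KFacts.MulOdd.UThree.card_AA hF', hcard] at h4
    rw [Subgroup.relIndex]
    omega
  · intro s hs t ht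
    refine KFacts.MulOdd.UThree.ext_diag (mul_mem hs ht) (mul_mem ht hs) ?_ ?_
    · rw [KFacts.MulOdd.UThree.diag_mul_apply hs, KFacts.MulOdd.UThree.diag_mul_apply ht, mul_comm]
    · rw [KFacts.MulOdd.UThree.diag_mul_apply hs, KFacts.MulOdd.UThree.diag_mul_apply ht, mul_comm]

end Cfsg.Agent.OddHalf.NI3.Bad

end

-- merged: Cfsg.Agent.OddHalf.NI3.Bad.Main
section

/-!
# NI over `F₃`: THEOREM NIB

`nib`: no involution `y` lies in a component `2.U₄(3)` of `C(y)`, from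

* `TStmt`, `TypeHyps`, `KD`, `ExSheet`;
* `StepOne`: `R = O₂(A) O₂(B) ≤ O₂(C(z))`;
* `StepD`: the case `D = 2.U₄(3)`.
-/

set_option autoImplicit false
set_option linter.style.haveILetI false

namespace Cfsg.Agent.OddHalf.NI3.Bad

open Subgroup Cfsg Cfsg.Agent.OddHalf.Iface Cfsg.Agent.OddHalf.LieOddFam
open Cfsg.Agent.OddHalf.D3 (Comp FT BL)
open Cfsg.Agent.OddHalf.NI (CompIn)
open Cfsg.Agent.Cit (cj TStmt)
open Cfsg.Agent.OddHalf.NI3.Bad.StepThree (RP In)

universe u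

/-- **Step (1)**: `O₂(A) O₂(B) ≤ O₂(C(z))`. -/
def StepOne : Prop :=
  ∀ (G : Type u) [Group G], Ctx G → ∀ (N : Subgroup G) (a b e : G) (A B : Subgroup G), Cfg N a b e A B → RP a b A B

/-- **Step (3d)**: the case `D = 2.U₄(3)`. -/
def StepD : Prop :=
  ∀ (G : Type u) [Group G], Ctx G → ∀ (N : Subgroup G) (a b e : G) (A B : Subgroup G), Cfg N a b e A B → RP a b A B →
    ∀ (c : G) (D : Subgroup G), c ∈ N → In a b e A B c D → ∀ e' : G, Sheet D b e e' (cj c A) (cj c B) → False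

/-- The input of THEOREM NIB. -/
structure Inputs : Prop where
  ft : ∀ (G : Type u) [Group G], Finite G → FT G
  t : TStmt.{u}
  types : TypeHyps.{u}
  kd : KD.{u}
  ex : ExSheet.{u}
  one : StepOne.{u}
  d : StepD.{u}

/-- The rows of the simple groups in `Small3`. -/
theorem rows_of_small (K : KD.{u}) {D : Type u} [Group D] [Finite D] (h : Small3 D) :
    RowO D ∨ RowA D ∨ RowA' D ∨ RowB D ∨ RowC D := by
  rcases small3_iff.1 h with h | h | h | h | h | h | h | h | h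
  · exact Or.inl (K.l3 D h)
  · exact Or.inl (K.u3 D h)
  · exact Or.inr (Or.inr (Or.inr (Or.inl (K.l4 D h))))
  · exact Or.inr (Or.inl (K.u4 D h))
  · exact Or.inr (Or.inr (Or.inr (Or.inr (K.sp4 D h))))
  · exact Or.inr (Or.inl (K.g2 D h))
  · exact Or.inr (Or.inr (Or.inr (Or.inl (K.o7 D h))))
  · exact Or.inr (Or.inr (Or.inl (K.o8p D h)))
  · exact Or.inr (Or.inr (Or.inr (Or.inl (K.o8m D h))))

section

variable {G : Type u} [Group G] {N : Subgroup G} {a b e : G} {A B : Subgroup G}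

/-- the exchange of `A` and `B` -/
theorem Sheet.symm (h : Sheet N a b e A B) : Sheet N a b e B A := by
  refine { h with AN := h.BN, BN := h.AN, prA := h.prB, prB := h.prA, snA := h.snB, snB := h.snA, AB := ?_, nor := ?_,
                  cAB := ?_, a_eq := ?_, swap := ?_, root := ?_ }
  · intro x hx y hy
    exact (h.AB y hy x hx).symm
  · intro g hg h1
    rw [sup_comm]; exact h.nor g hg h1
  · exact fun g hg h1 h2 => h.cAB g hg h2 h1
  · obtain ⟨p, hp, q, hq, h1, h2, h3⟩ := h.a_eq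
    exact ⟨q, hq, p, hp, h2, h1, by rw [h3, h.AB p hp q hq]⟩
  · obtain ⟨s, hs, h0, h1, h2, h3, h4⟩ := h.swap
    exact ⟨s, hs, h0, h1, h2, h4, h3⟩
  · obtain ⟨g, hg, h1, h2, h3, h4⟩ := h.root
    exact ⟨g, hg, h1, h2, h4, h3⟩

theorem Cfg.symm (h : Cfg N a b e A B) : Cfg N a b e B A where
  toSheet := h.toSheet.symm
  comp := h.comp

theorem Cfg.ee' (h : Cfg N a b e A B) : orderOf e = 2 :=
  orderOf_eq_prime (by rw [pow_two, h.ee]) h.e_ne

/-- **Step (2)** -/
theorem Cfg.not_snA (C : Ctx G) (hFT : FT G) (hT : TStmt.{u}) (h : Cfg N a b e A B) (hR : RP a b A B) :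
    ¬ Sn A (centralizer ({e} : Set G)) := by
  intro hs
  have := C.fin
  exact h.false_of_sn C hT hFT (NI.bl_core hFT C.bal) hs hR.1 hR.2

end

/-- **THEOREM NIB** -/
theorem nib (I : Inputs.{u}) : NIB.{u} := by
  intro G _ C y N hy hN hyN hIs
  have := C.fin
  obtain ⟨a', b', e', A', B', hS⟩ := I.ex ↥N hIs
  have hS' := hS.map N.subtype N.subtype_injective
  rw [← MonoidHom.range_eq_map, Subgroup.range_subtype] at hS'
  set a : G := N.subtype a'
  set b : G := N.subtype b'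
  set e : G := N.subtype e'
  set A : Subgroup G := A'.map N.subtype
  set B : Subgroup G := B'.map N.subtype
  have hye : y = a * b * e := by
    refine (hS'.cen y hyN (fun g hg => ?_)).resolve_left ?_
    · exact mem_centralizer_singleton_iff.1 (hN.le hg)
    · rintro rfl
      rw [orderOf_one] at hy; omega
  have h : Cfg N a b e A B := { hS' with comp := by rw [← hye]; exact hN }
  obtain ⟨c, hc, h1, h2, h3⟩ := h.rot
  have h' := h.rotate hc h1 h2 h3
  have hR := I.one G C N a b e A B h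
  have hR' := I.one G C N b e a _ _ h'
  have hR'' := I.one G C N b e a _ _ h'.symm
  obtain ⟨D, hD, hAD, hBD⟩ := h.exists_D C I.t hc h1 h2 h3 (h'.not_snA C (I.ft G this) I.t hR')
    (h'.symm.not_snA C (I.ft G this) I.t hR'')
  have i : In a b e A B c D := ⟨h1, h2, h3, hD, hAD, hBD⟩
  have ha : orderOf a = 2 := h'.ee'
  have hpos := StepThree.posD h hc i
  rcases types I.types (fun X _ _ hq _ hX => rowO_m11' X hq hX) C ha hD hpos with ⟨-, hs⟩ | hI
  · exact StepThree.false_of_rows C I.t h hR hc i (rows_of_small I.kd hs)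
  · obtain ⟨e1, hS1⟩ := I.kd.twou4 ↥D hI _ _ _ _ hpos
    have hS2 := hS1.map D.subtype D.subtype_injective
    rw [← MonoidHom.range_eq_map, Subgroup.range_subtype] at hS2
    refine I.d G C N a b e A B h hR c D hc i (D.subtype e1) ?_
    have e2 : D.subtype (⟨b, StepThree.b_mem h i⟩ * ⟨b * e, StepThree.be_mem h i⟩) = e := by
      show b * (b * e) = e
      rw [← mul_assoc, h.bb, one_mul]
    rw [e2, map_subgroupOf_eq_of_le hAD, map_subgroupOf_eq_of_le hBD] at hS2
    exact hS2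

/-- **THEOREM NIB**, second form -/
theorem nib' (I : Inputs.{u}) {G : Type u} [Group G] (C : Ctx G) {y : G} {N : Subgroup G} (hy : orderOf y = 2)
    (hN : Comp y N) (hyN : y ∈ N) (h2 : Nat.card ↥(center ↥N) = 2) (hX : XU43 (↥N ⧸ center ↥N)) : False :=
  nib I G C y N hy hN hyN ⟨hN.quasi, h2, hX⟩

end Cfsg.Agent.OddHalf.NI3.Bad

end
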