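import Cfsg.Agent.KFacts.PSpFourThree.Classes
import Cfsg.Agent.Lib.VonDyck
import Cfsg.Agent.OddHalf.NI3.Bad.Trans
import Cfsg.Agent.OddHalf.NI3.SubSL
import Cfsg.Agent.KFacts.PSpFourThree.Main

-- merged: Cfsg.Agent.KFacts.PSpFourThree.AltFour
section

/-!
# `PSp₄(3)`: the subgroup `A₄ = Ω(345)` normal in the centraliser of the involution `π m1 = -1₁₂` (helper931)

`E4`: generated by `π m1 * z = -1₃₄` and an element of order three; `normal_E4`, `iso_E4`.
-/

set_option autoImplicit false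
set_option linter.style.haveILetI false
set_option maxRecDepth 100000

namespace Cfsg.Agent.KFacts.PSpFourThree

open Matrix Subgroup Cfsg
open Cfsg.Agent.Lib.FieldThree (F3)
open Cfsg.Agent.SmallSimple.S1000.Order25920PSp (Mat Sp π π_mul π_one π_eq m1 m2 m3 m4)
open Cfsg.Agent.OddHalf.Small.PSp43 (πh πh_apply comm_or eq_or_of_π_eq T8 exists_t8 m2_mul m21 inv_eq_of_mul
  exists_cnt_one mat_neg_one)

namespace PW

/-- the unit -/
def one : PW := ⟨T8.one, false⟩

/-- the involution `m1 m3` -/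
def aa : PW := ⟨⟨.o, .m, .o, .o, .o, .o, .o, .i⟩, false⟩

/-- `d ^ 2` -/
def d2 : PW := dd.mul dd

/-- the twelve elements -/
def E12 : List PW := [one, dd, d2, aa, aa.mul dd, aa.mul d2, dd.mul aa, dd.mul (aa.mul dd), dd.mul (aa.mul d2),
  d2.mul aa, d2.mul (aa.mul dd), d2.mul (aa.mul d2)]

/-- conjugation of the two generators -/
def cjE (p : PW) : Bool :=
  and (anyG (fun e => (p.mul aa).beqs (e.mul p)) E12) (anyG (fun e => (p.mul dd).beqs (e.mul p)) E12)

theorem cjE_check : ∀ p0 p1 q0 q1 : F3, p0 * p0 + p1 * p1 + q0 * q0 + q1 * q1 = 1 →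
    ∀ r0 r1 s0 s1 : F3, r0 * r0 + r1 * r1 + s0 * s0 + s1 * s1 = 1 →
    p0 * r0 + p1 * r1 + q0 * s0 + q1 * s1 = 0 → p1 * r0 - p0 * r1 + q1 * s0 - q0 * s1 = 0 →
    (cjE ⟨⟨p0, p1, q0, q1, r0, r1, s0, s1⟩, false⟩ && cjE ⟨⟨p0, p1, q0, q1, r0, r1, s0, s1⟩, true⟩) = true := by
  decide +kernel

theorem cjE_spec {p : PW} (h : p.x.Un) : cjE p = true := by
  obtain ⟨⟨p0, p1, q0, q1, r0, r1, s0, s1⟩, s⟩ := p
  obtain ⟨u1, u2, u3, u4⟩ := h
  have h1 := cjE_check p0 p1 q0 q1 u1 r0 r1 s0 s1 u2 u3 u4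
  rw [Bool.and_eq_true] at h1
  cases s
  · exact h1.1
  · exact h1.2

/-- the generator `a` -/
noncomputable def aS : Sp := m1 * m3

theorem aS_rep : Rep aS aa := by
  show ((m1 : Sp) : Mat) * (m3 : Sp) = aa.x.mat * sw false
  rw [sf, mul_one]
  decide +kernel

/-- the subgroup `A₄` -/
noncomputable def E4 : Subgroup (PSp 2 F3) := closure {π aS, π dS}

theorem a_mem : π aS ∈ E4 := subset_closure (Or.inl rfl)
theorem d_mem : π dS ∈ E4 := subset_closure (Or.inr rfl)

/-- represented in `E4` -/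
def In (p : PW) : Prop := ∃ g : Sp, Rep g p ∧ π g ∈ E4

theorem In.mul {p q : PW} (hp : In p) (hq : In q) : In (p.mul q) := by
  obtain ⟨g, hg, hg'⟩ := hp
  obtain ⟨h, hh, hh'⟩ := hq
  exact ⟨g * h, hg.mul hh, mul_mem hg' hh'⟩

theorem one_rep : Rep 1 one := by
  show (1 : Mat) = T8.one.mat * sw false
  rw [sf, mul_one, T8.mat_one]

theorem In.one : In one := ⟨1, one_rep, one_mem _⟩

theorem in_E12 {e : PW} (he : e ∈ E12) : In e := by
  have h1 : In one := In.one
  have hd : In dd := ⟨dS, dS_rep, d_mem⟩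
  have ha : In aa := ⟨aS, aS_rep, a_mem⟩
  have hd2 : In d2 := hd.mul hd
  simp only [E12, List.mem_cons, List.not_mem_nil, or_false] at he
  rcases he with rfl | rfl | rfl | rfl | rfl | rfl | rfl | rfl | rfl | rfl | rfl | rfl
  · exact h1
  · exact hd
  · exact hd2
  · exact ha
  · exact ha.mul hd
  · exact ha.mul hd2
  · exact hd.mul ha
  · exact hd.mul (ha.mul hd)
  · exact hd.mul (ha.mul hd2)
  · exact hd2.mul ha
  · exact hd2.mul (ha.mul hd)
  · exact hd2.mul (ha.mul hd2)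

/-- conjugates -/
theorem conj_mem {g h : Sp} {p q : PW} (hg : Rep g p) (hh : Rep h q)
    (hc : anyG (fun e => (p.mul q).beqs (e.mul p)) E12 = true) : π g * π h * (π g)⁻¹ ∈ E4 := by
  rw [anyG_iff] at hc
  obtain ⟨e, he, h1⟩ := hc
  obtain ⟨f, hf, hfE⟩ := in_E12 he
  have h2 : π (g * h) = π (f * g) := by
    have e1 : ((g * h : Sp) : Mat) = (p.mul q).mat := hg.mul hh
    have e2 : ((f * g : Sp) : Mat) = (e.mul p).mat := hf.mul hg
    unfold beqs at h1
    rw [Bool.or_eq_true, beq_iff, beq_iff] at h1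
    refine π_eq ?_
    rcases h1 with h | h
    · left; rw [e1, e2, h]
    · right; rw [e1, e2, h, mat_neg]
  rw [π_mul, π_mul] at h2
  rw [h2, mul_inv_cancel_right]
  exact hfE

/-- `E4` is normal in `C(π m1)` -/
theorem normal_E4 {g : PSp 2 F3} (hg : g * π m1 = π m1 * g) {e : PSp 2 F3} (he : e ∈ E4) : g * e * g⁻¹ ∈ E4 := by
  obtain ⟨g, rfl⟩ := QuotientGroup.mk_surjective g
  have hg' : π g * π m1 = π m1 * π g := hg
  obtain ⟨p, hu, hr⟩ := exists_rep hg'
  have hc := cjE_spec hu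
  unfold cjE at hc
  rw [Bool.and_eq_true] at hc
  have h1 : E4 ≤ E4.comap (MulAut.conj (π g)).toMonoidHom := by
    unfold E4
    rw [closure_le]
    rintro x (rfl | rfl)
    · exact conj_mem hr aS_rep hc.1
    · exact conj_mem hr dS_rep hc.2
  exact h1 he

theorem aS_comm : π aS * π m1 = π m1 * π aS := by
  rw [← π_mul, ← π_mul]
  refine π_eq (Or.inl ?_)
  show ((m1 : Sp) : Mat) * (m3 : Sp) * (m1 : Sp) = (m1 : Sp) * (((m1 : Sp) : Mat) * (m3 : Sp))
  decide +kernel

theorem E4_le : E4 ≤ centralizer ({π m1} : Set (PSp 2 F3)) := by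
  unfold E4
  rw [closure_le]
  rintro x (rfl | rfl)
  · exact mem_centralizer_singleton_iff.2 aS_comm
  · exact mem_centralizer_singleton_iff.2 dS_comm

theorem Rep.eq_of {g h : Sp} {p q : PW} (hg : Rep g p) (hh : Rep h q) (hb : p.beqs q = true) : π g = π h := by
  have e1 : (g : Mat) = p.mat := hg
  have e2 : (h : Mat) = q.mat := hh
  unfold beqs at hb
  rw [Bool.or_eq_true, beq_iff, beq_iff] at hb
  refine π_eq ?_
  rcases hb with h | h
  · left; rw [e1, e2, h]
  · right; rw [e1, e2, h, mat_neg]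

theorem iso_E4 : Nonempty (↥E4 ≃* ↥(alternatingGroup (Fin 4))) := by
  refine Lib.VonDyck.closure_equiv_alternatingFour ?_ ?_ ?_ ?_
  · rw [pow_two, ← π_mul, ← π_one]
    exact (aS_rep.mul aS_rep).eq_of one_rep (by decide +kernel)
  · rw [pow_succ, pow_two, ← π_mul, ← π_mul, ← π_one]
    exact ((dS_rep.mul dS_rep).mul dS_rep).eq_of one_rep (by decide +kernel)
  · rw [pow_succ, pow_two, ← π_mul, ← π_mul, ← π_mul, ← π_one]
    exact (((aS_rep.mul dS_rep).mul (aS_rep.mul dS_rep)).mul (aS_rep.mul dS_rep)).eq_of one_rep (by decide +kernel)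
  · refine Cfsg.Agent.SmallSimple.S1000.Order25920PSp.π_ne_one ?_
    show ∀ a : F3, ((m1 : Sp) : Mat) * (m3 : Sp) ≠ a • 1
    decide +kernel

end PW

end Cfsg.Agent.KFacts.PSpFourThree

end

-- merged: Cfsg.Agent.OddHalf.NI3.Bad.RowC
section

/-!
# THEOREM NIB, table (KD), `D = PSp₄(3)` (helper931)

`sp4 : XSp4 X → RowC X`.
-/

set_option autoImplicit false
set_option linter.style.haveILetI false
set_option maxRecDepth 100000

namespace Cfsg.Agent.KFacts.PSpFourThree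

open Matrix Subgroup Cfsg
open Cfsg.Agent.Lib.FieldThree (F3)
open Cfsg.Agent.SmallSimple.S1000.Order25920PSp (Mat Sp π π_mul π_one π_eq m1 m2 m3 m4)
open Cfsg.Agent.OddHalf.Small.PSp43 (bm m3_eq J_eq Pm m4_eq)
open Cfsg.Agent.OddHalf.NI3 Cfsg.Agent.OddHalf.NI3.Bad

namespace PE

/-- the diagonal involution -/
def e1 : PE := ⟨q1, q1, false⟩

theorem ok_e1 : e1.Ok := ⟨by decide, by decide⟩

theorem el_e1 : e1.el = π m1 := by
  rw [el_eq ok_e1]
  refine π_eq (Or.inl ?_)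
  show bmm q1 q1 * sw false = m1
  rw [sf, mul_one]
  unfold bmm bm
  decide +kernel

/-- the noncentral involutions of `R` are conjugate to `e1` -/
theorem w_check : allPE (fun p => or (not (and (inR p) (and (isOne (p.mul p)) (and (not (isOne p)) (not (p.beqs zz))))))
    (anyG (fun x => anyG (fun y => (PE.mul ⟨x, y, false⟩ e1).beqs (p.mul ⟨x, y, false⟩)) slL) slL)) = true := by
  decide +kernel

theorem exists_cj {r : PSp 2 F3} (hr : r ∈ R) (h2 : r * r = 1) (h1 : r ≠ 1) (hz : r ≠ z) :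
    ∃ c : PSp 2 F3, c * z = z * c ∧ c * π m1 * c⁻¹ = r := by
  obtain ⟨p, hp, rfl⟩ := exists_el (R_comm hr)
  have h := allPE_spec w_check hp
  rw [Bool.or_eq_true, Bool.not_eq_true'] at h
  rcases h with h | h
  · exfalso
    have e1' : inR p = true := (mem_R hp).1 hr
    have e2 : isOne (p.mul p) = true := by rw [← el_eq_one (hp.mul hp), el_mul hp hp, h2]
    have e3 : isOne p = false := by
      rw [Bool.eq_false_iff]
      intro h3
      exact h1 ((el_eq_one hp).2 h3)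
    have e4 : p.beqs zz = false := by
      rw [Bool.eq_false_iff]
      intro h3
      exact hz (eq_el hp ok_zz h3)
    rw [e1', e2, e3, e4] at h
    exact absurd h (by decide)
  · rw [anyG_iff] at h
    obtain ⟨x, hx, h⟩ := h
    rw [anyG_iff] at h
    obtain ⟨y, hy, h⟩ := h
    have hc : Ok ⟨x, y, false⟩ := ⟨slL_det x hx, slL_det y hy⟩
    refine ⟨(PE.mk x y false).el, z_comm hc, ?_⟩
    have h3 := eq_el (hc.mul ok_e1) (hp.mul hc) h
    rw [el_mul hc ok_e1, el_mul hp hc, el_e1] at h3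
    rw [h3, mul_inv_cancel_right]

theorem m1z_mem : π m1 * z ∈ PW.E4 := by
  have h : π m1 * z = π PW.aS := by
    rw [z, el_zz]; rfl
  rw [h]
  exact PW.a_mem

end PE

open PE (z R)

/-- conjugates of a classical pair at `z` -/
theorem rowC_z {w : PSp 2 F3} (hwR : w ∈ R) (h2 : w * w = 1) (h1 : w ≠ 1) (hz : w ≠ z) :
    ∃ E : Subgroup (PSp 2 F3), Sn E (centralizer ({w} : Set (PSp 2 F3))) ∧ w * z ∈ E ∧
      Nonempty (↥E ≃* ↥(alternatingGroup (Fin 4))) := by
  obtain ⟨c, hcz, hcw⟩ := PE.exists_cj hwR h2 h1 hz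
  refine ⟨PW.E4.map (MulAut.conj c).toMonoidHom, ?_, ?_, ?_⟩
  · have h3 : Sn PW.E4 (centralizer ({π m1} : Set (PSp 2 F3))) := by
      refine Sn.of_normal PW.E4_le ?_
      intro g hg
      rw [mem_centralizer_singleton_iff] at hg
      rw [mem_normalizer_iff]
      intro x
      constructor
      · exact fun hx => PW.normal_E4 hg hx
      · intro hx
        have hg' : g⁻¹ * π m1 = π m1 * g⁻¹ := (show Commute g (π m1) from hg).inv_left.eq
        have h4 := PW.normal_E4 hg' hx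
        have e : g⁻¹ * (g * x * g⁻¹) * g⁻¹⁻¹ = x := by group
        rwa [e] at h4
    have h4 := h3.map (MulAut.conj c).toMonoidHom
    have h5 := cent_mapE (MulAut.conj c) (π m1)
    have h6 : (MulAut.conj c) (π m1) = w := hcw
    rw [h6] at h5
    rw [← h5]
    exact h4
  · refine ⟨π m1 * z, PE.m1z_mem, ?_⟩
    show c * (π m1 * z) * c⁻¹ = w * z
    have h7 : c * z * c⁻¹ = z := by rw [hcz, mul_inv_cancel_right]
    calc c * (π m1 * z) * c⁻¹ = (c * π m1 * c⁻¹) * (c * z * c⁻¹) := by group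
      _ = w * z := by rw [hcw, h7]
  · obtain ⟨f⟩ := PW.iso_E4
    exact ⟨(PW.E4.equivMapOfInjective (MulAut.conj c).toMonoidHom (MulAut.conj c).injective).symm.trans f⟩

/-- the elements of order four of a classical `SL₂(3)` -/
theorem mem_core {D : Type*} [Group D] [Finite D] {x : D} {A : Subgroup D} (h : Cl x A) {p : D} (hp : p ∈ A)
    (hpp : p * p = x) : p ∈ (pCore 2 ↥(centralizer ({x} : Set D))).map (centralizer ({x} : Set D)).subtype := by
  have h1 : IsPr (A.subgroupOf (centralizer ({x} : Set D))) (⟨x, h.sn.1 h.pr.mem⟩ : ↥(centralizer ({x} : Set D))) :=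
    h.pr.subgroupOf h.sn.1
  exact ⟨⟨p, h.sn.1 hp⟩, h1.mem_pCore h.sn.2 (y := ⟨p, h.sn.1 hp⟩) hp (Subtype.ext hpp), rfl⟩

theorem core_norm {D : Type*} [Group D] [Finite D] {x g n : D} (hg : g * x = x * g)
    (hn : n ∈ (pCore 2 ↥(centralizer ({x} : Set D))).map (centralizer ({x} : Set D)).subtype) :
    g * n * g⁻¹ ∈ (pCore 2 ↥(centralizer ({x} : Set D))).map (centralizer ({x} : Set D)).subtype := by
  obtain ⟨m, hm, rfl⟩ := hn
  have h1 : (pCore 2 ↥(centralizer ({x} : Set D))).Normal := Lib.Cores.pCore_normal 2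
  exact ⟨_, h1.conj_mem m hm ⟨g, mem_centralizer_singleton_iff.2 hg⟩, rfl⟩

theorem rowC_model : RowC (PSp 2 F3) := by
  intro x A B w hp
  -- `x` is conjugate to `z`
  have hx2 : x * x = 1 := hp.a.pr.t3.z_sq
  have hcls := classes x hx2 hp.a.pr.t3.z_ne
  have hc : ∃ k, k * z * k⁻¹ = x := by
    rcases hcls with h | h
    · exact h
    · exfalso
      obtain ⟨a, ha, b, hb, haz, hbz, hab⟩ := hp.a.pr.t3.ex4
      apply hab
      refine h ((pCore 2 ↥(centralizer ({x} : Set (PSp 2 F3)))).map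
        (centralizer ({x} : Set (PSp 2 F3))).subtype) ?_ ?_ ?_ a (mem_core hp.a ha haz) b (mem_core hp.a hb hbz)
      · exact (Lib.Cores.pCore_isPGroup 2).map _
      · rintro _ ⟨n, -, rfl⟩
        exact mem_centralizer_singleton_iff.1 n.2
      · intro g hg n hn
        exact core_norm hg hn
  obtain ⟨k, hk⟩ := hc
  -- transport to `z`
  have hp' := hp.mapE (MulAut.conj k⁻¹)
  have hkx : (MulAut.conj k⁻¹) x = z := by
    show k⁻¹ * x * k⁻¹⁻¹ = z
    rw [← hk]; group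
  rw [hkx] at hp'
  set w' := (MulAut.conj k⁻¹) w with hw'
  obtain ⟨p, hpA, q, hqB, hpp, hqq, hpq⟩ := hp'.dec
  have hcore : (pCore 2 ↥(centralizer ({z} : Set (PSp 2 F3)))).map (centralizer ({z} : Set (PSp 2 F3))).subtype ≤ R := by
    refine PE.max_R _ ((Lib.Cores.pCore_isPGroup 2).map _) ?_ ?_
    · rintro _ ⟨n, -, rfl⟩
      exact mem_centralizer_singleton_iff.1 n.2
    · intro g hg n hn
      exact core_norm hg hn
  have hpR : p ∈ R := hcore (mem_core hp'.a hpA hpp)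
  have hqR : q ∈ R := hcore (mem_core hp'.b hqB hqq)
  have hpqc : p * q = q * p := mem_centralizer_iff.1 (hp'.comm hqB) p hpA
  have hzz : z * z = 1 := PE.z_mul_z
  have hwR : w' ∈ R := by rw [hpq]; exact mul_mem hpR hqR
  have hw2 : w' * w' = 1 := by
    rw [hpq]
    calc p * q * (p * q) = p * (q * p) * q := by group
      _ = (p * p) * (q * q) := by rw [← hpqc]; group
      _ = 1 := by rw [hpp, hqq, hzz]
  -- `p` is not in `B`
  have hpB : ∀ c : PSp 2 F3, (c = 1 ∨ c = z) → p * q ≠ c := by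
    intro c hc' hpc
    have h3 : p = c * q⁻¹ := by rw [← hpc]; group
    have hzB : z ∈ B.map (MulAut.conj k⁻¹).toMonoidHom := hp'.b.pr.mem
    have hpB' : p ∈ B.map (MulAut.conj k⁻¹).toMonoidHom := by
      rw [h3]
      refine mul_mem ?_ (inv_mem hqB)
      rcases hc' with rfl | rfl
      · exact one_mem _
      · exact hzB
    rcases hp'.a.pr.t3.cen p hpA (fun y hy _ => mem_centralizer_iff.1 (hp'.comm hpB') y hy |>.symm) with h4 | h4
    · rw [h4, mul_one] at hpp
      exact hp'.a.pr.t3.z_ne hpp.symm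
    · rw [h4, hzz] at hpp
      exact hp'.a.pr.t3.z_ne hpp.symm
  have hw1 : w' ≠ 1 := by rw [hpq]; exact hpB 1 (Or.inl rfl)
  have hwz : w' ≠ z := by rw [hpq]; exact hpB z (Or.inr rfl)
  obtain ⟨E, hE, hwE, ⟨f⟩⟩ := rowC_z hwR hw2 hw1 hwz
  refine ⟨E.map (MulAut.conj k).toMonoidHom, ?_, ?_, ?_⟩
  · have h3 := hE.map (MulAut.conj k).toMonoidHom
    have h4 := cent_mapE (MulAut.conj k) w'
    have h5 : (MulAut.conj k) w' = w := by
      rw [hw']
      show k * (k⁻¹ * w * k⁻¹⁻¹) * k⁻¹ = w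
      group
    rw [h5] at h4
    rw [← h4]
    exact h3
  · refine ⟨w' * z, hwE, ?_⟩
    show k * (w' * z) * k⁻¹ = w * x
    rw [hw', ← hk]
    show k * (k⁻¹ * w * k⁻¹⁻¹ * z) * k⁻¹ = w * (k * z * k⁻¹)
    group
  · exact ⟨(E.equivMapOfInjective (MulAut.conj k).toMonoidHom (MulAut.conj k).injective).symm.trans f⟩

/-- **(KD), `PSp₄(3)`** -/
theorem sp4 (X : Type*) [Group X] (h : XSp4 X) : RowC X := by
  obtain ⟨F, _, _, hF, ⟨e⟩⟩ := h
  exact rowC_model.congr (e.trans
    (Cfsg.Agent.LieClassical.FieldTransfer.pspCongr 2 (Cfsg.Agent.Lib.FieldThree.equivOfCard hF)))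

end Cfsg.Agent.KFacts.PSpFourThree

end
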