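import Cfsg.Agent.LieClassical.OrthFinite
import Cfsg.Agent.SectRankFour.OutAb
import Cfsg.Agent.S0242
import Cfsg.Agent.S0243
import Cfsg.Agent.S0265
import Cfsg.Agent.S0813
import Cfsg.Agent.S0814
import Cfsg.Agent.OddHalf.NI3.Bad.Frame
import Cfsg.Agent.OddHalf.NI3.Step
import Cfsg.Agent.SignalizersComponents.IntrinsicDiag
import Cfsg.Agent.OddHalf.NI3.Bad.Trans

-- merged: Cfsg.Agent.OddHalf.NI3.Bad.Cube
section

/-!
# Automorphisms of order 3 of `PSp₄(3)` and `L₄(3)` are inner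

`Inn3 K` : every automorphism `α` of `K` with `α ^ 3 = 1` is inner.
-/

set_option autoImplicit false

namespace Cfsg.Agent.OddHalf.NI3.Bad.Cube

open Subgroup Cfsg

/-- the automorphisms `α` with `α ^ 3 = 1` are inner -/
def Inn3 (K : Type*) [Group K] : Prop := ∀ α : MulAut K, α ^ 3 = 1 → ∃ g : K, ∀ x, α x = g * x * g⁻¹

theorem Inn3.congr {K L : Type*} [Group K] [Group L] (e : K ≃* L) (h : Inn3 L) : Inn3 K := by
  intro α hα
  let β : MulAut L := (e.symm.trans α).trans e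
  have hβ : ∀ y, β y = e (α (e.symm y)) := fun y => rfl
  have h3 : β ^ 3 = 1 := by
    apply MulEquiv.ext
    intro y
    have h1 : ∀ y, α (α (α y)) = y := fun y => by
      have := DFunLike.congr_fun hα y
      exact this
    show β (β (β y)) = y
    rw [hβ, hβ, hβ, e.symm_apply_apply, e.symm_apply_apply, h1, e.apply_symm_apply]
  obtain ⟨g, hg⟩ := h β h3
  refine ⟨e.symm g, fun x => ?_⟩
  apply e.injective
  have h1 := hg (e x)
  rw [hβ, e.symm_apply_apply] at h1
  rw [h1, map_mul, map_mul, map_inv, e.apply_symm_apply]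

theorem inn3_of_card {K : Type*} [Group K] [Finite K] (hZ : Subgroup.center K = ⊥) {m : ℕ} (hm : ¬ 3 ∣ m)
    (hc : Nat.card (MulAut K) = m * Nat.card K) : Inn3 K := by
  intro α hα
  have hn : (MulAut.conj (G := K)).range.Normal := SectRankFour.OutAb.range_conj_normal
  have hinj : Function.Injective (MulAut.conj (G := K)) := by
    rw [← MonoidHom.ker_eq_bot_iff, eq_bot_iff]
    intro x hx
    rw [← hZ, Subgroup.mem_center_iff]
    intro g
    have := DFunLike.congr_fun (MonoidHom.mem_ker.1 hx) g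
    change x * g * x⁻¹ = g at this
    rw [mul_inv_eq_iff_eq_mul] at this
    exact this.symm
  have h1 : Nat.card (MulAut.conj (G := K)).range = Nat.card K :=
    Nat.card_congr (MonoidHom.ofInjective hinj).symm.toEquiv
  have h2 := (MulAut.conj (G := K)).range.card_eq_card_quotient_mul_card_subgroup
  rw [h1, hc] at h2
  have h3 : m = Nat.card (MulAut K ⧸ (MulAut.conj (G := K)).range) :=
    Nat.eq_of_mul_eq_mul_right Nat.card_pos h2
  have h4 : orderOf (QuotientGroup.mk' (MulAut.conj (G := K)).range α) ∣ 3 := by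
    apply orderOf_dvd_of_pow_eq_one
    rw [← map_pow, hα, map_one]
  have h5 : orderOf (QuotientGroup.mk' (MulAut.conj (G := K)).range α) ∣ m := by
    rw [h3]; exact _root_.orderOf_dvd_natCard _
  have h6 : orderOf (QuotientGroup.mk' (MulAut.conj (G := K)).range α) = 1 := by
    rcases (Nat.dvd_prime Nat.prime_three).1 h4 with h | h
    · exact h
    · rw [h] at h5; exact absurd h5 hm
  rw [orderOf_eq_one_iff] at h6
  have h7 : α ∈ (MulAut.conj (G := K)).range := (QuotientGroup.eq_one_iff α).1 h6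
  obtain ⟨g, hg⟩ := h7
  exact ⟨g, fun x => by rw [← hg]; rfl⟩

variable {F : Type*} [Field F] [Fintype F]

theorem inn3_psl4 (hF : Fintype.card F = 3) (hZ : Subgroup.center (Matrix.ProjectiveSpecialLinearGroup (Fin 4) F) = ⊥) :
    Inn3 (Matrix.ProjectiveSpecialLinearGroup (Fin 4) F) := by
  haveI hp3 : Fact (Nat.Prime 3) := ⟨Nat.prime_three⟩
  haveI : Finite (Matrix.ProjectiveSpecialLinearGroup (Fin 4) F) := inferInstanceAs (Finite (_ ⧸ _))
  refine inn3_of_card hZ (m := 4) (by norm_num) ?_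
  have h1 := S0243.result hF 4 (by omega)
  have h2 : Nat.gcd 4 (3 - 1) = 2 := by decide
  have h4 : ∏ i : Fin 4, (3 ^ 4 - 3 ^ (i : ℕ)) = 24261120 := by decide +kernel
  have h5 : Nat.card (Matrix.ProjectiveSpecialLinearGroup (Fin 4) F) = 6065280 := by
    rw [h2, h4] at h1
    omega
  rw [S0813.result 3 1 le_rfl (by rw [hF]; norm_num) 4 (by norm_num) (by norm_num)]
  have h6 : Nat.card (Matrix.ProjGenLinGroup (Fin 4) F) = 12130560 := by
    rw [S0265.result 4]
    have h8 := S0242.result hF 4 (by norm_num)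
    rw [h4] at h8
    omega
  rw [h6, h5]
  norm_num

theorem inn3_psp4 (hF : Fintype.card F = 3) (hZ : Subgroup.center (PSp 2 F) = ⊥) : Inn3 (PSp 2 F) := by
  haveI hp3 : Fact (Nat.Prime 3) := ⟨Nat.prime_three⟩
  haveI : Finite (PSp 2 F) := inferInstanceAs (Finite (_ ⧸ _))
  refine inn3_of_card hZ (m := 2) (by norm_num) ?_
  rw [S0814.result 3 1 le_rfl (by rw [hF]; norm_num) 2 le_rfl (by norm_num)]
  norm_num

end Cfsg.Agent.OddHalf.NI3.Bad.Cube

end

-- merged: Cfsg.Agent.OddHalf.NI3.Bad.Triv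
section

/-!
# A classical `SL₂(3)` of `Ω(V)` is trivial on `V_+(z)`, `dim V_+(z) ≤ 4`

`Ctx3` : `V` over `F₃`, `x ∈ Ω(V)` an involution, `e` an orthogonal basis of `V_-(x)` (four equal values), `f` one of
`V_+(x)` with three equal values, `dim V_+(x) = 3 + m`, `m ≤ 1`; `-1 ∉ Ω(V)`.
* `Ctx3.triv` : a subgroup `J ≃ SL₂(3)` with involution `x`, subnormal in `C_Ω(x)`, is trivial on `V_+(x)`.
-/

set_option autoImplicit false
set_option linter.unusedSectionVars false
set_option linter.unusedVariables false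
set_option linter.style.haveILetI false

namespace Cfsg.Agent.OddHalf.NI3.Bad.Triv

open scoped commutatorElement
open QuadraticMap Module Cfsg.Agent.LieClassical.OrthCore Cfsg.Agent.OddHalf.NI3.Bad.Emb
  Cfsg.Agent.ClassicalGeometry.OddInvolutions Cfsg.Agent.OddHalf.NI3.Bad.QPair Cfsg.Agent.OddHalf.NI3.Bad.Sim
  Cfsg.Agent.OddHalf.NI3.Bad.Frame Cfsg.Agent.OddHalf.NI3.Bad.Models

variable {F V : Type*} [Field F] [Fintype F] [AddCommGroup V] [Module F V] [FiniteDimensional F V]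
  {Q : QuadraticForm F V}

theorem finite_gl : Finite (V ≃ₗ[F] V) := by
  haveI : Finite V := Module.finite_of_finite F
  exact DFunLike.finite _

/-- the setting -/
structure Ctx3 (Q : QuadraticForm F V) (x : V ≃ₗ[F] V) (m : ℕ) (ce c : F) (d : Fin 3 ⊕ Fin m → F)
    (e : Fin 4 → V) (f : Fin 3 ⊕ Fin m → V) : Prop where
  hF : Fintype.card F = 3
  nd : Nondeg Q
  hm : m ≤ 1
  hn : finrank F V = 4 + (3 + m)
  neg : ¬ Neg Q
  he : OF Q (fun _ => ce) e
  hf : OF Q d f
  hd : ∀ i, d (Sum.inl i) = c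
  ef : ∀ i k, polar Q (e i) (f k) = 0
  xO : x ∈ O Q
  xe : ∀ i, x (e i) = -e i
  xf : ∀ k, x (f k) = f k

namespace Ctx3

variable {x : V ≃ₗ[F] V} {m : ℕ} {ce c : F} {d : Fin 3 ⊕ Fin m → F} {e : Fin 4 → V} {f : Fin 3 ⊕ Fin m → V}
  (h : Ctx3 Q x m ce c d e f)

include h

theorem h2 : (2 : F) ≠ 0 := two_ne h.hF

/-- the full family -/
theorem full : OF Q (Sum.elim (fun _ => ce) d) (Sum.elim e f) := OF_sum h.he h.hf h.ef

theorem full_card : Fintype.card (Fin 4 ⊕ (Fin 3 ⊕ Fin m)) = finrank F V := by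
  rw [Fintype.card_sum, Fintype.card_sum, Fintype.card_fin, Fintype.card_fin, Fintype.card_fin, h.hn]

theorem ext {g k : V ≃ₗ[F] V} (h1 : ∀ i, g (e i) = k (e i)) (h3 : ∀ i, g (f i) = k (f i)) : g = k := by
  have h4 : ∀ v, (k⁻¹ * g) v = v := by
    apply ext_full h.h2 h.full h.full_card
    have h5 : ∀ v, g v = k v → (k⁻¹ * g) v = v := by
      intro v hv
      show k.symm (g v) = v
      rw [hv, k.symm_apply_apply]
    rintro (i | i)
    · exact h5 _ (h1 i)
    · exact h5 _ (h3 i)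
  ext v
  have h5 : k.symm (g v) = v := h4 v
  rw [← k.apply_symm_apply (g v), h5]

theorem xx : x * x = 1 := by
  apply h.ext
  · intro i
    show x (x (e i)) = e i
    rw [h.xe, map_neg, h.xe, neg_neg]
  · intro i
    show x (x (f i)) = f i
    rw [h.xf, h.xf]

theorem x_ne : x ≠ 1 := by
  intro h1
  have h3 := h.xe 0
  rw [h1] at h3
  have h4 : e 0 = -e 0 := h3
  have h5 : (2 : F) • e 0 = 0 := by
    rw [two_smul]; nth_rewrite 1 [h4]; abel
  exact OF_ne_zero h.he 0 ((smul_eq_zero.1 h5).resolve_left h.h2)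

theorem xx_apply (v : V) : x (x v) = v := by
  have := congrArg (fun l : V ≃ₗ[F] V => l v) h.xx
  exact this

/-- `V_+` -/
theorem mem_plus {v : V} (hv : x v = v) (i : Fin 4) : polar Q (e i) v = 0 := by
  rw [polar_comm]
  exact eig_orth h.h2 h.xO hv (h.xe i)

theorem mem_minus {v : V} (hv : x v = -v) (i : Fin 3 ⊕ Fin m) : polar Q (f i) v = 0 :=
  eig_orth h.h2 h.xO (h.xf i) hv

/-- an isometry fixing the `f i` fixes `V_+` -/
theorem fix_plus {g : V ≃ₗ[F] V} (hg : ∀ i, g (f i) = f i) {v : V} (hv : x v = v) : g v = v := by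
  have h1 : v - (h.hf.ad h.h2).L ((h.hf.ad h.h2).R v) = 0 := by
    apply h.full.eq_zero h.h2 h.full_card
    rintro (i | i)
    · show polar Q (e i) _ = 0
      rw [polar_sub_right, h.mem_plus hv, h.hf.L_apply h.h2]
      have h3 : polar Q (e i) (∑ k, (h.hf.ad h.h2).R v k • f k) = 0 := by
        rw [polar_comm, polar_sum_left]
        refine Finset.sum_eq_zero fun k _ => ?_
        rw [polar_comm, h.ef, mul_zero]
      rw [h3, sub_zero]
    · exact OF_proj_mem h.h2 h.hf v i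
  rw [sub_eq_zero] at h1
  rw [h1, h.hf.L_apply h.h2, map_sum]
  refine Finset.sum_congr rfl fun i _ => ?_
  rw [map_smul, hg]

/-- the elements of order 3 -/
theorem cube_fix {v : V ≃ₗ[F] V} (hvO : v ∈ O Q) (hvx : v * x = x * v) (hv3 : v * v * v = 1)
    (hc : ∀ (a b : Fin 3 ⊕ Fin m) (hab : a ≠ b), (∃ i, a = Sum.inl i) → (∃ i, b = Sum.inl i) →
      v * sg2 h.h2 h.hf hab = sg2 h.h2 h.hf hab * v) : ∀ i, v (f i) = f i := by
  have h1 : ∀ i : Fin 3, v (f (Sum.inl i)) = f (Sum.inl i) := by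
    intro i
    have key : ∀ i j k : Fin 3, i ≠ j → i ≠ k → j ≠ k → v (f (Sum.inl i)) = f (Sum.inl i) := by
      intro i j k hij hik hjk
      exact cubeA h.hF h.hf (a := Sum.inl i) (b := Sum.inl j) (c := Sum.inl k)
        (fun h => hij (Sum.inl_injective h)) (fun h => hik (Sum.inl_injective h))
        (fun h => hjk (Sum.inl_injective h)) hv3 (hc _ _ _ ⟨_, rfl⟩ ⟨_, rfl⟩) (hc _ _ _ ⟨_, rfl⟩ ⟨_, rfl⟩)
    fin_cases i
    · exact key 0 1 2 (by decide) (by decide) (by decide)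
    · exact key 1 0 2 (by decide) (by decide) (by decide)
    · exact key 2 0 1 (by decide) (by decide) (by decide)
  rintro (i | i)
  · exact h1 i
  · have hm := h.hm
    have hcx : x (v (f (Sum.inr i))) = v (f (Sum.inr i)) := by
      have h3 : (x * v) (f (Sum.inr i)) = (v * x) (f (Sum.inr i)) := by rw [hvx]
      have h4 : x (v (f (Sum.inr i))) = v (x (f (Sum.inr i))) := h3
      rw [h4, h.xf]
    obtain ⟨α, hα⟩ := line h.h2 h.full h.full_card (i₀ := Sum.inr (Sum.inr i)) (y := v (f (Sum.inr i))) (by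
      rintro (k | k | k) hk
      · exact h.mem_plus hcx k
      · show polar Q (f (Sum.inl k)) _ = 0
        rw [← h1 k, polar_map hvO]
        exact h.hf.orth _ _ (by simp)
      · exfalso
        apply hk
        have : k = i := Fin.ext (by omega)
        rw [this])
    exact cube_scalar h.hF (OF_ne_zero h.hf _) hv3 hα

/-- an isometry fixing the `e i` fixes `V_-` -/
theorem fix_minus {g : V ≃ₗ[F] V} (hg : ∀ i, g (e i) = e i) {v : V} (hv : x v = -v) : g v = v := by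
  have h1 : v - (h.he.ad h.h2).L ((h.he.ad h.h2).R v) = 0 := by
    apply h.full.eq_zero h.h2 h.full_card
    rintro (i | i)
    · exact OF_proj_mem h.h2 h.he v i
    · show polar Q (f i) _ = 0
      rw [polar_sub_right, h.mem_minus hv, h.he.L_apply h.h2]
      have h3 : polar Q (f i) (∑ k, (h.he.ad h.h2).R v k • e k) = 0 := by
        rw [polar_comm, polar_sum_left]
        refine Finset.sum_eq_zero fun k _ => ?_
        rw [h.ef, mul_zero]
      rw [h3, sub_zero]
  rw [sub_eq_zero] at h1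
  rw [h1, h.he.L_apply h.h2, map_sum]
  refine Finset.sum_congr rfl fun i _ => ?_
  rw [map_smul, hg]

omit h in
theorem conj_mem_Om {k g : V ≃ₗ[F] V} (hk : k ∈ O Q) (hg : g ∈ Om Q) : k * g * k⁻¹ ∈ Om Q := by
  have hle : Om Q ≤ O Q := Subgroup.commutator_le_self _
  have h1 : k * g * k⁻¹ = ⁅k, g⁆ * g := by rw [commutatorElement_def]; group
  rw [h1]
  exact (Om Q).mul_mem (Subgroup.commutator_mem_commutator hk (hle hg)) hg

omit h in
/-- the elementary abelian group of `Ω(V_+)`, `dim V_+ = 3` -/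
def PP (Q : QuadraticForm F V) {m : ℕ} (e : Fin 4 → V) (f : Fin 3 ⊕ Fin m → V) : Subgroup (V ≃ₗ[F] V) where
  carrier := {g | g ∈ Om Q ∧ (∀ i, g (e i) = e i) ∧ ∀ i, g (f i) = f i ∨ g (f i) = -f i}
  mul_mem' {a b} ha hb := by
    refine ⟨(Om Q).mul_mem ha.1 hb.1, fun i => ?_, fun i => ?_⟩
    · show a (b (e i)) = e i
      rw [hb.2.1, ha.2.1]
    · show a (b (f i)) = f i ∨ a (b (f i)) = -f i
      rcases hb.2.2 i with h1 | h1 <;> rcases ha.2.2 i with h3 | h3 <;> rw [h1]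
      · left; exact h3
      · right; exact h3
      · right; rw [map_neg, h3]
      · left; rw [map_neg, h3, neg_neg]
  one_mem' := ⟨(Om Q).one_mem, fun _ => rfl, fun _ => Or.inl rfl⟩
  inv_mem' {a} ha := by
    refine ⟨(Om Q).inv_mem ha.1, fun i => ?_, fun i => ?_⟩
    · show a.symm (e i) = e i
      rw [LinearEquiv.symm_apply_eq, ha.2.1]
    · show a.symm (f i) = f i ∨ a.symm (f i) = -f i
      rcases ha.2.2 i with h1 | h1
      · left; rw [LinearEquiv.symm_apply_eq, h1]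
      · right; rw [LinearEquiv.symm_apply_eq, map_neg, h1, neg_neg]

theorem PP_sq {g : V ≃ₗ[F] V} (hg : g ∈ PP Q e f) : g * g = 1 := by
  apply h.ext
  · intro i
    show g (g (e i)) = e i
    rw [hg.2.1, hg.2.1]
  · intro i
    show g (g (f i)) = f i
    rcases hg.2.2 i with h1 | h1
    · rw [h1, h1]
    · rw [h1, map_neg, h1, neg_neg]

theorem PP_comm {g : V ≃ₗ[F] V} (hg : g ∈ PP Q e f) : g * x = x * g := by
  apply h.ext
  · intro i
    show g (x (e i)) = x (g (e i))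
    rw [h.xe, map_neg, hg.2.1, h.xe]
  · intro i
    show g (x (f i)) = x (g (f i))
    rw [h.xf]
    rcases hg.2.2 i with h1 | h1
    · rw [h1, h.xf]
    · rw [h1, map_neg, h.xf]

theorem sg2_mem_PP {a b : Fin 3 ⊕ Fin m} (hab : a ≠ b) (hd : d a = d b) : sg2 h.h2 h.hf hab ∈ PP Q e f := by
  refine ⟨sg2_mem_Om h.h2 h.hf hab hd, fun i => ?_, fun i => ?_⟩
  · rw [sg2_iff]
    exact ⟨by rw [polar_comm]; exact h.ef i a, by rw [polar_comm]; exact h.ef i b⟩
  · by_cases ha : i = a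
    · right; rw [ha]; exact sg2_left h.h2 h.hf hab
    · by_cases hb : i = b
      · right; rw [hb]; exact sg2_right h.h2 h.hf hab
      · left
        rw [sg2_iff]
        exact ⟨h.hf.orth a i (Ne.symm ha), h.hf.orth b i (Ne.symm hb)⟩

/-- the vectors of `V_+` with value `c`, `dim V_+ = 3` -/
theorem norm_plus (hm0 : m = 0) {y : V} (hy : x y = y) (hQy : Q y = c) : ∃ i, y = f i ∨ y = -f i := by
  subst hm0
  have h1 : y = ∑ i, (h.hf.ad h.h2).R y i • f i := by
    have h3 : y - (h.hf.ad h.h2).L ((h.hf.ad h.h2).R y) = 0 := by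
      apply h.full.eq_zero h.h2 h.full_card
      rintro (i | i)
      · show polar Q (e i) _ = 0
        rw [polar_sub_right, h.mem_plus hy, h.hf.L_apply h.h2]
        have h3 : polar Q (e i) (∑ k, (h.hf.ad h.h2).R y k • f k) = 0 := by
          rw [polar_comm, polar_sum_left]
          refine Finset.sum_eq_zero fun k _ => ?_
          rw [polar_comm, h.ef, mul_zero]
        rw [h3, sub_zero]
      · exact OF_proj_mem h.h2 h.hf y i
    rw [h.hf.L_apply h.h2] at h3
    exact sub_eq_zero.1 h3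
  set a := (h.hf.ad h.h2).R y with ha
  have h3 : Q y = c * (a (Sum.inl 0) * a (Sum.inl 0) + a (Sum.inl 1) * a (Sum.inl 1) +
      a (Sum.inl 2) * a (Sum.inl 2)) := by
    have h4 : Q y = DQ d a := by
      rw [h1, ← h.hf.L_apply h.h2]
      exact (h.hf.ad h.h2).nm a
    rw [h4, DQ_apply, Fintype.sum_sum_type, Fin.sum_univ_three, h.hd, h.hd, h.hd]
    simp only [Finset.univ_eq_empty, Finset.sum_empty]
    ring
  have hc0 : c ≠ 0 := by rw [← h.hd 0]; exact h.hf.ne _
  have h4 : a (Sum.inl 0) * a (Sum.inl 0) + a (Sum.inl 1) * a (Sum.inl 1) +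
      a (Sum.inl 2) * a (Sum.inl 2) = 1 := by
    rw [hQy] at h3
    exact mul_left_cancel₀ hc0 (by rw [← h3, mul_one])
  rw [Fintype.sum_sum_type, Fin.sum_univ_three] at h1
  simp only [Finset.univ_eq_empty, Finset.sum_empty, add_zero] at h1
  have hsg : ∀ i, a i ≠ 0 → a i • f i = f i ∨ a i • f i = -f i := by
    intro i hi
    rcases cases h.hF (a i) with h5 | h5 | h5
    · exact absurd h5 hi
    · left; rw [h5, one_smul]
    · right; rw [h5, neg_smul, one_smul]
  have h20 := h.h2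
  by_cases h0 : a (Sum.inl 0) = 0 <;> by_cases h5 : a (Sum.inl 1) = 0 <;> by_cases h6 : a (Sum.inl 2) = 0
  · exfalso; rw [h0, h5, h6] at h4; simp at h4
  · refine ⟨Sum.inl 2, ?_⟩
    rw [h0, h5, zero_smul, zero_smul, zero_add, zero_add] at h1
    rw [h1]; exact hsg _ h6
  · refine ⟨Sum.inl 1, ?_⟩
    rw [h0, h6, zero_smul, zero_smul, zero_add, add_zero] at h1
    rw [h1]; exact hsg _ h5
  · exfalso
    rw [h0, mul_self_eq h.hF h5, mul_self_eq h.hF h6] at h4
    exact one_ne_zero (α := F) (by linear_combination h4)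
  · refine ⟨Sum.inl 0, ?_⟩
    rw [h5, h6, zero_smul, zero_smul, add_zero, add_zero] at h1
    rw [h1]; exact hsg _ h0
  · exfalso
    rw [h5, mul_self_eq h.hF h0, mul_self_eq h.hF h6] at h4
    exact one_ne_zero (α := F) (by linear_combination h4)
  · exfalso
    rw [h6, mul_self_eq h.hF h0, mul_self_eq h.hF h5] at h4
    exact one_ne_zero (α := F) (by linear_combination h4)
  · exfalso
    rw [mul_self_eq h.hF h0, mul_self_eq h.hF h5, mul_self_eq h.hF h6] at h4
    exact h20 (by linear_combination h4)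

theorem PP_conj (hm0 : m = 0) {k g : V ≃ₗ[F] V} (hk : k ∈ O Q) (hkx : k * x = x * k) (hg : g ∈ PP Q e f) :
    k * g * k⁻¹ ∈ PP Q e f := by
  have hki : ∀ v, x (k.symm v) = k.symm (x v) := by
    intro v
    rw [LinearEquiv.eq_symm_apply]
    have h1 : (k * x) (k.symm v) = (x * k) (k.symm v) := by rw [hkx]
    have h3 : k (x (k.symm v)) = x (k (k.symm v)) := h1
    rw [h3, k.apply_symm_apply]
  refine ⟨conj_mem_Om hk hg.1, fun i => ?_, fun i => ?_⟩
  · show k (g (k.symm (e i))) = e i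
    rw [h.fix_minus hg.2.1 (v := k.symm (e i)) (by rw [hki, h.xe, map_neg]), k.apply_symm_apply]
  · show k (g (k.symm (f i))) = f i ∨ k (g (k.symm (f i))) = -f i
    have h1 : x (k.symm (f i)) = k.symm (f i) := by rw [hki, h.xf]
    have h3 : Q (k.symm (f i)) = c := by
      have h4 : Q (k.symm (f i)) = Q (f i) := mem_O.1 ((O Q).inv_mem hk) (f i)
      rw [h4, h.hf.nm]
      rcases i with i | i
      · exact h.hd i
      · subst hm0; exact i.elim0
    obtain ⟨j, hj⟩ := h.norm_plus hm0 h1 h3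
    have h5 : g (k.symm (f i)) = k.symm (f i) ∨ g (k.symm (f i)) = -(k.symm (f i)) := by
      rcases hj with hj | hj <;> rcases hg.2.2 j with h6 | h6 <;> rw [hj]
      · left; exact h6
      · right; exact h6
      · left; rw [map_neg, h6]
      · right; rw [map_neg, h6]
    rcases h5 with h6 | h6
    · left; rw [h6, k.apply_symm_apply]
    · right; rw [h6, map_neg, k.apply_symm_apply]

/-- `-1` on `V_+` -/
theorem ng_f : (h.hf.ad h.h2).ng = LinearEquiv.neg F * x := by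
  apply h.ext
  · intro i
    show (h.hf.ad h.h2).ng (e i) = -(x (e i))
    rw [h.xe, neg_neg, OF_ng_iff h.h2 h.hf]
    intro k
    rw [polar_comm]; exact h.ef i k
  · intro i
    show (h.hf.ad h.h2).ng (f i) = -(x (f i))
    rw [h.xf, OF_ng_f h.h2 h.hf]

/-- `-1` on `V_-` -/
theorem ng_e : (h.he.ad h.h2).ng = x := by
  apply h.ext
  · intro i
    rw [h.xe, OF_ng_f h.h2 h.he]
  · intro i
    rw [h.xf, OF_ng_iff h.h2 h.he]
    intro k
    exact h.ef k i

theorem x_mem : x ∈ Om Q := by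
  rw [← h.ng_e]
  exact Ad.B_le _ (h.he.ng_mem_B h.h2 (fun _ _ => rfl) (n := 2) (by simp))

/-- `-1 ∉ Ω(V_+)` -/
theorem neg_f : ¬ Neg (DQ d) := by
  intro h1
  apply h.neg
  have h3 : (h.hf.ad h.h2).ng ∈ Om Q := Ad.B_le _ ⟨_, h1, rfl⟩
  have h4 : (h.hf.ad h.h2).ng * x = LinearEquiv.neg F := by rw [h.ng_f, mul_assoc, h.xx, mul_one]
  unfold Sim.Neg
  rw [← h4]
  exact (Om Q).mul_mem h3 h.x_mem

omit h in
theorem neg_comm (g : V ≃ₗ[F] V) : g * LinearEquiv.neg F = LinearEquiv.neg F * g := by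
  ext v
  show g (-v) = -(g v)
  rw [map_neg]

theorem Fx_comm {g : V ≃ₗ[F] V} (hg : g ∈ (h.hf.ad h.h2).Fx) : g * x = x * g := by
  have h1 : ∀ i, g (e i) = e i := fun i => hg.2 _ ((h.hf.R_eq_zero_iff h.h2 _).2 fun k => by
    rw [polar_comm]; exact h.ef i k)
  apply h.ext
  · intro i
    show g (x (e i)) = x (g (e i))
    rw [h.xe, map_neg, h1, h.xe]
  · intro i
    show g (x (f i)) = x (g (f i))
    rw [h.xf]
    -- `g (f i) ⊥ e`
    have h3 : (h.he.ad h.h2).ng (g (f i)) = g (f i) := by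
      rw [OF_ng_iff h.h2 h.he]
      intro k
      rw [← h1 k, polar_map hg.1]
      exact h.ef k i
    rw [h.ng_e] at h3
    exact h3.symm

omit h in
theorem qs_of {X : Type*} [Group X] (hs : IsSimpleGroup X) (hc : Subgroup.center X = ⊥) : Cfsg.IsQuasisimple X := by
  refine SignalizersComponents.IntrinsicDiag.quasisimple_of_simple hs ?_
  intro hcm
  have h1 : Subgroup.center X = ⊤ := by
    rw [eq_top_iff]
    intro a _
    rw [Subgroup.mem_center_iff]
    intro b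
    exact hcm.is_comm.comm b a
  rw [hc] at h1
  obtain ⟨a, b, hab⟩ := hs.toNontrivial
  apply hab
  have ha : a ∈ (⊥ : Subgroup X) := by rw [h1]; trivial
  have hb : b ∈ (⊥ : Subgroup X) := by rw [h1]; trivial
  rw [Subgroup.mem_bot] at ha hb
  rw [ha, hb]

/-- the component `Ω(V_+) = L₂(9)`, `dim V_+ = 4` -/
theorem qs_f (hm1 : m = 1) : Cfsg.IsQuasisimple ↥(h.hf.ad h.h2).B := by
  have hr : finrank F (Fin 3 ⊕ Fin m → F) = 4 := by
    rw [finrank_fintype_fun_eq_card, Fintype.card_sum, Fintype.card_fin, Fintype.card_fin, hm1]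
  have hnd : Nondeg (DQ d) := h.hf.nondeg h.h2
  haveI : Fact (Nat.Prime 3) := ⟨Nat.prime_three⟩
  haveI : Fintype (GaloisField 3 2) := Fintype.ofFinite _
  have hK : Fintype.card (GaloisField 3 2) = 9 := by
    rw [← Nat.card_eq_fintype_card, GaloisField.card 3 2 (by norm_num)]; norm_num
  obtain ⟨E⟩ := om4 h.hF hnd hr h.neg_f (K := GaloisField 3 2) hK
  have hs : IsSimpleGroup (Matrix.ProjectiveSpecialLinearGroup (Fin 2) (GaloisField 3 2)) :=
    Matrix.ProjectiveSpecialLinearGroup.rank_two_simple (by rw [Nat.card_eq_fintype_card, hK]; norm_num)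
  have hs' : IsSimpleGroup (Om (DQ d)) := E.isSimpleGroup
  have hc : Subgroup.center (Om (DQ d)) = ⊥ := center_eq_bot hnd (by rw [hr]; norm_num) h.neg_f
  exact SignalizersComponents.Components.isQuasisimple_of_mulEquiv (h.hf.ad h.h2).BEquiv (qs_of hs' hc)

variable {J : Subgroup (V ≃ₗ[F] V)}

theorem comm_sg2 (hJ : IsPr J x) (hs : Sn J (Om Q ⊓ Subgroup.centralizer {x})) {v : V ≃ₗ[F] V} (hv : v ∈ J)
    (h3 : v * v * v = 1) {a b : Fin 3 ⊕ Fin m} (hab : a ≠ b) (hd : d a = d b) :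
    v * sg2 h.h2 h.hf hab = sg2 h.h2 h.hf hab * v := by
  haveI : Finite (V ≃ₗ[F] V) := finite_gl
  have hCO : ∀ k ∈ Om Q ⊓ Subgroup.centralizer ({x} : Set (V ≃ₗ[F] V)), k ∈ O Q ∧ k * x = x * k := by
    intro k hk
    rw [Subgroup.mem_inf, Subgroup.mem_centralizer_singleton_iff] at hk
    exact ⟨Subgroup.commutator_le_self _ hk.1, hk.2⟩
  have hm := h.hm
  rcases Nat.le_one_iff_eq_zero_or_eq_one.1 hm with hm0 | hm1
  · refine T3.comm_of_sn hJ.t3 hs (P := PP Q e f) ?_ ?_ ?_ ?_ hv h3 (h.sg2_mem_PP hab hd)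
    · intro g hg
      rw [Subgroup.mem_inf, Subgroup.mem_centralizer_singleton_iff]
      exact ⟨hg.1, h.PP_comm hg⟩
    · intro g
      refine ⟨1, ?_⟩
      rw [pow_one, pow_two]
      exact Subtype.ext (h.PP_sq g.2)
    · intro k hk
      have h4 := hCO k (hs.1 hk)
      rw [Subgroup.mem_normalizer_iff]
      intro g
      constructor
      · intro hg
        exact h.PP_conj hm0 h4.1 h4.2 hg
      · intro hg
        have h5 := hCO k⁻¹ (Subgroup.inv_mem _ (hs.1 hk))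
        have h6 := h.PP_conj hm0 h5.1 h5.2 hg
        have h7 : k⁻¹ * (k * g * k⁻¹) * k⁻¹⁻¹ = g := by group
        rwa [h7] at h6
    · intro hall
      obtain ⟨y, hy, _, _, hyy, _, _⟩ := hJ.t3.ex4
      have h4 := h.PP_sq (hall y hy hyy)
      exact h.x_ne (hyy.symm.trans h4)
  · -- the component
    set C := Om Q ⊓ Subgroup.centralizer ({x} : Set (V ≃ₗ[F] V)) with hC
    set L := (h.hf.ad h.h2).B with hL
    have hLC : L ≤ C := by
      intro g hg
      rw [hC, Subgroup.mem_inf, Subgroup.mem_centralizer_singleton_iff]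
      exact ⟨Ad.B_le _ hg, h.Fx_comm (Ad.B_le_Fx _ h.nd hg)⟩
    have hn : (L.subgroupOf C).Normal := by
      rw [Subgroup.normal_subgroupOf_iff_le_normalizer hLC]
      intro k hk
      have h4 := hCO k hk
      refine Ad.normalizer_B_of_comm _ h.h2 h.nd h4.1 ?_
      rw [h.ng_f, ← mul_assoc, neg_comm, mul_assoc, h4.2, mul_assoc]
    have hcomp : Cfsg.IsComponent (L.subgroupOf C) :=
      ⟨hn.isSubnormal, SignalizersComponents.Components.isQuasisimple_of_mulEquiv
        (Subgroup.subgroupOfEquivOfLe hLC).symm (h.qs_f hm1)⟩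
    have hJC := hs.1
    have hprC := hJ.subgroupOf hJC
    have h5 := comm_component hprC hs.2 hcomp ⟨v, hJC hv⟩ hv
      ⟨sg2 h.h2 h.hf hab, hLC (sg2_mem_B h.h2 h.nd h.hf hab hd)⟩ (sg2_mem_B h.h2 h.nd h.hf hab hd)
    exact congrArg Subtype.val h5

/-- **`J` is trivial on `V_+`** -/
theorem triv (hJ : IsPr J x) (hs : Sn J (Om Q ⊓ Subgroup.centralizer {x})) {g : V ≃ₗ[F] V} (hg : g ∈ J) {v : V}
    (hv : x v = v) : g v = v := by
  let S : Subgroup (V ≃ₗ[F] V) :=
    { carrier := {g | ∀ v, x v = v → g v = v}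
      mul_mem' := fun {a b} ha hb v hv => by
        show a (b v) = v
        rw [hb v hv, ha v hv]
      one_mem' := fun _ _ => rfl
      inv_mem' := fun {a} ha v hv => by
        show a.symm v = v
        rw [LinearEquiv.symm_apply_eq, ha v hv] }
  have h1 : J ≤ S := by
    apply hJ.le_of_cube
    intro w hw hw3
    have h4 := hs.1 hw
    rw [Subgroup.mem_inf, Subgroup.mem_centralizer_singleton_iff] at h4
    have h5 := h.cube_fix (Subgroup.commutator_le_self _ h4.1) h4.2 hw3 (by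
      rintro _ _ hab ⟨i, rfl⟩ ⟨k, rfl⟩
      exact h.comm_sg2 hJ hs hw hw3 hab (by rw [h.hd, h.hd]))
    intro v hv
    exact h.fix_plus h5 hv
  exact h1 hg v hv

end Ctx3

end Cfsg.Agent.OddHalf.NI3.Bad.Triv

end

-- merged: Cfsg.Agent.OddHalf.NI3.Bad.RowOrth
section

/-!
# (KD), rows `Ω₇(3)` and `PΩ₈⁻(3)`: `RowB` (node NI over `F₃`, THEOREM NIB; helper921)

* `rowB_Om` : `RowB (Om Q)`, `dim V = 7 + m`, `m ≤ 1`, `-1 ∉ Ω(V)`;
* `o7`, `o8m` : the rows of `KD`.
-/

set_option autoImplicit false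
set_option linter.unusedSectionVars false
set_option linter.unusedVariables false
set_option linter.style.haveILetI false

namespace Cfsg.Agent.OddHalf.NI3.Bad.RowOrth

open scoped commutatorElement
open QuadraticMap Module Cfsg.Agent.LieClassical.OrthCore Cfsg.Agent.OddHalf.NI3.Bad.Emb
  Cfsg.Agent.ClassicalGeometry.OddInvolutions Cfsg.Agent.OddHalf.NI3.Bad.QPair Cfsg.Agent.OddHalf.NI3.Bad.Sim
  Cfsg.Agent.OddHalf.NI3.Bad.Frame Cfsg.Agent.OddHalf.NI3.Bad.Models Cfsg.Agent.OddHalf.NI3.Bad.Triv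
  Cfsg.Agent.OddHalf.NI3.Bad.Cube Cfsg.Agent.Cit Cfsg.Agent.Cit.SolvTwo
open Cfsg.Agent.OddHalf.NI (CompIn)

/-! ### Groups -/

set_option maxRecDepth 100000 in
theorem X_anti : ∀ a : SolvTwo.X, a * a = -1 → ∃ j : SolvTwo.X, j * j = -1 ∧ a * j = -1 * (j * a) := by
  decide +kernel

/-- an element of order 4 of `SL₂(3)` is inverted by another one -/
theorem anti {G : Type*} [Group G] {J : Subgroup G} {z : G} (h : IsPr J z) {a : G} (ha : a ∈ J) (h2 : a * a = z) :
    ∃ j ∈ J, j * j = z ∧ a * j = z * (j * a) := by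
  obtain ⟨e⟩ := h.iso
  have hz : e ⟨z, h.mem⟩ = -1 := by
    have h2 : z * z = 1 := by rw [← pow_two, ← h.ord, pow_orderOf_eq_one]
    have h3 : z ≠ 1 := by rintro rfl; have := h.ord; rw [orderOf_one] at this; omega
    have h4 : (e ⟨z, h.mem⟩) * (e ⟨z, h.mem⟩) = 1 := by
      rw [← map_mul, ← map_one e]; congr 1; exact Subtype.ext h2
    rcases SLThreeMain.sq_sl23 _ h4 with h5 | h5
    · exfalso; apply h3
      have h6 : (⟨z, h.mem⟩ : J) = 1 := e.injective (by rw [h5, map_one])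
      exact congrArg Subtype.val h6
    · exact h5
  obtain ⟨j, hj, haj⟩ := X_anti (e ⟨a, ha⟩) (by
    rw [← map_mul, ← hz]; congr 1; exact Subtype.ext h2)
  refine ⟨(e.symm j : J), (e.symm j).2, ?_, ?_⟩
  · have h5 : e.symm j * e.symm j = ⟨z, h.mem⟩ := by
      apply e.injective
      rw [map_mul, e.apply_symm_apply, hj, hz]
    exact congrArg Subtype.val h5
  · have h5 : (⟨a, ha⟩ : J) * e.symm j = ⟨z, h.mem⟩ * (e.symm j * ⟨a, ha⟩) := by
      apply e.injective
      rw [map_mul, map_mul, map_mul, e.apply_symm_apply, haj, hz]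
    exact congrArg Subtype.val h5

section

variable {F V : Type*} [Field F] [Fintype F] [AddCommGroup V] [Module F V] [FiniteDimensional F V]
  {Q : QuadraticForm F V}

/-! ### Diagonal maps -/

/-- `g` is diagonal -/
def Dg {m : ℕ} (e : Fin 4 → V) (f : Fin 3 ⊕ Fin m → V) (g : V ≃ₗ[F] V) : Prop :=
  (∀ i, g (e i) = e i ∨ g (e i) = -e i) ∧ ∀ i, g (f i) = f i ∨ g (f i) = -f i

variable {x : V ≃ₗ[F] V} {m : ℕ} {ce c : F} {d : Fin 3 ⊕ Fin m → F} {e : Fin 4 → V} {f : Fin 3 ⊕ Fin m → V}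

theorem Dg.comm (h : Ctx3 Q x m ce c d e f) {g k : V ≃ₗ[F] V} (hg : Dg e f g) (hk : Dg e f k) : g * k = k * g := by
  have key : ∀ v : V, (g v = v ∨ g v = -v) → (k v = v ∨ k v = -v) → g (k v) = k (g v) := by
    intro v h1 h2
    rcases h1 with h1 | h1 <;> rcases h2 with h2 | h2 <;> simp only [h1, h2, map_neg]
  apply h.ext
  · intro i; exact key _ (hg.1 i) (hk.1 i)
  · intro i; exact key _ (hg.2 i) (hk.2 i)

theorem Dg.mul {g k : V ≃ₗ[F] V} (hg : Dg e f g) (hk : Dg e f k) : Dg e f (g * k) := by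
  have key : ∀ v : V, (g v = v ∨ g v = -v) → (k v = v ∨ k v = -v) → (g (k v) = v ∨ g (k v) = -v) := by
    intro v h1 h2
    rcases h1 with h1 | h1 <;> rcases h2 with h2 | h2 <;> rw [h2]
    · left; exact h1
    · right; rw [map_neg, h1]
    · right; exact h1
    · left; rw [map_neg, h1, neg_neg]
  exact ⟨fun i => key _ (hg.1 i) (hk.1 i), fun i => key _ (hg.2 i) (hk.2 i)⟩

/-! ### The family `e₂, e₃, f` -/

theorem inj23 : Function.Injective (![2, 3] : Fin 2 → Fin 4) := by decide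

/-- values -/
def d5 (ce : F) (d : Fin 3 ⊕ Fin m → F) : Fin 2 ⊕ (Fin 3 ⊕ Fin m) → F := Sum.elim (fun _ => ce) d

/-- the family -/
def f5 (e : Fin 4 → V) (f : Fin 3 ⊕ Fin m → V) : Fin 2 ⊕ (Fin 3 ⊕ Fin m) → V := Sum.elim (e ∘ ![2, 3]) f

theorem hf5 (h : Ctx3 Q x m ce c d e f) : OF Q (d5 ce d) (f5 e f) :=
  OF_sum (h.he.comp ![2, 3] inj23) h.hf fun i k => h.ef _ k

theorem f5_e0 (h : Ctx3 Q x m ce c d e f) {l : Fin 4} (hl : l = 0 ∨ l = 1) (i : Fin 2 ⊕ (Fin 3 ⊕ Fin m)) :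
    polar Q (f5 e f i) (e l) = 0 := by
  rcases i with i | i
  · refine h.he.orth _ _ ?_
    fin_cases i <;> rcases hl with rfl | rfl <;> decide
  · show polar Q (f i) (e l) = 0
    rw [polar_comm]; exact h.ef l i

theorem Dg_sg2 (h : Ctx3 Q x m ce c d e f) {a b : Fin 2 ⊕ (Fin 3 ⊕ Fin m)} (hab : a ≠ b) :
    Dg e f (sg2 h.h2 (hf5 h) hab) := by
  have key : ∀ i, sg2 h.h2 (hf5 h) hab (f5 e f i) = f5 e f i ∨ sg2 h.h2 (hf5 h) hab (f5 e f i) = -f5 e f i := by
    intro i
    by_cases ha : i = a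
    · right; rw [ha]; exact sg2_left _ _ _
    · by_cases hb : i = b
      · right; rw [hb]; exact sg2_right _ _ _
      · left
        rw [sg2_iff]
        exact ⟨(hf5 h).orth a i (Ne.symm ha), (hf5 h).orth b i (Ne.symm hb)⟩
  refine ⟨fun i => ?_, fun i => key (Sum.inr i)⟩
  have h0 : ∀ l : Fin 4, (l = 0 ∨ l = 1) → sg2 h.h2 (hf5 h) hab (e l) = e l := by
    intro l hl
    rw [sg2_iff]
    exact ⟨f5_e0 h hl a, f5_e0 h hl b⟩
  fin_cases i
  · left; exact h0 0 (Or.inl rfl)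
  · left; exact h0 1 (Or.inr rfl)
  · exact key (Sum.inl 0)
  · exact key (Sum.inl 1)

/-! ### The component -/

/-- `w` : `-1` on `e₀, e₁` -/
structure WW (e : Fin 4 → V) (f : Fin 3 ⊕ Fin m → V) (w : V ≃ₗ[F] V) : Prop where
  w0 : w (e 0) = -e 0
  w1 : w (e 1) = -e 1
  w2 : w (e 2) = e 2
  w3 : w (e 3) = e 3
  wf : ∀ i, w (f i) = f i

theorem WW.dg {w : V ≃ₗ[F] V} (hw : WW e f w) : Dg e f w := by
  refine ⟨fun i => ?_, fun i => Or.inl (hw.wf i)⟩
  fin_cases i
  · exact Or.inr hw.w0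
  · exact Or.inr hw.w1
  · exact Or.inl hw.w2
  · exact Or.inl hw.w3

theorem Dg_x (h : Ctx3 Q x m ce c d e f) : Dg e f x := ⟨fun i => Or.inr (h.xe i), fun i => Or.inl (h.xf i)⟩

theorem Dg_neg : Dg e f (LinearEquiv.neg F) := ⟨fun i => Or.inr rfl, fun i => Or.inr rfl⟩

/-- `-1` on the family -/
theorem ng5 (h : Ctx3 Q x m ce c d e f) {w : V ≃ₗ[F] V} (hw : WW e f w) :
    ((hf5 h).ad h.h2).ng = LinearEquiv.neg F * w := by
  have h0 : ∀ l : Fin 4, (l = 0 ∨ l = 1) → ((hf5 h).ad h.h2).ng (e l) = e l := by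
    intro l hl
    rw [OF_ng_iff]
    exact fun i => f5_e0 h hl i
  have h1 : ∀ i, ((hf5 h).ad h.h2).ng (f5 e f i) = -f5 e f i := fun i => OF_ng_f h.h2 (hf5 h) i
  apply h.ext
  · intro i
    show ((hf5 h).ad h.h2).ng (e i) = -(w (e i))
    fin_cases i
    · show ((hf5 h).ad h.h2).ng (e 0) = -(w (e 0))
      rw [h0 0 (Or.inl rfl), hw.w0, neg_neg]
    · show ((hf5 h).ad h.h2).ng (e 1) = -(w (e 1))
      rw [h0 1 (Or.inr rfl), hw.w1, neg_neg]
    · show ((hf5 h).ad h.h2).ng (e 2) = -(w (e 2))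
      rw [hw.w2]; exact h1 (Sum.inl 0)
    · show ((hf5 h).ad h.h2).ng (e 3) = -(w (e 3))
      rw [hw.w3]; exact h1 (Sum.inl 1)
  · intro i
    show ((hf5 h).ad h.h2).ng (f i) = -(w (f i))
    rw [hw.wf]; exact h1 (Sum.inr i)

theorem comm_ng5 (h : Ctx3 Q x m ce c d e f) {w : V ≃ₗ[F] V} (hw : WW e f w) {g : V ≃ₗ[F] V} (hg : g * w = w * g) :
    g * ((hf5 h).ad h.h2).ng = ((hf5 h).ad h.h2).ng * g := by
  rw [ng5 h hw, ← mul_assoc, Ctx3.neg_comm, mul_assoc, hg, mul_assoc]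

theorem B_comm (h : Ctx3 Q x m ce c d e f) {w : V ≃ₗ[F] V} (hw : WW e f w) {g : V ≃ₗ[F] V}
    (hg : g ∈ ((hf5 h).ad h.h2).B) : g * w = w * g := by
  have h1 : g * ((hf5 h).ad h.h2).ng = ((hf5 h).ad h.h2).ng * g := by
    obtain ⟨k, _, rfl⟩ := hg
    rw [Ad.ng, ← map_mul, ← map_mul, Ctx3.neg_comm]
  have h3 : w = LinearEquiv.neg F * ((hf5 h).ad h.h2).ng := by
    rw [ng5 h hw, ← mul_assoc]
    have : (LinearEquiv.neg F : V ≃ₗ[F] V) * LinearEquiv.neg F = 1 := by
      ext v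
      show - -v = v
      rw [neg_neg]
    rw [this, one_mul]
  rw [h3, ← mul_assoc, Ctx3.neg_comm, mul_assoc, h1, mul_assoc]

theorem ne01 : (Sum.inl 0 : Fin 2 ⊕ (Fin 3 ⊕ Fin m)) ≠ Sum.inl 1 :=
  fun h => absurd (Sum.inl_injective h) (by decide)

/-- `w x` is `-1` on `e₂, e₃` -/
theorem wx (h : Ctx3 Q x m ce c d e f) {w : V ≃ₗ[F] V} (hw : WW e f w) :
    w * x = sg2 h.h2 (hf5 h) (a := Sum.inl 0) (b := Sum.inl 1) ne01 := by
  have h0 : ∀ l : Fin 4, (l = 0 ∨ l = 1) →
      sg2 h.h2 (hf5 h) (a := Sum.inl 0) (b := Sum.inl 1) ne01 (e l) = e l := by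
    intro l hl
    rw [sg2_iff]
    exact ⟨f5_e0 h hl _, f5_e0 h hl _⟩
  apply h.ext
  · intro i
    show w (x (e i)) = _
    rw [h.xe, map_neg]
    fin_cases i
    · show -(w (e 0)) = sg2 _ _ _ (e 0)
      rw [h0 0 (Or.inl rfl), hw.w0, neg_neg]
    · show -(w (e 1)) = sg2 _ _ _ (e 1)
      rw [h0 1 (Or.inr rfl), hw.w1, neg_neg]
    · show -(w (e 2)) = sg2 _ _ _ (e 2)
      rw [hw.w2]; exact (sg2_left h.h2 (hf5 h) (ne01 (m := m))).symm
    · show -(w (e 3)) = sg2 _ _ _ (e 3)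
      rw [hw.w3]; exact (sg2_right h.h2 (hf5 h) (ne01 (m := m))).symm
  · intro i
    show w (x (f i)) = _
    rw [h.xf, hw.wf]
    symm
    rw [sg2_iff]
    exact ⟨h.ef _ _, h.ef _ _⟩

theorem finrank5 (h : Ctx3 Q x m ce c d e f) : finrank F (Fin 2 ⊕ (Fin 3 ⊕ Fin m) → F) = 5 + m := by
  rw [finrank_fintype_fun_eq_card, Fintype.card_sum, Fintype.card_sum, Fintype.card_fin, Fintype.card_fin,
    Fintype.card_fin]
  ring

theorem neg5 (h : Ctx3 Q x m ce c d e f) {w : V ≃ₗ[F] V} (hw : WW e f w) : ¬ Neg (DQ (d5 ce d)) := by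
  intro h1
  apply h.neg
  have h3 : ((hf5 h).ad h.h2).ng ∈ Om Q := Ad.B_le _ ⟨_, h1, rfl⟩
  -- `w` on `e₀, e₁`
  have hw' : w = sg2 h.h2 h.he (a := 0) (b := 1) (by decide) := by
    apply h.ext
    · intro i
      fin_cases i
      · show w (e 0) = sg2 _ _ _ (e 0)
        rw [hw.w0]; exact (sg2_left h.h2 h.he _).symm
      · show w (e 1) = sg2 _ _ _ (e 1)
        rw [hw.w1]; exact (sg2_right h.h2 h.he _).symm
      · show w (e 2) = sg2 _ _ _ (e 2)
        rw [hw.w2]; symm; rw [sg2_iff]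
        exact ⟨h.he.orth 0 2 (by decide), h.he.orth 1 2 (by decide)⟩
      · show w (e 3) = sg2 _ _ _ (e 3)
        rw [hw.w3]; symm; rw [sg2_iff]
        exact ⟨h.he.orth 0 3 (by decide), h.he.orth 1 3 (by decide)⟩
    · intro i
      rw [hw.wf]; symm; rw [sg2_iff]
      exact ⟨h.ef _ _, h.ef _ _⟩
  have h4 : w ∈ Om Q := by rw [hw']; exact sg2_mem_Om h.h2 h.he _ rfl
  have h5 : ((hf5 h).ad h.h2).ng * w = LinearEquiv.neg F := by
    have h6 : w * w = 1 := by rw [hw']; exact sg2_mul_self _ _ _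
    rw [ng5 h hw, mul_assoc, h6, mul_one]
  unfold Sim.Neg
  rw [← h5]
  exact (Om Q).mul_mem h3 h4

/-- `Ω` of the family is quasisimple, its automorphisms of order 3 are inner -/
theorem qs5 (h : Ctx3 Q x m ce c d e f) : Cfsg.IsQuasisimple ↥((hf5 h).ad h.h2).B := by
  have hnd : Nondeg (DQ (d5 ce d)) := (hf5 h).nondeg h.h2
  have hG := LieClassical.OrthFinite.good_of_finite hnd (by rw [finrank5 h]; omega)
  have h1 : Cfsg.IsQuasisimple ↥(E (DQ (d5 ce d))) := by
    refine ⟨?_, LieClassical.OrthSimple.good_isSimpleGroup hG⟩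
    rw [Group.isPerfect_def, _root_.commutator_def]
    have h3 := hG.E_perfect
    have h4 : (⁅(⊤ : Subgroup ↥(E (DQ (d5 ce d)))), ⊤⁆ : Subgroup ↥(E (DQ (d5 ce d)))).map
        (E (DQ (d5 ce d))).subtype =
        (⊤ : Subgroup ↥(E (DQ (d5 ce d)))).map (E (DQ (d5 ce d))).subtype := by
      rw [Subgroup.map_commutator, ← MonoidHom.range_eq_map, Subgroup.range_subtype, h3]
    exact Subgroup.map_injective (E (DQ (d5 ce d))).subtype_injective h4
  rw [← hG.commutator_eq_E] at h1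
  exact SignalizersComponents.Components.isQuasisimple_of_mulEquiv ((hf5 h).ad h.h2).BEquiv h1

theorem center5 (h : Ctx3 Q x m ce c d e f) {w : V ≃ₗ[F] V} (hw : WW e f w) :
    Subgroup.center (Om (DQ (d5 ce d))) = ⊥ :=
  center_eq_bot ((hf5 h).nondeg h.h2) (by rw [finrank5 h]; omega) (neg5 h hw)

theorem center_of_equiv {G H : Type*} [Group G] [Group H] (E : G ≃* H) (h : Subgroup.center G = ⊥) :
    Subgroup.center H = ⊥ := by
  rw [← LieClassical.OrthFinite.map_center_mulEquiv E, h, Subgroup.map_bot]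

theorem inn5 (h : Ctx3 Q x m ce c d e f) {w : V ≃ₗ[F] V} (hw : WW e f w) : Inn3 (Om (DQ (d5 ce d))) := by
  have hnd : Nondeg (DQ (d5 ce d)) := (hf5 h).nondeg h.h2
  have hc := center5 h hw
  have hr := finrank5 h
  have hm := h.hm
  rcases Nat.le_one_iff_eq_zero_or_eq_one.1 hm with hm0 | hm1
  · obtain ⟨E⟩ := om5 h.hF hnd (by rw [hr, hm0])
    exact (inn3_psp4 h.hF (center_of_equiv E hc)).congr E
  · obtain ⟨E⟩ := om6 h.hF hnd (by rw [hr, hm1]) (neg5 h hw)
    exact (inn3_psl4 h.hF (center_of_equiv E hc)).congr E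

/-- an element of order 3 of `B` commuting with `w x` and the diagonal elements of `B` is trivial -/
theorem eq_one (h : Ctx3 Q x m ce c d e f) {w : V ≃ₗ[F] V} (hw : WW e f w) {g : V ≃ₗ[F] V}
    (hg : g ∈ ((hf5 h).ad h.h2).B) (h3 : g * g * g = 1)
    (hc : ∀ k ∈ ((hf5 h).ad h.h2).B, k * (w * x) = w * x * k → g * k = k * g) : g = 1 := by
  have hgF := Ad.B_le_Fx _ h.nd hg
  have hgO : g ∈ O Q := hgF.1
  have hwx := hw.dg.mul (Dg_x h)
  have hc2 : ∀ {a b : Fin 2 ⊕ (Fin 3 ⊕ Fin m)} (hab : a ≠ b), d5 ce d a = d5 ce d b →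
      g * sg2 h.h2 (hf5 h) hab = sg2 h.h2 (hf5 h) hab * g := by
    intro a b hab hd
    exact hc _ (sg2_mem_B h.h2 h.nd (hf5 h) hab hd) ((Dg_sg2 h hab).comm h hwx)
  -- `e₀, e₁`
  have g0 : ∀ l : Fin 4, (l = 0 ∨ l = 1) → g (e l) = e l := by
    intro l hl
    apply hgF.2
    rw [OF.R_eq_zero_iff]
    exact fun i => f5_e0 h hl i
  have g2 : g (e 2) = e 2 :=
    plane h.hF (hf5 h) (a := Sum.inl 0) (b := Sum.inl 1) ne01 rfl hgO h3 (hc2 _ rfl)
  have g3 : g (e 3) = e 3 :=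
    plane h.hF (hf5 h) (a := Sum.inl 1) (b := Sum.inl 0) ne01.symm rfl hgO h3 (hc2 _ rfl)
  have hgx : g * x = x * g := by
    have e1 : g * (w * x) = w * x * g := by
      rw [wx h hw]; exact hc2 _ rfl
    have e2 := B_comm h hw hg
    have e3 : w * (g * x) = w * (x * g) := by
      rw [← mul_assoc, ← e2, mul_assoc, e1, mul_assoc]
    exact mul_left_cancel e3
  have gf := h.cube_fix hgO hgx h3 (by
    rintro _ _ hab ⟨i, rfl⟩ ⟨k, rfl⟩
    -- the two versions of `sg2`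
    have hab' : (Sum.inr (Sum.inl i) : Fin 2 ⊕ (Fin 3 ⊕ Fin m)) ≠ Sum.inr (Sum.inl k) :=
      fun h => hab (Sum.inr_injective h)
    have e1 : sg2 h.h2 h.hf hab = sg2 h.h2 (hf5 h) hab' := by
      apply h.ext
      · intro l
        have f1 : sg2 h.h2 h.hf hab (e l) = e l := by
          rw [sg2_iff]
          exact ⟨by rw [polar_comm]; exact h.ef _ _, by rw [polar_comm]; exact h.ef _ _⟩
        have f2 : sg2 h.h2 (hf5 h) hab' (e l) = e l := by
          rw [sg2_iff]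
          exact ⟨by rw [polar_comm]; exact h.ef _ _, by rw [polar_comm]; exact h.ef _ _⟩
        rw [f1, f2]
      · intro l
        by_cases hi : l = Sum.inl i
        · rw [hi, sg2_left]; exact (sg2_left h.h2 (hf5 h) hab').symm
        · by_cases hk : l = Sum.inl k
          · rw [hk, sg2_right]; exact (sg2_right h.h2 (hf5 h) hab').symm
          · have f1 : sg2 h.h2 h.hf hab (f l) = f l := by
              rw [sg2_iff]
              exact ⟨h.hf.orth _ _ (Ne.symm hi), h.hf.orth _ _ (Ne.symm hk)⟩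
            have f2 : sg2 h.h2 (hf5 h) hab' (f l) = f l := by
              rw [sg2_iff]
              exact ⟨h.hf.orth _ _ (Ne.symm hi), h.hf.orth _ _ (Ne.symm hk)⟩
            rw [f1, f2]
    rw [e1]
    exact hc2 hab' (by show d (Sum.inl i) = d (Sum.inl k); rw [h.hd, h.hd]))
  apply h.ext
  · intro i
    fin_cases i
    · exact g0 0 (Or.inl rfl)
    · exact g0 1 (Or.inr rfl)
    · exact g2
    · exact g3
  · exact gf

/-! ### The row -/

theorem cent_map (x : ↥(Om Q)) :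
    (Subgroup.centralizer ({x} : Set ↥(Om Q))).map (Om Q).subtype =
      Om Q ⊓ Subgroup.centralizer ({(x : V ≃ₗ[F] V)} : Set (V ≃ₗ[F] V)) := by
  ext y
  rw [Subgroup.mem_map, Subgroup.mem_inf, Subgroup.mem_centralizer_singleton_iff]
  constructor
  · rintro ⟨g, hg, rfl⟩
    rw [Subgroup.mem_centralizer_singleton_iff] at hg
    exact ⟨g.2, congrArg Subtype.val hg⟩
  · rintro ⟨h1, h3⟩
    refine ⟨⟨y, h1⟩, ?_, rfl⟩
    rw [Subgroup.mem_centralizer_singleton_iff]
    exact Subtype.ext h3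

/-- **the row for `Ω(V)`** -/
theorem rowB_Om (hF : Fintype.card F = 3) (hQ : Nondeg Q) {m : ℕ} (hm : m ≤ 1) (hn : finrank F V = 4 + (3 + m))
    (hneg : ¬ Neg Q) : RowB ↥(Om Q) := by
  intro x A B w hpos
  have h2 := two_ne hF
  obtain ⟨p, hp, q, hq, hpp, hqq, hw⟩ := hpos.dec
  obtain ⟨j, hj, hjj, hpj⟩ := anti hpos.a.pr hp hpp
  obtain ⟨k, hk, hkk, hqk⟩ := anti hpos.b.pr hq hqq
  have hc : ∀ a ∈ A, ∀ b ∈ B, a * b = b * a := fun a ha b hb => Subgroup.mem_centralizer_iff.1 (hpos.comm hb) a ha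
  have hOm : Om Q ≤ O Q := Subgroup.commutator_le_self _
  have ap : ∀ {a b : ↥(Om Q)}, a = b → ∀ v : V, (a : V ≃ₗ[F] V) v = (b : V ≃ₗ[F] V) v := by
    intro a b hab v; rw [hab]
  have hxx : x * x = 1 := hpos.a.pr.t3.z_sq
  have hx1 : x ≠ 1 := hpos.a.pr.t3.z_ne
  have hx1' : (x : V ≃ₗ[F] V) ≠ 1 := fun h => hx1 (Subtype.ext h)
  have hQd : Qd (x : V ≃ₗ[F] V) p j q k :=
    { xx := ap hxx
      pp := ap hpp
      jj := ap hjj
      qq := ap hqq
      kk := ap hkk
      pj := ap hpj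
      qk := ap hqk
      pq := ap (hc p hp q hq)
      pk := ap (hc p hp k hk)
      jq := ap (hc j hj q hq)
      jk := ap (hc j hj k hk) }
  obtain ⟨e0, he1, he2, he3, he4, hfix⟩ := hQd.frame h2 hQ (hOm x.2) (hOm p.2) (hOm j.2) (hOm q.2) (hOm k.2)
    (by
      by_contra hcon
      push Not at hcon
      exact hx1' (LinearEquiv.ext hcon))
    (by
      rcases Nat.le_one_iff_eq_zero_or_eq_one.1 hm with hm0 | hm1
      · left; rw [hn, hm0]; norm_num
      · right
        refine ⟨by rw [hn, hm1], ?_⟩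
        by_contra hcon
        push Not at hcon
        apply hneg
        have : (x : V ≃ₗ[F] V) = LinearEquiv.neg F := LinearEquiv.ext hcon
        unfold Sim.Neg
        rw [← this]
        exact x.2)
  have he := hQd.fr_OF h2 (hOm p.2) (hOm j.2) (hOm q.2) (hOm k.2) he1 he2 he3 he4
  obtain ⟨c, d, f, hd, hf, hef⟩ := exists_compl hF hQ he hm (by rw [Fintype.card_fin, hn])
  set e := fr (p : V ≃ₗ[F] V) j e0 with hedef
  have h : Ctx3 Q (x : V ≃ₗ[F] V) m (Q e0) c d e f :=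
    { hF := hF
      nd := hQ
      hm := hm
      hn := hn
      neg := hneg
      he := he
      hf := hf
      hd := hd
      ef := hef
      xO := hOm x.2
      xe := hQd.fr_x he1
      xf := fun i => hfix _ fun l => hef l i }
  -- triviality on `V_+`
  have hA : IsPr (A.map (Om Q).subtype) (x : V ≃ₗ[F] V) := hpos.a.pr.map (Om Q).subtype hx1'
  have hB : IsPr (B.map (Om Q).subtype) (x : V ≃ₗ[F] V) := hpos.b.pr.map (Om Q).subtype hx1'
  have hsA : Sn (A.map (Om Q).subtype) (Om Q ⊓ Subgroup.centralizer ({(x : V ≃ₗ[F] V)} : Set (V ≃ₗ[F] V))) := by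
    rw [← cent_map]; exact hpos.a.sn.map _
  have hsB : Sn (B.map (Om Q).subtype) (Om Q ⊓ Subgroup.centralizer ({(x : V ≃ₗ[F] V)} : Set (V ≃ₗ[F] V))) := by
    rw [← cent_map]; exact hpos.b.sn.map _
  have hW : WW e f (w : V ≃ₗ[F] V) := by
    obtain ⟨w0, w1, w2, w3⟩ := hQd.fr_w he1 he2
    have hwv : ∀ v, (w : V ≃ₗ[F] V) v = (p : V ≃ₗ[F] V) ((q : V ≃ₗ[F] V) v) := ap hw
    refine ⟨by rw [hwv]; exact w0, by rw [hwv]; exact w1, by rw [hwv]; exact w2, by rw [hwv]; exact w3, ?_⟩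
    intro i
    have t1 : (q : V ≃ₗ[F] V) (f i) = f i := h.triv hB hsB ⟨q, hq, rfl⟩ (h.xf i)
    have t2 : (p : V ≃ₗ[F] V) (f i) = f i := h.triv hA hsA ⟨p, hp, rfl⟩ (h.xf i)
    rw [hwv, t1, t2]
  -- the component
  set L := ((hf5 h).ad h.h2).B with hL
  have hLle : L ≤ Om Q := Ad.B_le _
  have hwxL : (w : V ≃ₗ[F] V) * x ∈ L := by
    rw [wx h hW]
    exact sg2_mem_B h.h2 h.nd (hf5 h) _ rfl
  have hle : L.subgroupOf (Om Q) ≤ Subgroup.centralizer ({w} : Set ↥(Om Q)) := by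
    intro g hg
    rw [Subgroup.mem_centralizer_singleton_iff]
    exact Subtype.ext (B_comm h hW hg)
  refine ⟨L.subgroupOf (Om Q), ⟨hle, ?_, ?_⟩, hwxL, ?_⟩
  · have hn : ((L.subgroupOf (Om Q)).subgroupOf (Subgroup.centralizer ({w} : Set ↥(Om Q)))).Normal := by
      rw [Subgroup.normal_subgroupOf_iff_le_normalizer hle]
      intro g hg
      rw [Subgroup.mem_centralizer_singleton_iff] at hg
      have h5 : (g : V ≃ₗ[F] V) ∈ Subgroup.normalizer (L : Set (V ≃ₗ[F] V)) :=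
        Ad.normalizer_B_of_comm _ h.h2 h.nd (hOm g.2) (comm_ng5 h hW (congrArg Subtype.val hg))
      rw [Subgroup.mem_normalizer_iff] at h5 ⊢
      intro y
      exact h5 y
    exact hn.isSubnormal
  · exact SignalizersComponents.Components.isQuasisimple_of_mulEquiv (Subgroup.subgroupOfEquivOfLe hle).symm
      (SignalizersComponents.Components.isQuasisimple_of_mulEquiv (Subgroup.subgroupOfEquivOfLe hLle).symm (qs5 h))
  · intro α hα3 hα
    let E : ↥(L.subgroupOf (Om Q)) ≃* Om (DQ (d5 (Q e0) d)) :=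
      (Subgroup.subgroupOfEquivOfLe hLle).trans ((hf5 h).ad h.h2).BEquiv.symm
    have hcen : Subgroup.center ↥(L.subgroupOf (Om Q)) = ⊥ := center_of_equiv E.symm (center5 h hW)
    obtain ⟨g, hg⟩ := (inn5 h hW).congr E α hα3
    have hg3 : g * g * g = 1 := by
      have h5 : g * g * g ∈ Subgroup.center ↥(L.subgroupOf (Om Q)) := by
        rw [Subgroup.mem_center_iff]
        intro y
        have h6 : α (α (α y)) = y := by
          have := DFunLike.congr_fun hα3 y
          exact this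
        rw [hg, hg, hg] at h6
        have h7 : g * (g * (g * y * g⁻¹) * g⁻¹) * g⁻¹ = (g * g * g) * y * (g * g * g)⁻¹ := by group
        rw [h7, mul_inv_eq_iff_eq_mul] at h6
        exact h6.symm
      rwa [hcen, Subgroup.mem_bot] at h5
    have hg1 : ((g : ↥(Om Q)) : V ≃ₗ[F] V) = 1 := by
      refine eq_one h hW (g := ((g : ↥(Om Q)) : V ≃ₗ[F] V)) g.2 ?_ ?_
      · exact congrArg (fun y : ↥(L.subgroupOf (Om Q)) => ((y : ↥(Om Q)) : V ≃ₗ[F] V)) hg3
      · intro y hy hyw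
        have h5 := hα ⟨⟨y, hLle hy⟩, hy⟩ (Subtype.ext hyw)
        rw [hg, mul_inv_eq_iff_eq_mul] at h5
        exact congrArg (fun y : ↥(L.subgroupOf (Om Q)) => ((y : ↥(Om Q)) : V ≃ₗ[F] V)) h5
    have hg1' : g = 1 := Subtype.ext (Subtype.ext hg1)
    apply MulEquiv.ext
    intro y
    rw [hg, hg1']
    simp

end

/-- **row `Ω₇(3)`** -/
theorem o7 (X : Type*) [Group X] [Finite X] (h : XO7 X) : RowB X := by
  obtain ⟨F, i, i', hF, ⟨e⟩⟩ := h
  have h2 := two_ne hF
  have hQ := LieClassical.OrthForms.nondeg_oddForm 3 F h2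
  have hr : finrank F (Unit ⊕ (Fin 3 ⊕ Fin 3) → F) = 7 := finrank_odd 3
  obtain ⟨e'⟩ := om7 hF hQ hr
  exact (rowB_Om hF hQ (m := 0) (by norm_num) (by rw [hr]) (neg_odd h2 3)).congr (e.trans e'.symm)

/-- **row `PΩ₈⁻(3)`** -/
theorem o8m (X : Type*) [Group X] [Finite X] (h : XO8m X) : RowB X := by
  obtain ⟨F, i, i', a, b, hF, hab, ⟨e⟩⟩ := h
  have hQ := LieClassical.OrthForms.nondeg_minusForm 3 F a b hab
  have hr : finrank F ((Fin 3 ⊕ Fin 3) ⊕ Fin 2 → F) = 8 := finrank_minus (m := 4) (by norm_num)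
  have hN : ¬ Neg (LieClassical.OrthForms.minusForm 3 F a b) := by
    have := neg_minus hF (m := 4) (by norm_num) hab
    rw [this]; norm_num
  obtain ⟨e'⟩ := om8m hF hQ hr hN hab
  exact (rowB_Om hF hQ (m := 1) (by norm_num) (by rw [hr]) hN).congr (e.trans e'.symm)

end Cfsg.Agent.OddHalf.NI3.Bad.RowOrth

end
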