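import Cfsg.Agent.OddHalf.NI3.Bad.Trans
import Cfsg.Agent.OddHalf.NI3.Bad.PSUFour
import Cfsg.Agent.OddHalf.NI3.SubSL
import Cfsg.Agent.TwoFusion.ClosedFunctor
import Cfsg.Agent.OddHalf.NI3.Bad.Defs
import Cfsg.Agent.Cit.HexG2
import Cfsg.Agent.Cit.HexInv
import Cfsg.Agent.OddHalf.NI3.Bad.RowOrth
import Cfsg.Agent.OddHalf.NI3.Bad.RowC
import Cfsg.Agent.OddHalf.NI3.Bad.Main

-- merged: Cfsg.Agent.OddHalf.NI3.Bad.RowD
section

/-!
# THEOREM NIB, table (KD), `D = 2.U₄(3)` (helper931)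

`rowD : ExSheet → RowD`: in `2.U₄(3)` every pair of commuting classical `SL₂(3)` with the same involution is the pair
`A`, `B` of a frame, and `w = p q` (`p ∈ A`, `q ∈ B` of order 4) is `-1₁₂` of that frame.
-/

set_option autoImplicit false
set_option linter.style.haveILetI false

namespace Cfsg.Agent.OddHalf.NI3.Bad

open Subgroup Cfsg Cfsg.Agent.Cit Cfsg.Agent.Cit.SolvTwo Cfsg.Agent.OddHalf.Iface Cfsg.Agent.OddHalf.LieOddFam
open Cfsg.Agent.SignalizersComponents

universe u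

/-! ### The odd core of `C(z)` -/

section

variable {D : Type*} [Group D] {a b e : D} {A B : Subgroup D}

namespace Sheet

variable (h : Sheet (⊤ : Subgroup D) a b e A B)

include h

theorem sA : Sn A (centralizer ({a * b} : Set D)) := by have := h.snA; rwa [top_inf_eq] at this

theorem sB : Sn B (centralizer ({a * b} : Set D)) := by have := h.snB; rwa [top_inf_eq] at this

theorem A_comm {g : D} (hg : g ∈ A) : g * (a * b) = a * b * g := mem_centralizer_singleton_iff.1 (h.sA.1 hg)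

theorem B_comm {g : D} (hg : g ∈ B) : g * (a * b) = a * b * g := mem_centralizer_singleton_iff.1 (h.sB.1 hg)

theorem e_eq : a * b * (a * b * e) = e := by rw [← mul_assoc, h.zz, one_mul]

/-- `e` and `z` have the same centraliser -/
theorem comm_e_iff {g : D} : g * e = e * g ↔ g * (a * b) = a * b * g := by
  have hy : g * (a * b * e) = a * b * e * g := h.y_comm g (mem_top g)
  constructor
  · intro h1
    have h2 : g * (a * b) * e = a * b * g * e := by
      calc g * (a * b) * e = g * (a * b * e) := by group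
        _ = a * b * (e * g) := by rw [hy]; group
        _ = a * b * g * e := by rw [← h1]; group
    exact mul_right_cancel h2
  · intro h1
    have h2 : a * b * (g * e) = a * b * (e * g) := by
      calc a * b * (g * e) = (a * b * g) * e := by group
        _ = g * (a * b * e) := by rw [← h1]; group
        _ = a * b * (e * g) := by rw [hy]; group
    exact mul_left_cancel h2

theorem cent_e : centralizer ({e} : Set D) = centralizer ({a * b} : Set D) := by
  ext g
  rw [mem_centralizer_singleton_iff, mem_centralizer_singleton_iff]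
  exact h.comm_e_iff

/-- subgroups commuting with `A` and `B` are elementary abelian -/
theorem sq_of_comm {g : D} (h1 : ∀ x ∈ A, g * x = x * g) (h2 : ∀ x ∈ B, g * x = x * g) : g * g = 1 := by
  rcases h.cAB g (mem_top g) h1 h2 with h3 | h3 | h3 | h3
  · rw [h3, one_mul]
  · rw [h3, h.zz]
  · rw [h3, h.ee]
  · rw [h3, h.yy]

/-- the elements of order 4 of an `SL₂(3)` do not commute with `A` and `B` -/
theorem not_both {x : D} {J : Subgroup D} (hJ : IsPr J x) (h1 : ∀ g ∈ J, ∀ c ∈ A, g * c = c * g)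
    (h2 : ∀ g ∈ J, ∀ c ∈ B, g * c = c * g) : False := by
  obtain ⟨p, hp, -, -, hpp, -⟩ := hJ.t3.ex4
  have h3 := h.sq_of_comm (h1 p hp) (h2 p hp)
  rw [hpp] at h3
  exact hJ.t3.z_ne h3

variable [Finite D]

/-- `O(C(z)) = 1` -/
theorem core_eq_bot : pPrimeCore 2 ↥(centralizer ({a * b} : Set D)) = ⊥ := by
  haveI : Fact (Nat.Prime 2) := ⟨Nat.prime_two⟩
  set C := centralizer ({a * b} : Set D) with hC
  have hn : (pPrimeCore 2 C).Normal := Lib.Cores.pPrimeCore_normal 2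
  have hodd : ¬ 2 ∣ Nat.card (pPrimeCore 2 C) := not_two_dvd_oddCore C
  have hO2 : ∀ o ∈ pPrimeCore 2 C, ∀ p ∈ pCore 2 C, o * p = p * o := by
    intro o ho p hp
    have hn2 : (pCore 2 C).Normal := Lib.Cores.pCore_normal 2
    have h1 : o * p * o⁻¹ * p⁻¹ ∈ pCore 2 C ⊓ pPrimeCore 2 C := by
      refine Subgroup.mem_inf.2 ⟨mul_mem (hn2.conj_mem p hp o) (inv_mem hp), ?_⟩
      have h2 := mul_mem ho (hn.conj_mem _ (inv_mem ho) p)
      have h3 : o * p * o⁻¹ * p⁻¹ = o * (p * o⁻¹ * p⁻¹) := by group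
      rwa [h3]
    rw [Lib.Cores.pCore_inf_pPrimeCore 2, mem_bot, mul_inv_eq_one, mul_inv_eq_iff_eq_mul] at h1
    exact h1
  have hsq : ∀ o ∈ pPrimeCore 2 C, o * o = 1 → o = 1 := by
    intro o ho h2
    by_contra hne
    apply hodd
    have h3 : orderOf o = 2 := orderOf_eq_prime (by rw [pow_two, h2]) hne
    have h4 := _root_.orderOf_dvd_natCard (⟨o, ho⟩ : pPrimeCore 2 C)
    rwa [Subgroup.orderOf_mk, h3] at h4
  -- elements of `O(C) ∩ A B` are trivial
  have key : ∀ o ∈ pPrimeCore 2 C, ∀ x ∈ A, ∀ y ∈ B, (o : D) = x * y → o = 1 := by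
    intro o ho x hx y hy hoxy
    have hx1 : x = 1 ∨ x = a * b := by
      refine h.prA.t3.cen x hx fun q hq hqq => ?_
      have hqP := (h.prA.subgroupOf h.sA.1).mem_pCore h.sA.2 (y := ⟨q, h.sA.1 hq⟩) hq (Subtype.ext hqq)
      have h3 : (o : D) * q = q * o := congrArg Subtype.val (hO2 o ho _ hqP)
      rw [hoxy] at h3
      have h4 : y * q = q * y := (h.AB q hq y hy).symm
      have h5 : x * q * y = q * x * y := by
        calc x * q * y = x * (y * q) := by rw [h4]; group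
          _ = q * (x * y) := by rw [← h3]; group
          _ = q * x * y := by group
      exact mul_right_cancel h5
    have hy1 : y = 1 ∨ y = a * b := by
      refine h.prB.t3.cen y hy fun q hq hqq => ?_
      have hqP := (h.prB.subgroupOf h.sB.1).mem_pCore h.sB.2 (y := ⟨q, h.sB.1 hq⟩) hq (Subtype.ext hqq)
      have h3 : (o : D) * q = q * o := congrArg Subtype.val (hO2 o ho _ hqP)
      rw [hoxy] at h3
      have h4 : x * q = q * x := h.AB x hx q hq
      have h5 : x * (y * q) = x * (q * y) := by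
        calc x * (y * q) = x * y * q := by group
          _ = q * (x * y) := h3
          _ = (q * x) * y := by group
          _ = x * (q * y) := by rw [← h4]; group
      exact mul_left_cancel h5
    refine hsq o ho (Subtype.ext ?_)
    show (o : D) * o = 1
    have hz := h.zz
    rw [hoxy]
    rcases hx1 with rfl | rfl <;> rcases hy1 with rfl | rfl
    · simp
    · rw [one_mul, hz]
    · rw [mul_one, hz]
    · rw [hz, one_mul]
  -- `A B` as a set
  have hAB : ∀ g ∈ A ⊔ B, ∃ x ∈ A, ∃ y ∈ B, g = x * y := fun g hg =>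
    (Cfsg.Agent.TwoFusion.ClosedFunctor.mem_sup_of_comm h.AB).1 hg
  have hcen : ∀ o ∈ pPrimeCore 2 C, ∀ g ∈ A ⊔ B, (o : D) * g = g * o := by
    intro o ho g hg
    have hgC : g ∈ C := (sup_le h.sA.1 h.sB.1) hg
    have h1 : (o : D) * g * (o : D)⁻¹ ∈ A ⊔ B := by
      have h2 := h.nor (o : D) (mem_top _) (mem_centralizer_singleton_iff.1 o.2)
      rw [← h2]
      exact conj_mem_cj hg
    have h3 : (o : D) * g * (o : D)⁻¹ * g⁻¹ ∈ A ⊔ B := mul_mem h1 (inv_mem hg)
    have h4 : o * ⟨g, hgC⟩ * o⁻¹ * (⟨g, hgC⟩ : C)⁻¹ ∈ pPrimeCore 2 C := by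
      have h5 := mul_mem ho (hn.conj_mem _ (inv_mem ho) (⟨g, hgC⟩ : C))
      have h6 : o * ⟨g, hgC⟩ * o⁻¹ * (⟨g, hgC⟩ : C)⁻¹ = o * (⟨g, hgC⟩ * o⁻¹ * (⟨g, hgC⟩ : C)⁻¹) := by group
      rwa [h6]
    obtain ⟨x, hx, y, hy, hxy⟩ := hAB _ h3
    have h7 := key _ h4 x hx y hy hxy
    have h8 : (o : D) * g * (o : D)⁻¹ * g⁻¹ = 1 := congrArg Subtype.val h7
    rw [mul_inv_eq_one, mul_inv_eq_iff_eq_mul] at h8
    exact h8
  rw [eq_bot_iff]
  intro o ho
  rw [mem_bot]
  refine hsq o ho (Subtype.ext ?_)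
  exact h.sq_of_comm (fun x hx => hcen o ho x (mem_sup_left hx)) (fun x hx => hcen o ho x (mem_sup_right hx))

/-- a classical pair at `z` is `A` or `B` -/
theorem eq_of_cl {J : Subgroup D} (hJ : Cl (a * b) J) : J = A ∨ J = B := by
  set C := centralizer ({a * b} : Set D) with hC
  have hO : oddCore ↥C = ⊥ := h.core_eq_bot
  have hz : ∀ x : C, x * ⟨a * b, h.sA.1 h.prA.mem⟩ = ⟨a * b, h.sA.1 h.prA.mem⟩ * x := fun x =>
    Subtype.ext (mem_centralizer_singleton_iff.1 x.2)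
  have kJ := hJ.pr.subgroupOf hJ.sn.1
  have kA := h.prA.subgroupOf h.sA.1
  have kB := h.prB.subgroupOf h.sB.1
  rcases SLThree.eq_or_cm hO hz kJ.isSl kA.isSl hJ.sn.2 h.sA.2 with h1 | h1
  · left
    have := congrArg (fun K : Subgroup C => K.map C.subtype) h1
    rwa [map_subgroupOf_eq_of_le hJ.sn.1, map_subgroupOf_eq_of_le h.sA.1] at this
  rcases SLThree.eq_or_cm hO hz kJ.isSl kB.isSl hJ.sn.2 h.sB.2 with h2 | h2
  · right
    have := congrArg (fun K : Subgroup C => K.map C.subtype) h2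
    rwa [map_subgroupOf_eq_of_le hJ.sn.1, map_subgroupOf_eq_of_le h.sB.1] at this
  exfalso
  refine h.not_both hJ.pr ?_ ?_
  · intro g hg c hc
    exact congrArg Subtype.val (h1 ⟨g, hJ.sn.1 hg⟩ hg ⟨c, h.sA.1 hc⟩ hc)
  · intro g hg c hc
    exact congrArg Subtype.val (h2 ⟨g, hJ.sn.1 hg⟩ hg ⟨c, h.sB.1 hc⟩ hc)

/-- there is no classical pair at `e` -/
theorem not_cl_e {J : Subgroup D} (hJ : Cl e J) (hz1 : e ≠ a * b) : False := by
  set C := centralizer ({a * b} : Set D) with hC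
  have hJC : Sn J C := by rw [hC, ← h.cent_e]; exact hJ.sn
  have hz : ∀ x : C, x * ⟨a * b, h.sA.1 h.prA.mem⟩ = ⟨a * b, h.sA.1 h.prA.mem⟩ * x := fun x =>
    Subtype.ext (mem_centralizer_singleton_iff.1 x.2)
  have he : ∀ x : C, x * ⟨e, hJC.1 hJ.pr.mem⟩ = ⟨e, hJC.1 hJ.pr.mem⟩ * x := fun x =>
    Subtype.ext (h.comm_e_iff.2 (mem_centralizer_singleton_iff.1 x.2))
  have kJ := hJ.pr.subgroupOf hJC.1
  have kA := h.prA.subgroupOf h.sA.1
  have kB := h.prB.subgroupOf h.sB.1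
  have hne : (⟨e, hJC.1 hJ.pr.mem⟩ : C) ≠ ⟨a * b, h.sA.1 h.prA.mem⟩ := fun h1 => hz1 (congrArg Subtype.val h1)
  have h1 := cm_of_ne h.core_eq_bot he hz hne kJ kA hJC.2 h.sA.2
  have h2 := cm_of_ne h.core_eq_bot he hz hne kJ kB hJC.2 h.sB.2
  refine h.not_both hJ.pr ?_ ?_
  · intro g hg c hc
    exact congrArg Subtype.val (h1 ⟨g, hJC.1 hg⟩ hg ⟨c, h.sA.1 hc⟩ hc)
  · intro g hg c hc
    exact congrArg Subtype.val (h2 ⟨g, hJC.1 hg⟩ hg ⟨c, h.sB.1 hc⟩ hc)

omit [Finite D] in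
/-- the frame with `A`, `B` exchanged -/
theorem exists_swap : ∃ a' b' : D, a' * b' = a * b ∧ Sheet (⊤ : Subgroup D) a' b' e B A := by
  obtain ⟨s, -, -, hse, hsz, hsA, hsB⟩ := h.swap
  have h1 := h.conj s
  have e1 : cj s (⊤ : Subgroup D) = ⊤ := by
    rw [eq_top_iff]
    intro x _
    rw [mem_cj]; exact mem_top _
  have e2 : s * e * s⁻¹ = e := by rw [hse, mul_inv_cancel_right]
  rw [e1, e2, hsA, hsB] at h1
  refine ⟨_, _, ?_, h1⟩
  calc s * a * s⁻¹ * (s * b * s⁻¹) = s * (a * b) * s⁻¹ := by group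
    _ = a * b := by rw [hsz, mul_inv_cancel_right]

omit [Finite D] in
/-- the frame with `a` replaced by another product of elements of order 4 -/
theorem exists_move {p q : D} (hp : p ∈ A) (hq : q ∈ B) (hpp : p * p = a * b) (hqq : q * q = a * b) :
    Sheet (⊤ : Subgroup D) (p * q) (p * q * (a * b)) e A B := by
  obtain ⟨p0, hp0, q0, hq0, hpp0, hqq0, ha⟩ := h.a_eq
  obtain ⟨g, hg, hgp⟩ := h.prA.t3.conj p0 hp0 p hp hpp0 hpp
  obtain ⟨k, hk, hkq⟩ := h.prB.t3.conj q0 hq0 q hq hqq0 hqq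
  have h1 := h.conj (g * k)
  have e1 : cj (g * k) (⊤ : Subgroup D) = ⊤ := by
    rw [eq_top_iff]
    intro x _
    rw [mem_cj]; exact mem_top _
  have hgz : g * (a * b) = a * b * g := h.A_comm hg
  have hkz : k * (a * b) = a * b * k := h.B_comm hk
  have hgk : g * k * (a * b) = a * b * (g * k) := by rw [mul_assoc, hkz, ← mul_assoc, hgz, mul_assoc]
  have e2 : g * k * e * (g * k)⁻¹ = e := by rw [h.comm_e_iff.2 hgk, mul_inv_cancel_right]
  have c1 : k * p0 = p0 * k := (h.AB p0 hp0 k hk).symm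
  have c2 : g * q0 = q0 * g := h.AB g hg q0 hq0
  have c3 : g * q = q * g := h.AB g hg q hq
  have e3 : g * k * a * (g * k)⁻¹ = p * q := by
    rw [ha]
    calc g * k * (p0 * q0) * (g * k)⁻¹ = g * (k * p0) * q0 * k⁻¹ * g⁻¹ := by group
      _ = (g * p0) * (k * q0 * k⁻¹) * g⁻¹ := by rw [c1]; group
      _ = g * p0 * (q * g⁻¹) := by rw [hkq, mul_assoc]
      _ = (g * p0 * g⁻¹) * q := by
        have : q * g⁻¹ = g⁻¹ * q := ((show Commute g q from c3).inv_left.eq).symm
        rw [this]; group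
      _ = p * q := by rw [hgp]
  have hb : b = a * (a * b) := by rw [← mul_assoc, h.aa, one_mul]
  have e4 : g * k * b * (g * k)⁻¹ = p * q * (a * b) := by
    calc g * k * b * (g * k)⁻¹ = g * k * (a * (a * b)) * (g * k)⁻¹ := by rw [← hb]
      _ = (g * k * a * (g * k)⁻¹) * (g * k * (a * b) * (g * k)⁻¹) := by group
      _ = p * q * (a * b) := by rw [e3, hgk, mul_inv_cancel_right]
  have e5 : cj (g * k) A = A := by
    ext x
    rw [mem_cj]
    have hn : ∀ y ∈ A, k * y * k⁻¹ = y := fun y hy => by rw [← h.AB y hy k hk, mul_inv_cancel_right]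
    constructor
    · intro hx
      have h2 := mul_mem (mul_mem hg hx) (inv_mem hg)
      have h3 := hn _ hx
      have h4 : x = g * (k * ((g * k)⁻¹ * x * (g * k)) * k⁻¹) * g⁻¹ := by group
      rw [h4, h3]; exact h2
    · intro hx
      have h2 := mul_mem (mul_mem (inv_mem hg) hx) hg
      have h3 : k⁻¹ * (g⁻¹ * x * g) * k = g⁻¹ * x * g := by
        rw [mul_assoc, h.AB _ h2 k hk]; group
      have h4 : (g * k)⁻¹ * x * (g * k) = k⁻¹ * (g⁻¹ * x * g) * k := by group
      rw [h4, h3]; exact h2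
  have e6 : cj (g * k) B = B := by
    ext x
    rw [mem_cj]
    have hn : ∀ y ∈ B, g⁻¹ * y * g = y := fun y hy => by
      rw [mul_assoc, ← h.AB g hg y hy]; group
    constructor
    · intro hx
      have h2 := mul_mem (mul_mem hk hx) (inv_mem hk)
      have h3 := hn _ h2
      have h4 : g⁻¹ * (k * ((g * k)⁻¹ * x * (g * k)) * k⁻¹) * g = g⁻¹ * (g⁻¹ * x * g) * g := by group
      have h5 : x = g * (k * ((g * k)⁻¹ * x * (g * k)) * k⁻¹) * g⁻¹ := by group
      have h6 : g * (k * ((g * k)⁻¹ * x * (g * k)) * k⁻¹) * g⁻¹ = k * ((g * k)⁻¹ * x * (g * k)) * k⁻¹ := by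
        rw [h.AB g hg _ h2, mul_inv_cancel_right]
      rw [h5, h6]; exact h2
    · intro hx
      have h3 := hn x hx
      have h4 : (g * k)⁻¹ * x * (g * k) = k⁻¹ * (g⁻¹ * x * g) * k := by group
      rw [h4, h3]
      exact mul_mem (mul_mem (inv_mem hk) hx) hk
  rw [e1, e2, e3, e4, e5, e6] at h1
  exact h1

/-- the position at `z` -/
theorem of_pos {A' B' : Subgroup D} {w : D} (hp : Pos (a * b) A' B' w) :
    ∃ e' : D, Sheet (⊤ : Subgroup D) w (w * (a * b)) e' A' B' := by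
  have hne : A' ≠ B' := by
    intro h1
    obtain ⟨p, hpA, q, hqA, -, -, hpq⟩ := hp.a.pr.t3.ex4
    exact hpq (mem_centralizer_iff.1 (hp.comm (h1 ▸ hqA)) p hpA)
  obtain ⟨p, hpA, q, hqB, hpp, hqq, rfl⟩ := hp.dec
  rcases h.eq_of_cl hp.a with h1 | h1 <;> rcases h.eq_of_cl hp.b with h2 | h2
  · exact absurd (h1.trans h2.symm) hne
  · subst h1 h2
    exact ⟨e, h.exists_move hpA hqB hpp hqq⟩
  · subst h1 h2
    obtain ⟨a', b', hab, h3⟩ := h.exists_swap
    rw [← hab] at hpp hqq ⊢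
    exact ⟨e, h3.exists_move hpA hqB hpp hqq⟩
  · exact absurd (h1.trans h2.symm) hne

end Sheet

end

/-- **(KD), `2.U₄(3)`** -/
theorem rowD (hS : ExSheet.{u}) : RowD.{u} := by
  intro D _ _ hD x A B w hp
  obtain ⟨a, b, e, A₀, B₀, h⟩ := hS D hD
  obtain ⟨hq, hc2, F, _, _, hF, ⟨f⟩⟩ := hD
  have hF' : Fintype.card F = 3 ^ 2 := by rw [hF]; norm_num
  -- no classical pair at a central involution
  have hcentral : ∀ (x : D) (J : Subgroup D), Cl x J → x ∉ center D := by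
    intro x J hJ hx
    have h1 : centralizer ({x} : Set D) = ⊤ := by
      rw [eq_top_iff]
      intro g _
      exact mem_centralizer_singleton_iff.2 (mem_center_iff.1 hx g)
    have hsub : J.IsSubnormal := by
      have h2 := hJ.sn
      rw [h1] at h2
      exact h2.isSubnormal IsSubnormal.top
    have h2 := comm_component hJ.pr hsub (L := (⊤ : Subgroup D)) ⟨IsSubnormal.top, h.qs⟩
    obtain ⟨p, hp, q, hq, -, -, hpq⟩ := hJ.pr.t3.ex4
    exact hpq (h2 p hp q (mem_top q))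
  have hzc : a * b ∉ center D := hcentral _ _ ⟨h.prA, h.sA⟩
  have hne : e ≠ a * b := by
    intro h1
    exact h.y_ne (by rw [h1, h.zz])
  -- one class of involutions in the quotient
  let π : D →* PSU 4 F 3 := f.toMonoidHom.comp (QuotientGroup.mk' (center D))
  have hπ : ∀ g : D, π g = 1 ↔ g ∈ center D := by
    intro g
    show f (QuotientGroup.mk' (center D) g) = 1 ↔ _
    rw [← map_one f, f.injective.eq_iff]
    exact QuotientGroup.eq_one_iff g
  have hord : ∀ g : D, g * g = 1 → g ∉ center D → orderOf (π g) = 2 := by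
    intro g hg hgc
    refine orderOf_eq_prime ?_ (fun h1 => hgc ((hπ g).1 h1))
    rw [pow_two, ← map_mul, hg, map_one]
  obtain ⟨r, hr⟩ := PSUFour.isConj hF' (hord x hp.a.pr.t3.z_sq (hcentral _ _ hp.a)) (hord (a * b) h.zz hzc)
  obtain ⟨c, rfl⟩ : ∃ c : D, π c = r := by
    obtain ⟨g, hg⟩ := QuotientGroup.mk'_surjective (center D) (f.symm r)
    exact ⟨g, by show f (QuotientGroup.mk' (center D) g) = r; rw [hg, f.apply_symm_apply]⟩
  have h1 : π ((c * x * c⁻¹) * (a * b)⁻¹) = 1 := by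
    rw [map_mul, map_mul, map_mul, map_inv, map_inv, hr, mul_inv_cancel]
  have h2 := h.cen _ (mem_top _) (fun g _ => mem_center_iff.1 ((hπ _).1 h1) g)
  have hp' := hp.mapE (MulAut.conj c)
  have hcx : c * x * c⁻¹ = a * b := by
    rcases h2 with h3 | h3
    · exact mul_inv_eq_one.1 h3
    · exfalso
      have h4 : c * x * c⁻¹ = e := by
        rw [mul_inv_eq_iff_eq_mul] at h3
        rw [h3, ← h.y_comm _ (mem_top _)]
        exact h.e_eq
      have h5 : Cl (c * x * c⁻¹) (A.map (MulAut.conj c).toMonoidHom) := hp'.a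
      rw [h4] at h5
      exact h.not_cl_e h5 hne
  have hp2 : Pos (a * b) (A.map (MulAut.conj c).toMonoidHom) (B.map (MulAut.conj c).toMonoidHom) (c * w * c⁻¹) := by
    rw [← hcx]; exact hp'
  obtain ⟨e', h3⟩ := h.of_pos hp2
  have h4 := h3.conj c⁻¹
  have k1 : ∀ g : D, c⁻¹ * (c * g * c⁻¹) * c⁻¹⁻¹ = g := fun g => by group
  have k2 : ∀ K : Subgroup D, cj c⁻¹ (K.map (MulAut.conj c).toMonoidHom) = K := by
    intro K
    show cj c⁻¹ (cj c K) = K
    rw [cj_inv_cj]
  have e1 : cj c⁻¹ (⊤ : Subgroup D) = ⊤ := by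
    rw [eq_top_iff]
    intro x _
    rw [mem_cj]; exact mem_top _
  have k3 : c * w * c⁻¹ * (a * b) = c * (w * x) * c⁻¹ := by rw [← hcx]; group
  rw [k3, k1, k1, k2, k2, e1] at h4
  exact ⟨_, h4⟩

end Cfsg.Agent.OddHalf.NI3.Bad

end

-- merged: Cfsg.Agent.OddHalf.NI3.Bad.RowU4
section

/-!
# (KD), row `U₄(3)`: `RowA` (node NI over `F₃`, THEOREM NIB; helper100)

* `Pos.w_sq`, `Pos.w_ne`, `Pos.w_ord` : `w` is an involution;
* `Cl.map_equiv`, `Pos.map_equiv` : transport along isomorphisms;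
* `rowA_of_conj` : one class of involutions implies `RowA`;
* `u4` : the row.
-/

set_option autoImplicit false

namespace Cfsg.Agent.OddHalf.NI3

open Subgroup Cfsg

universe u

section

variable {D D' : Type*} [Group D] [Group D']

/-- transport of classical pairs along isomorphisms -/
theorem Cl.map_equiv {x : D} {J : Subgroup D} (h : Cl x J) (e : D ≃* D') : Cl (e x) (J.map e.toMonoidHom) := by
  have hx : e x ≠ 1 := by
    intro h1
    have h2 : x = 1 := e.injective (by rw [h1, map_one])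
    have := h.pr.ord
    rw [h2, orderOf_one] at this; omega
  refine ⟨h.pr.map e.toMonoidHom hx, ?_⟩
  have h1 := h.sn.map e.toMonoidHom
  have h2 : (centralizer ({x} : Set D)).map e.toMonoidHom = centralizer ({e x} : Set D') := by
    ext y
    rw [mem_map, mem_centralizer_singleton_iff]
    constructor
    · rintro ⟨g, hg, rfl⟩
      rw [mem_centralizer_singleton_iff] at hg
      show e g * e x = e x * e g
      rw [← map_mul, hg, map_mul]
    · intro hy
      refine ⟨e.symm y, ?_, e.apply_symm_apply y⟩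
      rw [mem_centralizer_singleton_iff]
      apply e.injective
      rw [map_mul, map_mul, e.apply_symm_apply, hy]
  rwa [h2] at h1

theorem Cl.conj {x : D} {J : Subgroup D} (h : Cl x J) (g : D) : Cl (g * x * g⁻¹) (Cit.cj g J) :=
  h.map_equiv (MulAut.conj g)

end

namespace Bad

variable {D D' : Type*} [Group D] [Group D']

theorem Pos.w_sq {x : D} {A B : Subgroup D} {w : D} (h : Pos x A B w) : w * w = 1 := by
  obtain ⟨p, hp, q, hq, h1, h2, rfl⟩ := h.dec
  have h3 : p * q = q * p := mem_centralizer_iff.1 (h.comm hq) p hp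
  have h4 : x * x = 1 := by rw [← pow_two, ← h.a.pr.ord, pow_orderOf_eq_one]
  calc p * q * (p * q) = p * (q * p) * q := by group
    _ = p * (p * q) * q := by rw [h3]
    _ = (p * p) * (q * q) := by group
    _ = 1 := by rw [h1, h2, h4]

theorem Pos.w_ne {x : D} {A B : Subgroup D} {w : D} (h : Pos x A B w) : w ≠ 1 := by
  obtain ⟨p, hp, q, hq, h1, h2, rfl⟩ := h.dec
  intro h3
  have hqA : q ∈ A := by
    have : q = p⁻¹ := by rw [eq_inv_iff_mul_eq_one, ← h3]; exact (mem_centralizer_iff.1 (h.comm hq) p hp).symm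
    rw [this]; exact inv_mem hp
  obtain ⟨i, j, d, hl⟩ := h.a.pr.sl
  have hqi : q * i = i * q := (mem_centralizer_iff.1 (h.comm hq) i hl.hi).symm
  have hqd : q * d = d * q := (mem_centralizer_iff.1 (h.comm hq) d hl.hd).symm
  -- `q` is central in `A`
  have hcen : ∀ a ∈ A, q * a = a * q := fun a ha => (mem_centralizer_iff.1 (h.comm hq) a ha).symm
  obtain ⟨e⟩ := h.a.pr.iso
  have h5 : e ⟨q, hqA⟩ ∈ center SL23 := by
    rw [mem_center_iff]
    intro g
    obtain ⟨⟨a, ha⟩, rfl⟩ := e.surjective g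
    rw [← map_mul, ← map_mul]
    congr 1
    exact Subtype.ext (hcen a ha).symm
  have h6 : ∀ g : SL23, (∀ a : SL23, a * g = g * a) → g * g = 1 := by decide +kernel
  have h7 := h6 _ (mem_center_iff.1 h5)
  rw [← map_mul, ← map_one e] at h7
  have h8 : q * q = 1 := congrArg Subtype.val (e.injective h7)
  rw [h8] at h2
  have := h.a.pr.ord
  rw [← h2, orderOf_one] at this; omega

theorem Pos.w_ord {x : D} {A B : Subgroup D} {w : D} (h : Pos x A B w) : orderOf w = 2 :=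
  orderOf_eq_prime (by rw [pow_two, h.w_sq]) h.w_ne

theorem Pos.map_equiv {x : D} {A B : Subgroup D} {w : D} (h : Pos x A B w) (e : D ≃* D') :
    Pos (e x) (A.map e.toMonoidHom) (B.map e.toMonoidHom) (e w) := by
  refine ⟨h.a.map_equiv e, h.b.map_equiv e, ?_, ?_⟩
  · rintro _ ⟨b, hb, rfl⟩
    rw [mem_centralizer_iff]
    rintro _ ⟨a, ha, rfl⟩
    show e a * e b = e b * e a
    rw [← map_mul, mem_centralizer_iff.1 (h.comm hb) a ha, map_mul]
  · obtain ⟨p, hp, q, hq, h1, h2, h3⟩ := h.dec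
    exact ⟨e p, ⟨p, hp, rfl⟩, e q, ⟨q, hq, rfl⟩, by rw [← map_mul, h1], by rw [← map_mul, h2], by rw [h3, map_mul]⟩

/-- one class of involutions implies `RowA` -/
theorem rowA_of_conj (h : ∀ x y : D, orderOf x = 2 → orderOf y = 2 → ∃ r, r * x * r⁻¹ = y) : RowA D := by
  intro x A B w hp
  obtain ⟨r, hr⟩ := h x w hp.a.pr.ord hp.w_ord
  refine ⟨Cit.cj r A, ?_⟩
  rw [← hr]
  exact hp.a.conj r

/-- **(KD), row `U₄(3)`** -/
theorem u4 (X : Type*) [Group X] (h : XU43 X) : RowA X := by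
  obtain ⟨F, _, _, hF, ⟨e⟩⟩ := h
  have hF' : Fintype.card F = 3 ^ 2 := by rw [hF]; norm_num
  refine rowA_of_conj fun x y hx hy => ?_
  have hx' : orderOf (e x) = 2 := by rw [MulEquiv.orderOf_eq]; exact hx
  have hy' : orderOf (e y) = 2 := by rw [MulEquiv.orderOf_eq]; exact hy
  obtain ⟨r, hr⟩ := PSUFour.isConj hF' hx' hy'
  refine ⟨e.symm r, ?_⟩
  apply e.injective
  rw [map_mul, map_mul, map_inv, e.apply_symm_apply, hr]

end Bad

end Cfsg.Agent.OddHalf.NI3

end

-- merged: Cfsg.Agent.OddHalf.NI3.Bad.RowG2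
section

/-!
# (KD), row `G₂(3)`: `RowA` (one class of involutions)
-/

set_option autoImplicit false

namespace Cfsg.Agent.OddHalf.NI3.Bad

open Subgroup Cfsg Cfsg.Agent.OddHalf.LieOddFam Cfsg.Agent.Cit

/-- One class of involutions in `G₂(F)`, `F` finite of odd order. -/
theorem isConj_G2 {F : Type*} [Field F] [Finite F] (h2 : (2 : F) ≠ 0) {x y : ↥(Lie.chevG2.group F)}
    (hx : orderOf x = 2) (hy : orderOf y = 2) : ∃ r, r * x * r⁻¹ = y := by
  have key : ∀ t : ↥(Lie.chevG2.group F), orderOf t = 2 → IsConj t (HexG2.g2 F h2).z := by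
    intro t ht
    refine (HexG2.g2 F h2).isConj_z h2 ?_ ?_
    · rw [← pow_two, ← ht, pow_orderOf_eq_one]
    · rintro rfl
      rw [orderOf_one] at ht; omega
  exact isConj_iff.1 ((key x hx).trans (key y hy).symm)

/-- **(KD), row `G₂(3)`** -/
theorem g2 (X : Type*) [Group X] (h : FG2 X 3) : RowA X := by
  obtain ⟨F, _, _, hF, ⟨e⟩⟩ := h
  have h2 : (2 : F) ≠ 0 := by
    intro h2
    have h3 : ((3 : ℕ) : F) = 0 := by
      rw [← hF]
      exact Nat.cast_card_eq_zero F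
    have h4 : (1 : F) = 0 := by
      have : (1 : F) = ((3 : ℕ) : F) - 2 := by push_cast; norm_num
      rw [this, h3, h2, sub_zero]
    exact one_ne_zero h4
  refine rowA_of_conj fun x y hx hy => ?_
  have hx' : orderOf (e x) = 2 := by rw [MulEquiv.orderOf_eq]; exact hx
  have hy' : orderOf (e y) = 2 := by rw [MulEquiv.orderOf_eq]; exact hy
  obtain ⟨r, hr⟩ := isConj_G2 h2 hx' hy'
  refine ⟨e.symm r, ?_⟩
  apply e.injective
  rw [map_mul, map_mul, map_inv, e.apply_symm_apply, hr]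

end Cfsg.Agent.OddHalf.NI3.Bad

end

-- merged: Cfsg.Agent.OddHalf.NI3.Bad.RowL4
section

/-!
# (KD), row `L₄(3)`: `RowB` (node NI over `F₃`, THEOREM NIB; helper921)

`L₄(3) = Ω₆⁺(3)`: `rowB6` : `RowB (Om Q)`, `dim V = 6`, `-1 ∉ Ω(V)`; `l4` : the row of `KD`.
-/

set_option autoImplicit false
set_option linter.unusedSectionVars false
set_option linter.unusedVariables false
set_option linter.style.haveILetI false

namespace Cfsg.Agent.OddHalf.NI3.Bad.RowL4

open scoped commutatorElement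
open QuadraticMap Module Cfsg.Agent.LieClassical.OrthCore Cfsg.Agent.OddHalf.NI3.Bad.Emb
  Cfsg.Agent.ClassicalGeometry.OddInvolutions Cfsg.Agent.OddHalf.NI3.Bad.QPair Cfsg.Agent.OddHalf.NI3.Bad.Sim
  Cfsg.Agent.OddHalf.NI3.Bad.Frame Cfsg.Agent.OddHalf.NI3.Bad.Models Cfsg.Agent.OddHalf.NI3.Bad.Triv
  Cfsg.Agent.OddHalf.NI3.Bad.Cube Cfsg.Agent.Cit Cfsg.Agent.Cit.SolvTwo
open Cfsg.Agent.OddHalf.NI (CompIn)

theorem inn3_psl2 {K : Type*} [Field K] [Fintype K] (hK : Fintype.card K = 9)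
    (hZ : Subgroup.center (Matrix.ProjectiveSpecialLinearGroup (Fin 2) K) = ⊥) :
    Inn3 (Matrix.ProjectiveSpecialLinearGroup (Fin 2) K) := by
  haveI hp3 : Fact (Nat.Prime 3) := ⟨Nat.prime_three⟩
  haveI : Finite (Matrix.ProjectiveSpecialLinearGroup (Fin 2) K) := inferInstanceAs (Finite (_ ⧸ _))
  refine inn3_of_card hZ (m := 4) (by norm_num) ?_
  have h1 := S0243.result hK 2 (by omega)
  have h2 : Nat.gcd 2 (9 - 1) = 2 := by decide
  have h4 : ∏ i : Fin 2, (9 ^ 2 - 9 ^ (i : ℕ)) = 5760 := by decide +kernel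
  have h5 : Nat.card (Matrix.ProjectiveSpecialLinearGroup (Fin 2) K) = 360 := by
    rw [h2, h4] at h1
    omega
  rw [S0813.result 3 2 (by norm_num) (by rw [hK]; norm_num) 2 (by norm_num) (by norm_num)]
  have h6 : Nat.card (Matrix.ProjGenLinGroup (Fin 2) K) = 720 := by
    rw [S0265.result 2]
    have h8 := S0242.result hK 2 (by norm_num)
    rw [h4] at h8
    omega
  rw [h6, h5]
  norm_num

section

variable {F V : Type*} [Field F] [Fintype F] [AddCommGroup V] [Module F V] [FiniteDimensional F V]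
  {Q : QuadraticForm F V}

/-- isometries of order 3 fix the invariant planes -/
theorem planeG {ι : Type} [Fintype ι] [DecidableEq ι] {d : ι → F} {f : ι → V} (hF : Fintype.card F = 3)
    (hf : OF Q d f) {a b : ι} (hab : a ≠ b) {g : V ≃ₗ[F] V} (hgO : g ∈ O Q) (hg : g * g * g = 1)
    (h1 : ∃ r s : F, g (f a) = r • f a + s • f b) (h1' : ∃ r s : F, g (f b) = r • f a + s • f b) :
    g (f a) = f a := by
  have h2 := two_ne hF
  obtain ⟨r, s, hrs⟩ := h1
  obtain ⟨r', s', hrs'⟩ := h1'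
  have hpab : polar Q (f a) (f b) = 0 := hf.orth a b hab
  have hpba : polar Q (f b) (f a) = 0 := hf.orth b a (Ne.symm hab)
  have hna : Q (r • f a + s • f b) = d a * (r * r) + d b * (s * s) := by
    rw [Q_add, QuadraticMap.map_smul, QuadraticMap.map_smul, polar_smul_left, polar_smul_right, hpab, hf.nm, hf.nm]
    simp only [smul_eq_mul]; ring
  have h3 : d a * (r * r) + d b * (s * s) = d a := by
    have h4 := mem_O.1 hgO (f a)
    rwa [hrs, hna, hf.nm] at h4
  have h5 : d a * (r * r') + d b * (s * s') = 0 := by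
    have h6 := polar_map hgO (f a) (f b)
    rw [hrs, hrs', hpab] at h6
    simp only [polar_add_left, polar_add_right, polar_smul_left, polar_smul_right, hpab, hpba, polar_self', hf.nm,
      smul_eq_mul] at h6
    have h7 : 2 * (d a * (r * r') + d b * (s * s')) = 0 := by linear_combination h6
    exact (mul_eq_zero.1 h7).resolve_left h2
  by_cases hs : s = 0
  · rw [hs, zero_smul, add_zero] at hrs
    exact cube_scalar hF (OF_ne_zero hf a) hg hrs
  · exfalso
    have hr : r = 0 := by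
      by_contra hr
      rw [mul_self_eq hF hs, mul_self_eq hF hr] at h3
      exact hf.ne b (by linear_combination h3)
    rw [hr, zero_mul, mul_zero, zero_add] at h5
    have hs' : s' = 0 := (mul_eq_zero.1 ((mul_eq_zero.1 h5).resolve_left (hf.ne b))).resolve_left hs
    rw [hr, zero_smul, zero_add] at hrs
    rw [hs', zero_smul, add_zero] at hrs'
    have h10 : g (g (g (f a))) = f a := by
      have := congrArg (fun l : V ≃ₗ[F] V => l (f a)) hg
      exact this
    rw [hrs, map_smul, hrs', map_smul, map_smul, hrs] at h10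
    have h11 := congrArg (fun y => polar Q (f a) y) h10
    simp only [polar_smul_right, hpab, polar_self', hf.nm, smul_zero] at h11
    exact mul_ne_zero h2 (hf.ne a) h11.symm

/-- the setting -/
structure Ctx2 (Q : QuadraticForm F V) (x : V ≃ₗ[F] V) (ce : F) (d : Fin 2 → F)
    (e : Fin 4 → V) (f : Fin 2 → V) : Prop where
  hF : Fintype.card F = 3
  nd : Nondeg Q
  hn : finrank F V = 6
  neg : ¬ Neg Q
  he : OF Q (fun _ => ce) e
  hf : OF Q d f
  ef : ∀ i k, polar Q (e i) (f k) = 0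
  xO : x ∈ O Q
  xe : ∀ i, x (e i) = -e i
  xf : ∀ k, x (f k) = f k

variable {x : V ≃ₗ[F] V} {ce : F} {d : Fin 2 → F} {e : Fin 4 → V} {f : Fin 2 → V}

namespace Ctx2

variable (h : Ctx2 Q x ce d e f)

include h

theorem h2 : (2 : F) ≠ 0 := two_ne h.hF

theorem full : OF Q (Sum.elim (fun _ => ce) d) (Sum.elim e f) := OF_sum h.he h.hf h.ef

theorem full_card : Fintype.card (Fin 4 ⊕ Fin 2) = finrank F V := by
  rw [Fintype.card_sum, Fintype.card_fin, Fintype.card_fin, h.hn]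

theorem ext {g k : V ≃ₗ[F] V} (h1 : ∀ i, g (e i) = k (e i)) (h3 : ∀ i, g (f i) = k (f i)) : g = k := by
  have h4 : ∀ v, (k⁻¹ * g) v = v := by
    apply ext_full h.h2 h.full h.full_card
    have h5 : ∀ v, g v = k v → (k⁻¹ * g) v = v := by
      intro v hv
      show k.symm (g v) = v
      rw [hv, k.symm_apply_apply]
    rintro (i | i)
    · exact h5 _ (h1 i)
    · exact h5 _ (h3 i)
  ext v
  have h5 : k.symm (g v) = v := h4 v
  rw [← k.apply_symm_apply (g v), h5]

theorem mem_plus {v : V} (hv : x v = v) (i : Fin 4) : polar Q (e i) v = 0 := by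
  rw [polar_comm]
  exact eig_orth h.h2 h.xO hv (h.xe i)

/-- `V_+ = ⟨f 0, f 1⟩` -/
theorem plus_span {v : V} (hv : x v = v) : ∃ r s : F, v = r • f 0 + s • f 1 := by
  have h1 : v - (h.hf.ad h.h2).L ((h.hf.ad h.h2).R v) = 0 := by
    apply h.full.eq_zero h.h2 h.full_card
    rintro (i | i)
    · show polar Q (e i) _ = 0
      rw [polar_sub_right, h.mem_plus hv, h.hf.L_apply h.h2]
      have h3 : polar Q (e i) (∑ k, (h.hf.ad h.h2).R v k • f k) = 0 := by
        rw [polar_comm, polar_sum_left]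
        refine Finset.sum_eq_zero fun k _ => ?_
        rw [polar_comm, h.ef, mul_zero]
      rw [h3, sub_zero]
    · exact OF_proj_mem h.h2 h.hf v i
  refine ⟨(h.hf.ad h.h2).R v 0, (h.hf.ad h.h2).R v 1, ?_⟩
  rw [← Fin.sum_univ_two (fun i => (h.hf.ad h.h2).R v i • f i), ← h.hf.L_apply h.h2]
  exact sub_eq_zero.1 h1

theorem swap_span {v : V} (hv : ∃ r s : F, v = r • f 0 + s • f 1) : ∃ r s : F, v = r • f 1 + s • f 0 := by
  obtain ⟨r, s, hrs⟩ := hv
  exact ⟨s, r, by rw [hrs, add_comm]⟩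

/-- the elements of order 3 of `C(x)` are trivial on `V_+` -/
theorem cube_fix {v : V ≃ₗ[F] V} (hvO : v ∈ O Q) (hvx : v * x = x * v) (hv3 : v * v * v = 1) :
    ∀ i, v (f i) = f i := by
  have hcx : ∀ i, x (v (f i)) = v (f i) := by
    intro i
    have h3 : (x * v) (f i) = (v * x) (f i) := by rw [hvx]
    have h4 : x (v (f i)) = v (x (f i)) := h3
    rw [h4, h.xf]
  intro i
  fin_cases i
  · exact planeG h.hF h.hf (a := 0) (b := 1) (by decide) hvO hv3 (h.plus_span (hcx 0)) (h.plus_span (hcx 1))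
  · exact planeG h.hF h.hf (a := 1) (b := 0) (by decide) hvO hv3 (h.swap_span (h.plus_span (hcx 1)))
      (h.swap_span (h.plus_span (hcx 0)))

theorem triv {J : Subgroup (V ≃ₗ[F] V)} (hJ : IsPr J x) (hs : J ≤ Om Q ⊓ Subgroup.centralizer {x})
    {g : V ≃ₗ[F] V} (hg : g ∈ J) : ∀ i, g (f i) = f i := by
  let S : Subgroup (V ≃ₗ[F] V) :=
    { carrier := {g | ∀ i, g (f i) = f i}
      mul_mem' := fun {a b} ha hb i => by
        show a (b (f i)) = f i
        rw [hb i, ha i]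
      one_mem' := fun _ => rfl
      inv_mem' := fun {a} ha i => by
        show a.symm (f i) = f i
        rw [LinearEquiv.symm_apply_eq, ha i] }
  have h1 : J ≤ S := by
    apply hJ.le_of_cube
    intro w hw hw3
    have h4 := hs hw
    rw [Subgroup.mem_inf, Subgroup.mem_centralizer_singleton_iff] at h4
    exact h.cube_fix (Subgroup.commutator_le_self _ h4.1) h4.2 hw3
  exact h1 hg

end Ctx2

/-! ### The family `e₂, e₃, f` -/

/-- values -/
def dm4 (ce : F) (d : Fin 2 → F) : Fin 2 ⊕ Fin 2 → F := Sum.elim (fun _ => ce) d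

/-- the family -/
def fm4 (e : Fin 4 → V) (f : Fin 2 → V) : Fin 2 ⊕ Fin 2 → V := Sum.elim (e ∘ ![2, 3]) f

theorem hfm4 (h : Ctx2 Q x ce d e f) : OF Q (dm4 ce d) (fm4 e f) :=
  OF_sum (h.he.comp ![2, 3] RowOrth.inj23) h.hf fun i k => h.ef _ k

theorem fm4_e0 (h : Ctx2 Q x ce d e f) {l : Fin 4} (hl : l = 0 ∨ l = 1) (i : Fin 2 ⊕ Fin 2) :
    polar Q (fm4 e f i) (e l) = 0 := by
  rcases i with i | i
  · refine h.he.orth _ _ ?_
    fin_cases i <;> rcases hl with rfl | rfl <;> decide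
  · show polar Q (f i) (e l) = 0
    rw [polar_comm]; exact h.ef l i

/-- `w` : `-1` on `e₀, e₁` -/
structure WW (e : Fin 4 → V) (f : Fin 2 → V) (w : V ≃ₗ[F] V) : Prop where
  w0 : w (e 0) = -e 0
  w1 : w (e 1) = -e 1
  w2 : w (e 2) = e 2
  w3 : w (e 3) = e 3
  wf : ∀ i, w (f i) = f i

/-- `-1` on the family -/
theorem ng4 (h : Ctx2 Q x ce d e f) {w : V ≃ₗ[F] V} (hw : WW e f w) :
    ((hfm4 h).ad h.h2).ng = LinearEquiv.neg F * w := by
  have h0 : ∀ l : Fin 4, (l = 0 ∨ l = 1) → ((hfm4 h).ad h.h2).ng (e l) = e l := by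
    intro l hl
    rw [OF_ng_iff]
    exact fun i => fm4_e0 h hl i
  have h1 : ∀ i, ((hfm4 h).ad h.h2).ng (fm4 e f i) = -fm4 e f i := fun i => OF_ng_f h.h2 (hfm4 h) i
  apply h.ext
  · intro i
    show ((hfm4 h).ad h.h2).ng (e i) = -(w (e i))
    fin_cases i
    · show ((hfm4 h).ad h.h2).ng (e 0) = -(w (e 0))
      rw [h0 0 (Or.inl rfl), hw.w0, neg_neg]
    · show ((hfm4 h).ad h.h2).ng (e 1) = -(w (e 1))
      rw [h0 1 (Or.inr rfl), hw.w1, neg_neg]
    · show ((hfm4 h).ad h.h2).ng (e 2) = -(w (e 2))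
      rw [hw.w2]; exact h1 (Sum.inl 0)
    · show ((hfm4 h).ad h.h2).ng (e 3) = -(w (e 3))
      rw [hw.w3]; exact h1 (Sum.inl 1)
  · intro i
    show ((hfm4 h).ad h.h2).ng (f i) = -(w (f i))
    rw [hw.wf]; exact h1 (Sum.inr i)

theorem comm_ng4 (h : Ctx2 Q x ce d e f) {w : V ≃ₗ[F] V} (hw : WW e f w) {g : V ≃ₗ[F] V} (hg : g * w = w * g) :
    g * ((hfm4 h).ad h.h2).ng = ((hfm4 h).ad h.h2).ng * g := by
  rw [ng4 h hw, ← mul_assoc, Ctx3.neg_comm, mul_assoc, hg, mul_assoc]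

theorem B_comm (h : Ctx2 Q x ce d e f) {w : V ≃ₗ[F] V} (hw : WW e f w) {g : V ≃ₗ[F] V}
    (hg : g ∈ ((hfm4 h).ad h.h2).B) : g * w = w * g := by
  have h1 : g * ((hfm4 h).ad h.h2).ng = ((hfm4 h).ad h.h2).ng * g := by
    obtain ⟨k, _, rfl⟩ := hg
    rw [Ad.ng, ← map_mul, ← map_mul, Ctx3.neg_comm]
  have h3 : w = LinearEquiv.neg F * ((hfm4 h).ad h.h2).ng := by
    rw [ng4 h hw, ← mul_assoc]
    have : (LinearEquiv.neg F : V ≃ₗ[F] V) * LinearEquiv.neg F = 1 := by
      ext v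
      show - -v = v
      rw [neg_neg]
    rw [this, one_mul]
  rw [h3, ← mul_assoc, Ctx3.neg_comm, mul_assoc, h1, mul_assoc]

theorem ne01 : (Sum.inl 0 : Fin 2 ⊕ Fin 2) ≠ Sum.inl 1 := by decide

/-- `w x` is `-1` on `e₂, e₃` -/
theorem wx (h : Ctx2 Q x ce d e f) {w : V ≃ₗ[F] V} (hw : WW e f w) :
    w * x = sg2 h.h2 (hfm4 h) (a := Sum.inl 0) (b := Sum.inl 1) ne01 := by
  have h0 : ∀ l : Fin 4, (l = 0 ∨ l = 1) →
      sg2 h.h2 (hfm4 h) (a := Sum.inl 0) (b := Sum.inl 1) ne01 (e l) = e l := by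
    intro l hl
    rw [sg2_iff]
    exact ⟨fm4_e0 h hl _, fm4_e0 h hl _⟩
  apply h.ext
  · intro i
    show w (x (e i)) = _
    rw [h.xe, map_neg]
    fin_cases i
    · show -(w (e 0)) = sg2 _ _ _ (e 0)
      rw [h0 0 (Or.inl rfl), hw.w0, neg_neg]
    · show -(w (e 1)) = sg2 _ _ _ (e 1)
      rw [h0 1 (Or.inr rfl), hw.w1, neg_neg]
    · show -(w (e 2)) = sg2 _ _ _ (e 2)
      rw [hw.w2]; exact (sg2_left h.h2 (hfm4 h) ne01).symm
    · show -(w (e 3)) = sg2 _ _ _ (e 3)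
      rw [hw.w3]; exact (sg2_right h.h2 (hfm4 h) ne01).symm
  · intro i
    show w (x (f i)) = _
    rw [h.xf, hw.wf]
    symm
    rw [sg2_iff]
    exact ⟨h.ef _ _, h.ef _ _⟩

theorem finrank4 : finrank F (Fin 2 ⊕ Fin 2 → F) = 4 := by
  rw [finrank_fintype_fun_eq_card, Fintype.card_sum, Fintype.card_fin]

theorem neg4 (h : Ctx2 Q x ce d e f) {w : V ≃ₗ[F] V} (hw : WW e f w) : ¬ Neg (DQ (dm4 ce d)) := by
  intro h1
  apply h.neg
  have h3 : ((hfm4 h).ad h.h2).ng ∈ Om Q := Ad.B_le _ ⟨_, h1, rfl⟩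
  have hw' : w = sg2 h.h2 h.he (a := 0) (b := 1) (by decide) := by
    apply h.ext
    · intro i
      fin_cases i
      · show w (e 0) = sg2 _ _ _ (e 0)
        rw [hw.w0]; exact (sg2_left h.h2 h.he _).symm
      · show w (e 1) = sg2 _ _ _ (e 1)
        rw [hw.w1]; exact (sg2_right h.h2 h.he _).symm
      · show w (e 2) = sg2 _ _ _ (e 2)
        rw [hw.w2]; symm; rw [sg2_iff]
        exact ⟨h.he.orth 0 2 (by decide), h.he.orth 1 2 (by decide)⟩
      · show w (e 3) = sg2 _ _ _ (e 3)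
        rw [hw.w3]; symm; rw [sg2_iff]
        exact ⟨h.he.orth 0 3 (by decide), h.he.orth 1 3 (by decide)⟩
    · intro i
      rw [hw.wf]; symm; rw [sg2_iff]
      exact ⟨h.ef _ _, h.ef _ _⟩
  have h4 : w ∈ Om Q := by rw [hw']; exact sg2_mem_Om h.h2 h.he _ rfl
  have h5 : ((hfm4 h).ad h.h2).ng * w = LinearEquiv.neg F := by
    have h6 : w * w = 1 := by rw [hw']; exact sg2_mul_self _ _ _
    rw [ng4 h hw, mul_assoc, h6, mul_one]
  unfold Sim.Neg
  rw [← h5]
  exact (Om Q).mul_mem h3 h4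

theorem center4 (h : Ctx2 Q x ce d e f) {w : V ≃ₗ[F] V} (hw : WW e f w) :
    Subgroup.center (Om (DQ (dm4 ce d))) = ⊥ :=
  center_eq_bot ((hfm4 h).nondeg h.h2) (by rw [finrank4]; norm_num) (neg4 h hw)

theorem qs4 (h : Ctx2 Q x ce d e f) {w : V ≃ₗ[F] V} (hw : WW e f w) :
    Cfsg.IsQuasisimple ↥((hfm4 h).ad h.h2).B ∧ Inn3 (Om (DQ (dm4 ce d))) := by
  have hnd : Nondeg (DQ (dm4 ce d)) := (hfm4 h).nondeg h.h2
  haveI : Fact (Nat.Prime 3) := ⟨Nat.prime_three⟩
  haveI : Fintype (GaloisField 3 2) := Fintype.ofFinite _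
  have hK : Fintype.card (GaloisField 3 2) = 9 := by
    rw [← Nat.card_eq_fintype_card, GaloisField.card 3 2 (by norm_num)]; norm_num
  obtain ⟨E⟩ := om4 h.hF hnd finrank4 (neg4 h hw) (K := GaloisField 3 2) hK
  have hs : IsSimpleGroup (Matrix.ProjectiveSpecialLinearGroup (Fin 2) (GaloisField 3 2)) :=
    Matrix.ProjectiveSpecialLinearGroup.rank_two_simple (by rw [Nat.card_eq_fintype_card, hK]; norm_num)
  have hs' : IsSimpleGroup (Om (DQ (dm4 ce d))) := E.isSimpleGroup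
  have hc := center4 h hw
  exact ⟨SignalizersComponents.Components.isQuasisimple_of_mulEquiv ((hfm4 h).ad h.h2).BEquiv (Ctx3.qs_of hs' hc),
    (inn3_psl2 hK (RowOrth.center_of_equiv E hc)).congr E⟩

/-- an element of order 3 of `B` commuting with `w x` is trivial -/
theorem eq_one (h : Ctx2 Q x ce d e f) {w : V ≃ₗ[F] V} (hw : WW e f w) {g : V ≃ₗ[F] V}
    (hg : g ∈ ((hfm4 h).ad h.h2).B) (h3 : g * g * g = 1) (hc : g * (w * x) = w * x * g) : g = 1 := by
  have hgF := Ad.B_le_Fx _ h.nd hg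
  have hgO : g ∈ O Q := hgF.1
  rw [wx h hw] at hc
  have g0 : ∀ l : Fin 4, (l = 0 ∨ l = 1) → g (e l) = e l := by
    intro l hl
    apply hgF.2
    rw [OF.R_eq_zero_iff]
    exact fun i => fm4_e0 h hl i
  have hsy : ∀ y, sg2 h.h2 (hfm4 h) (a := Sum.inl 0) (b := Sum.inl 1) ne01 (g y) =
      g (sg2 h.h2 (hfm4 h) (a := Sum.inl 0) (b := Sum.inl 1) ne01 y) := by
    intro y
    have h4 := congrArg (fun l : V ≃ₗ[F] V => l y) hc
    exact h4.symm
  have sp2 := sg2_neg h.h2 (hfm4 h) ne01 (y := g (e 2))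
    (by rw [hsy]; exact (congrArg g (sg2_left h.h2 (hfm4 h) ne01)).trans (map_neg g _))
  have sp3 := sg2_neg h.h2 (hfm4 h) ne01 (y := g (e 3))
    (by rw [hsy]; exact (congrArg g (sg2_right h.h2 (hfm4 h) ne01)).trans (map_neg g _))
  have g2 : g (e 2) = e 2 :=
    planeG h.hF (hfm4 h) (a := Sum.inl 0) (b := Sum.inl 1) ne01 hgO h3 sp2 sp3
  have g3 : g (e 3) = e 3 := by
    refine planeG h.hF (hfm4 h) (a := Sum.inl 1) (b := Sum.inl 0) ne01.symm hgO h3 ?_ ?_
    · obtain ⟨r, s, hrs⟩ := sp3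
      exact ⟨s, r, by rw [add_comm]; exact hrs⟩
    · obtain ⟨r, s, hrs⟩ := sp2
      exact ⟨s, r, by rw [add_comm]; exact hrs⟩
  have ge : ∀ i, g (e i) = e i := by
    intro i
    fin_cases i
    · exact g0 0 (Or.inl rfl)
    · exact g0 1 (Or.inr rfl)
    · exact g2
    · exact g3
  have hgx : g * x = x * g := by
    apply h.ext
    · intro i
      show g (x (e i)) = x (g (e i))
      rw [h.xe, map_neg, ge, h.xe]
    · intro i
      show g (x (f i)) = x (g (f i))
      rw [h.xf]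
      -- `g (f i) ⊥ e`, so it is in `V_+`
      have h5 : ((h.he.ad h.h2).ng) (g (f i)) = g (f i) := by
        rw [OF_ng_iff]
        intro k
        rw [← ge k, polar_map hgO]
        exact h.ef k i
      have h6 : (h.he.ad h.h2).ng = x := by
        apply h.ext
        · intro i
          rw [h.xe, OF_ng_f]
        · intro i
          rw [h.xf, OF_ng_iff]
          exact fun k => h.ef k i
      rw [h6] at h5
      exact h5.symm
  exact h.ext ge (h.cube_fix hgO hgx h3)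

/-- **the row for `Ω₆⁺(3)`** -/
theorem rowB6 (hF : Fintype.card F = 3) (hQ : Nondeg Q) (hn : finrank F V = 6)
    (hneg : ¬ Neg Q) : RowB ↥(Om Q) := by
  intro x A B w hpos
  have h2 := two_ne hF
  obtain ⟨p, hp, q, hq, hpp, hqq, hw⟩ := hpos.dec
  obtain ⟨j, hj, hjj, hpj⟩ := RowOrth.anti hpos.a.pr hp hpp
  obtain ⟨k, hk, hkk, hqk⟩ := RowOrth.anti hpos.b.pr hq hqq
  have hc : ∀ a ∈ A, ∀ b ∈ B, a * b = b * a := fun a ha b hb => Subgroup.mem_centralizer_iff.1 (hpos.comm hb) a ha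
  have hOm : Om Q ≤ O Q := Subgroup.commutator_le_self _
  have ap : ∀ {a b : ↥(Om Q)}, a = b → ∀ v : V, (a : V ≃ₗ[F] V) v = (b : V ≃ₗ[F] V) v := by
    intro a b hab v; rw [hab]
  have hxx : x * x = 1 := hpos.a.pr.t3.z_sq
  have hx1 : x ≠ 1 := hpos.a.pr.t3.z_ne
  have hx1' : (x : V ≃ₗ[F] V) ≠ 1 := fun h => hx1 (Subtype.ext h)
  have hQd : Qd (x : V ≃ₗ[F] V) p j q k :=
    { xx := ap hxx
      pp := ap hpp
      jj := ap hjj
      qq := ap hqq
      kk := ap hkk
      pj := ap hpj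
      qk := ap hqk
      pq := ap (hc p hp q hq)
      pk := ap (hc p hp k hk)
      jq := ap (hc j hj q hq)
      jk := ap (hc j hj k hk) }
  obtain ⟨e0, he1, he2, he3, he4, hfix⟩ := hQd.frame h2 hQ (hOm x.2) (hOm p.2) (hOm j.2) (hOm q.2) (hOm k.2)
    (by
      by_contra hcon
      push Not at hcon
      exact hx1' (LinearEquiv.ext hcon))
    (Or.inl (by rw [hn]; norm_num))
  have he := hQd.fr_OF h2 (hOm p.2) (hOm j.2) (hOm q.2) (hOm k.2) he1 he2 he3 he4
  set e := fr (p : V ≃ₗ[F] V) j e0 with hedef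
  obtain ⟨d, f, hf, hef⟩ : ∃ (d : Fin 2 → F) (f : Fin 2 → V), OF Q d f ∧ ∀ i k, polar Q (e i) (f k) = 0 := by
    have hr := finrank_pc h2 he
    rw [Fintype.card_fin, hn] at hr
    obtain ⟨c, _, f', h3⟩ := exists_OF_one h2 (nondeg_res h2 hQ he) (ι := Fin 2) (by rw [Fintype.card_fin]; omega) 0
    exact ⟨_, fun k => (f' k : V), ⟨fun i => h3.nm i, h3.ne, fun i j hij => h3.orth i j hij⟩,
      fun i k => (f' k).2 i⟩
  have h : Ctx2 Q (x : V ≃ₗ[F] V) (Q e0) d e f :=
    { hF := hF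
      nd := hQ
      hn := hn
      neg := hneg
      he := he
      hf := hf
      ef := hef
      xO := hOm x.2
      xe := hQd.fr_x he1
      xf := fun i => hfix _ fun l => hef l i }
  have hA : IsPr (A.map (Om Q).subtype) (x : V ≃ₗ[F] V) := hpos.a.pr.map (Om Q).subtype hx1'
  have hB : IsPr (B.map (Om Q).subtype) (x : V ≃ₗ[F] V) := hpos.b.pr.map (Om Q).subtype hx1'
  have hsA : Sn (A.map (Om Q).subtype) (Om Q ⊓ Subgroup.centralizer ({(x : V ≃ₗ[F] V)} : Set (V ≃ₗ[F] V))) := by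
    rw [← RowOrth.cent_map]; exact hpos.a.sn.map _
  have hsB : Sn (B.map (Om Q).subtype) (Om Q ⊓ Subgroup.centralizer ({(x : V ≃ₗ[F] V)} : Set (V ≃ₗ[F] V))) := by
    rw [← RowOrth.cent_map]; exact hpos.b.sn.map _
  have hW : WW e f (w : V ≃ₗ[F] V) := by
    obtain ⟨w0, w1, w2, w3⟩ := hQd.fr_w he1 he2
    have hwv : ∀ v, (w : V ≃ₗ[F] V) v = (p : V ≃ₗ[F] V) ((q : V ≃ₗ[F] V) v) := ap hw
    refine ⟨by rw [hwv]; exact w0, by rw [hwv]; exact w1, by rw [hwv]; exact w2, by rw [hwv]; exact w3, ?_⟩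
    intro i
    have t1 : (q : V ≃ₗ[F] V) (f i) = f i := h.triv hB hsB.1 ⟨q, hq, rfl⟩ i
    have t2 : (p : V ≃ₗ[F] V) (f i) = f i := h.triv hA hsA.1 ⟨p, hp, rfl⟩ i
    rw [hwv, t1, t2]
  set L := ((hfm4 h).ad h.h2).B with hL
  have hLle : L ≤ Om Q := Ad.B_le _
  obtain ⟨hqs, hinn⟩ := qs4 h hW
  have hwxL : (w : V ≃ₗ[F] V) * x ∈ L := by
    rw [wx h hW]
    exact sg2_mem_B h.h2 h.nd (hfm4 h) _ rfl
  have hle : L.subgroupOf (Om Q) ≤ Subgroup.centralizer ({w} : Set ↥(Om Q)) := by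
    intro g hg
    rw [Subgroup.mem_centralizer_singleton_iff]
    exact Subtype.ext (B_comm h hW hg)
  refine ⟨L.subgroupOf (Om Q), ⟨hle, ?_, ?_⟩, hwxL, ?_⟩
  · have hn : ((L.subgroupOf (Om Q)).subgroupOf (Subgroup.centralizer ({w} : Set ↥(Om Q)))).Normal := by
      rw [Subgroup.normal_subgroupOf_iff_le_normalizer hle]
      intro g hg
      rw [Subgroup.mem_centralizer_singleton_iff] at hg
      have h5 : (g : V ≃ₗ[F] V) ∈ Subgroup.normalizer (L : Set (V ≃ₗ[F] V)) :=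
        Ad.normalizer_B_of_comm _ h.h2 h.nd (hOm g.2) (comm_ng4 h hW (congrArg Subtype.val hg))
      rw [Subgroup.mem_normalizer_iff] at h5 ⊢
      intro y
      exact h5 y
    exact hn.isSubnormal
  · exact SignalizersComponents.Components.isQuasisimple_of_mulEquiv (Subgroup.subgroupOfEquivOfLe hle).symm
      (SignalizersComponents.Components.isQuasisimple_of_mulEquiv (Subgroup.subgroupOfEquivOfLe hLle).symm hqs)
  · intro α hα3 hα
    let E : ↥(L.subgroupOf (Om Q)) ≃* Om (DQ (dm4 (Q e0) d)) :=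
      (Subgroup.subgroupOfEquivOfLe hLle).trans ((hfm4 h).ad h.h2).BEquiv.symm
    have hcen : Subgroup.center ↥(L.subgroupOf (Om Q)) = ⊥ := RowOrth.center_of_equiv E.symm (center4 h hW)
    obtain ⟨g, hg⟩ := hinn.congr E α hα3
    have hg3 : g * g * g = 1 := by
      have h5 : g * g * g ∈ Subgroup.center ↥(L.subgroupOf (Om Q)) := by
        rw [Subgroup.mem_center_iff]
        intro y
        have h6 : α (α (α y)) = y := by
          have := DFunLike.congr_fun hα3 y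
          exact this
        rw [hg, hg, hg] at h6
        have h7 : g * (g * (g * y * g⁻¹) * g⁻¹) * g⁻¹ = (g * g * g) * y * (g * g * g)⁻¹ := by group
        rw [h7, mul_inv_eq_iff_eq_mul] at h6
        exact h6.symm
      rwa [hcen, Subgroup.mem_bot] at h5
    have hg1 : ((g : ↥(Om Q)) : V ≃ₗ[F] V) = 1 := by
      refine eq_one h hW (g := ((g : ↥(Om Q)) : V ≃ₗ[F] V)) g.2 ?_ ?_
      · exact congrArg (fun y : ↥(L.subgroupOf (Om Q)) => ((y : ↥(Om Q)) : V ≃ₗ[F] V)) hg3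
      · have h5 := hα ⟨w * x, hwxL⟩ rfl
        rw [hg, mul_inv_eq_iff_eq_mul] at h5
        exact congrArg (fun y : ↥(L.subgroupOf (Om Q)) => ((y : ↥(Om Q)) : V ≃ₗ[F] V)) h5
    have hg1' : g = 1 := Subtype.ext (Subtype.ext hg1)
    apply MulEquiv.ext
    intro y
    rw [hg, hg1']
    simp

end

/-- **row `L₄(3)`** -/
theorem l4 (X : Type*) [Group X] [Finite X] (h : XL4 X) : RowB X := by
  obtain ⟨F, i, i', hF, ⟨e⟩⟩ := h
  have hQ := LieClassical.OrthForms.nondeg_plusForm 3 F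
  have hr : finrank F (Fin 3 ⊕ Fin 3 → F) = 6 := finrank_plus 3
  have hN : ¬ Neg (LieClassical.OrthForms.plusForm 3 F) := by
    rw [neg_plus hF (by norm_num)]; norm_num
  obtain ⟨e'⟩ := om6 hF hQ hr hN
  exact (rowB6 hF hQ hr hN).congr (e.trans e'.symm)

end Cfsg.Agent.OddHalf.NI3.Bad.RowL4

end

-- merged: Cfsg.Agent.OddHalf.NI3.Bad.KDOf
section

/-!
# NI over `F₃`: THEOREM NIB, the table (KD)

`kd`: the table from `ExSheet` and the open rows `Rows`.
-/

set_option autoImplicit false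
set_option linter.style.haveILetI false

namespace Cfsg.Agent.OddHalf.NI3.Bad

open Subgroup Cfsg Cfsg.Agent.OddHalf.Iface Cfsg.Agent.OddHalf.LieOddFam

universe u

/-- the open rows of the table -/
structure Rows : Prop where
  o8p : ∀ (X : Type u) [Group X] [Finite X], XO8p X → RowA' X

/-- **(KD)** -/
theorem kd (hS : ExSheet.{u}) (R : Rows.{u}) : KD.{u} where
  m11 := fun X _ _ h => rowO_m11 X h
  l3 := fun X _ _ h => rowO_l3 X h
  u3 := fun X _ _ h => rowO_u3 X h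
  u4 := fun X _ _ h => u4 X h
  g2 := fun X _ _ h => g2 X h
  o8p := R.o8p
  l4 := fun X _ _ h => RowL4.l4 X h
  o7 := fun X _ _ h => RowOrth.o7 X h
  o8m := fun X _ _ h => RowOrth.o8m X h
  sp4 := fun X _ _ h => Cfsg.Agent.KFacts.PSpFourThree.sp4 X h
  twou4 := rowD hS

end Cfsg.Agent.OddHalf.NI3.Bad

end
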