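import Cfsg.Agent.OddHalf.D6.QThree.U43Plus
import Cfsg.Agent.OddHalf.NI3.Bad.PSUFour
import Cfsg.Agent.Cit.SLThree
import Mathlib
import Cfsg.Agent.Transfer.SL23Recog
import Cfsg.Agent.OddHalf.NI3.Bad.Defs

-- merged: Cfsg.Agent.OddHalf.NI3.Bad.NSideU
section

/-!
# The frame of `2.U₄(3)` (THEOREM NIB, N-side), part 1: facts on `U₄(3)` (helper146)

`UD z i j x k l v c` : `⟨i, j, x⟩` and `⟨k, l, v⟩` are the two factors `SL₂(3)` of `C(z)`, `c` rotates `i k → z i k → z`;
`s = c (j l) c⁻¹` is a swap, `t = c i c⁻¹`; `C(z) = ⟨i, x, k, v, s, t⟩`.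
`exists_ud` : these exist in `PSU₄(3)`.
-/

set_option autoImplicit false
set_option linter.unusedSectionVars false
set_option linter.unusedTactic false
set_option linter.unreachableTactic false
set_option linter.style.haveILetI false

namespace Cfsg.Agent.OddHalf.NI3.Bad.NSideU

open Subgroup Cfsg Cfsg.Agent.Cit.SLThree

/-- The facts on `U₄(3)`. -/
structure UD {U : Type*} [Group U] (z i j x k l v c : U) : Prop where
  q1 : Qt z i j
  q2 : Qt z k l
  x3 : x * x * x = 1
  v3 : v * v * v = 1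
  xi : x * i * x⁻¹ = j
  xj : x * j * x⁻¹ = i * j
  vk : v * k * v⁻¹ = l
  vl : v * l * v⁻¹ = k * l
  ik : i * k = k * i
  iv : i * v = v * i
  xk : x * k = k * x
  xv : x * v = v * x
  cz : c * z * c⁻¹ = i * k
  ca : c * (i * k) * c⁻¹ = z * (i * k)
  si : (c * (j * l) * c⁻¹) * i * (c * (j * l) * c⁻¹)⁻¹ ∈ closure ({k, v} : Set U)
  sx : (c * (j * l) * c⁻¹) * x * (c * (j * l) * c⁻¹)⁻¹ ∈ closure ({k, v} : Set U)
  sk : (c * (j * l) * c⁻¹) * k * (c * (j * l) * c⁻¹)⁻¹ ∈ closure ({i, x} : Set U)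
  sv : (c * (j * l) * c⁻¹) * v * (c * (j * l) * c⁻¹)⁻¹ ∈ closure ({i, x} : Set U)
  ti : (c * i * c⁻¹) * i * (c * i * c⁻¹)⁻¹ ∈ closure ({i, x} : Set U)
  tx : (c * i * c⁻¹) * x * (c * i * c⁻¹)⁻¹ ∈ closure ({i, x} : Set U)
  tk : (c * i * c⁻¹) * k * (c * i * c⁻¹)⁻¹ ∈ closure ({k, v} : Set U)
  tv : (c * i * c⁻¹) * v * (c * i * c⁻¹)⁻¹ ∈ closure ({k, v} : Set U)
  gen : ∀ g : U, g * z = z * g → g ∈ closure ({i, x, k, v, c * (j * l) * c⁻¹, c * i * c⁻¹} : Set U)
  one : ∀ u : U, u * u = 1 → u ≠ 1 → ∃ g, g * z * g⁻¹ = u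
  cen : ∀ g : U, g * i = i * g → g * x = x * g → g * k = k * g → g * v = v * g → g = 1 ∨ g = z

/-! ### Matrices -/

section Mat

open Matrix Cfsg.Agent.OddHalf.Small.U43Mat Cfsg.Agent.OddHalf.Small.U43Good
open Cfsg.Agent.LieClassical.HermSiegel Cfsg.Agent.LieClassical.SUBasic
open Cfsg.Agent.ClassicalGeometry.UnitAutBasic (pr pr_surjective)
open Cfsg.Agent.OddHalf.D6.QThree.U43Elt Cfsg.Agent.OddHalf.D6.QThree.U43Plus

variable {F : Type*} [Field F] [CharP F 3]

/-- `X` -/
def X2 (a : F) : M2 F := !![1 + a, 1 + a; a - 1, 1 - a]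

section a

variable {a : F} (ha : a ^ 2 = -1)

include ha

theorem bl1_x : Bl1 (X2 a) (xx1 a ha) := by
  refine ⟨?_, ?_, ?_, ?_⟩ <;> ext i j <;> fin_cases i <;> fin_cases j <;> rfl

theorem bl2_x : Bl2 (X2 a) (xx2 a ha) := by
  refine ⟨?_, ?_, ?_, ?_⟩ <;> ext i j <;> fin_cases i <;> fin_cases j <;> rfl

theorem a3 : a ^ 3 = -a := by linear_combination a * ha

theorem st_X2 : st (X2 a) * X2 a = 1 := by
  have h3 : (3 : F) = 0 := three
  have e1 : (1 + a) ^ 3 = 1 - a := by rw [add_pow_char, one_pow, a3 ha]; ring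
  have e2 : (a - 1) ^ 3 = -a - 1 := by rw [sub_pow_char, one_pow, a3 ha]
  have e3 : (1 - a) ^ 3 = 1 + a := by rw [sub_pow_char, one_pow, a3 ha]; ring
  ext i j
  rw [mul_apply, Fin.sum_univ_two, st_apply, st_apply]
  fin_cases i <;> fin_cases j <;> simp [X2, e1, e2, e3] <;>
    first | (linear_combination (-2 : F) * ha + h3) | ring

theorem det_X2 : (X2 a).det = 1 := by
  have h3 : (3 : F) = 0 := three
  rw [det_fin_two]
  simp [X2]
  linear_combination (-2 : F) * ha + h3

/-- the elements of `SU₂(3)` are words in `I` and `X` -/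
theorem cases_X {M : M2 F} (h9 : ∀ x : F, x ^ 9 = x) (hM : st M * M = 1) (hd : M.det = 1) :
    IsQ M ∨ IsQ (M * st (X2 a)) ∨ IsQ (M * X2 a) := by
  obtain ⟨h1, h2, h3⟩ := entries hM hd
  have e1 : (1 + a) ^ 3 = 1 - a := by rw [add_pow_char, one_pow, a3 ha]; ring
  have e2 : (a - 1) ^ 3 = -a - 1 := by rw [sub_pow_char, one_pow, a3 ha]
  have e3 : (1 - a) ^ 3 = 1 + a := by rw [sub_pow_char, one_pow, a3 ha]; ring
  have h30 : (3 : F) = 0 := three
  set p := M 0 0 with hp
  set q := M 1 0 with hq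
  by_cases hp0 : p = 0
  · exact Or.inl ⟨hM, hd, Or.inl hp0⟩
  by_cases hq0 : q = 0
  · exact Or.inl ⟨hM, hd, Or.inr hq0⟩
  have hX := st_X2 ha
  have hX' := mul_st hX
  have hdX := det_X2 ha
  have hdX' : (st (X2 a)).det = 1 := by rw [det_st, hdX, one_pow]
  have key8 : ∀ y : F, y ≠ 0 → y ^ 4 = 1 ∨ y ^ 4 = -1 := by
    intro y hy
    have h8 : y ^ 8 = 1 := by
      have : y * (y ^ 8 - 1) = 0 := by linear_combination h9 y
      linear_combination (mul_eq_zero.1 this).resolve_left hy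
    have : (y ^ 4 - 1) * (y ^ 4 + 1) = 0 := by linear_combination h8
    rcases mul_eq_zero.1 this with h | h
    · left; linear_combination h
    · right; linear_combination h
  have hp4 : p ^ 4 = -1 ∧ q ^ 4 = -1 := by
    rcases key8 p hp0 with h4 | h4
    · exfalso
      apply hq0
      have : q ^ 4 = 0 := by linear_combination h3 - h4
      exact (pow_eq_zero_iff (by norm_num)).1 this
    · refine ⟨h4, ?_⟩
      linear_combination h3 - h4 + h30
  obtain ⟨p4, q4⟩ := hp4
  have hpq : (p * q) ^ 4 = 1 := by rw [mul_pow, p4, q4]; ring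
  have U1 : st (M * st (X2 a)) * (M * st (X2 a)) = 1 := by
    rw [st_mul, st_st h9]
    calc X2 a * st M * (M * st (X2 a)) = X2 a * (st M * M) * st (X2 a) := by simp only [mul_assoc]
      _ = 1 := by rw [hM, mul_one, hX']
  have U2 : st (M * X2 a) * (M * X2 a) = 1 := by
    rw [st_mul]
    calc st (X2 a) * st M * (M * X2 a) = st (X2 a) * (st M * M) * X2 a := by simp only [mul_assoc]
      _ = 1 := by rw [hM, mul_one, hX]
  have D1 : (M * st (X2 a)).det = 1 := by rw [det_mul, hd, hdX', one_mul]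
  have D2 : (M * X2 a).det = 1 := by rw [det_mul, hd, hdX, one_mul]
  have A1 : (M * st (X2 a)) 0 0 = (1 - a) * (p - q ^ 3) := by
    rw [mul_apply, Fin.sum_univ_two, st_apply, st_apply, h2, ← hp]
    simp [X2, e1]
    ring
  have A2 : (M * st (X2 a)) 1 0 = (1 - a) * (q + p ^ 3) := by
    rw [mul_apply, Fin.sum_univ_two, st_apply, st_apply, h1, ← hq]
    simp [X2, e1]
    ring
  have A3 : (M * X2 a) 0 0 = (1 + a) * (p - a * q ^ 3) := by
    rw [mul_apply, Fin.sum_univ_two, h2, ← hp]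
    simp [X2]
    linear_combination q ^ 3 * ha
  have A4 : (M * X2 a) 1 0 = (1 + a) * (q + a * p ^ 3) := by
    rw [mul_apply, Fin.sum_univ_two, h1, ← hq]
    simp [X2]
    linear_combination -p ^ 3 * ha
  rcases mu4 ha hpq with h | h | h | h
  · right; left
    refine ⟨U1, D1, Or.inr ?_⟩
    rw [A2]
    have : p * (q + p ^ 3) = 0 := by linear_combination h + p4
    rw [(mul_eq_zero.1 this).resolve_left hp0, mul_zero]
  · right; left
    refine ⟨U1, D1, Or.inl ?_⟩
    rw [A1]
    have : q * (p - q ^ 3) = 0 := by linear_combination h - q4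
    rw [(mul_eq_zero.1 this).resolve_left hq0, mul_zero]
  · right; right
    refine ⟨U2, D2, Or.inr ?_⟩
    rw [A4]
    have : p * (q + a * p ^ 3) = 0 := by linear_combination h + a * p4
    rw [(mul_eq_zero.1 this).resolve_left hp0, mul_zero]
  · right; right
    refine ⟨U2, D2, Or.inl ?_⟩
    rw [A3]
    have : q * (p - a * q ^ 3) = 0 := by linear_combination h - a * q4
    rw [(mul_eq_zero.1 this).resolve_left hq0, mul_zero]

theorem X_cube : X2 a * (X2 a * X2 a) = 1 := by
  have h30 : (3 : F) = 0 := three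
  have hX2 : X2 a * X2 a = st (X2 a) := by
    have e1 : (1 + a) ^ 3 = 1 - a := by rw [add_pow_char, one_pow, a3 ha]; ring
    have e2 : (a - 1) ^ 3 = -a - 1 := by rw [sub_pow_char, one_pow, a3 ha]
    have e3 : (1 - a) ^ 3 = 1 + a := by rw [sub_pow_char, one_pow, a3 ha]; ring
    ext i j
    rw [mul_apply, Fin.sum_univ_two, st_apply]
    fin_cases i <;> fin_cases j <;> simp [X2, e1, e2, e3] <;>
      first | (linear_combination (2 : F) * ha + (a - 1) * h30) | (linear_combination (a + 1) * h30) |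
        (linear_combination (a - 1) * h30) | (linear_combination (2 : F) * ha - (a + 1) * h30) |
        (linear_combination (a) * h30) | (linear_combination (-a) * h30)
  rw [hX2, mul_st (st_X2 ha)]

/-- words in `I`, `X` -/
theorem exists_w1 (h9 : ∀ x : F, x ^ 9 = x) {M : M2 F} (hM : st M * M = 1) (hd : M.det = 1) :
    ∃ g ∈ closure ({i1 a ha, xx1 a ha} : Set (SU 4 F 3)), Bl1 M g := by
  have mi : i1 a ha ∈ closure ({i1 a ha, xx1 a ha} : Set (SU 4 F 3)) := subset_closure (by simp)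
  have mx : xx1 a ha ∈ closure ({i1 a ha, xx1 a ha} : Set (SU 4 F 3)) := subset_closure (by simp)
  have mj : j1 ∈ closure ({i1 a ha, xx1 a ha} : Set (SU 4 F 3)) := by
    have h := e_x1i (F := F) (a := a) ha
    have h' : j1 = xx1 a ha * i1 a ha * (xx1 a ha)⁻¹ := by rw [h]; group
    rw [h']
    exact mul_mem (mul_mem mx mi) (inv_mem mx)
  have bi := bl1_i a ha
  have bj : Bl1 (J2 F) j1 := bl1_j
  have bx := bl1_x ha
  have keyQ : ∀ {A : M2 F}, IsQ A → ∃ g ∈ closure ({i1 a ha, xx1 a ha} : Set (SU 4 F 3)), Bl1 A g := by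
    intro A hA
    rcases isQ_words ha hA with h | h | h | h | h | h | h | h <;> rw [h]
    · exact ⟨1, one_mem _, bl1_one⟩
    · exact ⟨_, mul_mem mi mi, bi.mul bi⟩
    · exact ⟨_, mi, bi⟩
    · exact ⟨_, mul_mem mi (mul_mem mi mi), bi.mul (bi.mul bi)⟩
    · exact ⟨_, mj, bj⟩
    · exact ⟨_, mul_mem mj (mul_mem mj mj), bj.mul (bj.mul bj)⟩
    · exact ⟨_, mul_mem mi mj, bi.mul bj⟩
    · exact ⟨_, mul_mem mj mi, bj.mul bi⟩
  have hX := st_X2 ha
  have hX' := mul_st hX
  rcases cases_X ha h9 hM hd with h | h | h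
  · exact keyQ h
  · obtain ⟨g, hg, hb⟩ := keyQ h
    refine ⟨g * xx1 a ha, mul_mem hg mx, ?_⟩
    have := hb.mul bx
    rwa [mul_assoc, hX, mul_one] at this
  · obtain ⟨g, hg, hb⟩ := keyQ h
    have bxi : Bl1 (X2 a * X2 a) (xx1 a ha * xx1 a ha) := bx.mul bx
    refine ⟨g * (xx1 a ha * xx1 a ha), mul_mem hg (mul_mem mx mx), ?_⟩
    have := hb.mul bxi
    rwa [mul_assoc, X_cube ha, mul_one] at this

/-- words in `K`, `X` (second block) -/
theorem exists_w2 (h9 : ∀ x : F, x ^ 9 = x) {M : M2 F} (hM : st M * M = 1) (hd : M.det = 1) :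
    ∃ g ∈ closure ({i2 a ha, xx2 a ha} : Set (SU 4 F 3)), Bl2 M g := by
  have mi : i2 a ha ∈ closure ({i2 a ha, xx2 a ha} : Set (SU 4 F 3)) := subset_closure (by simp)
  have mx : xx2 a ha ∈ closure ({i2 a ha, xx2 a ha} : Set (SU 4 F 3)) := subset_closure (by simp)
  have mj : j2 ∈ closure ({i2 a ha, xx2 a ha} : Set (SU 4 F 3)) := by
    have h := e_x2k (F := F) (a := a) ha
    have h' : j2 = xx2 a ha * i2 a ha * (xx2 a ha)⁻¹ := by rw [h]; group
    rw [h']
    exact mul_mem (mul_mem mx mi) (inv_mem mx)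
  have bi := bl2_i a ha
  have bj : Bl2 (J2 F) j2 := bl2_j
  have bx := bl2_x ha
  have keyQ : ∀ {A : M2 F}, IsQ A → ∃ g ∈ closure ({i2 a ha, xx2 a ha} : Set (SU 4 F 3)), Bl2 A g := by
    intro A hA
    rcases isQ_words ha hA with h | h | h | h | h | h | h | h <;> rw [h]
    · exact ⟨1, one_mem _, bl2_one⟩
    · exact ⟨_, mul_mem mi mi, bi.mul bi⟩
    · exact ⟨_, mi, bi⟩
    · exact ⟨_, mul_mem mi (mul_mem mi mi), bi.mul (bi.mul bi)⟩
    · exact ⟨_, mj, bj⟩
    · exact ⟨_, mul_mem mj (mul_mem mj mj), bj.mul (bj.mul bj)⟩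
    · exact ⟨_, mul_mem mi mj, bi.mul bj⟩
    · exact ⟨_, mul_mem mj mi, bj.mul bi⟩
  have hX := st_X2 ha
  rcases cases_X ha h9 hM hd with h | h | h
  · exact keyQ h
  · obtain ⟨g, hg, hb⟩ := keyQ h
    refine ⟨g * xx2 a ha, mul_mem hg mx, ?_⟩
    have := hb.mul bx
    rwa [mul_assoc, hX, mul_one] at this
  · obtain ⟨g, hg, hb⟩ := keyQ h
    have bxi : Bl2 (X2 a * X2 a) (xx2 a ha * xx2 a ha) := bx.mul bx
    refine ⟨g * (xx2 a ha * xx2 a ha), mul_mem hg (mul_mem mx mx), ?_⟩
    have := hb.mul bxi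
    rwa [mul_assoc, X_cube ha, mul_one] at this

/-- the first block -/
theorem mem_w1 (h9 : ∀ x : F, x ^ 9 = x) {g : SU 4 F 3} (h12 : b12 (mat g) = 0) (h21 : b21 (mat g) = 0)
    (h22 : b22 (mat g) = 1) : g ∈ closure ({i1 a ha, xx1 a ha} : Set (SU 4 F 3)) := by
  have hd := det_mat g
  rw [Cfsg.Agent.OddHalf.Small.U43.det_blk h21, h22, det_one, mul_one] at hd
  obtain ⟨g', hg', e1, e2, e3, e4⟩ := exists_w1 ha h9 (u11 (st_mat g) h21) hd
  have : g = g' := mat_injective (ext4 e1.symm (h12.trans e2.symm) (h21.trans e3.symm) (h22.trans e4.symm))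
  rwa [this]

/-- the second block -/
theorem mem_w2 (h9 : ∀ x : F, x ^ 9 = x) {g : SU 4 F 3} (h12 : b12 (mat g) = 0) (h21 : b21 (mat g) = 0)
    (h11 : b11 (mat g) = 1) : g ∈ closure ({i2 a ha, xx2 a ha} : Set (SU 4 F 3)) := by
  have hd := det_mat g
  rw [Cfsg.Agent.OddHalf.Small.U43.det_blk h21, h11, det_one, one_mul] at hd
  obtain ⟨g', hg', e1, e2, e3, e4⟩ := exists_w2 ha h9 (u22 (st_mat g) h12) hd
  have : g = g' := mat_injective (ext4 (h11.trans e1.symm) (h12.trans e2.symm) (h21.trans e3.symm) e4.symm)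
  rwa [this]

/-- block diagonal elements with blocks of determinant one -/
theorem mem_w (h9 : ∀ x : F, x ^ 9 = x) {g : SU 4 F 3} (h12 : b12 (mat g) = 0) (h21 : b21 (mat g) = 0)
    (h11 : (b11 (mat g)).det = 1) :
    g ∈ closure ({i1 a ha, xx1 a ha, i2 a ha, xx2 a ha} : Set (SU 4 F 3)) := by
  have hd := det_mat g
  rw [Cfsg.Agent.OddHalf.Small.U43.det_blk h21, h11, one_mul] at hd
  obtain ⟨g1, hg1, e1, e2, e3, e4⟩ := exists_w1 ha h9 (u11 (st_mat g) h21) h11
  obtain ⟨g2, hg2, f1, f2, f3, f4⟩ := exists_w2 ha h9 (u22 (st_mat g) h12) hd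
  have : g = g1 * g2 := by
    apply mat_injective
    rw [mat_mul]
    refine ext4 ?_ ?_ ?_ ?_
    · rw [b11_mul, e1, e2, f1, zero_mul, add_zero, mul_one]
    · rw [b12_mul, e2, f2, mul_zero, zero_mul, add_zero, h12]
    · rw [b21_mul, e3, f3, mul_zero, zero_mul, add_zero, h21]
    · rw [b22_mul, e3, e4, f4, zero_mul, zero_add, one_mul]
  rw [this]
  exact mul_mem (closure_mono (by intro y hy; simp only [Set.mem_insert_iff, Set.mem_singleton_iff] at hy ⊢; tauto) hg1)
    (closure_mono (by intro y hy; simp only [Set.mem_insert_iff, Set.mem_singleton_iff] at hy ⊢; tauto) hg2)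

end a

/-- the rotation -/
def cc : SU 4 F 3 := mkSU !![1, 0, 0, 0; 0, 0, 0, 1; 0, 1, 0, 0; 0, 0, 1, 0]
  (by simp [det_succ_row_zero, Fin.sum_univ_succ, Fin.succAbove]) (by
    intro u v
    simp only [hermForm_apply, Fin.sum_univ_four]
    simp [mulVec, dotProduct, Fin.sum_univ_four]
    ring)

theorem m_cc : mat (cc : SU 4 F 3) = !![1, 0, 0, 0; 0, 0, 0, 1; 0, 1, 0, 0; 0, 0, 1, 0] := rfl

/-- the swap -/
def s4 : SU 4 F 3 := mkSU !![0, 0, 1, 0; 0, 0, 0, -1; -1, 0, 0, 0; 0, 1, 0, 0]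
  (by simp [det_succ_row_zero, Fin.sum_univ_succ, Fin.succAbove]) (by
    intro u v
    simp only [hermForm_apply, Fin.sum_univ_four]
    simp [mulVec, dotProduct, Fin.sum_univ_four]
    ring)

theorem m_s4 : mat (s4 : SU 4 F 3) = !![0, 0, 1, 0; 0, 0, 0, -1; -1, 0, 0, 0; 0, 1, 0, 0] := rfl

/-- `diag(a, 1, -a, 1)` -/
def t4 (a : F) (ha : a ^ 2 = -1) : SU 4 F 3 := suDiag 3 ![a, 1, -a, 1]
  (by simp [Fin.prod_univ_four]; linear_combination -ha) (by
  have h4 : a ^ 4 = 1 := by linear_combination (a ^ 2 - 1) * ha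
  intro i; fin_cases i <;> simp [h4, Even.neg_pow (show Even 4 by decide)])

section a

variable {a : F} (ha : a ^ 2 = -1)

include ha

theorem m_t4 : mat (t4 a ha) = !![a, 0, 0, 0; 0, 1, 0, 0; 0, 0, -a, 0; 0, 0, 0, 1] := by
  ext i j; fin_cases i <;> fin_cases j <;> rfl

theorem cc_t : cc * i1 a ha = t4 a ha * cc := by
  apply mat_injective
  rw [mat_mul, mat_mul, m_cc, m_i1, m_t4]
  ext i j
  rw [mul_apply, mul_apply, Fin.sum_univ_four, Fin.sum_univ_four]
  fin_cases i <;> fin_cases j <;> simp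

omit ha in
theorem cc_s : (cc : SU 4 F 3) * (j1 * j2) = s4 * cc := by
  apply mat_injective
  rw [mat_mul, mat_mul, mat_mul, m_cc, m_j1, m_j2, m_s4]
  ext i j
  rw [mul_apply, mul_apply, Fin.sum_univ_four, Fin.sum_univ_four]
  fin_cases i <;> fin_cases j <;> simp [mul_apply, Fin.sum_univ_four]

theorem cc_z : mat (i1 a ha * i2 a ha * cc) = a • mat (cc * d : SU 4 F 3) := by
  simp only [mat_mul, m_cc, m_d, m_i1, m_i2]
  ext i j
  rw [Matrix.smul_apply, mul_apply, mul_apply, Fin.sum_univ_four, Fin.sum_univ_four]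
  fin_cases i <;> fin_cases j <;> simp [mul_apply, Fin.sum_univ_four]

theorem cc_a : cc * (i1 a ha * i2 a ha) = d * (i1 a ha * i2 a ha) * cc := by
  apply mat_injective
  simp only [mat_mul, m_cc, m_d, m_i1, m_i2]
  ext i j
  rw [mul_apply, mul_apply, Fin.sum_univ_four, Fin.sum_univ_four]
  fin_cases i <;> fin_cases j <;> simp [mul_apply, Fin.sum_univ_four]

theorem x1_cube : xx1 a ha * xx1 a ha * xx1 a ha = 1 := by
  have h1 := (bl1_x ha).mul ((bl1_x ha).mul (bl1_x ha))
  rw [X_cube ha] at h1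
  rw [mul_assoc]
  have h2 : Bl1 (1 : M2 F) (1 : SU 4 F 3) := bl1_one
  exact mat_injective (ext4 (h1.1.trans h2.1.symm) (h1.2.1.trans h2.2.1.symm) (h1.2.2.1.trans h2.2.2.1.symm)
    (h1.2.2.2.trans h2.2.2.2.symm))

theorem x2_cube : xx2 a ha * xx2 a ha * xx2 a ha = 1 := by
  have h1 := (bl2_x ha).mul ((bl2_x ha).mul (bl2_x ha))
  rw [X_cube ha] at h1
  rw [mul_assoc]
  have h2 : Bl2 (1 : M2 F) (1 : SU 4 F 3) := bl2_one
  exact mat_injective (ext4 (h1.1.trans h2.1.symm) (h1.2.1.trans h2.2.1.symm) (h1.2.2.1.trans h2.2.2.1.symm)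
    (h1.2.2.2.trans h2.2.2.2.symm))

theorem e_x1x2 : xx1 a ha * xx2 a ha = xx2 a ha * xx1 a ha := by
  obtain ⟨a1, a2, a3, a4⟩ := bl1_x ha
  obtain ⟨b1, b2, b3, b4⟩ := bl2_x ha
  apply mat_injective
  rw [mat_mul, mat_mul]
  refine ext4 ?_ ?_ ?_ ?_
  · rw [b11_mul, b11_mul, a1, a2, a3, b1, b2, b3]; simp
  · rw [b12_mul, b12_mul, a1, a2, a4, b1, b2, b4]; simp
  · rw [b21_mul, b21_mul, a1, a3, a4, b1, b3, b4]; simp
  · rw [b22_mul, b22_mul, a2, a3, a4, b2, b3, b4]; simp

/-- conjugates by the swap -/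
theorem swap_one {g : SU 4 F 3} (h12 : b12 (mat g) = 0) (h21 : b21 (mat g) = 0) (h22 : b22 (mat g) = 1) :
    b12 (mat (s4 * g * s4⁻¹)) = 0 ∧ b21 (mat (s4 * g * s4⁻¹)) = 0 ∧ b11 (mat (s4 * g * s4⁻¹)) = 1 := by
  have hs1 : b11 (mat (s4 : SU 4 F 3)) = 0 := by ext i j; fin_cases i <;> fin_cases j <;> rfl
  have hs2 : b22 (mat (s4 : SU 4 F 3)) = 0 := by ext i j; fin_cases i <;> fin_cases j <;> rfl
  have hu := st_mat (s4 : SU 4 F 3)
  have hu' := mul_st (u12 hu hs2)
  rw [mat_mul, mat_mul, mat_inv]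
  refine ⟨?_, ?_, ?_⟩
  · rw [b12_mul, b11_mul, b22_st, hs1, hs2, h21, st_zero']; simp
  · rw [b21_mul, b22_mul, b11_st, hs1, hs2, h12, st_zero']; simp
  · rw [b11_mul, b12_mul, b11_st, b21_st, hs1, st_zero', mul_zero, zero_add, zero_mul, zero_add, h22, mul_one, hu']

theorem swap_two {g : SU 4 F 3} (h12 : b12 (mat g) = 0) (h21 : b21 (mat g) = 0) (h11 : b11 (mat g) = 1) :
    b12 (mat (s4 * g * s4⁻¹)) = 0 ∧ b21 (mat (s4 * g * s4⁻¹)) = 0 ∧ b22 (mat (s4 * g * s4⁻¹)) = 1 := by
  have hs1 : b11 (mat (s4 : SU 4 F 3)) = 0 := by ext i j; fin_cases i <;> fin_cases j <;> rfl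
  have hs2 : b22 (mat (s4 : SU 4 F 3)) = 0 := by ext i j; fin_cases i <;> fin_cases j <;> rfl
  have hu := st_mat (s4 : SU 4 F 3)
  have hu' := mul_st (u21 hu hs1)
  rw [mat_mul, mat_mul, mat_inv]
  refine ⟨?_, ?_, ?_⟩
  · rw [b12_mul, b11_mul, b22_st, hs1, hs2, h21, st_zero']; simp
  · rw [b21_mul, b22_mul, b11_st, hs1, hs2, h12, st_zero']; simp
  · rw [b22_mul, b21_mul, b12_st, b22_st, hs2, st_zero', mul_zero, add_zero, zero_mul, add_zero, h11, mul_one, hu']

/-- conjugates by block diagonal elements -/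
theorem diag_one {t g : SU 4 F 3} (t12 : b12 (mat t) = 0) (t21 : b21 (mat t) = 0) (h12 : b12 (mat g) = 0)
    (h21 : b21 (mat g) = 0) (h22 : b22 (mat g) = 1) :
    b12 (mat (t * g * t⁻¹)) = 0 ∧ b21 (mat (t * g * t⁻¹)) = 0 ∧ b22 (mat (t * g * t⁻¹)) = 1 := by
  have hu := st_mat t
  have hu' := mul_st (u22 hu t12)
  rw [mat_mul, mat_mul, mat_inv]
  refine ⟨?_, ?_, ?_⟩
  · rw [b12_mul, b12_mul, b12_st, t12, t21, h12, st_zero']; simp
  · rw [b21_mul, b21_mul, b21_st, t12, t21, h21, st_zero']; simp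
  · rw [b22_mul, b21_mul, b22_mul, b12_st, b22_st, t21, st_zero', mul_zero, zero_mul, zero_add, zero_add, h22, mul_one,
      hu']

theorem diag_two {t g : SU 4 F 3} (t12 : b12 (mat t) = 0) (t21 : b21 (mat t) = 0) (h12 : b12 (mat g) = 0)
    (h21 : b21 (mat g) = 0) (h11 : b11 (mat g) = 1) :
    b12 (mat (t * g * t⁻¹)) = 0 ∧ b21 (mat (t * g * t⁻¹)) = 0 ∧ b11 (mat (t * g * t⁻¹)) = 1 := by
  have hu := st_mat t
  have hu' := mul_st (u11 hu t21)
  rw [mat_mul, mat_mul, mat_inv]
  refine ⟨?_, ?_, ?_⟩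
  · rw [b12_mul, b12_mul, b12_st, t12, t21, h12, st_zero']; simp
  · rw [b21_mul, b21_mul, b21_st, t12, t21, h21, st_zero']; simp
  · rw [b11_mul, b11_mul, b12_mul, b11_st, b21_st, t12, st_zero', mul_zero, zero_mul, add_zero, add_zero, h11, mul_one,
      hu']

end a

end Mat

end Cfsg.Agent.OddHalf.NI3.Bad.NSideU

end

-- merged: Cfsg.Agent.OddHalf.NI3.Bad.NSideUD
section

/-!
# The frame of `2.U₄(3)` (THEOREM NIB, N-side), part 2: `exists_ud` (helper146)
-/

set_option autoImplicit false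
set_option linter.unusedSectionVars false
set_option linter.unusedTactic false
set_option linter.unreachableTactic false
set_option linter.style.haveILetI false

namespace Cfsg.Agent.OddHalf.NI3.Bad.NSideU

open Subgroup Cfsg Cfsg.Agent.Cit.SLThree
open Matrix Cfsg.Agent.OddHalf.Small.U43Mat Cfsg.Agent.OddHalf.Small.U43Good
open Cfsg.Agent.LieClassical.HermSiegel Cfsg.Agent.LieClassical.SUBasic
open Cfsg.Agent.ClassicalGeometry.UnitAutBasic (pr pr_surjective)
open Cfsg.Agent.OddHalf.D6.QThree.U43Elt Cfsg.Agent.OddHalf.D6.QThree.U43Plus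

variable {F : Type*} [Field F] [CharP F 3] [Fintype F]

theorem pr_mem {x y g : SU 4 F 3} (h : g ∈ closure ({x, y} : Set (SU 4 F 3))) :
    pr 4 F 3 g ∈ closure ({pr 4 F 3 x, pr 4 F 3 y} : Set (PSU 4 F 3)) := by
  have h1 : pr 4 F 3 g ∈ (closure ({x, y} : Set (SU 4 F 3))).map (pr 4 F 3) := mem_map_of_mem _ h
  rwa [MonoidHom.map_closure, Set.image_pair] at h1

theorem t4_blk {a : F} (ha : a ^ 2 = -1) : b12 (mat (t4 a ha)) = 0 ∧ b21 (mat (t4 a ha)) = 0 ∧
    (b11 (mat (t4 a ha))).det = a := by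
  refine ⟨?_, ?_, ?_⟩
  · ext i j; fin_cases i <;> fin_cases j <;> rfl
  · ext i j; fin_cases i <;> fin_cases j <;> rfl
  · have : b11 (mat (t4 a ha)) = !![a, 0; 0, 1] := by
      ext i j; fin_cases i <;> fin_cases j <;> rfl
    rw [this, det_fin_two]; simp

theorem blk_mul {g h : SU 4 F 3} (g12 : b12 (mat g) = 0) (g21 : b21 (mat g) = 0) (h12 : b12 (mat h) = 0)
    (h21 : b21 (mat h) = 0) : b12 (mat (g * h)) = 0 ∧ b21 (mat (g * h)) = 0 ∧
      b11 (mat (g * h)) = b11 (mat g) * b11 (mat h) := by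
  rw [mat_mul]
  refine ⟨?_, ?_, ?_⟩
  · rw [b12_mul, g12, h12]; simp
  · rw [b21_mul, g21, h21]; simp
  · rw [b11_mul, g12]; simp

/-- block diagonal elements -/
theorem mem_diag (hF : Fintype.card F = 9) {a : F} (ha : a ^ 2 = -1) {K : Subgroup (SU 4 F 3)}
    (hK : closure ({i1 a ha, xx1 a ha, i2 a ha, xx2 a ha} : Set (SU 4 F 3)) ≤ K) (ht : t4 a ha ∈ K)
    {g : SU 4 F 3} (h12 : b12 (mat g) = 0) (h21 : b21 (mat g) = 0) : g ∈ K := by
  have h9 := h9 hF
  have hu := u11 (st_mat g) h21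
  have hδ : (b11 (mat g)).det ^ 4 = 1 := by
    have := congrArg Matrix.det hu
    rw [det_mul, det_st, det_one] at this
    linear_combination this
  obtain ⟨t12, t21, td⟩ := t4_blk ha
  have step : ∀ {h : SU 4 F 3}, b12 (mat h) = 0 → b21 (mat h) = 0 → (b11 (mat h)).det = 1 → h ∈ K :=
    fun h1 h2 h3 => hK (mem_w ha h9 h1 h2 h3)
  rcases mu4 ha hδ with h | h | h | h
  · exact step h12 h21 h
  · obtain ⟨e1, e2, e3⟩ := blk_mul t12 t21 h12 h21
    obtain ⟨f1, f2, f3⟩ := blk_mul t12 t21 e1 e2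
    have h1 : t4 a ha * (t4 a ha * g) ∈ K := by
      refine step f1 f2 ?_
      rw [f3, e3, det_mul, det_mul, td, h]
      linear_combination -ha
    have h2 := mul_mem (inv_mem ht) (mul_mem (inv_mem ht) h1)
    have : (t4 a ha)⁻¹ * ((t4 a ha)⁻¹ * (t4 a ha * (t4 a ha * g))) = g := by group
    rwa [this] at h2
  · obtain ⟨e1, e2, e3⟩ := blk_mul t12 t21 h12 h21
    obtain ⟨f1, f2, f3⟩ := blk_mul t12 t21 e1 e2
    obtain ⟨k1, k2, k3⟩ := blk_mul t12 t21 f1 f2
    have h1 : t4 a ha * (t4 a ha * (t4 a ha * g)) ∈ K := by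
      refine step k1 k2 ?_
      rw [k3, f3, e3, det_mul, det_mul, det_mul, td, h]
      linear_combination (a ^ 2 - 1) * ha
    have h2 := mul_mem (inv_mem ht) (mul_mem (inv_mem ht) (mul_mem (inv_mem ht) h1))
    have : (t4 a ha)⁻¹ * ((t4 a ha)⁻¹ * ((t4 a ha)⁻¹ * (t4 a ha * (t4 a ha * (t4 a ha * g))))) = g := by group
    rwa [this] at h2
  · obtain ⟨e1, e2, e3⟩ := blk_mul t12 t21 h12 h21
    have h1 : t4 a ha * g ∈ K := by
      refine step e1 e2 ?_
      rw [e3, det_mul, td, h]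
      linear_combination -ha
    have h2 := mul_mem (inv_mem ht) h1
    rwa [inv_mul_cancel_left] at h2

/-- elements commuting with `d` up to a scalar -/
theorem mem_all (hF : Fintype.card F = 9) {a : F} (ha : a ^ 2 = -1) {K : Subgroup (SU 4 F 3)}
    (hK : closure ({i1 a ha, xx1 a ha, i2 a ha, xx2 a ha} : Set (SU 4 F 3)) ≤ K) (ht : t4 a ha ∈ K)
    (hs : s4 ∈ K) {g : SU 4 F 3} {c : F} (hc : mat g * D4 F = c • (D4 F * mat g)) : g ∈ K := by
  rcases blk_or hc with ⟨h1, h2⟩ | ⟨h1, h2⟩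
  · exact mem_diag hF ha hK ht h1 h2
  · have hs1 : b11 (mat (s4 : SU 4 F 3)) = 0 := by ext i j; fin_cases i <;> fin_cases j <;> rfl
    have hs2 : b22 (mat (s4 : SU 4 F 3)) = 0 := by ext i j; fin_cases i <;> fin_cases j <;> rfl
    have h3 : s4 * g ∈ K := by
      refine mem_diag hF ha hK ht ?_ ?_ <;> rw [mat_mul]
      · rw [b12_mul, hs1, h2]; simp
      · rw [b21_mul, hs2, h1]; simp
    have h4 := mul_mem (inv_mem hs) h3
    rwa [inv_mul_cancel_left] at h4

/-- **the data exist in `U₄(3)`** -/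
theorem ud (hF : Fintype.card F = 9) {a : F} (ha : a ^ 2 = -1) :
    UD (pr 4 F 3 d) (pr 4 F 3 (i1 a ha)) (pr 4 F 3 j1) (pr 4 F 3 (xx1 a ha)) (pr 4 F 3 (i2 a ha)) (pr 4 F 3 j2)
      (pr 4 F 3 (xx2 a ha)) (pr 4 F 3 cc) := by
  have h9 := h9 hF
  have P := plus hF ha
  have z2 : pr 4 F 3 d * pr 4 F 3 d = 1 := by rw [← map_mul, e_dd, map_one]
  have z1 : pr 4 F 3 (d : SU 4 F 3) ≠ 1 := P.large.z_ne
  have es : pr 4 F 3 cc * (pr 4 F 3 j1 * pr 4 F 3 j2) * (pr 4 F 3 cc)⁻¹ = pr 4 F 3 (s4 : SU 4 F 3) := by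
    rw [← map_mul, ← map_mul, cc_s, map_mul, mul_inv_cancel_right]
  have et : pr 4 F 3 cc * pr 4 F 3 (i1 a ha) * (pr 4 F 3 cc)⁻¹ = pr 4 F 3 (t4 a ha) := by
    rw [← map_mul, cc_t, map_mul, mul_inv_cancel_right]
  obtain ⟨t12, t21, -⟩ := t4_blk ha
  obtain ⟨i11, i12, i21, i22⟩ := bl1_i a ha
  obtain ⟨x11, x12, x21, x22⟩ := bl1_x ha
  obtain ⟨k11, k12, k21, k22⟩ := bl2_i a ha
  obtain ⟨v11, v12, v21, v22⟩ := bl2_x ha
  refine
    { q1 := ⟨z2, z1, P.ii, P.jj, ?_⟩
      q2 := ⟨z2, z1, P.kk, P.ll, ?_⟩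
      x3 := by rw [← map_mul, ← map_mul, x1_cube, map_one]
      v3 := by rw [← map_mul, ← map_mul, x2_cube, map_one]
      xi := (act1 ha).i
      xj := (act1 ha).j
      vk := (act2 ha).k
      vl := (act2 ha).l
      ik := P.ki.symm
      iv := by rw [← map_mul, ← map_mul, e_x2i]
      xk := by rw [← map_mul, ← map_mul, e_x1k]
      xv := by rw [← map_mul, ← map_mul, e_x1x2]
      cz := ?_
      ca := ?_
      si := ?_
      sx := ?_
      sk := ?_
      sv := ?_
      ti := ?_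
      tx := ?_
      tk := ?_
      tv := ?_
      gen := ?_
      one := ?_
      cen := ?_ }
  · rw [P.ji, P.large.comm_z _ (by rw [P.gen]; exact mul_mem (subset_closure (by simp)) (subset_closure (by simp)))]
  · rw [P.lk, P.large.comm_z _ (by rw [P.gen]; exact mul_mem (subset_closure (by simp)) (subset_closure (by simp)))]
  · rw [mul_inv_eq_iff_eq_mul, ← map_mul, ← map_mul, ← map_mul]
    exact pr_eq_of_mat (cc_z ha)
  · rw [mul_inv_eq_iff_eq_mul, ← map_mul, ← map_mul, ← map_mul, ← map_mul, cc_a ha]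
  · rw [es, ← map_inv, ← map_mul, ← map_mul]
    obtain ⟨e1, e2, e3⟩ := swap_one ha i12 i21 i22
    exact pr_mem (mem_w2 ha h9 e1 e2 e3)
  · rw [es, ← map_inv, ← map_mul, ← map_mul]
    obtain ⟨e1, e2, e3⟩ := swap_one ha x12 x21 x22
    exact pr_mem (mem_w2 ha h9 e1 e2 e3)
  · rw [es, ← map_inv, ← map_mul, ← map_mul]
    obtain ⟨e1, e2, e3⟩ := swap_two ha k12 k21 k11
    exact pr_mem (mem_w1 ha h9 e1 e2 e3)
  · rw [es, ← map_inv, ← map_mul, ← map_mul]
    obtain ⟨e1, e2, e3⟩ := swap_two ha v12 v21 v11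
    exact pr_mem (mem_w1 ha h9 e1 e2 e3)
  · rw [et, ← map_inv, ← map_mul, ← map_mul]
    obtain ⟨e1, e2, e3⟩ := diag_one ha t12 t21 i12 i21 i22
    exact pr_mem (mem_w1 ha h9 e1 e2 e3)
  · rw [et, ← map_inv, ← map_mul, ← map_mul]
    obtain ⟨e1, e2, e3⟩ := diag_one ha t12 t21 x12 x21 x22
    exact pr_mem (mem_w1 ha h9 e1 e2 e3)
  · rw [et, ← map_inv, ← map_mul, ← map_mul]
    obtain ⟨e1, e2, e3⟩ := diag_two ha t12 t21 k12 k21 k11
    exact pr_mem (mem_w2 ha h9 e1 e2 e3)
  · rw [et, ← map_inv, ← map_mul, ← map_mul]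
    obtain ⟨e1, e2, e3⟩ := diag_two ha t12 t21 v12 v21 v11
    exact pr_mem (mem_w2 ha h9 e1 e2 e3)
  · intro g hg
    rw [es, et]
    obtain ⟨x, rfl⟩ := pr_surjective g
    rw [← map_mul, ← map_mul] at hg
    obtain ⟨c, -, hc⟩ := mat_of_pr_eq hF hg.symm
    rw [mat_mul, mat_mul, mat_d] at hc
    set L := closure ({pr 4 F 3 (i1 a ha), pr 4 F 3 (xx1 a ha), pr 4 F 3 (i2 a ha), pr 4 F 3 (xx2 a ha), pr 4 F 3 s4,
      pr 4 F 3 (t4 a ha)} : Set (PSU 4 F 3)) with hL
    refine (mem_all hF ha (K := L.comap (pr 4 F 3)) ?_ ?_ ?_ hc : x ∈ L.comap (pr 4 F 3))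
    · rw [closure_le]
      intro y hy
      simp only [Set.mem_insert_iff, Set.mem_singleton_iff] at hy
      show pr 4 F 3 y ∈ L
      rcases hy with rfl | rfl | rfl | rfl <;> exact subset_closure (by simp)
    · show pr 4 F 3 (t4 a ha) ∈ L
      exact subset_closure (by simp)
    · show pr 4 F 3 s4 ∈ L
      exact subset_closure (by simp)
  · intro u hu hu1
    have h1 := Cfsg.Agent.OddHalf.Small.U43.orderOf_d (F := F) hF
    exact PSUFour.isConj (by rw [hF]; norm_num) h1 (orderOf_eq_prime (by rw [pow_two, hu]) hu1)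
  · intro g g1 g2 g3 g4
    have hj : g * pr 4 F 3 j1 = pr 4 F 3 j1 * g := by
      have h1 : pr 4 F 3 (xx1 a ha) * pr 4 F 3 (i1 a ha) * (pr 4 F 3 (xx1 a ha))⁻¹ = pr 4 F 3 j1 := (act1 ha).i
      rw [← h1]
      exact (((show Commute g _ from g2).mul_right (show Commute g _ from g1)).mul_right
        (show Commute g _ from g2).inv_right).eq
    have hl : g * pr 4 F 3 j2 = pr 4 F 3 j2 * g := by
      have h1 : pr 4 F 3 (xx2 a ha) * pr 4 F 3 (i2 a ha) * (pr 4 F 3 (xx2 a ha))⁻¹ = pr 4 F 3 j2 := (act2 ha).k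
      rw [← h1]
      exact (((show Commute g _ from g4).mul_right (show Commute g _ from g3)).mul_right
        (show Commute g _ from g4).inv_right).eq
    have hQ : ∀ y ∈ QQ hF, g * y = y * g := by
      intro y hy
      rw [gen hF ha] at hy
      have h1 : closure ({pr 4 F 3 (i1 a ha), pr 4 F 3 j1, pr 4 F 3 (i2 a ha), pr 4 F 3 j2} : Set (PSU 4 F 3)) ≤
          centralizer ({g} : Set (PSU 4 F 3)) := by
        rw [closure_le]
        intro y hy
        simp only [Set.mem_insert_iff, Set.mem_singleton_iff] at hy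
        rw [SetLike.mem_coe, mem_centralizer_singleton_iff]
        rcases hy with rfl | rfl | rfl | rfl
        · exact g1.symm
        · exact hj.symm
        · exact g3.symm
        · exact hl.symm
      exact (mem_centralizer_singleton_iff.1 (h1 hy)).symm
    have hz : g * pr 4 F 3 d = pr 4 F 3 d * g := by
      refine hQ _ ?_
      exact P.large.z_mem
    exact P.large.cent g (self hF ha g hz hQ) hQ

omit [CharP F 3] in
/-- **`U₄(3)` has the data.** -/
theorem exists_ud (hF : Fintype.card F = 9) : ∃ z i j x k l v c : PSU 4 F 3, UD z i j x k l v c := by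
  haveI : Fact (Nat.Prime 3) := ⟨Nat.prime_three⟩
  haveI : CharP F 3 := charP_of_card_eq_prime_pow (p := 3) (f := 2) (by rw [hF]; norm_num)
  obtain ⟨a, ha⟩ : ∃ a : F, a ^ 2 = -1 := by
    have h1 : IsSquare (-1 : F) := by
      rw [FiniteField.isSquare_neg_one_iff, hF]; norm_num
    obtain ⟨a, ha⟩ := h1
    exact ⟨a, by rw [pow_two, ← ha]⟩
  exact ⟨_, _, _, _, _, _, _, _, ud hF ha⟩

theorem UD.map {U V : Type*} [Group U] [Group V] {z i j x k l v c : U} (h : UD z i j x k l v c) (e : U ≃* V) :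
    UD (e z) (e i) (e j) (e x) (e k) (e l) (e v) (e c) := by
  have hz1 : e z ≠ 1 := by
    intro h1
    exact h.q1.z1 (e.injective (by rw [h1, map_one]))
  have hcl : ∀ {a b g : U}, g ∈ closure ({a, b} : Set U) → e g ∈ closure ({e a, e b} : Set V) := by
    intro a b g hg
    have h1 : e g ∈ (closure ({a, b} : Set U)).map e.toMonoidHom := ⟨g, hg, rfl⟩
    rw [MonoidHom.map_closure, Set.image_pair] at h1
    exact h1
  exact
    { q1 := ⟨by rw [← map_mul, h.q1.z2, map_one], hz1, by rw [← map_mul, h.q1.i2], by rw [← map_mul, h.q1.j2],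
        by rw [← map_mul, h.q1.ji, map_mul, map_mul]⟩
      q2 := ⟨by rw [← map_mul, h.q2.z2, map_one], hz1, by rw [← map_mul, h.q2.i2], by rw [← map_mul, h.q2.j2],
        by rw [← map_mul, h.q2.ji, map_mul, map_mul]⟩
      x3 := by rw [← map_mul, ← map_mul, h.x3, map_one]
      v3 := by rw [← map_mul, ← map_mul, h.v3, map_one]
      xi := by rw [← map_mul, ← map_inv, ← map_mul, h.xi]
      xj := by rw [← map_mul, ← map_inv, ← map_mul, h.xj, map_mul]
      vk := by rw [← map_mul, ← map_inv, ← map_mul, h.vk]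
      vl := by rw [← map_mul, ← map_inv, ← map_mul, h.vl, map_mul]
      ik := by rw [← map_mul, h.ik, map_mul]
      iv := by rw [← map_mul, h.iv, map_mul]
      xk := by rw [← map_mul, h.xk, map_mul]
      xv := by rw [← map_mul, h.xv, map_mul]
      cz := by rw [← map_mul, ← map_inv, ← map_mul, h.cz, map_mul]
      ca := by rw [← map_mul, ← map_mul, ← map_inv, ← map_mul, h.ca, map_mul]
      si := by simp only [← map_mul, ← map_inv]; exact hcl h.si
      sx := by simp only [← map_mul, ← map_inv]; exact hcl h.sx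
      sk := by simp only [← map_mul, ← map_inv]; exact hcl h.sk
      sv := by simp only [← map_mul, ← map_inv]; exact hcl h.sv
      ti := by simp only [← map_mul, ← map_inv]; exact hcl h.ti
      tx := by simp only [← map_mul, ← map_inv]; exact hcl h.tx
      tk := by simp only [← map_mul, ← map_inv]; exact hcl h.tk
      tv := by simp only [← map_mul, ← map_inv]; exact hcl h.tv
      gen := by
        intro g hg
        obtain ⟨g, rfl⟩ := e.surjective g
        rw [← map_mul, ← map_mul] at hg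
        have h1 : e g ∈ (closure ({i, x, k, v, c * (j * l) * c⁻¹, c * i * c⁻¹} : Set U)).map e.toMonoidHom :=
          ⟨g, h.gen g (e.injective hg), rfl⟩
        rw [MonoidHom.map_closure] at h1
        refine closure_mono ?_ h1
        rintro _ ⟨y, hy, rfl⟩
        simp only [Set.mem_insert_iff, Set.mem_singleton_iff] at hy ⊢
        rcases hy with rfl | rfl | rfl | rfl | rfl | rfl
        · exact Or.inl rfl
        · exact Or.inr (Or.inl rfl)
        · exact Or.inr (Or.inr (Or.inl rfl))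
        · exact Or.inr (Or.inr (Or.inr (Or.inl rfl)))
        · refine Or.inr (Or.inr (Or.inr (Or.inr (Or.inl ?_))))
          show e _ = _
          simp only [map_mul, map_inv]
        · refine Or.inr (Or.inr (Or.inr (Or.inr (Or.inr ?_))))
          show e _ = _
          simp only [map_mul, map_inv]
      one := by
        intro u hu hu1
        obtain ⟨u, rfl⟩ := e.surjective u
        obtain ⟨g, hg⟩ := h.one u (e.injective (by rw [map_mul, hu, map_one]))
          (fun h2 => hu1 (by rw [h2, map_one]))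
        exact ⟨e g, by rw [← map_mul, ← map_inv, ← map_mul, hg]⟩
      cen := by
        intro g h1 h2 h3 h4
        obtain ⟨g, rfl⟩ := e.surjective g
        rw [← map_mul, ← map_mul] at h1 h2 h3 h4
        rcases h.cen g (e.injective h1) (e.injective h2) (e.injective h3) (e.injective h4) with h5 | h5
        · left; rw [h5, map_one]
        · right; rw [h5] }

end Cfsg.Agent.OddHalf.NI3.Bad.NSideU

end

-- merged: Cfsg.Agent.OddHalf.NI3.Bad.NSideLift
section

/-!
# The frame of `2.U₄(3)` (THEOREM NIB, N-side), part 3: double covers (helper146)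

`Cov π y` : `π : N → U` is surjective with kernel `⟨y⟩`, `y` a central involution.
* `lift_sl` : subgroups `SL₂(3)` of `U` lift;
* `mem_comm` : `y ∈ C'` for subgroups `C` of odd index, `N` perfect.
-/

set_option autoImplicit false
set_option linter.unusedSectionVars false

namespace Cfsg.Agent.OddHalf.NI3.Bad.NSideN

open Subgroup Cfsg Cfsg.Agent.Cit.SLThree

/-- a double cover -/
structure Cov {N U : Type*} [Group N] [Group U] (π : N →* U) (y : N) : Prop where
  surj : Function.Surjective π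
  y1 : y ≠ 1
  yy : y * y = 1
  cen : ∀ g, g * y = y * g
  py : π y = 1
  ker : ∀ g, π g = 1 → g = 1 ∨ g = y

namespace Cov

variable {N U : Type*} [Group N] [Group U] {π : N →* U} {y : N}

theorem eq_or (h : Cov π y) {g g' : N} (e : π g = π g') : g = g' ∨ g = y * g' := by
  rcases h.ker (g * g'⁻¹) (by rw [map_mul, map_inv, e, mul_inv_cancel]) with h1 | h1
  · left; rwa [mul_inv_eq_one] at h1
  · right; rwa [mul_inv_eq_iff_eq_mul] at h1

/-- commuting with elements of order three lifts -/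
theorem comm_three (h : Cov π y) {a b : N} (hb : b * b * b = 1) (hab : π a * π b = π b * π a) :
    a * b = b * a := by
  rcases h.eq_or (g := a * b) (g' := b * a) (by rw [map_mul, map_mul, hab]) with h1 | h1
  · exact h1
  exfalso
  apply h.y1
  have h2 : a * b * b = b * b * a := by
    calc a * b * b = y * (b * a) * b := by rw [h1]
      _ = y * (b * (a * b)) := by group
      _ = y * (b * (y * (b * a))) := by rw [h1]
      _ = y * ((b * y) * (b * a)) := by group
      _ = (y * y) * (b * b * a) := by rw [h.cen b]; group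
      _ = b * b * a := by rw [h.yy, one_mul]
  have h3 : a = y * a := by
    calc a = a * (b * b * b) := by rw [hb, mul_one]
      _ = (a * b * b) * b := by group
      _ = b * b * (a * b) := by rw [h2]; group
      _ = b * b * (y * (b * a)) := by rw [h1]
      _ = ((b * b) * y) * (b * a) := by group
      _ = y * (b * b * b) * a := by rw [h.cen (b * b)]; group
      _ = y * a := by rw [hb, mul_one]
  exact (mul_eq_right.1 h3.symm)

/-- lifting elements of order three -/
theorem lift_three (h : Cov π y) {u : U} (hu : u * u * u = 1) : ∃ g, π g = u ∧ g * g * g = 1 := by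
  obtain ⟨g, rfl⟩ := h.surj u
  rcases h.ker (g * g * g) (by rw [map_mul, map_mul, hu]) with h1 | h1
  · exact ⟨g, rfl, h1⟩
  · refine ⟨y * g, by rw [map_mul, h.py, one_mul], ?_⟩
    calc y * g * (y * g) * (y * g) = y * (g * y) * (g * y) * g := by group
      _ = y * (y * g) * (y * g) * g := by rw [h.cen g]
      _ = (y * y) * (g * y) * g * g := by group
      _ = (y * y) * (y * g) * g * g := by rw [h.cen g]
      _ = (y * y) * y * (g * g * g) := by group
      _ = 1 := by rw [h1, h.yy, one_mul, h.yy]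

/-- **lifting `SL₂(3)`** -/
theorem lift_sl (h : Cov π y) {z' i' j' x' : U} (q : Qt z' i' j') (x3 : x' * x' * x' = 1)
    (xi : x' * i' * x'⁻¹ = j') (xj : x' * j' * x'⁻¹ = i' * j') :
    ∃ z i j x : N, π z = z' ∧ π i = i' ∧ π j = j' ∧ π x = x' ∧ Sl (closure ({i, x} : Set N)) z i j x := by
  obtain ⟨x, hx, hx3⟩ := h.lift_three x3
  -- `x i x⁻¹ = j`, `x j x⁻¹ = i j`
  obtain ⟨i, hi, hxij⟩ : ∃ i, π i = i' ∧ x * (x * i * x⁻¹) * x⁻¹ = i * (x * i * x⁻¹) := by
    obtain ⟨i, hi⟩ := h.surj i'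
    have h1 : π (x * (x * i * x⁻¹) * x⁻¹) = π (i * (x * i * x⁻¹)) := by
      simp only [map_mul, map_inv, hx, hi]
      rw [xi, xj]
    rcases h.eq_or h1 with h2 | h2
    · exact ⟨i, hi, h2⟩
    · refine ⟨y * i, by rw [map_mul, h.py, one_mul, hi], ?_⟩
      have e1 : x * (x * (y * i) * x⁻¹) * x⁻¹ = (y * y) * (i * (x * i * x⁻¹)) := by
        calc x * (x * (y * i) * x⁻¹) * x⁻¹ = ((x * x) * y) * i * (x⁻¹ * x⁻¹) := by group
          _ = (y * (x * x)) * i * (x⁻¹ * x⁻¹) := by rw [h.cen (x * x)]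
          _ = y * (x * (x * i * x⁻¹) * x⁻¹) := by group
          _ = (y * y) * (i * (x * i * x⁻¹)) := by rw [h2]; group
      have e2 : y * i * (x * (y * i) * x⁻¹) = (y * y) * (i * (x * i * x⁻¹)) := by
        calc y * i * (x * (y * i) * x⁻¹) = y * ((i * x) * y) * i * x⁻¹ := by group
          _ = y * (y * (i * x)) * i * x⁻¹ := by rw [h.cen (i * x)]
          _ = (y * y) * (i * (x * i * x⁻¹)) := by group
      rw [e1, e2]
  obtain ⟨j, hj⟩ : ∃ j, x * i * x⁻¹ = j := ⟨_, rfl⟩
  obtain ⟨z, hz⟩ : ∃ z, i * i = z := ⟨_, rfl⟩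
  rw [hj] at hxij
  have hj' : π j = j' := by rw [← hj]; simp only [map_mul, map_inv, hx, hi]; exact xi
  have hz' : π z = z' := by rw [← hz, map_mul, hi, q.i2]
  have hxz : z * x = x * z := by
    refine h.comm_three hx3 ?_
    rw [hz', hx]
    have h1 : x' * z' * x'⁻¹ = z' := by
      calc x' * z' * x'⁻¹ = (x' * i' * x'⁻¹) * (x' * i' * x'⁻¹) := by rw [← q.i2]; group
        _ = z' := by rw [xi, q.j2]
    exact (mul_inv_eq_iff_eq_mul.1 h1).symm
  have hjj : j * j = z := by
    calc j * j = x * (i * i) * x⁻¹ := by rw [← hj]; group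
      _ = z := by rw [hz, ← hxz, mul_inv_cancel_right]
  have hijij : (i * j) * (i * j) = z := by
    calc (i * j) * (i * j) = x * (j * j) * x⁻¹ := by rw [← hxij]; group
      _ = z := by rw [hjj, ← hxz, mul_inv_cancel_right]
  have ciz : i * z = z * i := by rw [← hz, mul_assoc]
  have cjz : j * z = z * j := by rw [← hjj, mul_assoc]
  have hinv : i⁻¹ = z⁻¹ * i := by
    rw [eq_inv_mul_iff_mul_eq, mul_inv_eq_iff_eq_mul, hz]
  have hjnv : j⁻¹ = z⁻¹ * j := by
    rw [eq_inv_mul_iff_mul_eq, mul_inv_eq_iff_eq_mul, hjj]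
  have hji : j * i = z⁻¹ * (i * j) := by
    have h1 : j * i = i⁻¹ * ((i * j) * (i * j)) * j⁻¹ := by group
    rw [h1, hijij, hinv, hjnv]
    group
  have hzz : z * z = 1 := by
    have h1 : x * (j * i) * x⁻¹ = z⁻¹ * (x * (i * j) * x⁻¹) := by
      rw [hji]
      have : x * z⁻¹ = z⁻¹ * x := by
        rw [eq_inv_mul_iff_mul_eq, ← mul_assoc, hxz, mul_inv_cancel_right]
      calc x * (z⁻¹ * (i * j)) * x⁻¹ = (x * z⁻¹) * (i * j) * x⁻¹ := by group
        _ = _ := by rw [this]; group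
    have h2 : x * (j * i) * x⁻¹ = i * z := by
      calc x * (j * i) * x⁻¹ = (x * j * x⁻¹) * (x * i * x⁻¹) := by group
        _ = i * (j * j) := by rw [hxij, hj]; group
        _ = i * z := by rw [hjj]
    have h3 : x * (i * j) * x⁻¹ = z⁻¹ * (i * z) := by
      calc x * (i * j) * x⁻¹ = (x * i * x⁻¹) * (x * j * x⁻¹) := by group
        _ = (j * i) * j := by rw [hxij, hj]; group
        _ = z⁻¹ * (i * (j * j)) := by rw [hji]; group
        _ = z⁻¹ * (i * z) := by rw [hjj]
    rw [h2, h3] at h1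
    have h4 : z⁻¹ * z⁻¹ = 1 := by
      have h5 : 1 * (i * z) = (z⁻¹ * z⁻¹) * (i * z) := by rw [one_mul, mul_assoc]; exact h1
      exact (mul_right_cancel h5).symm
    calc z * z = (z⁻¹ * z⁻¹)⁻¹ := by rw [mul_inv_rev, inv_inv]
      _ = 1 := by rw [h4, inv_one]
  have hz1 : z ≠ 1 := by
    rintro rfl
    exact q.z1 (by rw [← hz', map_one])
  have hzi : z⁻¹ = z := inv_eq_of_mul_eq_one_right hzz
  refine ⟨z, i, j, x, hz', hi, hj', hx, ⟨⟨hzz, hz1, hz, hjj, by rw [hji, hzi]⟩, hj, hxij, hx3, rfl⟩⟩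

/-- generation -/
theorem mem_closure (h : Cov π y) {S : Set N} {g : N} (hg : π g ∈ closure (π '' S)) :
    g ∈ closure (insert y S) := by
  rw [← MonoidHom.map_closure] at hg
  obtain ⟨g', hg', e⟩ := hg
  have hy : y ∈ closure (insert y S) := subset_closure (Set.mem_insert _ _)
  have h1 : g' ∈ closure (insert y S) := closure_mono (Set.subset_insert _ _) hg'
  rcases h.eq_or e with h2 | h2
  · rwa [← h2]
  · have h3 : g = y * g' := by rw [h2, ← mul_assoc, h.yy, one_mul]
    rw [h3]; exact mul_mem hy h1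

end Cov

/-! ### Commutators -/

section Comm

variable {G : Type*} [Group G]

/-- the elements commuting with `b` modulo `M` -/
def Dm (C M : Subgroup G) (hM : ∀ g ∈ C, ∀ m ∈ M, g * m * g⁻¹ ∈ M) (b : G) : Subgroup G where
  carrier := {a | a ∈ C ∧ a * b * a⁻¹ * b⁻¹ ∈ M}
  one_mem' := ⟨one_mem _, by simp⟩
  mul_mem' := by
    rintro a a' ⟨ha, h1⟩ ⟨ha', h2⟩
    refine ⟨mul_mem ha ha', ?_⟩
    have : a * a' * b * (a * a')⁻¹ * b⁻¹ = a * (a' * b * a'⁻¹ * b⁻¹) * a⁻¹ * (a * b * a⁻¹ * b⁻¹) := by group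
    rw [this]
    exact mul_mem (hM a ha _ h2) h1
  inv_mem' := by
    rintro a ⟨ha, h1⟩
    refine ⟨inv_mem ha, ?_⟩
    have : a⁻¹ * b * a⁻¹⁻¹ * b⁻¹ = a⁻¹ * (a * b * a⁻¹ * b⁻¹)⁻¹ * a⁻¹⁻¹ := by group
    rw [this]
    exact hM _ (inv_mem ha) _ (inv_mem h1)

/-- `C' ≤ M` from commutators of generators -/
theorem commutator_le_of {C M : Subgroup G} (hM : ∀ g ∈ C, ∀ m ∈ M, g * m * g⁻¹ ∈ M) {S : Set G}
    (hS : C = closure S) (h : ∀ a ∈ S, ∀ b ∈ S, a * b * a⁻¹ * b⁻¹ ∈ M) : ⁅C, C⁆ ≤ M := by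
  have hSC : ∀ a ∈ S, a ∈ C := fun a ha => by rw [hS]; exact subset_closure ha
  have h1 : ∀ b ∈ S, C ≤ Dm C M hM b := by
    intro b hb
    conv_lhs => rw [hS]
    rw [closure_le]
    exact fun a ha => ⟨hSC a ha, h a ha b hb⟩
  have h2 : ∀ a ∈ C, C ≤ Dm C M hM a := by
    intro a ha
    conv_lhs => rw [hS]
    rw [closure_le]
    intro b hb
    refine ⟨hSC b hb, ?_⟩
    have h3 := (h1 b hb ha).2
    have : b * a * b⁻¹ * a⁻¹ = (a * b * a⁻¹ * b⁻¹)⁻¹ := by group
    rw [this]
    exact inv_mem h3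
  rw [Subgroup.commutator_le]
  intro a ha b hb
  exact (h2 b hb ha).2

/-- **transfer** -/
theorem mem_comm [Finite G] (hp : commutator G = ⊤) {C : Subgroup G} (hC : Odd C.index) {y : G} (hy : y ∈ C)
    (hc : ∀ g, g * y = y * g) (hyy : y * y = 1) : y ∈ ⁅C, C⁆ := by
  have hpow : ∀ k : ℕ, y ^ (2 * k + 1) = y := by
    intro k
    rw [pow_add, pow_mul, pow_two, hyy, one_pow, one_mul, pow_one]
  have h1 := MonoidHom.transfer_eq_pow (Abelianization.of (G := C)) y (by
    intro k g₀ _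
    have h2 : Commute g₀ (y ^ k) := (show Commute g₀ y from hc g₀).pow_right k
    rw [mul_assoc, ← h2.eq, ← mul_assoc, inv_mul_cancel, one_mul])
  have h2 : MonoidHom.transfer (Abelianization.of (G := C)) y = 1 := by
    have h3 := Abelianization.commutator_subset_ker (MonoidHom.transfer (Abelianization.of (G := C)))
    rw [hp] at h3
    exact h3 (mem_top y)
  rw [h2] at h1
  obtain ⟨k, hk⟩ := hC
  have h3 : (⟨y, hy⟩ : C) ∈ commutator C := by
    have h4 : Abelianization.of (⟨y, hy⟩ : C) = 1 := by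
      rw [h1]
      congr 1
      apply Subtype.ext
      show y = y ^ C.index
      rw [hk, hpow]
    exact (QuotientGroup.eq_one_iff _).1 h4
  have h5 : y ∈ (commutator C).map C.subtype := ⟨_, h3, rfl⟩
  rwa [map_subtype_commutator] at h5

end Comm

/-! ### `SL₂(3)` -/

theorem sl_iso {G : Type*} [Group G] [Finite G] {M : Subgroup G} {z i j d : G} (h : Sl M z i j d) :
    Nonempty (↥M ≃* Matrix.SpecialLinearGroup (Fin 2) (ZMod 3)) := by
  have hi := h.hi
  have hj := h.hj
  have hd := h.hd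
  refine Transfer.SL23Recog.sl23_of_relations (i := (⟨i, hi⟩ : M)) (j := ⟨j, hj⟩) (t := ⟨d, hd⟩)
    ⟨⟨?_, ?_, ?_⟩, ?_, ?_⟩ ?_ ?_ h.card
  · apply Subtype.ext
    show i ^ 4 = 1
    rw [show (4 : ℕ) = 2 * 2 by norm_num, pow_mul, pow_two i, h.q.i2, pow_two, h.q.z2]
  · apply Subtype.ext
    show j ^ 2 = i ^ 2
    rw [pow_two, pow_two, h.q.i2, h.q.j2]
  · apply Subtype.ext
    show j * i * j⁻¹ = i⁻¹
    rw [h.q.ji, h.q.i_inv]; group
  · exact Subtype.ext h.di
  · exact Subtype.ext h.dj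
  · apply Subtype.ext
    show d ^ 3 = 1
    rw [pow_succ, pow_two, h.d3]
  · rw [eq_top_iff]
    have h1 : M ≤ (closure ({(⟨i, hi⟩ : M), ⟨j, hj⟩, ⟨d, hd⟩} : Set M)).map M.subtype := by
      conv_lhs => rw [h.gen]
      rw [closure_le]
      rintro x (rfl | rfl)
      · exact ⟨⟨x, hi⟩, subset_closure (by simp), rfl⟩
      · exact ⟨⟨x, hd⟩, subset_closure (by simp), rfl⟩
    rintro ⟨x, hx⟩ -
    obtain ⟨y, hy, e⟩ := h1 hx
    have : y = ⟨x, hx⟩ := Subtype.ext e
    rwa [← this]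

end Cfsg.Agent.OddHalf.NI3.Bad.NSideN

end

-- merged: Cfsg.Agent.OddHalf.NI3.Bad.NSideN
section

/-!
# The frame of `2.U₄(3)` (THEOREM NIB, N-side), part 4: `ExSheet` (helper146)

`N` a double cover of `U = U₄(3)`, perfect. The two `SL₂(3)` of `C_U(z)` lift to commuting subgroups `A`, `B` with the
same involution `z`. All elements over `C_U(z)` commute with `z`. By transfer the central involution `y` lies in
`C_N(z)'`, so `c z c⁻¹ = y i k`.
-/

set_option autoImplicit false
set_option linter.unusedSectionVars false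
set_option linter.style.haveILetI false

namespace Cfsg.Agent.OddHalf.NI3.Bad.NSideN

open Subgroup Cfsg Cfsg.Agent.Cit.SLThree
open Cfsg.Agent.OddHalf.NI3.Bad.NSideU (UD)
open Cfsg.Agent.Cit (cj)

universe u

/-! ### Generalities -/

section Gen

variable {G : Type*} [Group G]

/-- If all involutions are conjugate to `z`, then `z` is 2-central. -/
theorem odd_index [Finite G] {z : G} (h2 : 2 ∣ Nat.card G)
    (hc : ∀ t : G, t * t = 1 → t ≠ 1 → ∃ g, g * z * g⁻¹ = t) : Odd (centralizer ({z} : Set G)).index := by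
  have hf : Fact (Nat.Prime 2) := ⟨Nat.prime_two⟩
  obtain ⟨S⟩ : Nonempty (Sylow 2 G) := inferInstance
  have hS : (S : Subgroup G) ≠ ⊥ := S.ne_bot_of_dvd_card h2
  have hn : Nontrivial (S : Subgroup G) := (nontrivial_iff_ne_bot _).2 hS
  have hc2 := S.isPGroup'.center_nontrivial
  have hp : IsPGroup 2 (center (S : Subgroup G)) := S.isPGroup'.to_subgroup _
  have hd : 2 ∣ Nat.card (center (S : Subgroup G)) := by
    obtain ⟨n, hn⟩ := IsPGroup.iff_card.1 hp
    rw [hn]
    refine dvd_pow_self 2 ?_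
    rintro rfl
    rw [pow_zero] at hn
    have h1 := card_eq_one.1 hn
    exact (nontrivial_iff_ne_bot _).1 hc2 h1
  obtain ⟨x, hx⟩ := exists_prime_orderOf_dvd_card' 2 hd
  obtain ⟨t, ht⟩ : ∃ t : G, t = ((x : (S : Subgroup G)) : G) := ⟨_, rfl⟩
  have hto : orderOf t = 2 := by rw [ht, orderOf_coe, orderOf_coe, hx]
  have htt : t * t = 1 := by rw [← pow_two, ← hto]; exact pow_orderOf_eq_one t
  have ht1 : t ≠ 1 := by
    rintro h
    rw [h, orderOf_one] at hto
    exact absurd hto (by norm_num)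
  have hSt : (S : Subgroup G) ≤ centralizer ({t} : Set G) := by
    intro y hy
    rw [mem_centralizer_singleton_iff]
    have h1 := mem_center_iff.1 x.2 ⟨y, hy⟩
    have h2 := congrArg Subtype.val h1
    rw [ht]
    exact h2
  obtain ⟨g, hg⟩ := hc t htt ht1
  have hodd : Odd (centralizer ({t} : Set G)).index := by
    rw [← Nat.not_even_iff_odd, even_iff_two_dvd]
    intro h
    exact S.not_dvd_index (h.trans (index_dvd_of_le hSt))
  rw [← hg, ← Cit.cj_centralizer] at hodd
  rw [Cit.cj_def, index_map_of_injective _ (MulAut.conj g).injective] at hodd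
  have : (MulAut.conj g).toMonoidHom.range = ⊤ := MonoidHom.range_eq_top.2 (MulAut.conj g).surjective
  rw [this, index_top, mul_one] at hodd
  exact hodd

theorem inv_eq_of {J : Subgroup G} {z : G} (h : IsPr J z) {y : G} (hy : y ∈ J) (h2 : y * y = 1) :
    y = 1 ∨ y = z := by
  rcases h.t3.cases y hy with h5 | h5 | h5 | h5 | h5
  · exact absurd (h5.symm.trans h2) h.t3.z_ne
  · exact Or.inl h5
  · exact Or.inr h5
  · left; rwa [h2, one_mul] at h5
  · right; rwa [h2, one_mul] at h5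

/-- products of commuting solvable subgroups -/
theorem solvable_sup {A B : Subgroup G} (h : ∀ a ∈ A, ∀ b ∈ B, a * b = b * a) (hA : Group.IsSolvable A)
    (hB : Group.IsSolvable B) : Group.IsSolvable ↥(A ⊔ B) := by
  let f : A × B →* G := MonoidHom.noncommCoprod A.subtype B.subtype (fun a b => h a a.2 b b.2)
  have h1 : f.range = A ⊔ B := by
    apply le_antisymm
    · rintro _ ⟨⟨a, b⟩, rfl⟩
      exact mul_mem (mem_sup_left a.2) (mem_sup_right b.2)
    · refine sup_le (fun a ha => ⟨(⟨a, ha⟩, 1), ?_⟩) (fun b hb => ⟨(1, ⟨b, hb⟩), ?_⟩)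
      · show a * 1 = a
        rw [mul_one]
      · show 1 * b = b
        rw [one_mul]
  rw [← h1]
  exact Group.isSolvable_of_surjective f.rangeRestrict_surjective

theorem exists_mul {A B : Subgroup G} (h : ∀ a ∈ A, ∀ b ∈ B, a * b = b * a) {x : G} (hx : x ∈ A ⊔ B) :
    ∃ a ∈ A, ∃ b ∈ B, x = a * b := by
  let K : Subgroup G :=
    { carrier := {x | ∃ a ∈ A, ∃ b ∈ B, x = a * b}
      one_mem' := ⟨1, one_mem _, 1, one_mem _, (mul_one 1).symm⟩
      mul_mem' := by
        rintro _ _ ⟨a, ha, b, hb, rfl⟩ ⟨a', ha', b', hb', rfl⟩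
        refine ⟨a * a', mul_mem ha ha', b * b', mul_mem hb hb', ?_⟩
        calc a * b * (a' * b') = a * (b * a') * b' := by group
          _ = a * (a' * b) * b' := by rw [h a' ha' b hb]
          _ = _ := by group
      inv_mem' := by
        rintro _ ⟨a, ha, b, hb, rfl⟩
        exact ⟨a⁻¹, inv_mem ha, b⁻¹, inv_mem hb, by rw [h a ha b hb]; group⟩ }
  have h1 : A ⊔ B ≤ K := sup_le (fun a ha => ⟨a, ha, 1, one_mem _, (mul_one a).symm⟩)
    (fun b hb => ⟨1, one_mem _, b, hb, (one_mul b).symm⟩)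
  exact h1 hx

end Gen

/-! ### The lifted elements -/

variable {N U : Type*} [Group N] [Group U] {π : N →* U} {y z i j x k l v c : N}

/-- the lifted elements -/
structure Lf (π : N →* U) (y z i j x k l v c : N) : Prop where
  cov : Cov π y
  ud : UD (π z) (π i) (π j) (π x) (π k) (π l) (π v) (π c)
  sA : Sl (closure ({i, x} : Set N)) z i j x
  sB : Sl (closure ({k, v} : Set N)) z k l v

theorem cube_conj {g x : N} (h : x * x * x = 1) : (g * x * g⁻¹) * (g * x * g⁻¹) * (g * x * g⁻¹) = 1 := by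
  calc (g * x * g⁻¹) * (g * x * g⁻¹) * (g * x * g⁻¹) = g * (x * x * x) * g⁻¹ := by group
    _ = 1 := by rw [h, mul_one, mul_inv_cancel]

theorem exists_lf {z' i' j' x' k' l' v' c' : U} (h : Cov π y) (u : UD z' i' j' x' k' l' v' c') :
    ∃ z i j x k l v c : N, Lf π y z i j x k l v c := by
  obtain ⟨z, i, j, x, hz, hi, hj, hx, sA⟩ := h.lift_sl u.q1 u.x3 u.xi u.xj
  obtain ⟨z2, k, l, v, hz2, hk, hl, hv, sB⟩ := h.lift_sl u.q2 u.v3 u.vk u.vl
  obtain ⟨c, hc⟩ := h.surj c'
  have cxk : Commute k x := h.comm_three sA.d3 (by rw [hk, hx, u.xk])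
  have cik' : Commute (π k) (π i) := by rw [hk, hi]; exact u.ik.symm
  have cxk' : Commute (π k) (π x) := by rw [hk, hx]; exact u.xk.symm
  -- `k` commutes with `i x i⁻¹`
  have c1 : Commute k (i * x * i⁻¹) := by
    refine h.comm_three (cube_conj sA.d3) ?_
    rw [map_mul, map_mul, map_inv]
    exact ((cik'.mul_right cxk').mul_right cik'.inv_right).eq
  -- `x⁻¹ i x = i j`
  have e1 : x⁻¹ * (i * x * i⁻¹) = i * j * i⁻¹ := by
    have h1 : x⁻¹ * i * x = i * j := by
      calc x⁻¹ * i * x = x⁻¹ * (x * (i * j) * x⁻¹) * x := by rw [sA.dij]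
        _ = i * j := by group
    calc x⁻¹ * (i * x * i⁻¹) = (x⁻¹ * i * x) * i⁻¹ := by group
      _ = i * j * i⁻¹ := by rw [h1]
  have c2 : Commute k (i * j * i⁻¹) := by rw [← e1]; exact cxk.inv_right.mul_right c1
  have c3 : Commute k z := by
    have h1 : (i * j * i⁻¹) * (i * j * i⁻¹) = z := by
      calc (i * j * i⁻¹) * (i * j * i⁻¹) = i * (j * j) * i⁻¹ := by group
        _ = z := by rw [sA.q.j2, sA.q.iz, mul_inv_cancel_right]
    rw [← h1]; exact c2.mul_right c2
  have c4 : Commute k j := by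
    have h1 : z * (i * j * i⁻¹) = j := by
      calc z * (i * j * i⁻¹) = (z * (i * j)) * i⁻¹ := by group
        _ = j := by rw [← sA.q.ji, mul_inv_cancel_right]
    rw [← h1]; exact c3.mul_right c2
  have c5 : Commute k i := by
    have h1 : x⁻¹ * j * x = i := by rw [← sA.di]; group
    rw [← h1]; exact (cxk.inv_right.mul_right c4).mul_right cxk
  -- `(i k)² = 1`
  have h1 : (i * k) * (i * k) = 1 := by
    have h2 : π (i * k) * π (i * k) = 1 := by
      rw [map_mul, hi, hk]
      calc i' * k' * (i' * k') = i' * (k' * i') * k' := by group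
        _ = i' * (i' * k') * k' := by rw [u.ik]
        _ = (i' * i') * (k' * k') := by group
        _ = 1 := by rw [u.q1.i2, u.q2.i2, u.q1.z2]
    have h3 : π (i * k) ≠ 1 := by
      rw [map_mul, hi, hk]
      intro h4
      have h5 : k' = i'⁻¹ := (inv_eq_of_mul_eq_one_right h4).symm
      have h6 : Commute x' i' := by
        have : Commute x' k' := u.xk
        rw [h5] at this
        exact (Commute.inv_right_iff).1 this
      have h7 : j' = i' := by rw [← u.xi, h6.eq, mul_inv_cancel_right]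
      apply u.q1.z1
      have h8 := u.q1.ji
      rw [h7] at h8
      exact (mul_eq_right.1 h8.symm)
    obtain ⟨g', hg'⟩ := u.one _ h2 h3
    obtain ⟨g, hg⟩ := h.surj g'
    have h4 : π (g * z * g⁻¹) = π (i * k) := by rw [← hg', map_mul, map_mul, map_inv, hg, hz]
    have h5 : (g * z * g⁻¹) * (g * z * g⁻¹) = 1 := by
      calc (g * z * g⁻¹) * (g * z * g⁻¹) = g * (z * z) * g⁻¹ := by group
        _ = 1 := by rw [sA.q.z2, mul_one, mul_inv_cancel]
    rcases h.eq_or h4 with h6 | h6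
    · rw [← h6, h5]
    · rw [h6] at h5
      calc (i * k) * (i * k) = (y * y) * ((i * k) * (i * k)) := by rw [h.yy, one_mul]
        _ = y * (y * (i * k)) * (i * k) := by group
        _ = y * ((i * k) * y) * (i * k) := by rw [h.cen (i * k)]
        _ = y * (i * k) * (y * (i * k)) := by group
        _ = 1 := h5
  have hz2z : z2 = z := by
    have h2 : z * z2 = 1 := by
      calc z * z2 = (i * i) * (k * k) := by rw [sA.q.i2, sB.q.i2]
        _ = i * (i * k) * k := by group
        _ = i * (k * i) * k := by rw [c5.eq]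
        _ = (i * k) * (i * k) := by group
        _ = 1 := h1
    have h3 : z * z2 = z * z := by rw [h2, sA.q.z2]
    exact mul_left_cancel h3
  rw [hz2z] at sB
  refine ⟨z, i, j, x, k, l, v, c, h, ?_, sA, sB⟩
  rw [hz, hi, hj, hx, hk, hl, hv, hc]
  exact u

namespace Lf

variable [Finite N] (h : Lf π y z i j x k l v c)

include h

theorem z_ord : orderOf z = 2 := orderOf_eq_prime (by rw [pow_two]; exact h.sA.q.z2) h.sA.q.z1

theorem prA : IsPr (closure ({i, x} : Set N)) z := ⟨sl_iso h.sA, h.z_ord, h.sA.hz⟩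

theorem prB : IsPr (closure ({k, v} : Set N)) z := ⟨sl_iso h.sB, h.z_ord, h.sB.hz⟩

theorem pz : π z ≠ 1 := h.ud.q1.z1

theorem yA : y ∉ closure ({i, x} : Set N) := fun hy => h.cov.y1 (h.prA.inj π h.pz hy h.cov.py)

theorem yB : y ∉ closure ({k, v} : Set N) := fun hy => h.cov.y1 (h.prB.inj π h.pz hy h.cov.py)

/-- `A` and `B` commute -/
theorem comm : ∀ a ∈ closure ({i, x} : Set N), ∀ b ∈ closure ({k, v} : Set N), a * b = b * a := by
  -- the elements of order 3 of `B` commute with all elements of `A`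
  have hp : ∀ a ∈ closure ({i, x} : Set N), ∀ b ∈ closure ({k, v} : Set N), π a * π b = π b * π a := by
    have h1 : closure ({i, x} : Set N) ≤ (centralizer ({π k, π v} : Set U)).comap π := by
      rw [closure_le]
      rintro a (rfl | rfl)
      · show π a ∈ centralizer _
        rw [mem_centralizer_iff]
        rintro b (rfl | rfl)
        · exact h.ud.ik.symm
        · exact h.ud.iv.symm
      · show π a ∈ centralizer _
        rw [mem_centralizer_iff]
        rintro b (rfl | rfl)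
        · exact h.ud.xk.symm
        · exact h.ud.xv.symm
    intro a ha b hb
    have h2 : closure ({k, v} : Set N) ≤ (centralizer ({π a} : Set U)).comap π := by
      rw [closure_le]
      have h3 := mem_centralizer_iff.1 (h1 ha)
      rintro b (rfl | rfl)
      · show π b ∈ centralizer _
        rw [mem_centralizer_singleton_iff]
        exact h3 _ (by simp)
      · show π b ∈ centralizer _
        rw [mem_centralizer_singleton_iff]
        exact h3 _ (by simp)
    exact (mem_centralizer_singleton_iff.1 (h2 hb)).symm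
  intro a ha b hb
  have h1 : closure ({k, v} : Set N) ≤ centralizer ({a} : Set N) := by
    refine h.prB.le_of_cube fun b hb hb3 => ?_
    rw [mem_centralizer_singleton_iff]
    exact (h.cov.comm_three hb3 (hp a ha b hb)).symm
  exact (mem_centralizer_singleton_iff.1 (h1 hb)).symm

omit h in
/-- conjugates of lifts -/
theorem cj_le_of (cov : Cov π y) {J J' : Subgroup N} {z z' : N} (h1 : IsPr J z) (h2 : IsPr J' z')
    (hz : π z' ≠ 1) (g : N) (H : ∀ a ∈ J, π (g * a * g⁻¹) ∈ J'.map π) : cj g J ≤ J' := by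
  have h3 : J ≤ J'.comap (MulAut.conj g).toMonoidHom := by
    refine h1.le_of_cube fun a ha h3 => ?_
    show g * a * g⁻¹ ∈ J'
    obtain ⟨b, hb, e⟩ := H a ha
    rcases cov.eq_or e with h4 | h4
    · rwa [← h4]
    · exfalso
      have h5 := cube_conj (g := g) h3
      obtain ⟨w, hw⟩ : ∃ w, g * a * g⁻¹ = w := ⟨_, rfl⟩
      rw [hw] at h5 h4
      have h6 : b * b * b = y := by
        rw [h4]
        calc y * w * (y * w) * (y * w) = y * (w * y) * (w * y) * w := by group
          _ = y * (y * w) * (y * w) * w := by rw [cov.cen w]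
          _ = (y * y) * (w * y) * w * w := by group
          _ = (y * y) * (y * w) * w * w := by rw [cov.cen w]
          _ = (y * y) * y * (w * w * w) := by group
          _ = y := by rw [h5, cov.yy, one_mul, mul_one]
      have h7 : y ∈ J' := by rw [← h6]; exact mul_mem (mul_mem hb hb) hb
      exact cov.y1 (h2.inj π hz h7 cov.py)
  rintro _ ⟨a, ha, rfl⟩
  exact h3 ha

omit h [Finite N] in
/-- conjugation of generators -/
theorem gens {p q p' q' : N} (g : N) (h1 : π g * π p * (π g)⁻¹ ∈ closure ({π p', π q'} : Set U))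
    (h2 : π g * π q * (π g)⁻¹ ∈ closure ({π p', π q'} : Set U)) :
    ∀ a ∈ closure ({p, q} : Set N), π (g * a * g⁻¹) ∈ (closure ({p', q'} : Set N)).map π := by
  rw [MonoidHom.map_closure, Set.image_pair]
  have h3 : closure ({p, q} : Set N) ≤ (closure ({π p', π q'} : Set U)).comap
      (π.comp (MulAut.conj g).toMonoidHom) := by
    rw [closure_le]
    rintro a (rfl | rfl)
    · show π (g * a * g⁻¹) ∈ closure ({π p', π q'} : Set U)
      rw [map_mul, map_mul, map_inv]; exact h1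
    · show π (g * a * g⁻¹) ∈ closure ({π p', π q'} : Set U)
      rw [map_mul, map_mul, map_inv]; exact h2
  exact fun a ha => h3 ha

theorem cjs_A : cj (c * (j * l) * c⁻¹) (closure ({i, x} : Set N)) ≤ closure ({k, v} : Set N) := by
  refine cj_le_of h.cov h.prA h.prB h.pz _ (gens _ ?_ ?_)
  · simp only [map_mul, map_inv]; exact h.ud.si
  · simp only [map_mul, map_inv]; exact h.ud.sx

theorem cjs_B : cj (c * (j * l) * c⁻¹) (closure ({k, v} : Set N)) ≤ closure ({i, x} : Set N) := by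
  refine cj_le_of h.cov h.prB h.prA h.pz _ (gens _ ?_ ?_)
  · simp only [map_mul, map_inv]; exact h.ud.sk
  · simp only [map_mul, map_inv]; exact h.ud.sv

theorem cjt_A : cj (c * i * c⁻¹) (closure ({i, x} : Set N)) ≤ closure ({i, x} : Set N) := by
  refine cj_le_of h.cov h.prA h.prA h.pz _ (gens _ ?_ ?_)
  · simp only [map_mul, map_inv]; exact h.ud.ti
  · simp only [map_mul, map_inv]; exact h.ud.tx

theorem cjt_B : cj (c * i * c⁻¹) (closure ({k, v} : Set N)) ≤ closure ({k, v} : Set N) := by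
  refine cj_le_of h.cov h.prB h.prB h.pz _ (gens _ ?_ ?_)
  · simp only [map_mul, map_inv]; exact h.ud.tk
  · simp only [map_mul, map_inv]; exact h.ud.tv

theorem jl : (j * l) * (j * l) = 1 := by
  have h1 := h.comm j h.sA.hj l h.sB.hj
  calc (j * l) * (j * l) = j * (l * j) * l := by group
    _ = j * (j * l) * l := by rw [h1]
    _ = (j * j) * (l * l) := by group
    _ = 1 := by rw [h.sA.q.j2, h.sB.q.j2, h.sA.q.z2]

theorem ss : (c * (j * l) * c⁻¹) * (c * (j * l) * c⁻¹) = 1 := by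
  calc (c * (j * l) * c⁻¹) * (c * (j * l) * c⁻¹) = c * ((j * l) * (j * l)) * c⁻¹ := by group
    _ = 1 := by rw [h.jl, mul_one, mul_inv_cancel]

theorem sA_eq : cj (c * (j * l) * c⁻¹) (closure ({i, x} : Set N)) = closure ({k, v} : Set N) := by
  refine le_antisymm h.cjs_A ?_
  have h1 := Cit.cj_mono (c * (j * l) * c⁻¹) h.cjs_B
  rwa [← Cit.cj_mul, h.ss, Cit.cj_one] at h1

theorem sB_eq : cj (c * (j * l) * c⁻¹) (closure ({k, v} : Set N)) = closure ({i, x} : Set N) := by
  refine le_antisymm h.cjs_B ?_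
  have h1 := Cit.cj_mono (c * (j * l) * c⁻¹) h.cjs_A
  rwa [← Cit.cj_mul, h.ss, Cit.cj_one] at h1

theorem tA_eq : cj (c * i * c⁻¹) (closure ({i, x} : Set N)) = closure ({i, x} : Set N) :=
  eq_of_le_of_card_ge h.cjt_A (Cit.card_cj _ _).ge

theorem tB_eq : cj (c * i * c⁻¹) (closure ({k, v} : Set N)) = closure ({k, v} : Set N) :=
  eq_of_le_of_card_ge h.cjt_B (Cit.card_cj _ _).ge

/-- a subgroup `SL₂(3)` determines its involution -/
theorem z_of_cj {g : N} {J J' : Subgroup N} (h1 : IsPr J z) (h2 : IsPr J' z) (e : cj g J = J') : g * z = z * g := by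
  have h3 : g * z * g⁻¹ ∈ J' := by rw [← e]; exact Cit.conj_mem_cj h1.mem
  have h4 : (g * z * g⁻¹) * (g * z * g⁻¹) = 1 := by
    calc (g * z * g⁻¹) * (g * z * g⁻¹) = g * (z * z) * g⁻¹ := by group
      _ = 1 := by rw [h.sA.q.z2, mul_one, mul_inv_cancel]
  rcases inv_eq_of h2 h3 h4 with h5 | h5
  · exfalso
    apply h.sA.q.z1
    have h6 : g * z = g := by rwa [mul_inv_eq_one] at h5
    exact mul_eq_left.1 h6
  · rwa [mul_inv_eq_iff_eq_mul] at h5

theorem sz : c * (j * l) * c⁻¹ * z = z * (c * (j * l) * c⁻¹) := h.z_of_cj h.prA h.prB h.sA_eq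

theorem tz : c * i * c⁻¹ * z = z * (c * i * c⁻¹) := h.z_of_cj h.prA h.prA h.tA_eq

/-- generators of the elements over `C_U(z)` -/
theorem mem_W {g : N} (hg : π g * π z = π z * π g) :
    g ∈ closure (insert y ({i, x, k, v, c * (j * l) * c⁻¹, c * i * c⁻¹} : Set N)) := by
  refine h.cov.mem_closure ?_
  have h1 := h.ud.gen (π g) hg
  simp only [Set.image_insert_eq, Set.image_singleton, map_mul, map_inv]
  exact h1

/-- the elements over `C_U(z)` commute with `z` -/
theorem comm_z {g : N} (hg : π g * π z = π z * π g) : g * z = z * g := by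
  have h1 : closure (insert y ({i, x, k, v, c * (j * l) * c⁻¹, c * i * c⁻¹} : Set N)) ≤
      centralizer ({z} : Set N) := by
    rw [closure_le]
    intro a ha
    rw [SetLike.mem_coe, mem_centralizer_singleton_iff]
    simp only [Set.mem_insert_iff, Set.mem_singleton_iff] at ha
    rcases ha with rfl | rfl | rfl | rfl | rfl | rfl | rfl
    · exact (h.cov.cen z).symm
    · exact h.sA.q.iz
    · exact h.sA.dz
    · exact h.sB.q.iz
    · exact h.sB.dz
    · exact h.sz
    · exact h.tz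
  exact mem_centralizer_singleton_iff.1 (h1 (h.mem_W hg))

theorem comm_iff {g : N} : g * z = z * g ↔ π g * π z = π z * π g :=
  ⟨fun h1 => by rw [← map_mul, h1, map_mul], h.comm_z⟩

theorem cent_eq : centralizer ({z} : Set N) = (centralizer ({π z} : Set U)).comap π := by
  ext g
  rw [mem_comap, mem_centralizer_singleton_iff, mem_centralizer_singleton_iff]
  exact h.comm_iff

theorem cent_eq' : centralizer ({z} : Set N) =
    closure (insert y ({i, x, k, v, c * (j * l) * c⁻¹, c * i * c⁻¹} : Set N)) := by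
  apply le_antisymm
  · intro g hg
    exact h.mem_W (h.comm_iff.1 (mem_centralizer_singleton_iff.1 hg))
  · rw [closure_le]
    intro a ha
    rw [SetLike.mem_coe, mem_centralizer_singleton_iff]
    simp only [Set.mem_insert_iff, Set.mem_singleton_iff] at ha
    rcases ha with rfl | rfl | rfl | rfl | rfl | rfl | rfl
    · exact (h.cov.cen z).symm
    · exact h.sA.q.iz
    · exact h.sA.dz
    · exact h.sB.q.iz
    · exact h.sB.dz
    · exact h.sz
    · exact h.tz

/-- `A B` is normal in `C(z)` -/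
theorem norm {g : N} (hg : g * z = z * g) :
    cj g (closure ({i, x} : Set N) ⊔ closure ({k, v} : Set N)) =
      closure ({i, x} : Set N) ⊔ closure ({k, v} : Set N) := by
  rw [← Cit.mem_normalizer_iff_cj]
  have h1 : closure (insert y ({i, x, k, v, c * (j * l) * c⁻¹, c * i * c⁻¹} : Set N)) ≤
      normalizer ((closure ({i, x} : Set N) ⊔ closure ({k, v} : Set N) : Subgroup N) : Set N) := by
    have h2 : closure ({i, x} : Set N) ⊔ closure ({k, v} : Set N) ≤
      normalizer ((closure ({i, x} : Set N) ⊔ closure ({k, v} : Set N) : Subgroup N) : Set N) := le_normalizer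
    rw [closure_le]
    intro a ha
    simp only [Set.mem_insert_iff, Set.mem_singleton_iff] at ha
    rcases ha with rfl | rfl | rfl | rfl | rfl | rfl | rfl
    · rw [SetLike.mem_coe, mem_normalizer_iff]
      intro g
      rw [← h.cov.cen g, mul_inv_cancel_right]
    · exact h2 (mem_sup_left h.sA.hi)
    · exact h2 (mem_sup_left h.sA.hd)
    · exact h2 (mem_sup_right h.sB.hi)
    · exact h2 (mem_sup_right h.sB.hd)
    · rw [SetLike.mem_coe, Cit.mem_normalizer_iff_cj, Cit.cj_sup, h.sA_eq, h.sB_eq, sup_comm]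
    · rw [SetLike.mem_coe, Cit.mem_normalizer_iff_cj, Cit.cj_sup, h.tA_eq, h.tB_eq]
  exact h1 (h.mem_W (h.comm_iff.1 hg))

theorem le_cent : closure ({i, x} : Set N) ⊔ closure ({k, v} : Set N) ≤ centralizer ({z} : Set N) := by
  refine sup_le ?_ ?_
  · intro a ha
    rw [mem_centralizer_singleton_iff]
    exact h.prA.comm_z ha
  · intro a ha
    rw [mem_centralizer_singleton_iff]
    exact h.prB.comm_z ha

/-- `C_N(A B)` -/
theorem cent_AB {g : N} (hA : ∀ a ∈ closure ({i, x} : Set N), π g * π a = π a * π g)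
    (hB : ∀ b ∈ closure ({k, v} : Set N), π g * π b = π b * π g) : g = 1 ∨ g = y ∨ g = z ∨ g = y * z := by
  rcases h.ud.cen (π g) (hA _ h.sA.hi) (hA _ h.sA.hd) (hB _ h.sB.hi) (hB _ h.sB.hd) with h1 | h1
  · rcases h.cov.ker g h1 with h2 | h2
    · exact Or.inl h2
    · exact Or.inr (Or.inl h2)
  · rcases h.cov.eq_or h1 with h2 | h2
    · exact Or.inr (Or.inr (Or.inl h2))
    · exact Or.inr (Or.inr (Or.inr h2))

theorem y_notMem : y ∉ closure ({i, x} : Set N) ⊔ closure ({k, v} : Set N) := by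
  intro hy
  obtain ⟨a, ha, b, hb, e⟩ := exists_mul h.comm hy
  have h1 : π a = (π b)⁻¹ := by
    have := congrArg π e
    rw [h.cov.py, map_mul] at this
    exact eq_inv_of_mul_eq_one_left this.symm
  have h2 := h.cent_AB (g := a) (fun a' ha' => by
      rw [h1, ← map_inv, ← map_mul, ← map_mul, h.comm a' ha' b⁻¹ (inv_mem hb)]) (fun b' hb' => by
      rw [← map_mul, ← map_mul, h.comm a ha b' hb'])
  have hzA : z ∈ closure ({i, x} : Set N) := h.sA.hz
  have hzB : z ∈ closure ({k, v} : Set N) := h.sB.hz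
  rcases h2 with h3 | h3 | h3 | h3
  · rw [h3, one_mul] at e
    exact h.yB (by rw [e]; exact hb)
  · exact h.yA (by rw [← h3]; exact ha)
  · rw [h3] at e
    exact h.yB (by rw [e]; exact mul_mem hzB hb)
  · apply h.yA
    have : y = a * z := by rw [h3, mul_assoc, h.sA.q.z2, mul_one]
    rw [this]; exact mul_mem ha hzA

/-- the commutator of `s` and `t` -/
theorem st_comm : (c * (j * l) * c⁻¹) * (c * i * c⁻¹) * (c * (j * l) * c⁻¹)⁻¹ * (c * i * c⁻¹)⁻¹ = c * z * c⁻¹ := by
  have h1 : i * l = l * i := h.comm i h.sA.hi l h.sB.hj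
  have h2 : j * i * j⁻¹ = z * i := by rw [h.sA.q.ji]; group
  calc (c * (j * l) * c⁻¹) * (c * i * c⁻¹) * (c * (j * l) * c⁻¹)⁻¹ * (c * i * c⁻¹)⁻¹
      = c * (j * (l * i) * l⁻¹ * j⁻¹ * i⁻¹) * c⁻¹ := by group
    _ = c * (j * (i * l) * l⁻¹ * j⁻¹ * i⁻¹) * c⁻¹ := by rw [h1]
    _ = c * ((j * i * j⁻¹) * i⁻¹) * c⁻¹ := by group
    _ = c * z * c⁻¹ := by rw [h2, mul_inv_cancel_right]

theorem odd_cent : Odd (centralizer ({z} : Set N)).index := by
  haveI : Finite U := Finite.of_surjective π h.cov.surj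
  have h1 : Odd (centralizer ({π z} : Set U)).index := by
    refine odd_index ?_ h.ud.one
    have h2 : orderOf (π z) = 2 := orderOf_eq_prime (by rw [pow_two]; exact h.ud.q1.z2) h.ud.q1.z1
    rw [← h2]
    exact _root_.orderOf_dvd_natCard _
  rw [h.cent_eq, index_comap_of_surjective _ h.cov.surj]
  exact h1

/-- **the rotation: `c z c⁻¹ = y i k`** -/
theorem czc (hp : commutator N = ⊤) : c * z * c⁻¹ = y * (i * k) := by
  rcases h.cov.eq_or (g := c * z * c⁻¹) (g' := i * k) (by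
      simp only [map_mul, map_inv]; exact h.ud.cz) with h1 | h1
  · exfalso
    set M := closure ({i, x} : Set N) ⊔ closure ({k, v} : Set N) with hM
    have hn : ∀ g ∈ centralizer ({z} : Set N), ∀ m ∈ M, g * m * g⁻¹ ∈ M := by
      intro g hg m hm
      have h2 := h.norm (mem_centralizer_singleton_iff.1 hg)
      rw [← hM] at h2
      rw [← h2]
      exact Cit.conj_mem_cj hm
    have hyC : y ∈ centralizer ({z} : Set N) := mem_centralizer_singleton_iff.2 (h.cov.cen z).symm
    have h2 := mem_comm hp h.odd_cent hyC h.cov.cen h.cov.yy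
    refine h.y_notMem (commutator_le_of hn h.cent_eq' ?_ h2)
    have hSC : ∀ a ∈ insert y ({i, x, k, v, c * (j * l) * c⁻¹, c * i * c⁻¹} : Set N),
        a ∈ centralizer ({z} : Set N) := fun a ha => by rw [h.cent_eq']; exact subset_closure ha
    have key : ∀ a ∈ insert y ({i, x, k, v, c * (j * l) * c⁻¹, c * i * c⁻¹} : Set N),
        a = y ∨ a ∈ M ∨ a = c * (j * l) * c⁻¹ ∨ a = c * i * c⁻¹ := by
      intro a ha
      simp only [Set.mem_insert_iff, Set.mem_singleton_iff] at ha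
      rcases ha with rfl | rfl | rfl | rfl | rfl | rfl | rfl
      · exact Or.inl rfl
      · exact Or.inr (Or.inl (mem_sup_left h.sA.hi))
      · exact Or.inr (Or.inl (mem_sup_left h.sA.hd))
      · exact Or.inr (Or.inl (mem_sup_right h.sB.hi))
      · exact Or.inr (Or.inl (mem_sup_right h.sB.hd))
      · exact Or.inr (Or.inr (Or.inl rfl))
      · exact Or.inr (Or.inr (Or.inr rfl))
    have hst : (c * (j * l) * c⁻¹) * (c * i * c⁻¹) * (c * (j * l) * c⁻¹)⁻¹ * (c * i * c⁻¹)⁻¹ ∈ M := by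
      rw [h.st_comm, h1]
      exact mul_mem (mem_sup_left h.sA.hi) (mem_sup_right h.sB.hi)
    intro a ha b hb
    have hyl : ∀ g : N, y * g * y⁻¹ * g⁻¹ = 1 := by
      intro g; rw [← h.cov.cen g]; group
    have hyr : ∀ g : N, g * y * g⁻¹ * y⁻¹ = 1 := by
      intro g; rw [h.cov.cen g]; group
    rcases key a ha with h3 | h3 | h3 | h3
    · rw [h3, hyl]; exact one_mem _
    · have h4 := hn b (hSC b hb) _ (inv_mem h3)
      have : a * b * a⁻¹ * b⁻¹ = a * (b * a⁻¹ * b⁻¹) := by group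
      rw [this]; exact mul_mem h3 h4
    all_goals
      rcases key b hb with h5 | h5 | h5 | h5
      · rw [h5, hyr]; exact one_mem _
      · exact mul_mem (hn a (hSC a ha) _ h5) (inv_mem h5)
    · rw [h3, h5]; group; exact one_mem _
    · rw [h3, h5]; exact hst
    · rw [h3, h5]
      have h6 := inv_mem hst
      have : ((c * (j * l) * c⁻¹) * (c * i * c⁻¹) * (c * (j * l) * c⁻¹)⁻¹ * (c * i * c⁻¹)⁻¹)⁻¹ =
        (c * i * c⁻¹) * (c * (j * l) * c⁻¹) * (c * i * c⁻¹)⁻¹ * (c * (j * l) * c⁻¹)⁻¹ := by group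
      rwa [this] at h6
    · rw [h3, h5]; group; exact one_mem _
  · exact h1

theorem ik : i * k = k * i := h.comm i h.sA.hi k h.sB.hi

theorem aa : (i * k) * (i * k) = 1 := by
  calc (i * k) * (i * k) = i * (k * i) * k := by group
    _ = i * (i * k) * k := by rw [h.ik]
    _ = (i * i) * (k * k) := by group
    _ = 1 := by rw [h.sA.q.i2, h.sB.q.i2, h.sA.q.z2]

theorem az : (i * k) * z = z * (i * k) := by
  calc (i * k) * z = i * (k * z) := by group
    _ = (i * z) * k := by rw [h.sB.q.iz]; group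
    _ = z * (i * k) := by rw [h.sA.q.iz]; group

/-- `a b = z` -/
theorem ab : (i * k) * (z * (i * k)) = z := by
  rw [← mul_assoc, h.az, mul_assoc, h.aa, mul_one]

/-- `a b e = y` -/
theorem abe : (i * k) * (z * (i * k)) * (z * y) = y := by
  rw [h.ab, ← mul_assoc, h.sA.q.z2, one_mul]

/-- `j a j⁻¹ = b` -/
theorem jaj : j * (i * k) * j⁻¹ = z * (i * k) := by
  have h1 : j * k = k * j := h.comm j h.sA.hj k h.sB.hi
  calc j * (i * k) * j⁻¹ = (j * i) * (k * j⁻¹) := by group
    _ = (z * (i * j)) * (k * j⁻¹) := by rw [h.sA.q.ji]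
    _ = z * i * (j * k) * j⁻¹ := by group
    _ = z * i * (k * j) * j⁻¹ := by rw [h1]
    _ = z * (i * k) := by group

theorem rot1 (hp : commutator N = ⊤) : c * (z * y) * c⁻¹ = i * k := by
  calc c * (z * y) * c⁻¹ = (c * z * c⁻¹) * (c * y * c⁻¹) := by group
    _ = y * (i * k) * y := by rw [h.czc hp, h.cov.cen c, mul_inv_cancel_right]
    _ = (y * y) * (i * k) := by rw [mul_assoc, h.cov.cen (i * k)]; group
    _ = i * k := by rw [h.cov.yy, one_mul]

theorem rot2 (hp : commutator N = ⊤) : c * (i * k) * c⁻¹ = z * (i * k) := by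
  rcases h.cov.eq_or (g := c * (i * k) * c⁻¹) (g' := z * (i * k)) (by
      simp only [map_mul, map_inv]; exact h.ud.ca) with h1 | h1
  · exact h1
  exfalso
  -- `g z g⁻¹ = y z` for `g = c⁻² j c`
  have h2 : j * c * z * (j * c)⁻¹ = y * (z * (i * k)) := by
    calc j * c * z * (j * c)⁻¹ = j * (c * z * c⁻¹) * j⁻¹ := by group
      _ = (j * y) * (i * k) * j⁻¹ := by rw [h.czc hp]; group
      _ = y * (j * (i * k) * j⁻¹) := by rw [h.cov.cen j]; group
      _ = y * (z * (i * k)) := by rw [h.jaj]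
  rw [← h1] at h2
  have h3 : c⁻¹ * (j * c) * z * (c⁻¹ * (j * c))⁻¹ = i * k := by
    calc c⁻¹ * (j * c) * z * (c⁻¹ * (j * c))⁻¹ = c⁻¹ * (j * c * z * (j * c)⁻¹) * c := by group
      _ = i * k := by rw [h2]; group
  rw [← h.rot1 hp] at h3
  have h4 : (c⁻¹ * (c⁻¹ * (j * c))) * z * (c⁻¹ * (c⁻¹ * (j * c)))⁻¹ = z * y := by
    calc (c⁻¹ * (c⁻¹ * (j * c))) * z * (c⁻¹ * (c⁻¹ * (j * c)))⁻¹
        = c⁻¹ * (c⁻¹ * (j * c) * z * (c⁻¹ * (j * c))⁻¹) * c := by
          rw [mul_inv_rev c⁻¹ (c⁻¹ * (j * c)), inv_inv]; simp only [mul_assoc]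
      _ = z * y := by rw [h3]; group
  obtain ⟨g, hg⟩ : ∃ g, c⁻¹ * (c⁻¹ * (j * c)) = g := ⟨_, rfl⟩
  rw [hg] at h4
  have h5 : π g * π z = π z * π g := by
    have h6 := congrArg π h4
    simp only [map_mul, map_inv, h.cov.py, mul_one] at h6
    exact mul_inv_eq_iff_eq_mul.1 h6
  have h6 := h.comm_z h5
  rw [h6, mul_inv_cancel_right] at h4
  exact h.cov.y1 (mul_eq_left.1 h4.symm)

theorem rot3 (hp : commutator N = ⊤) : c * (z * (i * k)) * c⁻¹ = z * y := by
  calc c * (z * (i * k)) * c⁻¹ = (c * z * c⁻¹) * (c * (i * k) * c⁻¹) := by group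
    _ = y * (i * k) * (z * (i * k)) := by rw [h.czc hp, h.rot2 hp]
    _ = y * ((i * k) * (z * (i * k))) := by group
    _ = z * y := by rw [h.ab, h.cov.cen z]

/-- `C(z)` is solvable -/
theorem solv (hp : commutator N = ⊤) : Group.IsSolvable ↥(centralizer ({z} : Set N)) := by
  set M := closure ({i, x} : Set N) ⊔ closure ({k, v} : Set N) with hM
  have hMs : Group.IsSolvable ↥M := solvable_sup h.comm h.prA.solvable h.prB.solvable
  have hM2 : Group.IsSolvable ↥(M ⊔ zpowers y) := by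
    refine solvable_sup ?_ hMs inferInstance
    intro a _ b hb
    obtain ⟨n, rfl⟩ := mem_zpowers_iff.1 hb
    exact (show Commute a y from h.cov.cen a).zpow_right n
  have hn : ∀ g ∈ centralizer ({z} : Set N), ∀ m ∈ M ⊔ zpowers y, g * m * g⁻¹ ∈ M ⊔ zpowers y := by
    intro g hg m hm
    have h1 : cj g (M ⊔ zpowers y) = M ⊔ zpowers y := by
      rw [Cit.cj_sup, h.norm (mem_centralizer_singleton_iff.1 hg)]
      congr 1
      rw [Cit.cj_def, MonoidHom.map_zpowers]
      congr 1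
      show g * y * g⁻¹ = y
      rw [h.cov.cen g, mul_inv_cancel_right]
    rw [← h1]
    exact Cit.conj_mem_cj hm
  have hy : y ∈ M ⊔ zpowers y := mem_sup_right (mem_zpowers y)
  have hle : ⁅centralizer ({z} : Set N), centralizer ({z} : Set N)⁆ ≤ M ⊔ zpowers y := by
    refine commutator_le_of hn h.cent_eq' ?_
    have hSC : ∀ a ∈ insert y ({i, x, k, v, c * (j * l) * c⁻¹, c * i * c⁻¹} : Set N),
        a ∈ centralizer ({z} : Set N) := fun a ha => by rw [h.cent_eq']; exact subset_closure ha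
    have key : ∀ a ∈ insert y ({i, x, k, v, c * (j * l) * c⁻¹, c * i * c⁻¹} : Set N),
        a ∈ M ⊔ zpowers y ∨ a = c * (j * l) * c⁻¹ ∨ a = c * i * c⁻¹ := by
      intro a ha
      simp only [Set.mem_insert_iff, Set.mem_singleton_iff] at ha
      rcases ha with rfl | rfl | rfl | rfl | rfl | rfl | rfl
      · exact Or.inl hy
      · exact Or.inl (mem_sup_left (mem_sup_left h.sA.hi))
      · exact Or.inl (mem_sup_left (mem_sup_left h.sA.hd))
      · exact Or.inl (mem_sup_left (mem_sup_right h.sB.hi))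
      · exact Or.inl (mem_sup_left (mem_sup_right h.sB.hd))
      · exact Or.inr (Or.inl rfl)
      · exact Or.inr (Or.inr rfl)
    have hst : (c * (j * l) * c⁻¹) * (c * i * c⁻¹) * (c * (j * l) * c⁻¹)⁻¹ * (c * i * c⁻¹)⁻¹ ∈ M ⊔ zpowers y := by
      rw [h.st_comm, h.czc hp]
      exact mul_mem hy (mul_mem (mem_sup_left (mem_sup_left h.sA.hi)) (mem_sup_left (mem_sup_right h.sB.hi)))
    intro a ha b hb
    rcases key a ha with h3 | h3 | h3
    · have h4 := hn b (hSC b hb) _ (inv_mem h3)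
      have : a * b * a⁻¹ * b⁻¹ = a * (b * a⁻¹ * b⁻¹) := by group
      rw [this]; exact mul_mem h3 h4
    all_goals
      rcases key b hb with h5 | h5 | h5
      · exact mul_mem (hn a (hSC a ha) _ h5) (inv_mem h5)
    · rw [h3, h5]; group; exact one_mem _
    · rw [h3, h5]; exact hst
    · rw [h3, h5]
      have h6 := inv_mem hst
      have : ((c * (j * l) * c⁻¹) * (c * i * c⁻¹) * (c * (j * l) * c⁻¹)⁻¹ * (c * i * c⁻¹)⁻¹)⁻¹ =
        (c * i * c⁻¹) * (c * (j * l) * c⁻¹) * (c * i * c⁻¹)⁻¹ * (c * (j * l) * c⁻¹)⁻¹ := by group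
      rwa [this] at h6
    · rw [h3, h5]; group; exact one_mem _
  have hcs : Group.IsSolvable ↥(commutator ↥(centralizer ({z} : Set N))) := by
    have h1 : (commutator ↥(centralizer ({z} : Set N))).map (centralizer ({z} : Set N)).subtype ≤ M ⊔ zpowers y := by
      rw [map_subtype_commutator]; exact hle
    let f : ↥(commutator ↥(centralizer ({z} : Set N))) →* ↥(M ⊔ zpowers y) :=
      { toFun := fun g => ⟨((g : ↥(centralizer ({z} : Set N))) : N), h1 ⟨_, g.2, rfl⟩⟩
        map_one' := rfl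
        map_mul' := fun _ _ => rfl }
    exact Group.isSolvable_of_isSolvable_injective (f := f) (fun a b hab => by
      have h2 := congrArg Subtype.val hab
      exact Subtype.ext (Subtype.ext h2))
  refine (Group.isSolvable_iff_subgroup_quotient (commutator ↥(centralizer ({z} : Set N)))).2 ⟨hcs, ?_⟩
  exact (inferInstance : Group.IsSolvable (Abelianization ↥(centralizer ({z} : Set N))))

/-- **the frame** -/
theorem sheet (hq : IsQuasisimple N) (hc : ∀ g, (∀ g', g' * g = g * g') → g = 1 ∨ g = y) :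
    Sheet (⊤ : Subgroup N) (i * k) (z * (i * k)) (z * y) (closure ({i, x} : Set N)) (closure ({k, v} : Set N)) := by
  have hp : commutator N = ⊤ := hq.1.commutator_eq_top
  have hb : (z * (i * k)) * (z * (i * k)) = 1 := by
    calc (z * (i * k)) * (z * (i * k)) = z * ((i * k) * (z * (i * k))) := by group
      _ = 1 := by rw [h.ab, h.sA.q.z2]
  have hez : z * y = y * z := h.cov.cen z
  have hnA : ∀ g, g * z = z * g → cj g (closure ({i, x} : Set N) ⊔ closure ({k, v} : Set N)) =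
      closure ({i, x} : Set N) ⊔ closure ({k, v} : Set N) := fun g hg => h.norm hg
  have hsn : Sn (closure ({i, x} : Set N) ⊔ closure ({k, v} : Set N)) (centralizer ({z} : Set N)) := by
    refine Sn.of_normal h.le_cent ?_
    intro g hg
    rw [Cit.mem_normalizer_iff_cj]
    exact h.norm (mem_centralizer_singleton_iff.1 hg)
  have hsA : Sn (closure ({i, x} : Set N)) (centralizer ({z} : Set N)) := by
    refine Sn.trans (Sn.of_normal le_sup_left ?_) hsn
    refine sup_le le_normalizer ?_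
    intro b hb
    rw [mem_normalizer_iff]
    intro g
    constructor
    · intro hg
      rw [← h.comm g hg b hb, mul_inv_cancel_right]; exact hg
    · intro hg
      have h1 := h.comm _ hg b⁻¹ (inv_mem hb)
      have h2 : g = b * g * b⁻¹ := by
        calc g = b⁻¹ * (b * g * b⁻¹) * b := by group
          _ = (b * g * b⁻¹ * b⁻¹) * b := by rw [h1]
          _ = b * g * b⁻¹ := by group
      rw [h2]; exact hg
  have hsB : Sn (closure ({k, v} : Set N)) (centralizer ({z} : Set N)) := by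
    refine Sn.trans (Sn.of_normal le_sup_right ?_) hsn
    refine sup_le ?_ le_normalizer
    intro b hb
    rw [mem_normalizer_iff]
    intro g
    constructor
    · intro hg
      rw [h.comm b hb g hg, mul_inv_cancel_right]; exact hg
    · intro hg
      have h1 := h.comm b⁻¹ (inv_mem hb) _ hg
      have h2 : g = b * g * b⁻¹ := by
        calc g = b⁻¹ * (b * g * b⁻¹) * b := by group
          _ = (b * g * b⁻¹ * b⁻¹) * b := by rw [h1]
          _ = b * g * b⁻¹ := by group
      rw [h2]; exact hg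
  refine
    { qs := SignalizersComponents.LayerBasic.quasisimple_congr topEquiv.symm hq
      aN := mem_top _
      bN := mem_top _
      eN := mem_top _
      aa := h.aa
      bb := hb
      ee := by
        calc (z * y) * (z * y) = (z * y) * (y * z) := by rw [hez]
          _ = z * (y * y) * z := by group
          _ = 1 := by rw [h.cov.yy, mul_one, h.sA.q.z2]
      ab := by
        calc (i * k) * (z * (i * k)) = ((i * k) * z) * (i * k) := by group
          _ = z * (i * k) * (i * k) := by rw [h.az]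
      ae := by
        calc (i * k) * (z * y) = ((i * k) * z) * y := by group
          _ = z * ((i * k) * y) := by rw [h.az]; group
          _ = z * y * (i * k) := by rw [h.cov.cen (i * k)]; group
      be := by
        calc z * (i * k) * (z * y) = z * (((i * k) * z) * y) := by group
          _ = z * (z * ((i * k) * y)) := by rw [h.az]; group
          _ = z * (z * (y * (i * k))) := by rw [h.cov.cen (i * k)]
          _ = z * ((z * y) * (i * k)) := by group
          _ = z * ((y * z) * (i * k)) := by rw [hez]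
          _ = z * y * (z * (i * k)) := by group
      y_ne := by rw [h.abe]; exact h.cov.y1
      y_comm := by rw [h.abe]; exact fun g _ => h.cov.cen g
      cen := by rw [h.abe]; exact fun g _ h1 => hc g (fun g' => h1 g' (mem_top _))
      AN := le_top
      BN := le_top
      prA := by rw [h.ab]; exact h.prA
      prB := by rw [h.ab]; exact h.prB
      AB := h.comm
      snA := by rw [h.ab, top_inf_eq]; exact hsA
      snB := by rw [h.ab, top_inf_eq]; exact hsB
      nor := by rw [h.ab]; exact fun g _ hg => h.norm hg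
      cAB := ?_
      sol := by rw [h.ab, top_inf_eq]; exact h.solv hp
      a_eq := ⟨i, h.sA.hi, k, h.sB.hi, by rw [h.ab]; exact h.sA.q.i2, by rw [h.ab]; exact h.sB.q.i2, rfl⟩
      rot := ⟨c, mem_top _, h.rot2 hp, h.rot3 hp, h.rot1 hp⟩
      swap := ⟨c * (j * l) * c⁻¹, mem_top _, h.ss, ?_, by rw [h.ab]; exact h.sz, h.sA_eq, h.sB_eq⟩
      root := ⟨j * (c * i * c⁻¹) * j⁻¹, mem_top _, ?_, ?_, ?_, ?_⟩ }
  · intro g _ h1 h2
    rw [h.abe, h.ab]
    rcases h.cent_AB (g := g) (fun a ha => by rw [← map_mul, h1 a ha, map_mul])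
      (fun b hb => by rw [← map_mul, h2 b hb, map_mul]) with h3 | h3 | h3 | h3
    · exact Or.inl h3
    · exact Or.inr (Or.inr (Or.inr h3))
    · exact Or.inr (Or.inl h3)
    · exact Or.inr (Or.inr (Or.inl (by rw [h3, hez])))
  · calc c * (j * l) * c⁻¹ * (z * y) = (c * (j * l) * c⁻¹ * z) * y := by group
      _ = z * ((c * (j * l) * c⁻¹) * y) := by rw [h.sz]; group
      _ = z * (y * (c * (j * l) * c⁻¹)) := by rw [h.cov.cen (c * (j * l) * c⁻¹)]
      _ = z * y * (c * (j * l) * c⁻¹) := by group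
  · -- `root`
    calc j * (c * i * c⁻¹) * j⁻¹ * (j * (c * i * c⁻¹) * j⁻¹) = j * (c * (i * i) * c⁻¹) * j⁻¹ := by group
      _ = (j * y) * (i * k) * j⁻¹ := by rw [h.sA.q.i2, h.czc hp]; group
      _ = y * (j * (i * k) * j⁻¹) := by rw [h.cov.cen j]; group
      _ = y * ((i * k) * z) := by rw [h.jaj, h.az]
      _ = ((i * k) * z) * y := (h.cov.cen _).symm
      _ = i * k * (z * y) := by group
  · rw [h.ab]
    have h1 : j * z = z * j := h.sA.q.jz
    have h2 : j⁻¹ * z = z * j⁻¹ := (show Commute j z from h1).inv_left.eq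
    calc j * (c * i * c⁻¹) * j⁻¹ * z = j * (c * i * c⁻¹) * (j⁻¹ * z) := by group
      _ = j * (c * i * c⁻¹ * z) * j⁻¹ := by rw [h2]; group
      _ = (j * z) * (c * i * c⁻¹) * j⁻¹ := by rw [h.tz]; group
      _ = z * (j * (c * i * c⁻¹) * j⁻¹) := by rw [h1]; group
  · have h1 : cj j (closure ({i, x} : Set N)) = closure ({i, x} : Set N) :=
      Cit.mem_normalizer_iff_cj.1 (le_normalizer h.sA.hj)
    have h2 : cj j⁻¹ (closure ({i, x} : Set N)) = closure ({i, x} : Set N) :=
      Cit.mem_normalizer_iff_cj.1 (le_normalizer (inv_mem h.sA.hj))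
    rw [Cit.cj_mul, Cit.cj_mul, h2, h.tA_eq, h1]
  · have h1 : ∀ a ∈ closure ({i, x} : Set N), cj a (closure ({k, v} : Set N)) = closure ({k, v} : Set N) := by
      intro a ha
      ext g
      rw [Cit.mem_cj]
      constructor
      · intro hg
        have h2 := h.comm a ha _ hg
        have h3 : g = a⁻¹ * g * a := by
          calc g = (a * (a⁻¹ * g * a)) * a⁻¹ := by group
            _ = a⁻¹ * g * a := by rw [h2]; group
        rw [h3]; exact hg
      · intro hg
        rw [mul_assoc, ← h.comm a ha g hg, inv_mul_cancel_left]; exact hg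
    rw [Cit.cj_mul, Cit.cj_mul, h1 _ (inv_mem h.sA.hj), h.tB_eq, h1 _ h.sA.hj]

end Lf

/-- **K-fact (N-side)**: `2.U₄(3)` has a frame. -/
theorem exSheet : ExSheet.{u} := by
  intro N _ _ hN
  obtain ⟨hq, h2, F, _, _, hF, ⟨e⟩⟩ := hN
  -- the central involution
  obtain ⟨⟨y, hy⟩, hy1, hall⟩ : ∃ w : ↥(center N), w ≠ 1 ∧ ∀ w' : ↥(center N), w' = 1 ∨ w' = w := by
    haveI : Finite ↥(center N) := inferInstance
    obtain ⟨w, hw⟩ := (Nat.card_eq_two_iff' (1 : ↥(center N))).1 h2
    refine ⟨w, hw.1, fun w' => ?_⟩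
    by_cases h : w' = 1
    · exact Or.inl h
    · exact Or.inr (hw.2 w' h)
  have hy1' : y ≠ 1 := fun h => hy1 (Subtype.ext h)
  have hall' : ∀ g : N, g ∈ center N → g = 1 ∨ g = y := by
    intro g hg
    rcases hall ⟨g, hg⟩ with h | h
    · exact Or.inl (congrArg Subtype.val h)
    · exact Or.inr (congrArg Subtype.val h)
  have hcen : ∀ g, g * y = y * g := fun g => mem_center_iff.1 hy g
  have hyy : y * y = 1 := by
    rcases hall' (y * y) (mul_mem hy hy) with h | h
    · exact h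
    · exact absurd (mul_eq_left.1 h) hy1'
  have cov : Cov (QuotientGroup.mk' (center N)) y :=
    { surj := QuotientGroup.mk'_surjective _
      y1 := hy1'
      yy := hyy
      cen := hcen
      py := (QuotientGroup.eq_one_iff y).2 hy
      ker := fun g hg => hall' g ((QuotientGroup.eq_one_iff g).1 hg) }
  obtain ⟨z', i', j', x', k', l', v', c', u⟩ := NSideU.exists_ud hF
  obtain ⟨z, i, j, x, k, l, v, c, h⟩ := exists_lf cov (u.map e.symm)
  exact ⟨_, _, _, _, _, h.sheet hq (fun g hg => hall' g (mem_center_iff.2 hg))⟩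

end Cfsg.Agent.OddHalf.NI3.Bad.NSideN

end
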