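import Cfsg.Agent.OddHalf.NI3.Bad.Sim
import Cfsg.Agent.OddHalf.NI3.TC
import Cfsg.Agent.LieClassical.OrthFourPlus
import Cfsg.Agent.OddHalf.NI3.Bad.Frame
import Cfsg.Agent.OddHalf.NI3.Bad.Trans
import Cfsg.Agent.OddHalf.NI3.Bad.RowOrth
import Cfsg.Agent.OddHalf.NI3.Lift
import Cfsg.Agent.S1082
import Cfsg.Agent.ChevalleyStructure.FieldIso

-- merged: Cfsg.Agent.OddHalf.NI3.Bad.OrthStd
section

/-!
# The classical subgroups of `Ω(V)`, `V = M₂(3) ⟂ M₂(3)`, for the involution `(-1, 1)` (node NI over `F₃`, (KD), row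
`PΩ₈⁺(3)`; helper100)

`F = ℤ/3`, `V = M₂(F) × M₂(F)`, `Q = det + det`, `z0 = (X, Y) ↦ (-X, Y)`.
* `LL`, `RR` : left and right multiplications by `SL₂(3)` on `M₂(F)`;
* `K1`, `K2` : the left and the right multiplications of the first component;
* `main` : the subnormal subgroups `J ≃ SL₂(3)`, `z0 ∈ J`, of `C_{Ω(V)}(z0)` are `K1` and `K2`.
-/

set_option autoImplicit false
set_option linter.unusedSectionVars false

namespace Cfsg.Agent.OddHalf.NI3.Bad.OrthStd

open Subgroup QuadraticMap Cfsg.Agent.LieClassical.OrthCore Cfsg.Agent.LieClassical.OrthFourPlus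
  Cfsg.Agent.LieClassical.OrthFourCommon Cfsg.Agent.OddHalf.NI3.Bad.Sim
open scoped MatrixGroups

abbrev F := ZMod 3

abbrev MM := Matrix (Fin 2) (Fin 2) (ZMod 3)

abbrev V := MM × MM

instance : Finite (V ≃ₗ[F] V) := by
  have h : Function.Injective (fun g : V ≃ₗ[F] V => (g : V → V)) := DFunLike.coe_injective
  exact Finite.of_injective _ h

instance : Finite (MM ≃ₗ[F] MM) := by
  have h : Function.Injective (fun g : MM ≃ₗ[F] MM => (g : MM → MM)) := DFunLike.coe_injective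
  exact Finite.of_injective _ h

/-! ### The forms -/

/-- the entry `(i, j)` -/
def ent (i j : Fin 2) : MM →ₗ[F] F where
  toFun X := X i j
  map_add' _ _ := rfl
  map_smul' _ _ := rfl

/-- the determinant -/
def detQ : QuadraticForm F MM :=
  QuadraticMap.linMulLin (ent 0 0) (ent 1 1) - QuadraticMap.linMulLin (ent 0 1) (ent 1 0)

theorem detQ_apply (X : MM) : detQ X = X.det := by
  rw [Matrix.det_fin_two]
  rfl

/-- `det + det` -/
def Q : QuadraticForm F V := QuadraticMap.prod detQ detQ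

theorem Q_apply (v : V) : Q v = v.1.det + v.2.det := by
  rw [Q, QuadraticMap.prod_apply, detQ_apply, detQ_apply]

/-! ### Pairs of linear maps -/

/-- `(g, h)` -/
def pr : (MM ≃ₗ[F] MM) × (MM ≃ₗ[F] MM) →* (V ≃ₗ[F] V) where
  toFun p := p.1.prodCongr p.2
  map_one' := by ext1 v; rfl
  map_mul' p q := by ext1 v; rfl

theorem pr_apply (g h : MM ≃ₗ[F] MM) (v : V) : pr (g, h) v = (g v.1, h v.2) := rfl

theorem pr_injective : Function.Injective pr := by
  rintro ⟨g, h⟩ ⟨g', h'⟩ hh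
  refine Prod.ext ?_ ?_
  · ext1 X
    have := congrArg (fun k : V ≃ₗ[F] V => (k (X, 0)).1) hh
    exact this
  · ext1 X
    have := congrArg (fun k : V ≃ₗ[F] V => (k (0, X)).2) hh
    exact this

/-- `(X, Y) ↦ (-X, Y)` -/
def z0 : V ≃ₗ[F] V := pr (LinearEquiv.neg F, 1)

theorem z0_apply (v : V) : z0 v = (-v.1, v.2) := rfl

theorem ne_neg : ∀ X : MM, X = -X → X = 0 := by decide +kernel

/-- the first component of `g` -/
def fstE (g : V ≃ₗ[F] V) (hg : g * z0 = z0 * g) : MM ≃ₗ[F] MM :=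
  LinearEquiv.ofLinear ((LinearMap.fst F MM MM).comp (g.toLinearMap.comp (LinearMap.inl F MM MM)))
    ((LinearMap.fst F MM MM).comp (g.symm.toLinearMap.comp (LinearMap.inl F MM MM)))
    (by
      apply LinearMap.ext
      intro X
      show (g ((g.symm (X, 0)).1, 0)).1 = X
      have h1 : (g.symm (X, 0)).2 = 0 := by
        have h2 : z0 (g.symm (X, 0)) = -(g.symm (X, 0)) := by
          apply g.injective
          have h3 := congrArg (fun k : V ≃ₗ[F] V => k (g.symm (X, 0))) hg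
          have h4 : g (z0 (g.symm (X, 0))) = z0 (g (g.symm (X, 0))) := h3
          rw [h4, map_neg, g.apply_symm_apply]
          rw [z0_apply]; simp
        exact ne_neg _ (congrArg Prod.snd h2)
      have h5 : ((g.symm (X, 0)).1, (0 : MM)) = g.symm (X, 0) := Prod.ext rfl h1.symm
      rw [h5, g.apply_symm_apply])
    (by
      apply LinearMap.ext
      intro X
      show (g.symm ((g (X, 0)).1, 0)).1 = X
      have h1 : (g (X, 0)).2 = 0 := by
        have h3 := congrArg (fun k : V ≃ₗ[F] V => k (X, 0)) hg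
        have h4 : g (z0 (X, 0)) = z0 (g (X, 0)) := h3
        have h6 : z0 ((X, 0) : V) = -(X, 0) := by rw [z0_apply]; simp
        rw [h6, map_neg] at h4
        exact ne_neg _ (congrArg Prod.snd h4.symm)
      have h5 : ((g (X, 0)).1, (0 : MM)) = g (X, 0) := Prod.ext rfl h1.symm
      rw [h5, g.symm_apply_apply])

/-- the second component of `g` -/
def sndE (g : V ≃ₗ[F] V) (hg : g * z0 = z0 * g) : MM ≃ₗ[F] MM :=
  LinearEquiv.ofLinear ((LinearMap.snd F MM MM).comp (g.toLinearMap.comp (LinearMap.inr F MM MM)))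
    ((LinearMap.snd F MM MM).comp (g.symm.toLinearMap.comp (LinearMap.inr F MM MM)))
    (by
      apply LinearMap.ext
      intro X
      show (g (0, (g.symm (0, X)).2)).2 = X
      have h1 : (g.symm (0, X)).1 = 0 := by
        have h2 : z0 (g.symm (0, X)) = (g.symm (0, X)) := by
          apply g.injective
          have h3 := congrArg (fun k : V ≃ₗ[F] V => k (g.symm (0, X))) hg
          have h4 : g (z0 (g.symm (0, X))) = z0 (g (g.symm (0, X))) := h3
          rw [h4, g.apply_symm_apply]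
          rw [z0_apply]; simp
        exact ne_neg _ (congrArg Prod.fst h2).symm
      have h5 : ((0 : MM), (g.symm (0, X)).2) = g.symm (0, X) := Prod.ext h1.symm rfl
      rw [h5, g.apply_symm_apply])
    (by
      apply LinearMap.ext
      intro X
      show (g.symm (0, (g (0, X)).2)).2 = X
      have h1 : (g (0, X)).1 = 0 := by
        have h3 := congrArg (fun k : V ≃ₗ[F] V => k (0, X)) hg
        have h4 : g (z0 (0, X)) = z0 (g (0, X)) := h3
        have h6 : z0 ((0, X) : V) = (0, X) := by rw [z0_apply]; simp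
        rw [h6] at h4
        exact ne_neg _ (congrArg Prod.fst h4)
      have h5 : ((0 : MM), (g (0, X)).2) = g (0, X) := Prod.ext h1.symm rfl
      rw [h5, g.symm_apply_apply])

theorem fstE_apply (g : V ≃ₗ[F] V) (hg : g * z0 = z0 * g) (X : MM) : fstE g hg X = (g (X, 0)).1 := rfl

theorem sndE_apply (g : V ≃ₗ[F] V) (hg : g * z0 = z0 * g) (X : MM) : sndE g hg X = (g (0, X)).2 := rfl

theorem eq_pr (g : V ≃ₗ[F] V) (hg : g * z0 = z0 * g) : g = pr (fstE g hg, sndE g hg) := by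
  ext1 v
  obtain ⟨X, Y⟩ := v
  have h1 : (g (X, 0)).2 = 0 := by
    have h3 := congrArg (fun k : V ≃ₗ[F] V => k (X, 0)) hg
    have h4 : g (z0 (X, 0)) = z0 (g (X, 0)) := h3
    have h6 : z0 ((X, 0) : V) = -(X, 0) := by rw [z0_apply]; simp
    rw [h6, map_neg] at h4
    exact ne_neg _ (congrArg Prod.snd h4.symm)
  have h2 : (g (0, Y)).1 = 0 := by
    have h3 := congrArg (fun k : V ≃ₗ[F] V => k (0, Y)) hg
    have h4 : g (z0 (0, Y)) = z0 (g (0, Y)) := h3
    have h6 : z0 ((0, Y) : V) = (0, Y) := by rw [z0_apply]; simp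
    rw [h6] at h4
    exact ne_neg _ (congrArg Prod.fst h4)
  have h3 : ((X, Y) : V) = (X, 0) + (0, Y) := by simp
  rw [pr_apply, fstE_apply, sndE_apply, h3, map_add]
  refine Prod.ext ?_ ?_
  · show (g (X, 0)).1 + (g (0, Y)).1 = (g (X + 0, 0)).1
    rw [h2, add_zero, add_zero]
  · show (g (X, 0)).2 + (g (0, Y)).2 = (g (0, 0 + Y)).2
    rw [h1, zero_add, zero_add]

theorem fst_mem {g : V ≃ₗ[F] V} (hg : g * z0 = z0 * g) (hO : g ∈ O Q) : fstE g hg ∈ isom (dt F) := by
  intro X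
  have h1 := hO (X, 0)
  rw [eq_pr g hg, pr_apply, Q_apply, Q_apply] at h1
  have h2 : (sndE g hg) (0 : MM) = 0 := map_zero _
  simp only [h2] at h1
  simpa using h1

theorem snd_mem {g : V ≃ₗ[F] V} (hg : g * z0 = z0 * g) (hO : g ∈ O Q) : sndE g hg ∈ isom (dt F) := by
  intro X
  have h1 := hO (0, X)
  rw [eq_pr g hg, pr_apply, Q_apply, Q_apply] at h1
  have h2 : (fstE g hg) (0 : MM) = 0 := map_zero _
  simp only [h2] at h1
  simpa using h1

theorem pr_mem {g h : MM ≃ₗ[F] MM} (hg : g ∈ isom (dt F)) (hh : h ∈ isom (dt F)) : pr (g, h) ∈ O Q := by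
  intro v
  rw [pr_apply, Q_apply, Q_apply]
  have h1 := hg v.1
  have h2 := hh v.2
  simp only [dt] at h1 h2
  rw [h1, h2]

theorem pr_comm_z0 (g h : MM ≃ₗ[F] MM) : pr (g, h) * z0 = z0 * pr (g, h) := by
  ext1 v
  show pr (g, h) (z0 v) = z0 (pr (g, h) v)
  rw [z0_apply, pr_apply, pr_apply, z0_apply, map_neg]

/-! ### Elements of order 3 -/

theorem tau_sq : (tau (F := F)) * tau = 1 := by
  refine Subtype.ext (LinearEquiv.ext fun X => ?_)
  show X.adjugate.adjugate = X
  rw [Matrix.adjugate_adjugate']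
  simp

theorem cube_psi {g : MM ≃ₗ[F] MM} (hg : g ∈ isom (dt F)) (h3 : g * g * g = 1) :
    ∃ p : Gam F, g = (psi p : isom (dt F)) := by
  set g' : isom (dt F) := ⟨g, hg⟩ with hg'
  have h3' : g' * g' * g' = 1 := Subtype.ext h3
  have key : ∀ k : isom (dt F), ∃ p : Gam F, k * k = psi p := by
    intro k
    obtain ⟨p, hp | hp⟩ := exists_eq k
    · exact ⟨p * p, by rw [hp, map_mul]⟩
    · refine ⟨p * sw p, ?_⟩
      rw [hp, map_mul, ← tau_conj]
      calc psi p * tau * (psi p * tau) = psi p * (tau * psi p * tau⁻¹) * (tau * tau) := by group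
        _ = psi p * (tau * psi p * tau⁻¹) := by rw [tau_sq, mul_one]
  obtain ⟨p, hp⟩ := key (g' * g')
  refine ⟨p, ?_⟩
  have h4 : g' = psi p := by
    rw [← hp]
    calc g' = g' * (g' * g' * g') := by rw [h3', mul_one]
      _ = g' * g' * (g' * g') := by group
  exact congrArg Subtype.val h4

/-! ### Left and right multiplications -/

/-- left multiplication -/
noncomputable def LL : SL23 →* (MM ≃ₗ[F] MM) where
  toFun a := (phi (F := F) (a, 1) : isom (dt F))
  map_one' := by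
    have : ((1 : SL23), (1 : SL23)) = 1 := rfl
    rw [this, map_one]; rfl
  map_mul' a b := by
    have : ((a * b, 1) : SL(2, F) × SL(2, F)) = (a, 1) * (b, 1) := by rw [Prod.mk_mul_mk, mul_one]
    rw [this, map_mul]; rfl

/-- right multiplication -/
noncomputable def RR : SL23 →* (MM ≃ₗ[F] MM) where
  toFun a := (phi (F := F) (1, a) : isom (dt F))
  map_one' := by
    have : ((1 : SL23), (1 : SL23)) = 1 := rfl
    rw [this, map_one]; rfl
  map_mul' a b := by
    have : ((1, a * b) : SL(2, F) × SL(2, F)) = (1, a) * (1, b) := by rw [Prod.mk_mul_mk, mul_one]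
    rw [this, map_mul]; rfl

theorem LL_apply (a : SL23) (X : MM) : LL a X = (a : MM) * X := by
  show (a : MM) * X * _ = _
  have : (((((1 : SL23)).toGL : GL (Fin 2) F)⁻¹ : GL (Fin 2) F) : MM) = 1 := by
    rw [map_one, inv_one]; rfl
  show (a : MM) * X * (((((1 : SL23)).toGL : GL (Fin 2) F)⁻¹ : GL (Fin 2) F) : MM) = _
  rw [this, mul_one]

theorem RR_apply (a : SL23) (X : MM) : RR a X = X * ((a⁻¹ : SL23) : MM) := by
  show (((1 : SL23) : MM)) * X * (((a.toGL : GL (Fin 2) F)⁻¹ : GL (Fin 2) F) : MM) = _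
  have h1 : (((a.toGL : GL (Fin 2) F)⁻¹ : GL (Fin 2) F) : MM) = ((a⁻¹ : SL23) : MM) := by
    rw [← map_inv]; rfl
  rw [h1, Matrix.SpecialLinearGroup.coe_one, one_mul]

theorem LL_mem (a : SL23) : LL a ∈ isom (dt F) := (phi (F := F) (a, 1)).2

theorem RR_mem (a : SL23) : RR a ∈ isom (dt F) := (phi (F := F) (1, a)).2

theorem LL_injective : Function.Injective LL := by
  intro a b h
  have h1 := congrArg (fun k : MM ≃ₗ[F] MM => k 1) h
  simp only [LL_apply, mul_one] at h1
  exact Subtype.ext h1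

theorem RR_injective : Function.Injective RR := by
  intro a b h
  have h1 := congrArg (fun k : MM ≃ₗ[F] MM => k 1) h
  simp only [RR_apply, one_mul] at h1
  exact inv_injective (Subtype.ext h1)

/-- the quaternion group `O₂(SL₂(3))` -/
def Q8 : Subgroup SL23 where
  carrier := {q | q * q = 1 ∨ q * q = -1}
  mul_mem' {a b} := by
    revert a b
    show ∀ a b : SL23, (a * a = 1 ∨ a * a = -1) → (b * b = 1 ∨ b * b = -1) → (a * b * (a * b) = 1 ∨ a * b * (a * b) = -1)
    decide +kernel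
  one_mem' := Or.inl (one_mul 1)
  inv_mem' {a} := by
    revert a
    show ∀ a : SL23, (a * a = 1 ∨ a * a = -1) → (a⁻¹ * a⁻¹ = 1 ∨ a⁻¹ * a⁻¹ = -1)
    decide +kernel

theorem mem_Q8 {q : SL23} : q ∈ Q8 ↔ q * q = 1 ∨ q * q = -1 := Iff.rfl

theorem Q8_pow {q : SL23} (hq : q ∈ Q8) : q ^ 2 ^ 2 = 1 := by
  have h : (q * q) * (q * q) = 1 := by
    rcases hq with h | h <;> rw [h]
    · exact one_mul 1
    · decide +kernel
  have h2 : q ^ 2 ^ 2 = (q * q) * (q * q) := by
    have h3 : (2 : ℕ) ^ 2 = 4 := rfl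
    rw [h3]
    simp only [pow_succ, pow_zero, one_mul, mul_assoc]
  rw [h2, h]

set_option maxRecDepth 100000 in
theorem Q8_comm : ∀ q : SL23, (q * q = 1 ∨ q * q = -1) → ∃ a b : SL23, q = a * b * a⁻¹ * b⁻¹ := by
  decide +kernel

/-! ### The four factors -/

/-- left multiplications of the first component -/
noncomputable def k1 : SL23 →* (V ≃ₗ[F] V) := pr.comp ((MonoidHom.inl _ _).comp LL)
/-- right multiplications of the first component -/
noncomputable def k2 : SL23 →* (V ≃ₗ[F] V) := pr.comp ((MonoidHom.inl _ _).comp RR)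
/-- left multiplications of the second component -/
noncomputable def k3 : SL23 →* (V ≃ₗ[F] V) := pr.comp ((MonoidHom.inr _ _).comp LL)
/-- right multiplications of the second component -/
noncomputable def k4 : SL23 →* (V ≃ₗ[F] V) := pr.comp ((MonoidHom.inr _ _).comp RR)

theorem k1_def (a : SL23) : k1 a = pr (LL a, 1) := rfl
theorem k2_def (a : SL23) : k2 a = pr (RR a, 1) := rfl
theorem k3_def (a : SL23) : k3 a = pr (1, LL a) := rfl
theorem k4_def (a : SL23) : k4 a = pr (1, RR a) := rfl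

theorem k1_injective : Function.Injective k1 := fun a b h => LL_injective (congrArg Prod.fst (pr_injective h))
theorem k2_injective : Function.Injective k2 := fun a b h => RR_injective (congrArg Prod.fst (pr_injective h))
theorem k3_injective : Function.Injective k3 := fun a b h => LL_injective (congrArg Prod.snd (pr_injective h))
theorem k4_injective : Function.Injective k4 := fun a b h => RR_injective (congrArg Prod.snd (pr_injective h))

theorem one_mem_isom : (1 : MM ≃ₗ[F] MM) ∈ isom (dt F) := one_mem _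

theorem k1_mem_O (a : SL23) : k1 a ∈ O Q := pr_mem (LL_mem a) one_mem_isom
theorem k2_mem_O (a : SL23) : k2 a ∈ O Q := pr_mem (RR_mem a) one_mem_isom
theorem k3_mem_O (a : SL23) : k3 a ∈ O Q := pr_mem one_mem_isom (LL_mem a)
theorem k4_mem_O (a : SL23) : k4 a ∈ O Q := pr_mem one_mem_isom (RR_mem a)

/-- the quaternion groups lie in `Ω(V)` -/
theorem mem_Om_of_Q8 {k : SL23 →* (V ≃ₗ[F] V)} (hk : ∀ a, k a ∈ O Q) {q : SL23} (hq : q ∈ Q8) : k q ∈ Om Q := by
  obtain ⟨a, b, rfl⟩ := Q8_comm q hq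
  rw [map_mul, map_mul, map_mul, map_inv, map_inv]
  exact commutator_mem_commutator (hk a) (hk b)

theorem isPGroup_map (k : SL23 →* (V ≃ₗ[F] V)) : IsPGroup 2 (Q8.map k) := by
  have h : IsPGroup 2 Q8 := fun q => ⟨2, Subtype.ext (Q8_pow q.2)⟩
  exact h.map k

/-- conjugation of `Q8` by matrices -/
theorem Q8_conj : ∀ A B : MM, A * B = 1 → B * A = 1 → ∀ q : SL23, (q * q = 1 ∨ q * q = -1) →
    ∃ r : SL23, (r * r = 1 ∨ r * r = -1) ∧ A * (q : MM) * B = r := by
  intro A B h1 h2 q hq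
  have hd : (A * (q : MM) * B).det = 1 := by
    rw [Matrix.det_mul, Matrix.det_mul, q.2, mul_one, ← Matrix.det_mul, h1, Matrix.det_one]
  obtain ⟨r, hr⟩ : ∃ r : SL23, (r : MM) = A * (q : MM) * B := ⟨⟨A * (q : MM) * B, hd⟩, rfl⟩
  refine ⟨r, ?_, hr.symm⟩
  have h3 : ∀ c : SL23, (c : MM) = A * ((q * q : SL23) : MM) * B → r * r = c := by
    intro c hc
    apply Subtype.ext
    rw [Matrix.SpecialLinearGroup.coe_mul, hr]
    rw [hc, Matrix.SpecialLinearGroup.coe_mul]
    calc (A * (q : MM) * B) * (A * (q : MM) * B) = A * (q : MM) * (B * A) * (q : MM) * B := by noncomm_ring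
      _ = A * ((q : MM) * q) * B := by rw [h2]; noncomm_ring
  rcases hq with hq | hq
  · left
    apply h3
    rw [hq, Matrix.SpecialLinearGroup.coe_one, mul_one, h1]
  · right
    apply h3
    rw [hq, Matrix.SpecialLinearGroup.coe_neg, Matrix.SpecialLinearGroup.coe_one]
    rw [mul_neg, mul_one, neg_mul, h1]

theorem psi_coe_apply (p : Gam F) (X : MM) : (psi p : isom (dt F)).1 X =
    (p.1.1 : MM) * X * ((p.1.2⁻¹ : GL (Fin 2) F) : MM) := rfl

theorem conj_LL (p : Gam F) {q : SL23} (hq : q ∈ Q8) :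
    ∃ r ∈ Q8, (psi p : isom (dt F)).1 * LL q * ((psi p : isom (dt F)).1)⁻¹ = LL r := by
  obtain ⟨r, hr, hr'⟩ := Q8_conj (p.1.1 : MM) ((p.1.1⁻¹ : GL (Fin 2) F) : MM) (Units.mul_inv _) (Units.inv_mul _) q hq
  refine ⟨r, hr, ?_⟩
  rw [mul_inv_eq_iff_eq_mul]
  ext1 X
  show (psi p : isom (dt F)).1 (LL q X) = LL r ((psi p : isom (dt F)).1 X)
  rw [LL_apply, LL_apply, psi_coe_apply, psi_coe_apply, ← hr']
  calc (p.1.1 : MM) * ((q : MM) * X) * ((p.1.2⁻¹ : GL (Fin 2) F) : MM)
      = (p.1.1 : MM) * (q : MM) * 1 * X * ((p.1.2⁻¹ : GL (Fin 2) F) : MM) := by noncomm_ring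
    _ = (p.1.1 : MM) * (q : MM) * (((p.1.1⁻¹ : GL (Fin 2) F) : MM) * (p.1.1 : MM)) * X *
        ((p.1.2⁻¹ : GL (Fin 2) F) : MM) := by rw [Units.inv_mul]
    _ = _ := by noncomm_ring

theorem conj_RR (p : Gam F) {q : SL23} (hq : q ∈ Q8) :
    ∃ r ∈ Q8, (psi p : isom (dt F)).1 * RR q * ((psi p : isom (dt F)).1)⁻¹ = RR r := by
  obtain ⟨r, hr, hr'⟩ := Q8_conj (p.1.2 : MM) ((p.1.2⁻¹ : GL (Fin 2) F) : MM) (Units.mul_inv _) (Units.inv_mul _) q⁻¹
    (Q8.inv_mem hq)
  refine ⟨r⁻¹, Q8.inv_mem hr, ?_⟩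
  rw [mul_inv_eq_iff_eq_mul]
  ext1 X
  show (psi p : isom (dt F)).1 (RR q X) = RR r⁻¹ ((psi p : isom (dt F)).1 X)
  rw [RR_apply, RR_apply, psi_coe_apply, psi_coe_apply, inv_inv, ← hr']
  calc (p.1.1 : MM) * (X * ((q⁻¹ : SL23) : MM)) * ((p.1.2⁻¹ : GL (Fin 2) F) : MM)
      = (p.1.1 : MM) * X * 1 * ((q⁻¹ : SL23) : MM) * ((p.1.2⁻¹ : GL (Fin 2) F) : MM) := by noncomm_ring
    _ = (p.1.1 : MM) * X * (((p.1.2⁻¹ : GL (Fin 2) F) : MM) * (p.1.2 : MM)) * ((q⁻¹ : SL23) : MM) *
        ((p.1.2⁻¹ : GL (Fin 2) F) : MM) := by rw [Units.inv_mul]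
    _ = _ := by noncomm_ring

/-! ### Linear maps commuting with multiplications -/

def ii : SL23 := ⟨!![0, 1; -1, 0], by decide +kernel⟩
def jj : SL23 := ⟨!![1, 1; 1, -1], by decide +kernel⟩

theorem ii_mem : ii ∈ Q8 := Or.inr (by decide +kernel)
theorem jj_mem : jj ∈ Q8 := Or.inr (by decide +kernel)

theorem coord : ∀ X : MM, X = (-(X 0 0 + X 1 1)) • (1 : MM) + (X 1 0 - X 0 1) • (ii : MM) +
    (X 0 0 - X 1 1 + X 0 1 + X 1 0) • (jj : MM) + (X 0 0 - X 1 1 - X 0 1 - X 1 0) • ((ii : MM) * (jj : MM)) := by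
  decide +kernel

theorem left_comm (f : MM ≃ₗ[F] MM) (hi : f * LL ii = LL ii * f) (hj : f * LL jj = LL jj * f) (X : MM) :
    f X = X * f 1 := by
  have hi' : ∀ X, f ((ii : MM) * X) = (ii : MM) * f X := fun X => by
    have := congrArg (fun k : MM ≃ₗ[F] MM => k X) hi
    have h2 : f (LL ii X) = LL ii (f X) := this
    rwa [LL_apply, LL_apply] at h2
  have hj' : ∀ X, f ((jj : MM) * X) = (jj : MM) * f X := fun X => by
    have := congrArg (fun k : MM ≃ₗ[F] MM => k X) hj
    have h2 : f (LL jj X) = LL jj (f X) := this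
    rwa [LL_apply, LL_apply] at h2
  have h1 : f (ii : MM) = (ii : MM) * f 1 := by rw [← hi', mul_one]
  have h2 : f (jj : MM) = (jj : MM) * f 1 := by rw [← hj', mul_one]
  have h3 : f ((ii : MM) * (jj : MM)) = (ii : MM) * (jj : MM) * f 1 := by rw [hi', h2, mul_assoc]
  conv_lhs => rw [coord X]
  conv_rhs => rw [coord X]
  rw [map_add, map_add, map_add, map_smul, map_smul, map_smul, map_smul, h1, h2, h3]
  simp only [add_mul, smul_mul_assoc, one_mul]

theorem right_comm (f : MM ≃ₗ[F] MM) (hi : f * RR ii = RR ii * f) (hj : f * RR jj = RR jj * f) (X : MM) :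
    f X = f 1 * X := by
  have inv_i : ((ii⁻¹ : SL23) : MM) = -(ii : MM) := by decide +kernel
  have inv_j : ((jj⁻¹ : SL23) : MM) = -(jj : MM) := by decide +kernel
  have hi' : ∀ X, f (X * (ii : MM)) = f X * (ii : MM) := fun X => by
    have := congrArg (fun k : MM ≃ₗ[F] MM => k X) hi
    have h2 : f (RR ii X) = RR ii (f X) := this
    rw [RR_apply, RR_apply, inv_i, mul_neg, mul_neg, map_neg] at h2
    exact neg_inj.1 h2
  have hj' : ∀ X, f (X * (jj : MM)) = f X * (jj : MM) := fun X => by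
    have := congrArg (fun k : MM ≃ₗ[F] MM => k X) hj
    have h2 : f (RR jj X) = RR jj (f X) := this
    rw [RR_apply, RR_apply, inv_j, mul_neg, mul_neg, map_neg] at h2
    exact neg_inj.1 h2
  have h1 : f (ii : MM) = f 1 * (ii : MM) := by rw [← hi', one_mul]
  have h2 : f (jj : MM) = f 1 * (jj : MM) := by rw [← hj', one_mul]
  have h3 : f ((ii : MM) * (jj : MM)) = f 1 * ((ii : MM) * (jj : MM)) := by rw [hj', h1, mul_assoc]
  conv_lhs => rw [coord X]
  conv_rhs => rw [coord X]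
  rw [map_add, map_add, map_add, map_smul, map_smul, map_smul, map_smul, h1, h2, h3]
  simp only [mul_add, mul_smul_comm, mul_one]

theorem scalar_cube : ∀ s : MM, (∀ X : MM, X * s = s * X) → s * s * s = 1 → s = 1 := by
  have h : ∀ s : MM, (ii : MM) * s = s * (ii : MM) → (jj : MM) * s = s * (jj : MM) → s * s * s = 1 → s = 1 := by
    decide +kernel
  exact fun s hs h3 => h s (hs _) (hs _) h3

theorem eq_one_of_comm (f : MM ≃ₗ[F] MM) (hi : f * LL ii = LL ii * f) (hj : f * LL jj = LL jj * f)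
    (hi' : f * RR ii = RR ii * f) (hj' : f * RR jj = RR jj * f) (h3 : f * f * f = 1) : f = 1 := by
  have h1 := left_comm f hi hj
  have h2 := right_comm f hi' hj'
  have h4 : ∀ X : MM, X * f 1 = f 1 * X := fun X => by rw [← h1, ← h2]
  have h5 : f 1 * f 1 * f 1 = 1 := by
    have h6 := congrArg (fun k : MM ≃ₗ[F] MM => k 1) h3
    have h7 : f (f (f 1)) = 1 := h6
    rw [h1 (f (f 1)), h1 (f 1)] at h7
    exact h7
  have h6 := scalar_cube _ h4 h5
  ext1 X
  rw [h1, h6, mul_one]; rfl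

/-! ### The main lemma -/

/-- classical pairs of `Ω(V)`, in `GL(V)` -/
structure ClA (z : V ≃ₗ[F] V) (J : Subgroup (V ≃ₗ[F] V)) : Prop where
  pr : IsPr J z
  le : J ≤ Om Q
  sn : Sn J (Om Q ⊓ centralizer {z})

theorem Om_le_O : Om Q ≤ O Q := commutator_le_self _

section

variable {J : Subgroup (V ≃ₗ[F] V)} (h : ClA z0 J)

include h

theorem comm_z0 {d : V ≃ₗ[F] V} (hd : d ∈ J) : d * z0 = z0 * d := h.pr.comm_z hd

/-- the elements of order 3 of `J` -/
theorem exists_psi {d : V ≃ₗ[F] V} (hd : d ∈ J) (h3 : d * d * d = 1) :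
    ∃ p p' : Gam F, d = OrthStd.pr ((psi p : isom (dt F)).1, (psi p' : isom (dt F)).1) := by
  have hc := comm_z0 h hd
  have hO : d ∈ O Q := Om_le_O (h.le hd)
  have e := eq_pr d hc
  rw [e] at h3
  rw [← map_mul, ← map_mul, ← map_one OrthStd.pr] at h3
  have h4 := pr_injective h3
  obtain ⟨p, hp⟩ := cube_psi (fst_mem hc hO) (congrArg Prod.fst h4)
  obtain ⟨p', hp'⟩ := cube_psi (snd_mem hc hO) (congrArg Prod.snd h4)
  exact ⟨p, p', by rw [e, hp, hp']⟩

/-- `J` normalises the four quaternion groups -/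
theorem le_normalizer {k : SL23 →* (V ≃ₗ[F] V)}
    (hk : ∀ p p' : Gam F, ∀ q ∈ Q8, ∃ r ∈ Q8,
      OrthStd.pr ((psi p : isom (dt F)).1, (psi p' : isom (dt F)).1) * k q *
        (OrthStd.pr ((psi p : isom (dt F)).1, (psi p' : isom (dt F)).1))⁻¹ = k r) :
    J ≤ normalizer (Q8.map k : Set (V ≃ₗ[F] V)) := by
  refine h.pr.le_of_cube fun d hd h3 => ?_
  have key : ∀ d ∈ J, d * d * d = 1 → ∀ x ∈ Q8.map k, d * x * d⁻¹ ∈ Q8.map k := by
    rintro d hd h3 _ ⟨q, hq, rfl⟩
    obtain ⟨p, p', rfl⟩ := exists_psi h hd h3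
    obtain ⟨r, hr, hr'⟩ := hk p p' q hq
    exact ⟨r, hr, hr'.symm⟩
  rw [mem_normalizer_iff]
  intro x
  refine ⟨key d hd h3 x, fun hx => ?_⟩
  have h4 : d⁻¹ * d⁻¹ * d⁻¹ = 1 := by
    have : d⁻¹ * d⁻¹ * d⁻¹ = (d * d * d)⁻¹ := by group
    rw [this, h3, inv_one]
  have h5 := key d⁻¹ (inv_mem hd) h4 _ hx
  have h6 : d⁻¹ * (d * x * d⁻¹) * d⁻¹⁻¹ = x := by group
  rwa [h6] at h5

/-- either `J` meets the quaternion group or the elements of order 3 centralise it -/
theorem dich {k : SL23 →* (V ≃ₗ[F] V)} (hkO : ∀ a, k a ∈ O Q) (hkz : ∀ a, k a * z0 = z0 * k a)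
    (hk : ∀ p p' : Gam F, ∀ q ∈ Q8, ∃ r ∈ Q8,
      OrthStd.pr ((psi p : isom (dt F)).1, (psi p' : isom (dt F)).1) * k q *
        (OrthStd.pr ((psi p : isom (dt F)).1, (psi p' : isom (dt F)).1))⁻¹ = k r) :
    (∀ y ∈ J, y * y = z0 → y ∈ Q8.map k) ∨ ∀ d ∈ J, d * d * d = 1 → ∀ q ∈ Q8, d * k q = k q * d := by
  by_cases hc : ∀ y ∈ J, y * y = z0 → y ∈ Q8.map k
  · exact Or.inl hc
  · right
    intro d hd h3 q hq
    refine T3.comm_of_sn h.pr.t3 h.sn ?_ (isPGroup_map k) (le_normalizer h hk) hc hd h3 ⟨q, hq, rfl⟩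
    rintro _ ⟨q, hq, rfl⟩
    exact mem_inf.2 ⟨mem_Om_of_Q8 hkO hq, mem_centralizer_singleton_iff.2 (hkz q)⟩

theorem exists_four : ∃ y ∈ J, y * y = z0 := by
  obtain ⟨i, j, d, hl⟩ := h.pr.sl
  exact ⟨i, hl.hi, hl.q.i2⟩

end

theorem conj3 (p p' : Gam F) (q : SL23) (hq : q ∈ Q8) : ∃ r ∈ Q8,
    pr ((psi p : isom (dt F)).1, (psi p' : isom (dt F)).1) * k3 q *
      (pr ((psi p : isom (dt F)).1, (psi p' : isom (dt F)).1))⁻¹ = k3 r := by
  obtain ⟨r, hr, hr'⟩ := conj_LL p' hq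
  refine ⟨r, hr, ?_⟩
  rw [k3_def, k3_def, ← map_mul, ← map_inv, ← map_mul, ← hr']
  congr 1
  refine Prod.ext ?_ rfl
  show (psi p : isom (dt F)).1 * 1 * ((psi p : isom (dt F)).1)⁻¹ = 1
  group

theorem conj4 (p p' : Gam F) (q : SL23) (hq : q ∈ Q8) : ∃ r ∈ Q8,
    pr ((psi p : isom (dt F)).1, (psi p' : isom (dt F)).1) * k4 q *
      (pr ((psi p : isom (dt F)).1, (psi p' : isom (dt F)).1))⁻¹ = k4 r := by
  obtain ⟨r, hr, hr'⟩ := conj_RR p' hq
  refine ⟨r, hr, ?_⟩
  rw [k4_def, k4_def, ← map_mul, ← map_inv, ← map_mul, ← hr']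
  congr 1
  refine Prod.ext ?_ rfl
  show (psi p : isom (dt F)).1 * 1 * ((psi p : isom (dt F)).1)⁻¹ = 1
  group

theorem neg_ne_one : (LinearEquiv.neg F : MM ≃ₗ[F] MM) ≠ 1 := by
  intro h
  have h1 : -(1 : MM) = 1 := congrArg (fun k : MM ≃ₗ[F] MM => k 1) h
  exact absurd h1 (by decide +kernel)

/-- **a classical `J` is trivial on `V_+(z0)`** -/
theorem triv {J : Subgroup (V ≃ₗ[F] V)} (h : ClA z0 J) {g : V ≃ₗ[F] V} (hg : g ∈ J) {v : V} (hv : z0 v = v) :
    g v = v := by
  obtain ⟨y, hy, hyy⟩ := exists_four h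
  have c3 : ∀ d ∈ J, d * d * d = 1 → ∀ q ∈ Q8, d * k3 q = k3 q * d := by
    rcases dich h k3_mem_O (fun a => pr_comm_z0 _ _) conj3 with h1 | h1
    · exfalso
      obtain ⟨q, hq, hq'⟩ := h1 y hy hyy
      rw [← hq', ← map_mul, k3_def] at hyy
      exact neg_ne_one (congrArg Prod.fst (pr_injective hyy)).symm
    · exact h1
  have c4 : ∀ d ∈ J, d * d * d = 1 → ∀ q ∈ Q8, d * k4 q = k4 q * d := by
    rcases dich h k4_mem_O (fun a => pr_comm_z0 _ _) conj4 with h1 | h1
    · exfalso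
      obtain ⟨q, hq, hq'⟩ := h1 y hy hyy
      rw [← hq', ← map_mul, k4_def] at hyy
      exact neg_ne_one (congrArg Prod.fst (pr_injective hyy)).symm
    · exact h1
  let S : Subgroup (V ≃ₗ[F] V) :=
    { carrier := {g | ∀ v, z0 v = v → g v = v}
      mul_mem' := fun {a b} ha hb v hv => by
        show a (b v) = v
        rw [hb v hv, ha v hv]
      one_mem' := fun _ _ => rfl
      inv_mem' := fun {a} ha v hv => by
        show a.symm v = v
        rw [LinearEquiv.symm_apply_eq, ha v hv] }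
  have h1 : J ≤ S := by
    apply h.pr.le_of_cube
    intro d hd hd3 v hv
    obtain ⟨p, p', rfl⟩ := exists_psi h hd hd3
    have e3 : ∀ q ∈ Q8, (psi p' : isom (dt F)).1 * LL q = LL q * (psi p' : isom (dt F)).1 := by
      intro q hq
      have h2 := c3 _ hd hd3 q hq
      rw [k3_def, ← map_mul, ← map_mul] at h2
      exact congrArg Prod.snd (pr_injective h2)
    have e4 : ∀ q ∈ Q8, (psi p' : isom (dt F)).1 * RR q = RR q * (psi p' : isom (dt F)).1 := by
      intro q hq
      have h2 := c4 _ hd hd3 q hq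
      rw [k4_def, ← map_mul, ← map_mul] at h2
      exact congrArg Prod.snd (pr_injective h2)
    have h5 : (psi p' : isom (dt F)).1 * (psi p' : isom (dt F)).1 * (psi p' : isom (dt F)).1 = 1 := by
      rw [← map_mul, ← map_mul, ← map_one OrthStd.pr] at hd3
      exact congrArg Prod.snd (pr_injective hd3)
    have h6 := eq_one_of_comm _ (e3 ii ii_mem) (e3 jj jj_mem) (e4 ii ii_mem) (e4 jj jj_mem) h5
    rw [pr_apply, h6]
    have h7 : v.1 = 0 := ne_neg _ (congrArg Prod.fst hv).symm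
    refine Prod.ext ?_ rfl
    show (psi p : isom (dt F)).1 v.1 = v.1
    rw [h7, map_zero]
  exact h1 hg v hv

end Cfsg.Agent.OddHalf.NI3.Bad.OrthStd

end

-- merged: Cfsg.Agent.OddHalf.NI3.Bad.OrthEight
section

/-!
# A classical `SL₂(3)` of `Ω₈⁺(3)` is trivial on `V_+(z)` (node NI over `F₃`, (KD), row `PΩ₈⁺(3)`; helper100)

* `Qs x p j` : a quaternion group `⟨p, j⟩` with involution `x`;
* `Qs.frame` : dim 8, `x ≠ 1, -1`: `V_-(x)` has the orthogonal basis `e, p e, j e, p j e`, `Q e = 1`;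
* `conj_z0` : `x` is conjugate in `O(Q)` to `z0`, `V = M₂(3) ⟂ M₂(3)`;
* `triv_of_cl` : a subgroup `J ≃ SL₂(3)` with involution `x`, subnormal in `C_Ω(x)`, is trivial on `V_+(x)`.
-/

set_option autoImplicit false
set_option linter.unusedSectionVars false
set_option linter.unusedVariables false

namespace Cfsg.Agent.OddHalf.NI3.Bad.OrthEight

open QuadraticMap Module Cfsg.Agent.LieClassical.OrthCore Cfsg.Agent.OddHalf.NI3.Bad.Emb
  Cfsg.Agent.ClassicalGeometry.OddInvolutions Cfsg.Agent.OddHalf.NI3.Bad.QPair Cfsg.Agent.OddHalf.NI3.Bad.Sim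
  Cfsg.Agent.OddHalf.NI3.Bad.Frame

section

variable {F V : Type*} [Field F] [AddCommGroup V] [Module F V]

/-- a quaternion group `⟨p, j⟩` with involution `x` -/
structure Qs (x p j : V ≃ₗ[F] V) : Prop where
  xx : ∀ v, x (x v) = v
  pp : ∀ v, p (p v) = x v
  jj : ∀ v, j (j v) = x v
  pj : ∀ v, p (j v) = x (j (p v))

variable {x p j : V ≃ₗ[F] V} {Q : QuadraticForm F V}

namespace Qs

variable (h : Qs x p j)

include h

theorem px (v : V) : p (x v) = x (p v) := by rw [← h.pp v, h.pp (p v)]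
theorem jx (v : V) : j (x v) = x (j v) := by rw [← h.jj v, h.jj (j v)]
theorem jp (v : V) : j (p v) = x (p (j v)) := by rw [h.pj, h.xx]

theorem x_mem (hp : p ∈ O Q) : x ∈ O Q := by
  have : x = p * p := LinearEquiv.ext fun v => (h.pp v).symm
  rw [this]
  exact (O Q).mul_mem hp hp

end Qs

theorem orth4 (h2 : (2 : F) ≠ 0) {g : V ≃ₗ[F] V} (hg : g ∈ O Q) {v : V} (hv : g (g v) = -v) :
    polar Q v (g v) = 0 := by
  have h1 := polar_map hg v (g v)
  rw [hv, polar_neg_right, polar_comm] at h1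
  have h3 : (2 : F) * polar Q v (g v) = 0 := by linear_combination -h1
  exact (mul_eq_zero.1 h3).resolve_left h2

theorem Qs.fr_x (h : Qs x p j) {e : V} (hx : x e = -e) (i : Fin 4) : x (fr p j e i) = - fr p j e i := by
  fin_cases i
  · exact hx
  · show x (p e) = -(p e)
    rw [← h.px, hx, map_neg]
  · show x (j e) = -(j e)
    rw [← h.jx, hx, map_neg]
  · show x (p (j e)) = -(p (j e))
    rw [← h.px, ← h.jx, hx, map_neg, map_neg]

/-- the frame is an orthogonal family, all values are equal -/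
theorem Qs.fr_OF (h2 : (2 : F) ≠ 0) (h : Qs x p j) (hp : p ∈ O Q) (hj : j ∈ O Q) {e : V} (hx : x e = -e)
    (he : Q e ≠ 0) : OF Q (fun _ : Fin 4 => Q e) (fr p j e) := by
  have hxj : x (j e) = -(j e) := by rw [← h.jx, hx, map_neg]
  have a01 : polar Q e (p e) = 0 := orth4 h2 hp (by rw [h.pp, hx])
  have a02 : polar Q e (j e) = 0 := orth4 h2 hj (by rw [h.jj, hx])
  have a03 : polar Q e (p (j e)) = 0 := by
    refine orth4 (g := p * j) h2 ((O Q).mul_mem hp hj) ?_
    show p (j (p (j e))) = -e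
    rw [h.jp, h.jj, hx, map_neg, map_neg, map_neg, h.px, h.pp, h.xx]
  have a12 : polar Q (p e) (j e) = 0 := by
    have h1 := polar_map hp (p e) (j e)
    rw [h.pp, hx, polar_neg_left, a03, neg_zero] at h1
    exact h1.symm
  have a13 : polar Q (p e) (p (j e)) = 0 := by rw [polar_map hp]; exact a02
  have a23 : polar Q (j e) (p (j e)) = 0 := orth4 h2 hp (by rw [h.pp, hxj])
  refine ⟨?_, fun _ => he, ?_⟩
  · intro i
    fin_cases i
    · rfl
    · exact mem_O.1 hp e
    · exact mem_O.1 hj e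
    · show Q (p (j e)) = Q e
      rw [mem_O.1 hp, mem_O.1 hj]
  · have key : ∀ a b : Fin 4, a < b → polar Q (fr p j e a) (fr p j e b) = 0 := by
      intro a b hab
      fin_cases a <;> fin_cases b <;> first | (exfalso; revert hab; decide) | skip
      · exact a01
      · exact a02
      · exact a03
      · exact a12
      · exact a13
      · exact a23
    intro a b hab
    rcases lt_or_gt_of_ne hab with h1 | h1
    · exact key a b h1
    · rw [polar_comm]; exact key b a h1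

/-- the complement of the frame is invariant -/
theorem Qs.perp_inv (h : Qs x p j) (hp : p ∈ O Q) (hj : j ∈ O Q) {e : V} (hx : x e = -e)
    {v : V} (hv : ∀ i, polar Q (fr p j e i) v = 0) :
    (∀ i, polar Q (fr p j e i) (p v) = 0) ∧ (∀ i, polar Q (fr p j e i) (j v) = 0) := by
  have key : ∀ {g : V ≃ₗ[F] V} {u u' : V}, g ∈ O Q → polar Q u v = 0 → (g u = u' ∨ g u = -u') →
      polar Q u' (g v) = 0 := by
    intro g u u' hg h1 h3
    have h4 := polar_map hg u v
    rw [h1] at h4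
    rcases h3 with h3 | h3
    · rwa [h3] at h4
    · rw [h3, polar_neg_left, neg_eq_zero] at h4
      exact h4
  have f0 : fr p j e 0 = e := rfl
  have f1 : fr p j e 1 = p e := rfl
  have f2 : fr p j e 2 = j e := rfl
  have f3 : fr p j e 3 = p (j e) := rfl
  have hxj : x (j e) = -(j e) := by rw [← h.jx, hx, map_neg]
  refine ⟨?_, ?_⟩
  · intro i
    fin_cases i
    · exact key hp (hv 1) (Or.inr (by rw [f1, h.pp, hx]; rfl))
    · exact key hp (hv 0) (Or.inl rfl)
    · exact key hp (hv 3) (Or.inr (by rw [f3, h.pp, hxj]; rfl))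
    · exact key hp (hv 2) (Or.inl rfl)
  · intro i
    fin_cases i
    · exact key hj (hv 2) (Or.inr (by rw [f2, h.jj, hx]; rfl))
    · refine key hj (hv 3) (Or.inl ?_)
      have h6 : j (p (j e)) = x (p (j (j e))) := by rw [h.pj (j e), h.xx]
      rw [f3, h6, h.jj, h.px, h.xx]; rfl
    · exact key hj (hv 0) (Or.inl rfl)
    · refine key hj (hv 1) (Or.inr ?_)
      have h5 := h.pj e
      have h6 : j (p e) = x (p (j e)) := by rw [h5, h.xx]
      rw [f1, h6, ← h.px, hxj, map_neg]; rfl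

/-- a non-singular vector -/
theorem exists_vec (h2 : (2 : F) ≠ 0) (hx : x ∈ O Q) (hxx : ∀ v, x (x v) = v) (M : Submodule F V)
    (hM : ∀ u ∈ M, (∀ y ∈ M, polar Q u y = 0) → u = 0) (hxM : ∀ v ∈ M, x v ∈ M)
    (hne : ∃ v ∈ M, v ≠ 0 ∧ x v = -v) : ∃ e ∈ M, x e = -e ∧ Q e ≠ 0 := by
  obtain ⟨u, hu, hu0, hux⟩ := hne
  by_contra hcon
  push Not at hcon
  apply hu0
  apply hM _ hu
  intro y hy
  have hy1 : y - x y ∈ M := M.sub_mem hy (hxM _ hy)
  have hy2 : x (y - x y) = -(y - x y) := by rw [map_sub, hxx]; abel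
  have e1 : polar Q u (y - x y) = 0 := by
    have f1 : Q (u + (y - x y)) = 0 := hcon _ (M.add_mem hu hy1) (by rw [map_add, hux, hy2]; abel)
    rw [Q_add, hcon _ hu hux, hcon _ hy1 hy2] at f1
    linear_combination f1
  rw [polar_sub_right, self_adj hx hxx, hux, polar_neg_left] at e1
  have e2 : (2 : F) * polar Q u y = 0 := by linear_combination e1
  exact (mul_eq_zero.1 e2).resolve_left h2

/-- **the frame of `V_-(x)`** -/
theorem Qs.frame [Fintype F] (hF : Fintype.card F = 3) [FiniteDimensional F V] (h : Qs x p j) (hQ : Nondeg Q)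
    (hp : p ∈ O Q) (hj : j ∈ O Q) (hx1 : ∃ v, x v ≠ v) (hd : finrank F V = 8) (hxn : ∃ v, x v ≠ -v) :
    ∃ e : V, x e = -e ∧ Q e = 1 ∧ ∀ v, (∀ i, polar Q (fr p j e i) v = 0) → x v = v := by
  have h2 := two_ne hF
  have hx := h.x_mem hp
  obtain ⟨u, hu⟩ := hx1
  obtain ⟨e0, _, g1, g2⟩ := exists_vec h2 hx h.xx ⊤ (fun u _ h => hQ u fun y => h y trivial)
    (fun _ _ => trivial) ⟨u - x u, trivial, fun h1 => hu (sub_eq_zero.1 h1).symm, by rw [map_sub, h.xx]; abel⟩
  obtain ⟨e, he1, he2⟩ : ∃ e : V, x e = -e ∧ Q e = 1 := by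
    rcases Sim.cases hF (Q e0) with g3 | g3 | g3
    · exact absurd g3 g2
    · exact ⟨e0, g1, g3⟩
    · refine ⟨e0 + p e0, by rw [map_add, ← h.px, g1, map_neg]; abel, ?_⟩
      rw [Q_add, orth4 h2 hp (by rw [h.pp, g1]), mem_O.1 hp, g3]
      have := three hF
      linear_combination -this
  refine ⟨e, he1, he2, ?_⟩
  have he0 : Q e ≠ 0 := by rw [he2]; exact one_ne_zero
  have hf := h.fr_OF h2 hp hj he1 he0
  by_contra hcon
  push Not at hcon
  obtain ⟨v, hv, hvx⟩ := hcon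
  have hinv : ∀ v ∈ pc Q (fr p j e), p v ∈ pc Q (fr p j e) ∧ j v ∈ pc Q (fr p j e) :=
    fun v hv => h.perp_inv hp hj he1 hv
  have hxM : ∀ v ∈ pc Q (fr p j e), x v ∈ pc Q (fr p j e) := fun v hv => by
    rw [← h.pp]; exact (hinv _ (hinv v hv).1).1
  obtain ⟨e', heM, k1, k2⟩ := exists_vec h2 hx h.xx (pc Q (fr p j e))
    (fun u hu h => OF_pc_nondeg h2 hQ hf hu h) hxM
    ⟨v - x v, Submodule.sub_mem _ hv (hxM v hv), fun h1 => hvx (sub_eq_zero.1 h1).symm,
      by rw [map_sub, h.xx]; abel⟩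
  have hf' := h.fr_OF h2 hp hj k1 k2
  have hfM : ∀ i, fr p j e' i ∈ pc Q (fr p j e) := by
    intro i
    fin_cases i
    · exact heM
    · exact (hinv _ heM).1
    · exact (hinv _ heM).2
    · exact (hinv _ (hinv _ heM).2).1
  have hF' := OF_sum hf hf' (fun i k => hfM k i)
  obtain ⟨w, hw⟩ := hxn
  apply hw
  have h9 : w + x w = 0 := by
    refine hF'.eq_zero h2 (by rw [Fintype.card_sum, Fintype.card_fin, hd]) ?_
    intro i
    rw [polar_comm]
    refine eig_orth h2 hx (by rw [map_add, h.xx, add_comm]) ?_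
    rcases i with i | i
    · exact h.fr_x he1 i
    · exact h.fr_x k1 i
  rw [eq_neg_iff_add_eq_zero, add_comm]
  exact h9

/-- isometries between spaces with full orthogonal families -/
theorem exists_iso [Fintype F] (h2 : (2 : F) ≠ 0) {V' : Type*} [AddCommGroup V'] [Module F V']
    [FiniteDimensional F V] [FiniteDimensional F V'] {Q' : QuadraticForm F V'} {ι : Type} [Fintype ι] [DecidableEq ι]
    {d : ι → F} {f : ι → V} {f' : ι → V'} (h : OF Q d f) (h' : OF Q' d f') (hι : Fintype.card ι = finrank F V)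
    (hι' : Fintype.card ι = finrank F V') :
    ∃ e : V ≃ₗ[F] V', (∀ v, Q' (e v) = Q v) ∧ ∀ i, e (f i) = f' i := by
  have b : ∀ {W : Type _} [AddCommGroup W] [Module F W] [FiniteDimensional F W] {q : QuadraticForm F W} {f : ι → W}
      (h : OF q d f) (hι : Fintype.card ι = finrank F W), Function.Bijective (h.ad h2).L := by
    intro W _ _ _ q f h hι
    have h1 : Function.Injective (h.ad h2).L := (h.ad h2).L_injective
    exact ⟨h1, (LinearMap.injective_iff_surjective_of_finrank_eq_finrank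
      (by rw [finrank_fintype_fun_eq_card, hι])).1 h1⟩
  have b' : Function.Bijective (h'.ad h2).L := by
    have h1 : Function.Injective (h'.ad h2).L := (h'.ad h2).L_injective
    exact ⟨h1, (LinearMap.injective_iff_surjective_of_finrank_eq_finrank
      (by rw [finrank_fintype_fun_eq_card, hι'])).1 h1⟩
  set E := LinearEquiv.ofBijective (h.ad h2).L (b h hι) with hE
  set E' := LinearEquiv.ofBijective (h'.ad h2).L b' with hE'
  refine ⟨E.symm.trans E', fun v => ?_, fun i => ?_⟩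
  · obtain ⟨a, rfl⟩ := E.surjective v
    rw [LinearEquiv.trans_apply, E.symm_apply_apply]
    show Q' ((h'.ad h2).L a) = Q ((h.ad h2).L a)
    rw [(h'.ad h2).nm, (h.ad h2).nm]
  · have h1 : E (Pi.single i 1) = f i := h.L_single h2 i
    rw [← h1, LinearEquiv.trans_apply, E.symm_apply_apply]
    exact h'.L_single h2 i

/-- reindexing -/
def s8 : Fin (7 + 1) → Fin 4 ⊕ Fin 4 :=
  ![Sum.inl 0, Sum.inl 1, Sum.inl 2, Sum.inl 3, Sum.inr 0, Sum.inr 1, Sum.inr 2, Sum.inr 3]

theorem s8_inj : Function.Injective s8 := by decide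

/-- the complement of a frame with values 1 in dimension 8, `-1 ∈ Ω` -/
theorem compl4 [Fintype F] (hF : Fintype.card F = 3) [FiniteDimensional F V] (hQ : Nondeg Q) (hN : Neg Q)
    (hd : finrank F V = 8) {e : Fin 4 → V} (he : OF Q (fun _ => 1) e) :
    ∃ f : Fin 4 → V, OF Q (fun _ => 1) f ∧ ∀ i k, polar Q (e i) (f k) = 0 := by
  have h2 := two_ne hF
  have hr := finrank_pc h2 he
  have hW := nondeg_res h2 hQ he
  rw [Fintype.card_fin, hd] at hr
  obtain ⟨c, hc, f', hf'⟩ := exists_OF_one h2 hW (ι := Fin 4) (by rw [Fintype.card_fin]; omega) 0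
  have hf : OF Q (fun i : Fin 4 => if i = 0 then c else 1) (fun k => (f' k : V)) :=
    ⟨fun i => hf'.nm i, hf'.ne, fun i j hij => hf'.orth i j hij⟩
  have hef : ∀ i k, polar Q (e i) ((f' k : V)) = 0 := fun i k => (f' k).2 i
  refine ⟨fun k => (f' k : V), ?_, hef⟩
  rcases Sim.cases hF c with h1 | h1 | h1
  · exact absurd h1 hc
  · have : (fun i : Fin 4 => if i = 0 then c else (1 : F)) = fun _ => 1 := by
      funext i; rw [h1]; split_ifs <;> rfl
    rwa [this] at hf
  · exfalso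
    have hs := OF_sum hf he (fun i k => by rw [polar_comm]; exact hef k i)
    have h3 := hs.comp s8 s8_inj
    have h4 : (Sum.elim (fun i : Fin 4 => if i = 0 then c else (1 : F)) (fun _ : Fin 4 => (1 : F))) ∘ s8 =
        fun i : Fin (7 + 1) => if i = 0 then (-1 : F) else 1 := by
      funext i
      rw [h1]
      fin_cases i <;> rfl
    rw [h4] at h3
    have h5 := of_full h2 h3 (by rw [Fintype.card_fin, hd])
    have h6 : Neg (T1 F (2 * 4 - 1)) := h5.neg_iff.2 hN
    exact not_neg_T1 hF (m := 4) (by norm_num) h6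

end

/-! ### The model -/

open Subgroup OrthStd
open scoped MatrixGroups commutatorElement

/-- the quaternion basis of `M₂(3)` -/
def qb : Fin 4 → MM := ![1, !![0, 1; -1, 0], !![1, 1; 1, -1], !![1, -1; -1, -1]]

theorem polar_Q (u v : OrthStd.V) : polar OrthStd.Q u v =
    (u.1 + v.1).det + (u.2 + v.2).det - (u.1.det + u.2.det) - (v.1.det + v.2.det) := by
  rw [polar, OrthStd.Q_apply, OrthStd.Q_apply, OrthStd.Q_apply]
  rfl

/-- the standard frames -/
def sf : Fin 4 ⊕ Fin 4 → OrthStd.V := Sum.elim (fun i => (qb i, 0)) (fun i => (0, qb i))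

theorem sf_OF : OF OrthStd.Q (fun _ => 1) sf := by
  refine ⟨?_, fun _ => one_ne_zero, ?_⟩
  · intro i
    rw [OrthStd.Q_apply]
    revert i
    decide +kernel
  · intro i j
    rw [polar_Q]
    revert i j
    decide +kernel

theorem card_F : Fintype.card (ZMod 3) = 3 := by decide

theorem finrank_V : finrank (ZMod 3) OrthStd.V = 8 := by
  rw [Module.finrank_prod, Module.finrank_matrix]
  simp

theorem nondeg_Q : Nondeg OrthStd.Q := by
  intro u hu
  have h2 : (2 : ZMod 3) ≠ 0 := by decide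
  exact sf_OF.eq_zero h2 (by rw [finrank_V]; rfl) fun i => by rw [polar_comm]; exact hu _

theorem neg_Q : Neg OrthStd.Q := by
  have h2 : (2 : ZMod 3) ≠ 0 := by decide
  have h1 := of_full h2 (sf_OF.comp s8 s8_inj) (by rw [finrank_V]; rfl)
  exact h1.neg_iff.1 (neg_T0 4)

theorem sf_full : Fintype.card (Fin 4 ⊕ Fin 4) = finrank (ZMod 3) OrthStd.V := by rw [finrank_V]; rfl

theorem z0_sf_inl (i : Fin 4) : z0 (sf (Sum.inl i)) = -sf (Sum.inl i) := by
  rw [z0_apply]
  exact Prod.ext rfl neg_zero.symm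

theorem z0_sf_inr (i : Fin 4) : z0 (sf (Sum.inr i)) = sf (Sum.inr i) := by
  rw [z0_apply]
  exact Prod.ext neg_zero rfl

/-- **involutions of quaternion groups** are conjugate to `z0` -/
theorem conj_z0 {x p j : OrthStd.V ≃ₗ[ZMod 3] OrthStd.V} (h : Qs x p j) (hp : p ∈ O OrthStd.Q)
    (hj : j ∈ O OrthStd.Q) (hx1 : ∃ v, x v ≠ v) (hxn : ∃ v, x v ≠ -v) :
    ∃ g ∈ O OrthStd.Q, g * x * g⁻¹ = z0 := by
  obtain ⟨e, he1, he2, he3⟩ := h.frame card_F nondeg_Q hp hj hx1 finrank_V hxn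
  have h2 : (2 : ZMod 3) ≠ 0 := by decide
  have hf := h.fr_OF h2 hp hj he1 (by rw [he2]; exact one_ne_zero)
  rw [he2] at hf
  obtain ⟨f, hf2, hef⟩ := compl4 card_F nondeg_Q neg_Q finrank_V hf
  have hs := OF_sum hf hf2 hef
  have h1 : (Sum.elim (fun _ : Fin 4 => (1 : ZMod 3)) (fun _ : Fin 4 => (1 : ZMod 3))) = fun _ => 1 := by
    funext i; rcases i with i | i <;> rfl
  rw [h1] at hs
  obtain ⟨g, hg1, hg2⟩ := exists_iso h2 hs sf_OF sf_full sf_full
  refine ⟨g, mem_O.2 hg1, ?_⟩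
  rw [mul_inv_eq_iff_eq_mul]
  have h3 : ∀ v, (x⁻¹ * g⁻¹ * z0 * g) v = v := by
    apply ext_full h2 hs sf_full
    have h4 : ∀ v, g (x v) = z0 (g v) → (x⁻¹ * g⁻¹ * z0 * g) v = v := by
      intro v hv
      show x.symm (g.symm (z0 (g v))) = v
      rw [← hv, g.symm_apply_apply, x.symm_apply_apply]
    rintro (i | i)
    · apply h4
      show g (x (fr p j e i)) = z0 (g (Sum.elim (fr p j e) f (Sum.inl i)))
      rw [h.fr_x he1, hg2, z0_sf_inl, ← hg2 (Sum.inl i), map_neg]
      rfl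
    · apply h4
      show g (x (f i)) = z0 (g (Sum.elim (fr p j e) f (Sum.inr i)))
      rw [he3 _ (fun l => hef l i), hg2, z0_sf_inr, ← hg2 (Sum.inr i)]
      rfl
  ext1 v
  have h5 : x.symm (g.symm (z0 (g v))) = v := h3 v
  show g (x v) = z0 (g v)
  rw [LinearEquiv.symm_apply_eq, LinearEquiv.symm_apply_eq] at h5
  exact h5.symm

/-- classical subgroups -/
theorem ClA.conj {z : OrthStd.V ≃ₗ[ZMod 3] OrthStd.V} {J : Subgroup (OrthStd.V ≃ₗ[ZMod 3] OrthStd.V)}
    (h : ClA z J) {g : OrthStd.V ≃ₗ[ZMod 3] OrthStd.V} (hg : g ∈ O OrthStd.Q) :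
    ClA (g * z * g⁻¹) (J.map (MulAut.conj g).toMonoidHom) := by
  have hOm : (Om OrthStd.Q).map (MulAut.conj g).toMonoidHom ≤ Om OrthStd.Q := by
    rintro _ ⟨k, hk, rfl⟩
    show g * k * g⁻¹ ∈ Om OrthStd.Q
    have h1 : g * k * g⁻¹ = ⁅g, k⁆ * k := by rw [commutatorElement_def]; group
    rw [h1]
    exact (Om OrthStd.Q).mul_mem (commutator_mem_commutator hg (Om_le_O hk)) hk
  have hOm' : (Om OrthStd.Q ⊓ centralizer {z}).map (MulAut.conj g).toMonoidHom =
      Om OrthStd.Q ⊓ centralizer {g * z * g⁻¹} := by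
    apply le_antisymm
    · rintro _ ⟨k, hk, rfl⟩
      refine mem_inf.2 ⟨hOm ⟨k, (mem_inf.1 hk).1, rfl⟩, ?_⟩
      have h1 := mem_centralizer_singleton_iff.1 (mem_inf.1 hk).2
      rw [mem_centralizer_singleton_iff]
      show g * k * g⁻¹ * (g * z * g⁻¹) = g * z * g⁻¹ * (g * k * g⁻¹)
      calc g * k * g⁻¹ * (g * z * g⁻¹) = g * (k * z) * g⁻¹ := by group
        _ = g * (z * k) * g⁻¹ := by rw [h1]
        _ = _ := by group
    · intro k hk
      refine ⟨g⁻¹ * k * g, mem_inf.2 ⟨?_, ?_⟩, ?_⟩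
      · have h1 : g⁻¹ * k * g = ⁅g⁻¹, k⁆ * k := by rw [commutatorElement_def]; group
        rw [h1]
        exact (Om OrthStd.Q).mul_mem (commutator_mem_commutator ((O OrthStd.Q).inv_mem hg)
          (Om_le_O (mem_inf.1 hk).1)) (mem_inf.1 hk).1
      · have h1 := mem_centralizer_singleton_iff.1 (mem_inf.1 hk).2
        rw [mem_centralizer_singleton_iff]
        calc g⁻¹ * k * g * z = g⁻¹ * (k * (g * z * g⁻¹)) * g := by group
          _ = g⁻¹ * ((g * z * g⁻¹) * k) * g := by rw [h1]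
          _ = _ := by group
      · show g * (g⁻¹ * k * g) * g⁻¹ = k
        group
  refine ⟨?_, ?_, ?_⟩
  · exact h.pr.mapE (MulAut.conj g)
  · exact (map_mono h.le).trans hOm
  · rw [← hOm']
    exact h.sn.map _

/-- **`J` is trivial on `V_+(z)`** -/
theorem triv_of_cl {z : OrthStd.V ≃ₗ[ZMod 3] OrthStd.V} {J : Subgroup (OrthStd.V ≃ₗ[ZMod 3] OrthStd.V)}
    (h : ClA z J) {p j : OrthStd.V ≃ₗ[ZMod 3] OrthStd.V} (hpj : Qs z p j) (hp : p ∈ J) (hj : j ∈ J)
    (hxn : z ≠ LinearEquiv.neg (ZMod 3)) {g : OrthStd.V ≃ₗ[ZMod 3] OrthStd.V} (hg : g ∈ J) {v : OrthStd.V}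
    (hv : z v = v) : g v = v := by
  obtain ⟨k, hk, hkz⟩ := conj_z0 hpj (Om_le_O (h.le hp)) (Om_le_O (h.le hj))
    (by
      by_contra hcon
      push Not at hcon
      exact h.pr.t3.z_ne (LinearEquiv.ext hcon))
    (by
      by_contra hcon
      push Not at hcon
      exact hxn (LinearEquiv.ext hcon))
  have h1 := ClA.conj h hk
  rw [hkz] at h1
  have h3 : z0 (k v) = k v := by
    rw [← hkz]
    show k (z (k.symm (k v))) = k v
    rw [k.symm_apply_apply, hv]
  have h4 := triv h1 (mem_map_of_mem _ hg) h3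
  have h5 : k (g (k.symm (k v))) = k v := h4
  rw [k.symm_apply_apply] at h5
  exact k.injective h5

end Cfsg.Agent.OddHalf.NI3.Bad.OrthEight

end

-- merged: Cfsg.Agent.OddHalf.NI3.Bad.EightPair
section

/-!
# (KD), row `PΩ₈⁺(3)`, the case of one involution (node NI over `F₃`, THEOREM NIB; helper921)

* `det_prod`, `neg_iff_prod` : the type of a form from an orthogonal basis;
* `row` : `dim V = 8`, `-1 ∈ Ω(V)`, `w = p q` for commuting quaternion groups `⟨p, j⟩`, `⟨q, k⟩` of `Ω(V)` with the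
  same involution `x`, trivial on `V_+(x)`: `w` lies in a component of the centralizer of `w` in `PΩ(V)`.
-/

set_option autoImplicit false
set_option linter.unusedSectionVars false
set_option linter.unusedVariables false
set_option linter.style.haveILetI false

namespace Cfsg.Agent.OddHalf.NI3.Bad.EightPair

open scoped commutatorElement
open QuadraticMap Module Cfsg.Agent.LieClassical.OrthCore Cfsg.Agent.OddHalf.NI3.Bad.Emb
  Cfsg.Agent.ClassicalGeometry.OddInvolutions Cfsg.Agent.OddHalf.NI3.Bad.QPair Cfsg.Agent.OddHalf.NI3.Bad.Sim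
  Cfsg.Agent.OddHalf.NI3.Bad.Frame Cfsg.Agent.OddHalf.NI3.Bad.Models Cfsg.Agent.OddHalf.NI3.Bad.Triv
open Cfsg.Agent.OddHalf.NI (CompIn)

variable {F V : Type*} [Field F] [Fintype F] [AddCommGroup V] [Module F V] [FiniteDimensional F V]
  {Q : QuadraticForm F V}

/-! ### The type from an orthogonal basis -/

section

variable {ι : Type} [Fintype ι] [DecidableEq ι] {d : ι → F} {f : ι → V}

theorem det_prod (hF : Fintype.card F = 3) (hf : OF Q d f) (hc : Fintype.card ι = finrank F V) :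
    (LinearMap.BilinForm.toMatrix (finBasis F V) (polarBilin Q)).det = ∏ i, (2 * d i) := by
  have h2 := two_ne hF
  rcases isEmpty_or_nonempty ι with hι | hι
  · have h0 : finrank F V = 0 := by rw [← hc]; exact Fintype.card_eq_zero
    haveI : IsEmpty (Fin (finrank F V)) := by rw [h0]; infer_instance
    rw [Matrix.det_isEmpty]
    simp
  · let b : Basis ι F V := basisOfLinearIndependentOfCardEqFinrank (hf.linearIndependent h2) hc
    have hb : ∀ i, b i = f i := fun i => by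
      simp [b]
    obtain ⟨s, hs, h1⟩ := ClassicalGeometry.Discriminant.det_toMatrix_change b (finBasis F V) (polarBilin Q)
    have h3 : LinearMap.BilinForm.toMatrix b (polarBilin Q) = Matrix.diagonal (fun i => 2 * d i) := by
      ext i j
      rw [LinearMap.BilinForm.toMatrix_apply, hb, hb, Matrix.diagonal_apply]
      by_cases hij : i = j
      · subst hij
        rw [if_pos rfl]
        show polar Q (f i) (f i) = _
        rw [polar_self', hf.nm]
      · rw [if_neg hij]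
        exact hf.orth i j hij
    rw [h1, h3, Matrix.det_diagonal, pow_two, mul_self_eq hF hs, one_mul]

theorem neg_iff_prod (hF : Fintype.card F = 3) (hQ : Nondeg Q) (hf : OF Q d f) (hc : Fintype.card ι = finrank F V)
    {m : ℕ} (hm : 1 ≤ m) (hn : finrank F V = 2 * m) : Neg Q ↔ ∏ i, d i = 1 := by
  have h2 := two_ne hF
  have hd := det_prod hF hf hc
  rw [Finset.prod_mul_distrib, Finset.prod_const, Finset.card_univ] at hd
  have hP : ∏ i, d i ≠ 0 := Finset.prod_ne_zero_iff.2 fun i _ => hf.ne i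
  have h3 : 2 * m - 1 + 1 = 2 * m := by omega
  constructor
  · intro hN
    rcases cases hF (∏ i, d i) with h | h | h
    · exact absurd h hP
    · exact h
    · exfalso
      -- a family with values `-1, 1, ..., 1`
      obtain ⟨f', hf'⟩ := exists_OF h2 hQ (ι := Fin (2 * m - 1 + 1)) (by rw [Fintype.card_fin, h3, hn])
        (fun i => if i = 0 then (-1 : F) else 1)
        (fun i => by split_ifs <;> simp) (by
          have hpr : ∏ x : Fin (2 * m - 1 + 1), (if x = 0 then (-1 : F) else 1) = -1 := by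
            rw [Finset.prod_ite_eq' Finset.univ (0 : Fin (2 * m - 1 + 1)), if_pos (Finset.mem_univ _)]
          rw [hd, h, Finset.prod_mul_distrib, Finset.prod_const, Finset.card_univ, Fintype.card_fin, hpr, h3, hc, hn])
      have h4 : Sml (T1 F (2 * m - 1)) Q := of_full h2 hf' (by rw [Fintype.card_fin, h3, hn])
      exact not_neg_T1 hF hm (h4.neg_iff.2 hN)
  · intro hp
    obtain ⟨f', hf'⟩ := exists_OF h2 hQ (ι := Fin (2 * m)) (by rw [Fintype.card_fin, hn])
      (fun i => (1 : F)) (fun i => one_ne_zero) (by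
        rw [hd, hp, mul_one, Finset.prod_const, Finset.card_univ, Fintype.card_fin, mul_one, hc, hn])
    have h4 : Sml (T0 F (2 * m)) Q := of_full h2 hf' (by rw [Fintype.card_fin, hn])
    exact h4.neg_iff.1 (neg_T0 m)

end

/-! ### The centre -/

/-- `-1` as an element of `Ω(V)` -/
def ngO (hN : Neg Q) : ↥(Om Q) := ⟨LinearEquiv.neg F, hN⟩

theorem mem_center_iff (hF : Fintype.card F = 3) (hQ : Nondeg Q) (hn : 3 ≤ finrank F V) (hN : Neg Q) (z : ↥(Om Q)) :
    z ∈ Subgroup.center ↥(Om Q) ↔ z = 1 ∨ z = ngO hN := by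
  have h2 := two_ne hF
  have hm : ngO hN ∈ Subgroup.center ↥(Om Q) := by
    rw [Subgroup.mem_center_iff]
    intro g
    exact Subtype.ext (Ctx3.neg_comm (g : V ≃ₗ[F] V))
  constructor
  · intro hz
    classical
    have hc := card_center h2 hQ hn hN
    have hne : (1 : Subgroup.center ↥(Om Q)) ≠ ⟨ngO hN, hm⟩ := by
      intro h1
      have h3 : (1 : V ≃ₗ[F] V) = LinearEquiv.neg F :=
        congrArg (fun y : Subgroup.center ↥(Om Q) => ((y : ↥(Om Q)) : V ≃ₗ[F] V)) h1
      haveI : Nontrivial V := Module.nontrivial_of_finrank_pos (R := F) (by omega)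
      obtain ⟨v, hv⟩ := exists_ne (0 : V)
      have h4 : v = -v := congrArg (fun l : V ≃ₗ[F] V => l v) h3
      have h5 : (2 : F) • v = 0 := by
        rw [two_smul]; nth_rewrite 1 [h4]; abel
      exact hv ((smul_eq_zero.1 h5).resolve_left h2)
    haveI : Finite (Subgroup.center ↥(Om Q)) := Nat.finite_of_card_ne_zero (by rw [hc]; norm_num)
    haveI := Fintype.ofFinite (Subgroup.center ↥(Om Q))
    by_contra hcon
    push Not at hcon
    have h5 : ({1, ⟨ngO hN, hm⟩, ⟨z, hz⟩} : Finset (Subgroup.center ↥(Om Q))).card = 3 := by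
      rw [Finset.card_eq_three]
      refine ⟨1, ⟨ngO hN, hm⟩, ⟨z, hz⟩, hne, ?_, ?_, rfl⟩
      · intro h6; exact hcon.1 (congrArg Subtype.val h6).symm
      · intro h6; exact hcon.2 (congrArg Subtype.val h6).symm
    have h6 := Finset.card_le_univ ({1, ⟨ngO hN, hm⟩, ⟨z, hz⟩} : Finset (Subgroup.center ↥(Om Q)))
    rw [h5, ← Nat.card_eq_fintype_card, hc] at h6
    omega
  · rintro (rfl | rfl)
    · exact Subgroup.one_mem _
    · exact hm

/-! ### The family `e₂, e₃, f` -/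

section

variable {ce : F} {d : Fin 4 → F} {e : Fin 4 → V} {f : Fin 4 → V}

/-- the setting -/
structure Ctx4 (Q : QuadraticForm F V) (w : V ≃ₗ[F] V) (ce : F) (d : Fin 4 → F) (e f : Fin 4 → V) : Prop where
  hF : Fintype.card F = 3
  nd : Nondeg Q
  hn : finrank F V = 8
  neg : Neg Q
  he : OF Q (fun _ => ce) e
  hf : OF Q d f
  ef : ∀ i k, polar Q (e i) (f k) = 0
  w0 : w (e 0) = -e 0
  w1 : w (e 1) = -e 1
  w2 : w (e 2) = e 2
  w3 : w (e 3) = e 3
  wf : ∀ i, w (f i) = f i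

variable {w : V ≃ₗ[F] V}

namespace Ctx4

variable (h : Ctx4 Q w ce d e f)

include h

theorem h2 : (2 : F) ≠ 0 := two_ne h.hF

theorem full : OF Q (Sum.elim (fun _ => ce) d) (Sum.elim e f) := OF_sum h.he h.hf h.ef

theorem full_card : Fintype.card (Fin 4 ⊕ Fin 4) = finrank F V := by
  rw [Fintype.card_sum, Fintype.card_fin, h.hn]

theorem ext {g k : V ≃ₗ[F] V} (h1 : ∀ i, g (e i) = k (e i)) (h3 : ∀ i, g (f i) = k (f i)) : g = k := by
  have h4 : ∀ v, (k⁻¹ * g) v = v := by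
    apply ext_full h.h2 h.full h.full_card
    have h5 : ∀ v, g v = k v → (k⁻¹ * g) v = v := by
      intro v hv
      show k.symm (g v) = v
      rw [hv, k.symm_apply_apply]
    rintro (i | i)
    · exact h5 _ (h1 i)
    · exact h5 _ (h3 i)
  ext v
  have h5 : k.symm (g v) = v := h4 v
  rw [← k.apply_symm_apply (g v), h5]

theorem prod_d : ∏ i, d i = 1 := by
  have h1 := (neg_iff_prod h.hF h.nd h.full h.full_card (m := 4) (by norm_num) h.hn).1 h.neg
  rw [Fintype.prod_sum_type] at h1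
  simp only [Sum.elim_inl, Sum.elim_inr, Finset.prod_const, Finset.card_univ, Fintype.card_fin] at h1
  have h3 : ce ^ 4 = 1 := by
    have h4 : ce ≠ 0 := h.he.ne 0
    have h5 := mul_self_eq h.hF h4
    calc ce ^ 4 = (ce * ce) * (ce * ce) := by ring
      _ = 1 := by rw [h5, one_mul]
  rwa [h3, one_mul] at h1

omit h in
theorem inj23 : Function.Injective (![2, 3] : Fin 2 → Fin 4) := by decide

end Ctx4

/-- values -/
def d6 (ce : F) (d : Fin 4 → F) : Fin 2 ⊕ Fin 4 → F := Sum.elim (fun _ => ce) d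

/-- the family -/
def f6 (e f : Fin 4 → V) : Fin 2 ⊕ Fin 4 → V := Sum.elim (e ∘ ![2, 3]) f

theorem hf6 (h : Ctx4 Q w ce d e f) : OF Q (d6 ce d) (f6 e f) :=
  OF_sum (h.he.comp ![2, 3] Ctx4.inj23) h.hf fun i k => h.ef _ k

theorem w_f6 (h : Ctx4 Q w ce d e f) (i : Fin 2 ⊕ Fin 4) : w (f6 e f i) = f6 e f i := by
  rcases i with i | i
  · fin_cases i
    · exact h.w2
    · exact h.w3
  · exact h.wf i

theorem f6_e0 (h : Ctx4 Q w ce d e f) {l : Fin 4} (hl : l = 0 ∨ l = 1) (i : Fin 2 ⊕ Fin 4) :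
    polar Q (f6 e f i) (e l) = 0 := by
  rcases i with i | i
  · refine h.he.orth _ _ ?_
    fin_cases i <;> rcases hl with rfl | rfl <;> decide
  · show polar Q (f i) (e l) = 0
    rw [polar_comm]; exact h.ef l i

/-- `-w` is `-1` on the family -/
theorem ng6 (h : Ctx4 Q w ce d e f) : ((hf6 h).ad h.h2).ng = LinearEquiv.neg F * w := by
  have h0 : ∀ l : Fin 4, (l = 0 ∨ l = 1) → ((hf6 h).ad h.h2).ng (e l) = e l := by
    intro l hl
    rw [OF_ng_iff]
    exact fun i => f6_e0 h hl i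
  have h1 : ∀ i, ((hf6 h).ad h.h2).ng (f6 e f i) = -f6 e f i := fun i => OF_ng_f h.h2 (hf6 h) i
  apply h.ext
  · intro i
    show ((hf6 h).ad h.h2).ng (e i) = -(w (e i))
    fin_cases i
    · show ((hf6 h).ad h.h2).ng (e 0) = -(w (e 0))
      rw [h0 0 (Or.inl rfl), h.w0, neg_neg]
    · show ((hf6 h).ad h.h2).ng (e 1) = -(w (e 1))
      rw [h0 1 (Or.inr rfl), h.w1, neg_neg]
    · show ((hf6 h).ad h.h2).ng (e 2) = -(w (e 2))
      rw [h.w2]; exact h1 (Sum.inl 0)
    · show ((hf6 h).ad h.h2).ng (e 3) = -(w (e 3))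
      rw [h.w3]; exact h1 (Sum.inl 1)
  · intro i
    show ((hf6 h).ad h.h2).ng (f i) = -(w (f i))
    rw [h.wf]; exact h1 (Sum.inr i)

theorem finrank6 : finrank F (Fin 2 ⊕ Fin 4 → F) = 6 := by
  rw [finrank_fintype_fun_eq_card, Fintype.card_sum, Fintype.card_fin, Fintype.card_fin]

theorem neg6 (h : Ctx4 Q w ce d e f) : Neg (DQ (d6 ce d)) := by
  have hnd : Nondeg (DQ (d6 ce d)) := (hf6 h).nondeg h.h2
  -- the standard family
  have hst : OF (DQ (d6 ce d)) (d6 ce d) (fun i => Pi.single i (1 : F)) := by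
    refine ⟨fun i => ?_, (hf6 h).ne, fun i j hij => ?_⟩
    · rw [← ((hf6 h).ad h.h2).nm, (hf6 h).L_single h.h2, (hf6 h).nm]
    · have h1 : polar Q (f6 e f i) (f6 e f j) = 0 := (hf6 h).orth i j hij
      rw [← (hf6 h).L_single h.h2 i, ((hf6 h).ad h.h2).ad, ← (hf6 h).L_single h.h2 j, ((hf6 h).ad h.h2).RL] at h1
      exact h1
  rw [neg_iff_prod h.hF hnd hst (by rw [finrank_fintype_fun_eq_card]) (m := 3) (by norm_num) finrank6]
  rw [Fintype.prod_sum_type]
  show (∏ _i : Fin 2, ce) * ∏ i, d i = 1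
  rw [h.prod_d, mul_one, Finset.prod_const, Finset.card_univ, Fintype.card_fin, pow_two, mul_self_eq h.hF (h.he.ne 0)]

theorem ng6_mem (h : Ctx4 Q w ce d e f) : ((hf6 h).ad h.h2).ng ∈ ((hf6 h).ad h.h2).B :=
  ⟨_, neg6 h, rfl⟩

theorem comm_ng6 (h : Ctx4 Q w ce d e f) {g : V ≃ₗ[F] V} (hg : g * w = w * g) :
    g * ((hf6 h).ad h.h2).ng = ((hf6 h).ad h.h2).ng * g := by
  rw [ng6 h, ← mul_assoc, Ctx3.neg_comm, mul_assoc, hg, mul_assoc]

theorem B_comm (h : Ctx4 Q w ce d e f) {g : V ≃ₗ[F] V} (hg : g ∈ ((hf6 h).ad h.h2).B) : g * w = w * g := by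
  have h1 : g * ((hf6 h).ad h.h2).ng = ((hf6 h).ad h.h2).ng * g := by
    obtain ⟨k, _, rfl⟩ := hg
    rw [Ad.ng, ← map_mul, ← map_mul, Ctx3.neg_comm]
  have h3 : w = LinearEquiv.neg F * ((hf6 h).ad h.h2).ng := by
    rw [ng6 h, ← mul_assoc]
    have : (LinearEquiv.neg F : V ≃ₗ[F] V) * LinearEquiv.neg F = 1 := by
      ext v
      show - -v = v
      rw [neg_neg]
    rw [this, one_mul]
  rw [h3, ← mul_assoc, Ctx3.neg_comm, mul_assoc, h1, mul_assoc]

theorem qs6 (h : Ctx4 Q w ce d e f) : Cfsg.IsQuasisimple ↥((hf6 h).ad h.h2).B := by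
  have hnd : Nondeg (DQ (d6 ce d)) := (hf6 h).nondeg h.h2
  have hG := LieClassical.OrthFinite.good_of_finite hnd (by rw [finrank6]; norm_num)
  have h1 : Cfsg.IsQuasisimple ↥(E (DQ (d6 ce d))) := by
    refine ⟨?_, LieClassical.OrthSimple.good_isSimpleGroup hG⟩
    rw [Group.isPerfect_def, _root_.commutator_def]
    have h3 := hG.E_perfect
    have h4 : (⁅(⊤ : Subgroup ↥(E (DQ (d6 ce d)))), ⊤⁆ : Subgroup ↥(E (DQ (d6 ce d)))).map
        (E (DQ (d6 ce d))).subtype =
        (⊤ : Subgroup ↥(E (DQ (d6 ce d)))).map (E (DQ (d6 ce d))).subtype := by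
      rw [Subgroup.map_commutator, ← MonoidHom.range_eq_map, Subgroup.range_subtype, h3]
    exact Subgroup.map_injective (E (DQ (d6 ce d))).subtype_injective h4
  rw [← hG.commutator_eq_E] at h1
  exact SignalizersComponents.Components.isQuasisimple_of_mulEquiv ((hf6 h).ad h.h2).BEquiv h1

/-- no isometry maps `w` to `-w` -/
theorem no_neg (h : Ctx4 Q w ce d e f) (hwO : w ∈ O Q) {g : V ≃ₗ[F] V} (hg : g ∈ O Q)
    (hgw : g * w = LinearEquiv.neg F * (w * g)) : False := by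
  have h1 : ∀ i, w (g (f6 e f i)) = -(g (f6 e f i)) := by
    intro i
    have h3 := congrArg (fun l : V ≃ₗ[F] V => l (f6 e f i)) hgw
    have h4 : g (w (f6 e f i)) = -(w (g (f6 e f i))) := h3
    rw [w_f6 h] at h4
    exact (neg_eq_iff_eq_neg.2 h4).symm
  have hg6 : OF Q (d6 ce d) (fun i => g (f6 e f i)) :=
    ⟨fun i => by rw [mem_O.1 hg, (hf6 h).nm], (hf6 h).ne, fun i j hij => by
      rw [polar_map hg]; exact (hf6 h).orth i j hij⟩
  have h3 := OF_sum (hf6 h) hg6 fun i k => eig_orth h.h2 hwO (w_f6 h i) (h1 k)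
  have h8 := (h3.linearIndependent h.h2).fintype_card_le_finrank
  rw [Fintype.card_sum, Fintype.card_sum, Fintype.card_fin, Fintype.card_fin, h.hn] at h8
  omega

/-- the row, in coordinates -/
theorem row_aux {w : ↥(Om Q)} (h : Ctx4 Q (w : V ≃ₗ[F] V) ce d e f) :
    ∃ K : Subgroup (↥(Om Q) ⧸ Subgroup.center ↥(Om Q)),
      CompIn (Subgroup.centralizer ({(w : ↥(Om Q) ⧸ Subgroup.center ↥(Om Q))} :
        Set (↥(Om Q) ⧸ Subgroup.center ↥(Om Q)))) K ∧ (w : ↥(Om Q) ⧸ Subgroup.center ↥(Om Q)) ∈ K := by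
  have hOm : Om Q ≤ O Q := Subgroup.commutator_le_self _
  set L := ((hf6 h).ad h.h2).B with hL
  have hLle : L ≤ Om Q := Ad.B_le _
  set π := QuotientGroup.mk' (Subgroup.center ↥(Om Q)) with hπ
  have hcen := mem_center_iff h.hF h.nd (by rw [h.hn]; norm_num) h.neg
  have hker : ∀ g : ↥(Om Q), π g = 1 ↔ g = 1 ∨ g = ngO h.neg := by
    intro g
    rw [← hcen]
    exact QuotientGroup.eq_one_iff g
  -- injectivity
  let φ : ↥(L.subgroupOf (Om Q)) →* ↥(Om Q) ⧸ Subgroup.center ↥(Om Q) := π.comp (L.subgroupOf (Om Q)).subtype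
  have hφ : Function.Injective φ := by
    rw [injective_iff_map_eq_one]
    intro g hg
    rcases (hker (g : ↥(Om Q))).1 hg with h1 | h1
    · exact Subtype.ext h1
    · exfalso
      have h3 : ((g : ↥(Om Q)) : V ≃ₗ[F] V) (e 0) = e 0 := by
        apply (Ad.B_le_Fx _ h.nd g.2).2
        rw [OF.R_eq_zero_iff]
        exact fun i => f6_e0 h (Or.inl rfl) i
      rw [h1] at h3
      have h4 : -(e 0) = e 0 := h3
      have h5 : (2 : F) • e 0 = 0 := by
        rw [two_smul]; nth_rewrite 1 [← h4]; abel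
      exact OF_ne_zero h.he 0 ((smul_eq_zero.1 h5).resolve_left h.h2)
  have hr : φ.range = (L.subgroupOf (Om Q)).map π := by
    rw [MonoidHom.range_comp, Subgroup.range_subtype]
  refine ⟨(L.subgroupOf (Om Q)).map π, ?_, ?_⟩
  · rw [compIn_iff]
    refine ⟨Sn.of_normal ?_ ?_, ?_⟩
    · rintro _ ⟨g, hg, rfl⟩
      rw [Subgroup.mem_centralizer_singleton_iff]
      show π g * π w = π w * π g
      rw [← map_mul, ← map_mul]
      congr 1
      exact Subtype.ext (B_comm h hg)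
    · intro g' hg'
      obtain ⟨g, rfl⟩ := QuotientGroup.mk'_surjective _ g'
      rw [Subgroup.mem_centralizer_singleton_iff] at hg'
      have h1 : π (g * w * (w * g)⁻¹) = 1 := by
        rw [map_mul, map_inv, map_mul, map_mul]
        exact mul_inv_eq_one.2 hg'
      have h3 : (g : V ≃ₗ[F] V) * w = w * g := by
        rcases (hker _).1 h1 with h4 | h4
        · rw [mul_inv_eq_one] at h4
          exact congrArg Subtype.val h4
        · exfalso
          rw [mul_inv_eq_iff_eq_mul] at h4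
          exact no_neg h (hOm w.2) (hOm g.2) (congrArg Subtype.val h4)
      have h5 : (g : V ≃ₗ[F] V) ∈ Subgroup.normalizer (L : Set (V ≃ₗ[F] V)) :=
        Ad.normalizer_B_of_comm _ h.h2 h.nd (hOm g.2) (comm_ng6 h h3)
      have h6 : g ∈ Subgroup.normalizer ((L.subgroupOf (Om Q) : Subgroup ↥(Om Q)) : Set ↥(Om Q)) := by
        rw [Subgroup.mem_normalizer_iff] at h5 ⊢
        intro y
        exact h5 y
      have h7 := Subgroup.le_normalizer_map π (Subgroup.mem_map_of_mem π h6)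
      exact h7
    · refine SignalizersComponents.Components.isQuasisimple_of_mulEquiv
        ((MonoidHom.ofInjective hφ).trans (MulEquiv.subgroupCongr hr)) ?_
      exact SignalizersComponents.Components.isQuasisimple_of_mulEquiv (Subgroup.subgroupOfEquivOfLe hLle).symm (qs6 h)
  · have h1 : ngO h.neg * w ∈ L.subgroupOf (Om Q) := by
      show LinearEquiv.neg F * (w : V ≃ₗ[F] V) ∈ L
      rw [← ng6 h]
      exact ng6_mem h
    have h3 : π (ngO h.neg * w) = π w := by
      rw [map_mul, (hker _).2 (Or.inr rfl), one_mul]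
    have h4 : π w ∈ (L.subgroupOf (Om Q)).map π := by
      rw [← h3]
      exact Subgroup.mem_map_of_mem π h1
    exact h4

end

/-- **row `PΩ₈⁺(3)`, the case of one involution** -/
theorem row (hF : Fintype.card F = 3) (hQ : Nondeg Q) (hn : finrank F V = 8) (hN : Neg Q)
    {x p j q k : V ≃ₗ[F] V} (h : Qd x p j q k) (hx : x ∈ Om Q) (hp : p ∈ Om Q) (hj : j ∈ Om Q) (hq : q ∈ Om Q)
    (hk : k ∈ Om Q) (hx1 : ∃ v, x v ≠ v) (hx2 : ∃ v, x v ≠ -v)
    (hfix : ∀ v, x v = v → p v = v ∧ q v = v) (w : ↥(Om Q)) (hw : (w : V ≃ₗ[F] V) = p * q) :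
    ∃ K : Subgroup (↥(Om Q) ⧸ Subgroup.center ↥(Om Q)),
      CompIn (Subgroup.centralizer ({(w : ↥(Om Q) ⧸ Subgroup.center ↥(Om Q))} :
        Set (↥(Om Q) ⧸ Subgroup.center ↥(Om Q)))) K ∧ (w : ↥(Om Q) ⧸ Subgroup.center ↥(Om Q)) ∈ K := by
  have h2 := two_ne hF
  have hOm : Om Q ≤ O Q := Subgroup.commutator_le_self _
  obtain ⟨e0, he1, he2, he3, he4, hV⟩ := h.frame h2 hQ (hOm hx) (hOm hp) (hOm hj) (hOm hq) (hOm hk) hx1
    (Or.inr ⟨hn, hx2⟩)
  have he := h.fr_OF h2 (hOm hp) (hOm hj) (hOm hq) (hOm hk) he1 he2 he3 he4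
  have hr := finrank_pc h2 he
  rw [Fintype.card_fin, hn] at hr
  obtain ⟨c, _, f', h3⟩ := exists_OF_one h2 (nondeg_res h2 hQ he) (ι := Fin 4) (by rw [Fintype.card_fin]; omega) 0
  have hwv : ∀ v, (w : V ≃ₗ[F] V) v = p (q v) := by intro v; rw [hw]; rfl
  obtain ⟨w0, w1, w2, w3⟩ := h.fr_w he1 he2
  exact row_aux (w := w) (e := fr p j e0) (f := fun k => (f' k : V)) (ce := Q e0)
    { hF := hF
      nd := hQ
      hn := hn
      neg := hN
      he := he
      hf := ⟨fun i => h3.nm i, h3.ne, fun i j hij => h3.orth i j hij⟩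
      ef := fun i k => (f' k).2 i
      w0 := by rw [hwv]; exact w0
      w1 := by rw [hwv]; exact w1
      w2 := by rw [hwv]; exact w2
      w3 := by rw [hwv]; exact w3
      wf := fun i => by
        have h5 := hfix _ (hV _ (f' i).2)
        rw [hwv, h5.2, h5.1] }

end Cfsg.Agent.OddHalf.NI3.Bad.EightPair

end

-- merged: Cfsg.Agent.OddHalf.NI3.Bad.OrthLift
section

/-!
# Classical pairs lift through central 2-extensions (node NI over `F₃`, (KD); helper100)

`Cl.lift` : `f : E → Y` surjective with central 2-kernel, `(x, J)` a classical pair of `Y`: `(z, Lft f J)` is a classical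
pair of `E` for some `z` over `x`, and `Lft f J` is mapped onto `J`.
-/

set_option autoImplicit false

namespace Cfsg.Agent.OddHalf.NI3

open Subgroup Cfsg Cfsg.Agent.GH.Cov.Lft

variable {E Y : Type*} [Group E] [Group Y] {f : E →* Y}

theorem Cl.lift [Finite E] (hf : CExt f) {x : Y} {J : Subgroup Y} (h : Cl x J) :
    ∃ z : E, f z = x ∧ Cl z (Lft f J) ∧ (Lft f J).map f = J := by
  have hF : Odd (Fintype.card (ZMod 3)) := by rw [ZMod.card]; decide
  obtain ⟨e⟩ := h.pr.iso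
  let φ : ↥(Lft f J) ≃* ↥J := liftEquiv hf hF e
  have hφ : ∀ a : ↥(Lft f J), ((φ a : ↥J) : Y) = f a := fun a => rfl
  set z' : ↥(Lft f J) := φ.symm ⟨x, h.pr.mem⟩ with hz'
  have hz : f (z' : E) = x := by
    rw [← hφ, hz', φ.apply_symm_apply]
  have hord : orderOf (z' : E) = 2 := by
    have h1 : orderOf ((φ z' : ↥J) : Y) = orderOf (φ z') := Subgroup.orderOf_coe _
    rw [Subgroup.orderOf_coe, ← MulEquiv.orderOf_eq φ, ← h1, hφ, hz, h.pr.ord]
  refine ⟨z', hz, ⟨⟨⟨φ.trans e⟩, hord, z'.2⟩, ?_, ?_⟩, ?_⟩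
  · intro a ha
    rw [mem_centralizer_singleton_iff]
    have h2 : f a ∈ J := map_mem ha
    have h3 := h.pr.comm_z h2
    have h4 : (⟨a, ha⟩ : ↥(Lft f J)) * z' = z' * ⟨a, ha⟩ := by
      apply φ.injective
      rw [map_mul, map_mul]
      apply Subtype.ext
      rw [Subgroup.coe_mul, Subgroup.coe_mul, hφ, hφ, hz]
      exact h3
    exact congrArg Subtype.val h4
  · refine lft_subnormal ?_ ?_ h.sn.2
    · intro y hy
      rw [mem_centralizer_singleton_iff] at hy ⊢
      rw [← hz, ← map_mul, hy, map_mul]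
    · intro a ha
      rw [mem_centralizer_singleton_iff]
      have h2 : f a ∈ J := map_mem ha
      have h3 := h.pr.comm_z h2
      have h4 : (⟨a, ha⟩ : ↥(Lft f J)) * z' = z' * ⟨a, ha⟩ := by
        apply φ.injective
        rw [map_mul, map_mul]
        apply Subtype.ext
        rw [Subgroup.coe_mul, Subgroup.coe_mul, hφ, hφ, hz]
        exact h3
      exact congrArg Subtype.val h4
  · apply le_antisymm
    · rintro _ ⟨a, ha, rfl⟩
      exact map_mem ha
    · intro y hy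
      obtain ⟨a, ha, hay⟩ := hf.exists_mem (le_closure_of_sl hF e) hy
      exact ⟨a, ha, hay⟩

end Cfsg.Agent.OddHalf.NI3

end

-- merged: Cfsg.Agent.OddHalf.NI3.Bad.O8pModel
section

/-!
# (KD), row `PΩ₈⁺(3)`: `RowA'` (node NI over `F₃`, THEOREM NIB; helper100)

* `Case2` : the statement for `w² = -1` (proved in `Bad/EightUnit.lean`, helper598);
* `row_of` : `Case2 → XO8p X → RowA' X`.
-/

set_option autoImplicit false
set_option linter.unusedSectionVars false
set_option linter.unusedVariables false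

namespace Cfsg.Agent.OddHalf.NI3.Bad.RowO8p

open Subgroup Cfsg Cfsg.Agent.LieClassical.OrthCore Cfsg.Agent.OddHalf.NI3.Bad.Sim
  Cfsg.Agent.OddHalf.NI3.Bad.OrthEight Cfsg.Agent.OddHalf.NI3.Bad.OrthStd Cfsg.Agent.GH.Cov.Lft
  Cfsg.Agent.OddHalf.NI3.Bad.QPair Cfsg.Agent.OddHalf.NI3.Bad.RowOrth
open Cfsg.Agent.OddHalf.NI (CompIn)

abbrev F := ZMod 3
abbrev V := OrthStd.V
abbrev Q := OrthStd.Q

/-- the conclusion of the row -/
def Concl (w : ↥(Om Q)) : Prop :=
  ∃ K : Subgroup (↥(Om Q) ⧸ center ↥(Om Q)),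
    CompIn (centralizer ({(w : ↥(Om Q) ⧸ center ↥(Om Q))} : Set (↥(Om Q) ⧸ center ↥(Om Q)))) K ∧
      (w : ↥(Om Q) ⧸ center ↥(Om Q)) ∈ K

/-- `w² = -1` -/
def Case2 : Prop := ∀ w : ↥(Om Q), (∀ v, (w : V ≃ₗ[F] V) ((w : V ≃ₗ[F] V) v) = -v) → Concl w

theorem mem_center (z : ↥(Om Q)) : z ∈ center ↥(Om Q) ↔ z = 1 ∨ z = EightPair.ngO neg_Q :=
  EightPair.mem_center_iff card_F nondeg_Q (by rw [finrank_V]; norm_num) neg_Q z

theorem ngO_sq : EightPair.ngO neg_Q * EightPair.ngO neg_Q = 1 := by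
  apply Subtype.ext
  apply LinearEquiv.ext
  intro v
  show - -v = v
  rw [neg_neg]

theorem ngO_ne : EightPair.ngO neg_Q ≠ 1 := by
  intro h
  have h1 : -((1 : MM), (0 : MM)) = (1, 0) := congrArg (fun g : ↥(Om Q) => (g : V ≃ₗ[F] V) (1, 0)) h
  have h2 : -(1 : MM) = 1 := congrArg Prod.fst h1
  exact absurd h2 (by decide +kernel)

/-- the projection -/
def pi : ↥(Om Q) →* ↥(Om Q) ⧸ center ↥(Om Q) := QuotientGroup.mk' _

theorem pi_eq_one {z : ↥(Om Q)} : pi z = 1 ↔ z ∈ center ↥(Om Q) := QuotientGroup.eq_one_iff z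

theorem cext : CExt pi where
  surj := QuotientGroup.mk'_surjective _
  cen c hc x := ((mem_center_iff.1 (pi_eq_one.1 hc)) x).symm
  two c hc := by
    refine ⟨1, ?_⟩
    rw [pow_one, pow_two]
    rcases (mem_center c).1 (pi_eq_one.1 hc) with h | h
    · rw [h, one_mul]
    · rw [h, ngO_sq]

instance : Finite ↥(Om Q) := inferInstance

theorem clA_of {z : ↥(Om Q)} {J : Subgroup ↥(Om Q)} (h : Cl z J) : ClA (z : V ≃ₗ[F] V) (J.map (Om Q).subtype) := by
  refine ⟨h.pr.map (Om Q).subtype ?_, ?_, ?_⟩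
  · intro h1
    exact h.pr.t3.z_ne (Subtype.ext h1)
  · rintro _ ⟨g, _, rfl⟩
    exact g.2
  · rw [← cent_map]
    exact h.sn.map _

theorem ap {a b : ↥(Om Q)} (hab : a = b) (v : V) : (a : V ≃ₗ[F] V) v = (b : V ≃ₗ[F] V) v := by rw [hab]

theorem cube_aux {G : Type*} [Group G] {n a : G} (hc : n * a = a * n) (hn : n * n = 1) (ha : a * a * a = 1)
    (h : n * a * (n * a) * (n * a) = 1) : n = 1 := by
  have h1 : (n * a) ^ 3 = n ^ 3 * a ^ 3 := Commute.mul_pow hc 3
  have h2 : (n * a) ^ 3 = 1 := by rw [← h, pow_succ, pow_two]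
  have h3 : a ^ 3 = 1 := by rw [← ha, pow_succ, pow_two]
  have h4 : n ^ 3 = n := by rw [pow_succ, pow_two, hn, one_mul]
  rw [h2, h3, h4, mul_one] at h1
  exact h1.symm

/-- **the row in the model** -/
theorem model (h2 : Case2) : RowA' (↥(Om Q) ⧸ center ↥(Om Q)) := by
  intro x A B w hpos
  obtain ⟨z, hz, hA, hAm⟩ := hpos.a.lift cext
  obtain ⟨z', hz', hB, hBm⟩ := hpos.b.lift cext
  have hx1 : x ≠ 1 := hpos.a.pr.t3.z_ne
  set A1 := Lft pi A with hA1
  set B1 := Lft pi B with hB1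
  -- the lifts commute
  have hcomm : ∀ a ∈ A1, ∀ b ∈ B1, a * b = b * a := by
    intro a ha b hb
    have h1 : A1 ≤ centralizer {b} := by
      apply hA.pr.le_of_cube
      intro a ha ha3
      rw [mem_centralizer_singleton_iff]
      have h3 : pi a ∈ A := by rw [← hAm]; exact mem_map_of_mem _ ha
      have h4 : pi b ∈ B := by rw [← hBm]; exact mem_map_of_mem _ hb
      have h5 : pi a * pi b = pi b * pi a := mem_centralizer_iff.1 (hpos.comm h4) _ h3
      have h6 : pi (a * b * a⁻¹ * b⁻¹) = 1 := by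
        have e6 : a * b * a⁻¹ * b⁻¹ = a * b * (b * a)⁻¹ := by group
        rw [e6, map_mul, map_inv, map_mul, map_mul, h5, mul_inv_cancel]
      have h7 := cext.cen _ h6
      rcases (mem_center _).1 (pi_eq_one.1 h6) with h8 | h8
      · calc a * b = (a * b * a⁻¹ * b⁻¹) * (b * a) := by group
          _ = b * a := by rw [h8, one_mul]
      · exfalso
        have h9 : b * a * b⁻¹ = EightPair.ngO neg_Q * a := by
          calc b * a * b⁻¹ = (a * b * a⁻¹ * b⁻¹)⁻¹ * a := by group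
            _ = EightPair.ngO neg_Q * a := by
              rw [h8, inv_eq_of_mul_eq_one_left ngO_sq]
        have h10 : (b * a * b⁻¹) * (b * a * b⁻¹) * (b * a * b⁻¹) = 1 := by
          calc (b * a * b⁻¹) * (b * a * b⁻¹) * (b * a * b⁻¹) = b * (a * a * a) * b⁻¹ := by group
            _ = 1 := by rw [ha3]; group
        rw [h9] at h10
        rw [h8] at h7
        exact ngO_ne (cube_aux (h7 a) ngO_sq ha3 h10)
    exact mem_centralizer_singleton_iff.1 (h1 ha)
  obtain ⟨p0, hp0, q0, hq0, hpp0, hqq0, hw⟩ := hpos.dec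
  rw [← hAm] at hp0
  rw [← hBm] at hq0
  obtain ⟨p, hp, rfl⟩ := hp0
  obtain ⟨q, hq, rfl⟩ := hq0
  -- squares
  have hpp : p * p = z := by
    have h1 : pi (p * p * z⁻¹) = 1 := by rw [map_mul, map_mul, map_inv, hpp0, hz, mul_inv_cancel]
    have h3 : p * p * z⁻¹ = 1 :=
      hA.pr.inj pi (by rw [hz]; exact hx1) (mul_mem (mul_mem hp hp) (inv_mem hA.pr.mem)) h1
    exact mul_inv_eq_one.1 h3
  have hqq : q * q = z' := by
    have h1 : pi (q * q * z'⁻¹) = 1 := by rw [map_mul, map_mul, map_inv, hqq0, hz', mul_inv_cancel]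
    have h3 : q * q * z'⁻¹ = 1 :=
      hB.pr.inj pi (by rw [hz']; exact hx1) (mul_mem (mul_mem hq hq) (inv_mem hB.pr.mem)) h1
    exact mul_inv_eq_one.1 h3
  have hpq := hcomm p hp q hq
  have hzz : z * z = 1 := hA.pr.t3.z_sq
  have hz1 : z ≠ 1 := hA.pr.t3.z_ne
  have hzn : z ≠ EightPair.ngO neg_Q := by
    intro h
    apply hx1
    rw [← hz, h]
    exact pi_eq_one.2 ((mem_center _).2 (Or.inr rfl))
  have hw' : w = ((p * q : ↥(Om Q)) : ↥(Om Q) ⧸ center ↥(Om Q)) := by
    rw [hw, ← map_mul]; rfl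
  rw [hw']
  have hzz' : pi (z⁻¹ * z') = 1 := by rw [map_mul, map_inv, hz, hz', inv_mul_cancel]
  rcases (mem_center _).1 (pi_eq_one.1 hzz') with h3 | h3
  · -- the same involution
    have h4 : z' = z := (inv_mul_eq_one.1 h3).symm
    subst h4
    obtain ⟨j, hj, hjj, hpj⟩ := anti hA.pr hp hpp
    obtain ⟨k, hk, hkk, hqk⟩ := anti hB.pr hq hqq
    have hQd : Qd (z' : V ≃ₗ[F] V) p j q k :=
      { xx := ap hzz
        pp := ap hpp
        jj := ap hjj
        qq := ap hqq
        kk := ap hkk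
        pj := ap hpj
        qk := ap hqk
        pq := ap (hcomm p hp q hq)
        pk := ap (hcomm p hp k hk)
        jq := ap (hcomm j hj q hq)
        jk := ap (hcomm j hj k hk) }
    have hxn : (z' : V ≃ₗ[F] V) ≠ LinearEquiv.neg F := fun h => hzn (Subtype.ext h)
    have tA : ∀ v, (z' : V ≃ₗ[F] V) v = v → (p : V ≃ₗ[F] V) v = v := fun v hv =>
      triv_of_cl (clA_of hA) (p := p) (j := j) ⟨ap hzz, ap hpp, ap hjj, ap hpj⟩
        (mem_map_of_mem (Om Q).subtype hp) (mem_map_of_mem (Om Q).subtype hj) hxn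
        (mem_map_of_mem (Om Q).subtype hp) hv
    have tB : ∀ v, (z' : V ≃ₗ[F] V) v = v → (q : V ≃ₗ[F] V) v = v := fun v hv =>
      triv_of_cl (clA_of hB) (p := q) (j := k) ⟨ap hzz, ap hqq, ap hkk, ap hqk⟩
        (mem_map_of_mem (Om Q).subtype hq) (mem_map_of_mem (Om Q).subtype hk) hxn
        (mem_map_of_mem (Om Q).subtype hq) hv
    refine EightPair.row card_F nondeg_Q finrank_V neg_Q hQd z'.2 p.2 j.2 q.2 k.2 ?_ ?_ ?_ (p * q) rfl
    · by_contra hcon
      push Not at hcon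
      exact hz1 (Subtype.ext (LinearEquiv.ext hcon))
    · by_contra hcon
      push Not at hcon
      exact hxn (LinearEquiv.ext hcon)
    · intro v hv
      exact ⟨tA v hv, tB v hv⟩
  · -- opposite involutions
    apply h2
    intro v
    have h4 : z' = z * EightPair.ngO neg_Q := by rw [← h3, mul_inv_cancel_left]
    have h5 : p * q * (p * q) = EightPair.ngO neg_Q := by
      calc p * q * (p * q) = p * (q * p) * q := by simp only [mul_assoc]
        _ = p * (p * q) * q := by rw [hpq]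
        _ = (p * p) * (q * q) := by simp only [mul_assoc]
        _ = (z * z) * EightPair.ngO neg_Q := by rw [hpp, hqq, h4, mul_assoc]
        _ = EightPair.ngO neg_Q := by rw [hzz, one_mul]
    exact ap h5 v

/-- **row `PΩ₈⁺(3)`** -/
theorem row_of (h2 : Case2) (X : Type*) [Group X] (h : XO8p X) : RowA' X := by
  obtain ⟨K, i, i', hK, ⟨e⟩⟩ := h
  obtain ⟨e1⟩ := Cfsg.Agent.S1082.result (F := K)
  obtain ⟨e2⟩ := Cfsg.Agent.S1082.result (F := F)
  obtain ⟨e3⟩ := Models.om8p card_F nondeg_Q finrank_V neg_Q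
  have hcard : Fintype.card K = Fintype.card F := by rw [hK]; rfl
  let φ : K ≃+* F := FiniteField.ringEquivOfCardEq hcard
  let e4 := ChevalleyStructure.FieldIso.groupEquiv Lie.chevD4 φ
  exact (model h2).congr ((((e.trans e1.symm).trans e4).trans e2).trans e3.symm)

end Cfsg.Agent.OddHalf.NI3.Bad.RowO8p

end
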