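import Cfsg.Agent.Omega.Lie.OutChev
import Cfsg.Agent.OddHalf.NI3.Bad.OutPow
import Cfsg.Agent.OddHalf.LieOddFam
import Cfsg.Agent.S1055
import Cfsg.Agent.OddHalf.NI3.Bad.StepOneG
import Cfsg.Agent.Omega.Lie.Out.Small
import Cfsg.Agent.OddHalf.NI3.TC
import Cfsg.Agent.SignalizersComponents.IntrinsicDiag
import Cfsg.Agent.OddHalf.NI3.Bad.O8pModel
import Cfsg.Agent.OddHalf.NI3.Bad.Trans
import Cfsg.Agent.S0296

-- merged: Cfsg.Agent.OddHalf.NI3.Bad.OutThree
section

/-!
# `OutNil` for `G₂(3)`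

`R` a root group datum with groups `X (sr i)` of order three and a diagram whose symmetries are involutions: the fourth
powers of all automorphisms are inner.
-/

set_option autoImplicit false
set_option linter.unusedSectionVars false

namespace Cfsg.Agent.OddHalf.NI3.Bad.OutThree

open CoxeterSystem Cfsg.Agent.ChevalleyStructure.CoxeterGeom Cfsg.Agent.Tits.Roots Cfsg.Agent.Tits.Core
  Cfsg.Agent.Tits.RootComb Cfsg.Agent.Nodes.Comb Cfsg.Agent.Nodes.Reps Cfsg.Agent.Nodes.BNOf Cfsg.Agent.Nodes.BNOf.RGD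
  Cfsg.Agent.FixBN Cfsg.Agent.Tits.OfBN Cfsg.Agent.Tits.OppRes Cfsg.Agent.LieExceptional.BNPairCore
  Cfsg.Agent.OddHalf.Table.AutBldg Cfsg.Agent.OddHalf.Table.AutRGD Cfsg.Agent.OddHalf.Table.AutNorm
  Cfsg.Agent.OddHalf.Table.OutTorus Cfsg.Agent.Omega.Lie.OutT Cfsg.Agent.Omega.Lie.OutRgd

variable {I W Y : Type*} [Fintype I] [DecidableEq I] [Group W] [Group Y] {M : CoxeterMatrix I}
  {cs : CoxeterSystem M W} {A : I → I → ℤ} {h : IsCartan M A} {p : ℕ} {T : Subgroup Y} {n : I → Y}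
  {X : (I → ℤ) → Subgroup Y} [Finite W]

section

variable {R : RGD cs h p T n X} {hgen : B cs h T X ⊔ NN cs R.nsys = ⊤}
  [hN : (((R.bnPair hgen).B ⊓ (R.bnPair hgen).N).subgroupOf (R.bnPair hgen).N).Normal]
  {cs' : CoxeterSystem M (WP (R.bnPair hgen))}
  (hcs : ∀ i, cs'.simple i = QuotientGroup.mk
    (⟨(eS R hgen i : Y), (R.bnPair hgen).subset (eS R hgen i).2⟩ : (R.bnPair hgen).N))
  {g₀ : (R.bnPair hgen).N} (hg₀ : (QuotientGroup.mk g₀ : WP (R.bnPair hgen)) = w0 cs')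
  [Finite Y] [Fact p.Prime] (hcore : (B cs h T X).normalCore = ⊥)
  (h3 : ∀ i, ∀ x ∈ X (sr i), ∀ y ∈ X (sr i), ∀ z ∈ X (sr i), x ≠ 1 → y ≠ 1 → z ≠ 1 → x = y ∨ y = z ∨ x = z)

omit [Finite Y] [Fact p.Prime] in
theorem eq_of_mk {i : I} {x y : Y} (hx : x ∈ X (sr i)) (hy : y ∈ X (sr i))
    (he : (QuotientGroup.mk (x * n i) : Y ⧸ (R.bnPair hgen).B) = QuotientGroup.mk (y * n i)) : x = y := by
  have h1 : (QuotientGroup.mk ((y⁻¹ * x) * n i) : Y ⧸ (R.bnPair hgen).B) = QuotientGroup.mk (n i) := by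
    rw [FixBN.OfBN.mk_eq] at he ⊢
    have e : ((y⁻¹ * x) * n i)⁻¹ * n i = (x * n i)⁻¹ * (y * n i) := by group
    rw [e]; exact he
  have h2 := x_eq_one (mul_mem (inv_mem hy) hx) h1
  rw [inv_mul_eq_one] at h2
  exact h2.symm

include hcs hg₀ hcore h3 in
/-- A type preserving normalised automorphism is an involution. -/
theorem sq_eq_one {β : MulAut Y} (hβ : Nrm R hgen g₀ β) (hσ : ∀ i, sg (eS R hgen) cs' hcs hβ.keep i = i) :
    β * β = 1 := by
  have hI : Finite I := inferInstance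
  have hW : Finite (WP (R.bnPair hgen)) := inferInstance
  have hC : Cox cs' := inferInstance
  have hs : ∀ i, sg (eS R hgen) cs' hcs (hβ.mul hβ).keep i = i := by
    intro i
    refine (sg_mul (eS R hgen) cs' hcs hβ.keep hβ.keep i).trans ?_
    rw [hσ, hσ]
  have h1 : β * β = MulAut.conj 1 := by
    refine (hβ.mul hβ).eq_conj hcs hcore hg₀ hs (one_mem _) ?_
    intro i x hx
    have e : act (β * β) (hβ.mul hβ).keep (QuotientGroup.mk (x * n i)) =
        act β hβ.keep (act β hβ.keep (QuotientGroup.mk (x * n i))) := by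
      rw [act_mk, act_mk, act_mk, MulAut.mul_apply]
    rw [e, one_smul]
    by_cases hx1 : x = 1
    · have h4 := hβ.act_n hcs hg₀ i
      rw [hσ] at h4
      rw [hx1, one_mul, h4, h4]
    · obtain ⟨y, hy, hy1, hxy⟩ := Nrm.val hcs hg₀ hβ (hσ i) hx hx1
      rw [hxy]
      obtain ⟨z, hz, hz1, hyz⟩ := Nrm.val hcs hg₀ hβ (hσ i) hy hy1
      rcases h3 i x hx y hy z hz hx1 hy1 hz1 with h5 | h5 | h5
      · rw [← h5] at hxy ⊢; exact hxy
      · rw [← h5, ← hxy] at hyz
        have h6 := act_inj hβ.keep hyz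
        rw [hxy] at hyz
        rw [hyz]
        exact hxy.symm.trans h6
      · rw [hyz, ← h5]
  rw [h1, map_one]

end

/-- **The fourth powers of all automorphisms are inner.** -/
theorem pow_four_inner [Finite Y] [Fact p.Prime] (R : RGD cs h p T n X) (hgen : B cs h T X ⊔ NN cs R.nsys = ⊤)
    (hcore : (B cs h T X).normalCore = ⊥)
    (h3 : ∀ i, ∀ x ∈ X (sr i), ∀ y ∈ X (sr i), ∀ z ∈ X (sr i), x ≠ 1 → y ≠ 1 → z ≠ 1 → x = y ∨ y = z ∨ x = z)
    (hM : ∀ σ : I → I, Function.Injective σ → (∀ i j, M (σ i) (σ j) = M i j) → ∀ i, σ (σ i) = i) (α : MulAut Y) :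
    α ^ 4 ∈ (MulAut.conj : Y →* MulAut Y).range := by
  obtain ⟨hN, cs', hcs, hW, S⟩ := exists_setup R hgen hcore
  obtain ⟨g₀, hg₀⟩ := exists_g0 R hgen cs'
  have hI : Finite I := inferInstance
  have hC : Cox cs' := inferInstance
  obtain ⟨g, hg⟩ := exists_nrm hcs hcore hg₀ α
  have hn := Cfsg.Agent.Schreier.Basic.conj_range_normal Y
  set β := MulAut.conj g * α with hβ
  have h1 : (β * β) * (β * β) = 1 := by
    refine sq_eq_one hcs hg₀ hcore h3 (hg.mul hg) fun i => ?_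
    refine (sg_mul (eS R hgen) cs' hcs hg.keep hg.keep i).trans ?_
    exact hM _ (sg_injective _ _ _ _) (fun i j => sg_M _ _ _ _ i j) i
  rw [← QuotientGroup.eq_one_iff, QuotientGroup.mk_pow]
  have h2 : (QuotientGroup.mk α : MulAut Y ⧸ (MulAut.conj : Y →* MulAut Y).range) = QuotientGroup.mk β := by
    rw [hβ, QuotientGroup.mk_mul, (QuotientGroup.eq_one_iff (N := (MulAut.conj : Y →* MulAut Y).range)
      (MulAut.conj g)).2 ⟨g, rfl⟩, one_mul]
  rw [h2, ← QuotientGroup.mk_pow]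
  have h4 : β ^ 4 = 1 := by
    rw [show (4 : ℕ) = 2 + 2 by norm_num, pow_add, pow_two]
    exact h1
  rw [h4, QuotientGroup.mk_one]

/-! ### `G₂(3)` -/

section

open Cfsg.Agent.Nodes.RGDChev Cfsg.Agent.KFacts.RgdChevCoord Cfsg.Agent.KFacts.RgdField
open Cfsg.Lie Cfsg.Agent.ChevalleyStructure Cfsg.Agent.ChevalleyStructure.Elts
  Cfsg.Agent.ChevalleyStructure.RootVec Cfsg.Agent.ChevalleyStructure.RootVecTab
  Cfsg.Agent.ChevalleyStructure.NPerm Cfsg.Agent.ChevalleyStructure.CoxeterGeomTypes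

universe u

theorem outNil_G2 {F : Type u} [Field F] [Fintype F] (hF : Fintype.card F = 3) :
    OutNil ↥(chevG2.group F) := by
  have hprime : Fact (Nat.Prime 3) := ⟨Nat.prime_three⟩
  have hchar : CharP F 3 := charP_of_card_eq_prime hF
  have h20 := OutPow.two_ne_zero_three hF
  have : IsSimpleGroup ↥(chevG2.group F) := (S1055.result ⟨-1, neg_ne_zero.2 one_ne_zero, fun h => h20 (by
    have h1 : (1 : F) + 1 = 0 := by nth_rewrite 1 [← h]; exact neg_add_cancel 1
    rwa [one_add_one_eq_two] at h1)⟩).1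
  have hp : IsType chevG2 2 CoxeterMatrix.G₂ := by simp [IsType, typeList]
  have hW := finite_W hp (CoxeterMatrix.G₂).toCoxeterSystem
  have R := rgd (K := F) hp (CoxeterMatrix.G₂).toCoxeterSystem 3
  have hgen := gen (K := F) hp (CoxeterMatrix.G₂).toCoxeterSystem 3
  have hcore := Cfsg.Agent.Tits.OfBN.normalCore_eq_bot (R.bnPair hgen) ⟨_, 0, rfl⟩
  refine OutPow.outNil_of_pow 2 fun α => ?_
  refine pow_four_inner R hgen hcore ?_ ?_ α
  · intro i x hx y hy z hz hx1 hy1 hz1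
    have C := (coords (K := F) hp (CoxeterMatrix.G₂).toCoxeterSystem 3).coord (sr i) (isRoot_sr _ hp.isCartan i)
    obtain ⟨a, rfl⟩ := (C.mem x).1 hx
    obtain ⟨b, rfl⟩ := (C.mem y).1 hy
    obtain ⟨c, rfl⟩ := (C.mem z).1 hz
    have ha : a ≠ 0 := fun e => hx1 (by rw [e, C.zero])
    have hb : b ≠ 0 := fun e => hy1 (by rw [e, C.zero])
    have hc : c ≠ 0 := fun e => hz1 (by rw [e, C.zero])
    have key : ∀ a : F, a ≠ 0 → a = 1 ∨ a = -1 := fun a ha =>
      mul_self_eq_one_iff.1 (OutPow.mul_self_three hF ha)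
    rcases key a ha with rfl | rfl <;> rcases key b hb with rfl | rfl <;> rcases key c hc with rfl | rfl <;> simp
  · intro σ h1 _ i
    have key : ∀ σ : Fin 2 → Fin 2, Function.Injective σ → ∀ i, σ (σ i) = i := by decide
    exact key σ h1 i

end

end Cfsg.Agent.OddHalf.NI3.Bad.OutThree

end

-- merged: Cfsg.Agent.OddHalf.NI3.Bad.NoFixOf
section

/-!
# NI over `F₃`, THEOREM NIB, step (1): the criterion for `NoFix`

* `aut_fix` : `X` quasisimple with a classical `SL₂(3)` `J ∋ x`; an automorphism of order 3 trivial on `C(x)` is trivial;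
* `noFix_of` : `NoFix X`, if `C_X(O₂(C(x))) = ⟨x⟩`.
-/

set_option autoImplicit false
set_option linter.style.haveILetI false

namespace Cfsg.Agent.OddHalf.NI3.Bad.NoFixOf

open Subgroup Cfsg Cfsg.Agent.Cit Cfsg.Agent.Cit.SolvTwo Cfsg.Agent.OddHalf.NI3
open Cfsg.Agent.SignalizersComponents

universe u

/-! ### Automorphisms trivial on `C(x)` -/

theorem aut_fix (hT : TStmt.{u}) {X : Type u} [Group X] [Finite X] (hq : IsQuasisimple X)
    (h2 : IsPGroup 2 ↥(center X)) {x : X} {J : Subgroup X} (h : Cl x J) {β : MulAut X} (h3 : β * β * β = 1)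
    (hc : ∀ c, c * x = x * c → β c = c) : β = 1 := by
  haveI : Finite (MulAut X) := inferInstance
  let B : Subgroup (MulAut X) := zpowers β
  let φ : B →* MulAut X := B.subtype
  haveI : Finite (X ⋊[φ] B) := Finite.of_equiv _ SemidirectProduct.equivProd.symm
  let b : B := ⟨β, mem_zpowers β⟩
  let v : X ⋊[φ] B := SemidirectProduct.inr b
  let f : X →* X ⋊[φ] B := SemidirectProduct.inl
  have hf : Function.Injective f := SemidirectProduct.inl_injective
  have hv : ∀ y : X, v * f y * v⁻¹ = f (β y) := fun y => by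
    show SemidirectProduct.inr b * SemidirectProduct.inl y * (SemidirectProduct.inr b)⁻¹ = SemidirectProduct.inl (β y)
    rw [← map_inv, ← SemidirectProduct.inl_aut]
    rfl
  have hbx : ∀ g : B, ∀ c, c * x = x * c → (g : MulAut X) c = c := by
    rintro ⟨g, hg⟩ c hcx
    obtain ⟨n, rfl⟩ := mem_zpowers_iff.1 hg
    have h1 : β ∈ MulAction.stabilizer (MulAut X) c := hc c hcx
    exact (zpow_mem h1 n : β ^ n ∈ MulAction.stabilizer (MulAut X) c)
  -- the classical pair
  have hcl : Cl (f x) (J.map f) := by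
    refine ⟨h.pr.map f (by rw [← map_one f]; exact fun h1 => h.pr.t3.z_ne (hf h1)), ?_⟩
    refine (h.sn.map f).trans ?_
    refine Sn.of_normal ?_ ?_
    · rintro _ ⟨c, hc', rfl⟩
      rw [mem_centralizer_singleton_iff]
      have := mem_centralizer_singleton_iff.1 hc'
      rw [← map_mul, this, map_mul]
    · have key : ∀ y ∈ centralizer ({f x} : Set (X ⋊[φ] B)), ∀ z ∈ (centralizer ({x} : Set X)).map f,
          y * z * y⁻¹ ∈ (centralizer ({x} : Set X)).map f := by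
        rintro y hy _ ⟨c, hc', rfl⟩
        have hcx := mem_centralizer_singleton_iff.1 hc'
        rw [mem_centralizer_singleton_iff] at hy
        -- `y = inl d * inr g`
        have e1 : y = f y.left * SemidirectProduct.inr y.right := (SemidirectProduct.inl_left_mul_inr_right y).symm
        have e2 : ∀ w : X, y * f w * y⁻¹ = f (y.left * (y.right : MulAut X) w * y.left⁻¹) := by
          intro w
          have e3 : (SemidirectProduct.inr y.right : X ⋊[φ] B) * f w * (SemidirectProduct.inr y.right)⁻¹ =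
              f ((y.right : MulAut X) w) := by
            show SemidirectProduct.inr y.right * SemidirectProduct.inl w * (SemidirectProduct.inr y.right)⁻¹ = _
            rw [← map_inv, ← SemidirectProduct.inl_aut]
            rfl
          conv_lhs => rw [e1]
          rw [map_mul, map_mul, map_inv, ← e3]
          group
        have e4 : y.left * x = x * y.left := by
          have h1 := e2 x
          rw [hbx y.right x rfl, hy, mul_inv_cancel_right] at h1
          have h2 := hf h1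
          exact (eq_mul_inv_iff_mul_eq.1 h2).symm
        rw [e2, hbx y.right c hcx]
        refine ⟨_, ?_, rfl⟩
        exact mul_mem (mul_mem (mem_centralizer_singleton_iff.2 e4) hc') (inv_mem (mem_centralizer_singleton_iff.2 e4))
      intro y hy
      rw [mem_normalizer_iff]
      intro z
      refine ⟨key y hy z, fun hz => ?_⟩
      have := key y⁻¹ (inv_mem hy) _ hz
      have e : y⁻¹ * (y * z * y⁻¹) * y⁻¹⁻¹ = z := by group
      rwa [e] at this
  -- the group `X`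
  have e : X ≃* ↥f.range := MonoidHom.ofInjective hf
  have hqr : IsQuasisimple ↥f.range := LayerBasic.quasisimple_congr e hq
  have h2r : IsPGroup 2 ↥(center ↥f.range) := isPGroup_center_congr e h2
  have hnr : v ∈ normalizer (f.range : Set (X ⋊[φ] B)) := by
    rw [mem_normalizer_iff]
    intro z
    constructor
    · rintro ⟨y, rfl⟩
      rw [hv]
      exact ⟨_, rfl⟩
    · rintro ⟨y, hy⟩
      refine ⟨β⁻¹ y, ?_⟩
      have h1 := hv (β⁻¹ y)
      rw [MulAut.apply_inv_self, hy] at h1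
      exact mul_left_cancel (mul_right_cancel h1)
  have hv3 : v * v * v = 1 := by
    show (SemidirectProduct.inr b : X ⋊[φ] B) * SemidirectProduct.inr b * SemidirectProduct.inr b = 1
    rw [← map_mul, ← map_mul]
    have : b * b * b = 1 := Subtype.ext h3
    rw [this, map_one]
  have hfin := hcl.fix hT hqr h2r (by rintro _ ⟨y, _, rfl⟩; exact ⟨y, rfl⟩) hnr hv3 (by
    rintro _ ⟨c, rfl⟩ hcx
    rw [← map_mul, ← map_mul] at hcx
    have h1 := hv c
    rw [hc c (hf hcx)] at h1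
    exact mul_inv_eq_iff_eq_mul.1 h1)
  apply MulEquiv.ext
  intro y
  have h1 := hfin (f y) ⟨y, rfl⟩
  have h4 := hv y
  rw [h1, mul_inv_cancel_right] at h4
  exact (hf h4).symm

/-! ### `O₂(C(x))` -/

section

variable {X : Type*} [Group X]

/-- `O₂(C(x))` -/
def P2 (x : X) : Subgroup X := (pCore 2 ↥(centralizer ({x} : Set X))).map (centralizer ({x} : Set X)).subtype

theorem P2_le (x : X) : P2 x ≤ centralizer ({x} : Set X) := by
  rintro _ ⟨c, _, rfl⟩
  exact c.2

theorem P2_isPGroup [Finite X] (x : X) : IsPGroup 2 (P2 x) := by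
  haveI : Fact (Nat.Prime 2) := ⟨Nat.prime_two⟩
  exact (Lib.Cores.pCore_isPGroup (G := ↥(centralizer ({x} : Set X))) 2).map _

theorem P2_conj {x c p : X} (hc : c * x = x * c) (hp : p ∈ P2 x) : c * p * c⁻¹ ∈ P2 x := by
  obtain ⟨q, hq, rfl⟩ := hp
  have hn : (pCore 2 ↥(centralizer ({x} : Set X))).Normal := Lib.Cores.pCore_normal 2
  exact ⟨_, hn.conj_mem q hq ⟨c, mem_centralizer_singleton_iff.2 hc⟩, rfl⟩

theorem le_P2 {x : X} {N : Subgroup X} (h1 : N ≤ centralizer ({x} : Set X)) (h2 : IsPGroup 2 N)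
    (h3 : ∀ c, c * x = x * c → ∀ n ∈ N, c * n * c⁻¹ ∈ N) : N ≤ P2 x := by
  have hn : (N.subgroupOf (centralizer ({x} : Set X))).Normal := by
    refine ⟨fun n hn c => ?_⟩
    rw [mem_subgroupOf] at hn ⊢
    exact h3 c (mem_centralizer_singleton_iff.1 c.2) n hn
  have h4 : N.subgroupOf (centralizer ({x} : Set X)) ≤ pCore 2 ↥(centralizer ({x} : Set X)) :=
    Lib.Cores.le_pCore hn (h2.comap_subtype)
  intro n hn
  exact ⟨⟨n, h1 hn⟩, h4 (mem_subgroupOf.2 hn), rfl⟩

theorem le_P2_of_sn [Finite X] {x : X} {E : Subgroup X} (h : Sn E (centralizer ({x} : Set X))) (hp : IsPGroup 2 E) :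
    E ≤ P2 x := by
  have h1 := CompBasic.subnormal_pGroup_le_pCore h.2 (hp.comap_subtype (K := centralizer ({x} : Set X)))
  intro n hn
  exact ⟨⟨n, h.1 hn⟩, h1 (mem_subgroupOf.2 hn), rfl⟩

theorem P2_map [Finite X] (φ : MulAut X) {x p : X} (hp : p ∈ P2 x) : φ p ∈ P2 (φ x) := by
  have h1 : (P2 x).map φ.toMonoidHom ≤ P2 (φ x) := by
    refine le_P2 ?_ ((P2_isPGroup x).map _) ?_
    · rintro _ ⟨q, hq, rfl⟩
      rw [mem_centralizer_singleton_iff]
      show φ q * φ x = φ x * φ q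
      rw [← map_mul, mem_centralizer_singleton_iff.1 (P2_le x hq), map_mul]
    · rintro c hc _ ⟨q, hq, rfl⟩
      refine ⟨φ⁻¹ c * q * (φ⁻¹ c)⁻¹, P2_conj ?_ hq, ?_⟩
      · apply φ.injective
        rw [map_mul, map_mul, MulAut.apply_inv_self, hc]
      · show φ (φ⁻¹ c * q * (φ⁻¹ c)⁻¹) = c * φ q * c⁻¹
        rw [map_mul, map_mul, map_inv, MulAut.apply_inv_self]
  exact h1 ⟨p, hp, rfl⟩

end

/-! ### The criterion -/

/-- **The criterion.** -/
theorem noFix_of (hT : TStmt.{u}) {X : Type u} [Group X] [Finite X] [IsSimpleGroup X] (hna : ¬ IsMulCommutative X)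
    {x : X} {J : Subgroup X} (h : Cl x J) {ι : Type*} (E : ι → Subgroup X)
    (hs : ∀ k, Sn (E k) (centralizer ({x} : Set X))) (hp : ∀ k, IsPGroup 2 (E k))
    (hc : ∀ g, (∀ k, ∀ e ∈ E k, g * e = e * g) → g = 1 ∨ g = x) : StepOne.NoFix X := by
  intro α β hα hβ hαβ hfix
  haveI : Fact (Nat.Prime 2) := ⟨Nat.prime_two⟩
  haveI : Finite (MulAut X) := inferInstance
  have hinj := Omega.Lie.OutT.Small.conj_inj hna
  have hx1 : x ≠ 1 := h.pr.t3.z_ne
  have hxx : x * x = 1 := by rw [← pow_two, ← h.pr.ord, pow_orderOf_eq_one]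
  have hxP : x ∈ P2 x := by
    refine (le_P2 (N := zpowers x) ?_ ?_ ?_) (mem_zpowers x)
    · rw [zpowers_le, mem_centralizer_singleton_iff]
    · rintro ⟨_, n, rfl⟩
      refine ⟨1, Subtype.ext ?_⟩
      show (x ^ n) ^ 2 ^ 1 = 1
      rw [pow_one, pow_two, ← zpow_add, ← two_mul, zpow_mul]
      rw [show x ^ (2 : ℤ) = 1 by rw [zpow_two, hxx], one_zpow]
    · rintro c hcx _ ⟨n, rfl⟩
      have h1 : Commute c x := hcx
      refine ⟨n, ?_⟩
      show x ^ n = c * x ^ n * c⁻¹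
      rw [(h1.zpow_right n).eq, mul_inv_cancel_right]
  have hcP : ∀ g, (∀ p ∈ P2 x, g * p = p * g) → g = 1 ∨ g = x := fun g hg =>
    hc g fun k e he => hg e (le_P2_of_sn (hs k) (hp k) he)
  -- an `α`-invariant Sylow subgroup
  have hα2 : IsPGroup 2 (zpowers α) := by
    rintro ⟨_, n, rfl⟩
    refine ⟨1, Subtype.ext ?_⟩
    show (α ^ n) ^ 2 ^ 1 = 1
    rw [pow_one, pow_two, ← zpow_add, ← two_mul, zpow_mul]
    rw [show α ^ (2 : ℤ) = 1 by rw [zpow_two, hα], one_zpow]
  obtain ⟨S, hS⟩ := Omega.Lie.OutT.Small.exists_sylow hα2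
  have hSα : ∀ s ∈ S, α s ∈ S := hS α (mem_zpowers α)
  obtain ⟨S0, hS0⟩ := (P2_isPGroup x).exists_le_sylow
  obtain ⟨g, hg⟩ := MulAction.exists_smul_eq X S0 S
  obtain ⟨y, hy⟩ : ∃ y, y = g * x * g⁻¹ := ⟨_, rfl⟩
  have hyφ : y = MulAut.conj g x := by rw [MulAut.conj_apply, hy]
  have hPS : P2 y ≤ (S : Subgroup X) := by
    intro p hp'
    have h1 : (MulAut.conj g)⁻¹ p ∈ P2 x := by
      have h2 := P2_map (MulAut.conj g)⁻¹ hp'
      rwa [hyφ, MulAut.inv_apply_self] at h2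
    have h2 := hS0 h1
    rw [← hg]
    refine ⟨(MulAut.conj g)⁻¹ p, h2, ?_⟩
    exact MulAut.apply_inv_self X (MulAut.conj g) p
  have hcy : ∀ t : X, (∀ p ∈ P2 y, t * p = p * t) → t = 1 ∨ t = y := by
    intro t ht
    have h1 : (MulAut.conj g)⁻¹ t = 1 ∨ (MulAut.conj g)⁻¹ t = x := by
      apply hcP
      intro p hp'
      have h2 := ht (MulAut.conj g p) (by rw [hyφ]; exact P2_map _ hp')
      apply (MulAut.conj g).injective
      rw [map_mul, map_mul, MulAut.apply_inv_self]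
      exact h2
    rcases h1 with h1 | h1
    · left
      have := congrArg (MulAut.conj g) h1
      rwa [MulAut.apply_inv_self, map_one] at this
    · right
      have := congrArg (MulAut.conj g) h1
      rwa [MulAut.apply_inv_self, ← hyφ] at this
  have hy1 : y ≠ 1 := by
    intro h1
    apply hx1
    have : MulAut.conj g x = MulAut.conj g 1 := by rw [← hyφ, h1, map_one]
    exact (MulAut.conj g).injective this
  have hyP : y ∈ P2 y := by
    have := P2_map (MulAut.conj g) hxP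
    rwa [← hyφ] at this
  -- `y` is central in `S`
  have hyZ : ∀ s ∈ S, y * s = s * y := by
    have hnt : Nontrivial ↥(S : Subgroup X) := ⟨⟨y, hPS hyP⟩, 1, fun h1 => hy1 (congrArg Subtype.val h1)⟩
    haveI := S.2.center_nontrivial
    obtain ⟨⟨⟨t, htS⟩, htZ⟩, ht1⟩ := exists_ne (1 : ↥(center ↥(S : Subgroup X)))
    have ht : ∀ s ∈ S, t * s = s * t := fun s hs' =>
      (congrArg Subtype.val (mem_center_iff.1 htZ ⟨s, hs'⟩)).symm
    rcases hcy t (fun p hp' => ht p (hPS hp')) with h1 | h1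
    · exfalso
      apply ht1
      exact Subtype.ext (Subtype.ext h1)
    · rw [← h1]; exact ht
  have hαα : ∀ z, α (α z) = z := fun z => DFunLike.congr_fun hα z
  have hαy : α y = y := by
    rcases hcy (α y) (fun p hp' => by
      have h1 := hyZ (α p) (hSα p (hPS hp'))
      have h2 := congrArg α h1
      rw [map_mul, map_mul, hαα] at h2
      exact h2) with h1 | h1
    · exfalso
      apply hy1
      apply α.injective
      rw [h1, map_one]
    · exact h1
  have hβy : β y = y := hfix y hαy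
  -- Thompson's lemma
  have key : ∀ p ∈ P2 y, β p = p := by
    have hu : ∀ γ : MulAut X, γ y = y → zpowers γ ≤ normalizer ((P2 y).map (MulAut.conj : X →* MulAut X) : Set (MulAut X)) := by
      intro γ hγ
      rw [zpowers_le]
      have h0 : ∀ γ : MulAut X, γ y = y → ∀ u ∈ (P2 y).map (MulAut.conj : X →* MulAut X),
          γ * u * γ⁻¹ ∈ (P2 y).map (MulAut.conj : X →* MulAut X) := by
        rintro γ hγ _ ⟨p, hp', rfl⟩
        refine ⟨γ p, by have := P2_map γ hp'; rwa [hγ] at this, ?_⟩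
        exact Omega.Lie.OutT.Small.conj_apply_eq γ p
      rw [mem_normalizer_iff]
      intro u
      refine ⟨h0 γ hγ u, fun hu => ?_⟩
      have hγ' : γ⁻¹ y = y := by
        apply γ.injective
        rw [MulAut.apply_inv_self, hγ]
      have := h0 γ⁻¹ hγ' _ hu
      have e : γ⁻¹ * (γ * u * γ⁻¹) * γ⁻¹⁻¹ = u := by group
      rwa [e] at this
    have hcomm : zpowers α ≤ centralizer (zpowers β : Set (MulAut X)) := by
      rw [zpowers_le, mem_centralizer_iff]
      rintro _ ⟨n, rfl⟩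
      have h1 : Commute α β := hαβ
      exact (h1.zpow_right n).symm
    have h1 := Lib.ThompsonPQ.thompson_p_times_q 2 (zpowers α) (zpowers β)
      ((P2 y).map (MulAut.conj : X →* MulAut X)) hα2 ?_ ((P2_isPGroup y).map _) hcomm (hu α hαy) (hu β hβy) ?_
    · intro p hp'
      have h2 := mem_centralizer_iff.1 (h1 (mem_zpowers β)) (MulAut.conj p) ⟨p, hp', rfl⟩
      have h3 := Omega.Lie.OutT.Small.conj_apply_eq β p
      rw [← h2, mul_inv_cancel_right] at h3
      exact hinj h3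
    · rw [Nat.card_zpowers]
      have h7 : Odd (orderOf β) := odd_of_cube hβ
      exact (Nat.coprime_two_right.2 h7)
    · rintro _ ⟨⟨p, hp', rfl⟩, hpα⟩
      have h2 := mem_centralizer_iff.1 hpα α (mem_zpowers α)
      have h3 := Omega.Lie.OutT.Small.conj_apply_eq α p
      rw [h2, mul_inv_cancel_right] at h3
      have h4 : α p = p := hinj h3
      have h5 := hfix p h4
      have h6 := Omega.Lie.OutT.Small.conj_apply_eq β p
      rw [h5] at h6
      have h8 : Commute (MulAut.conj p) β := by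
        show MulAut.conj p * β = β * MulAut.conj p
        nth_rewrite 1 [h6]
        rw [inv_mul_cancel_right]
      rw [mem_centralizer_iff]
      rintro _ ⟨n, rfl⟩
      exact (h8.zpow_right n).symm
  -- `β` is trivial on `C(y)`
  have hC : ∀ c, c * y = y * c → β c = c := by
    intro c hcy'
    have h1 : c⁻¹ * β c = 1 ∨ c⁻¹ * β c = y := by
      apply hcy
      intro p hp'
      have h2 := P2_conj hcy' hp'
      have h3 := key _ h2
      rw [map_mul, map_mul, map_inv, key p hp'] at h3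
      -- `β c p (β c)⁻¹ = c p c⁻¹`
      calc c⁻¹ * β c * p = c⁻¹ * (β c * p * (β c)⁻¹) * β c := by group
        _ = p * (c⁻¹ * β c) := by rw [h3]; group
    rcases h1 with h1 | h1
    · exact (inv_mul_eq_one.1 h1).symm
    · exfalso
      have h2 : β c = c * y := by rw [← h1]; group
      have hyy : y * y = 1 := by
        rw [hyφ, ← map_mul, hxx, map_one]
      have h3 : β (β (β c)) = c := DFunLike.congr_fun hβ c
      rw [h2, map_mul, hβy, h2, mul_assoc, hyy, mul_one, h2] at h3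
      exact hy1 (mul_eq_left.1 h3)
  have hclY : Cl y (Cit.cj g J) := by
    have h1 := h.pr.map (MulAut.conj g).toMonoidHom (by
      show MulAut.conj g x ≠ 1
      rw [← hyφ]; exact hy1)
    refine ⟨by rw [hyφ]; exact h1, ?_⟩
    have h2 := h.sn.cj g
    have e : Cit.cj g (centralizer ({x} : Set X)) = centralizer ({y} : Set X) := by
      ext z
      rw [Cit.mem_cj, mem_centralizer_singleton_iff, mem_centralizer_singleton_iff, hy]
      constructor
      · intro h3
        calc z * (g * x * g⁻¹) = g * (g⁻¹ * z * g * x) * g⁻¹ := by group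
          _ = g * x * g⁻¹ * z := by rw [h3]; group
      · intro h3
        calc g⁻¹ * z * g * x = g⁻¹ * (z * (g * x * g⁻¹)) * g := by group
          _ = x * (g⁻¹ * z * g) := by rw [h3]; group
    rwa [e] at h2
  exact aut_fix hT (IntrinsicDiag.quasisimple_of_simple inferInstance hna) (by
    have : center X = ⊥ := by
      rcases (inferInstance : (center X).Normal).eq_bot_or_eq_top with h1 | h1
      · exact h1
      · exact absurd ⟨⟨fun a b => (mem_center_iff.1 (h1 ▸ mem_top a : a ∈ center X) b).symm⟩⟩ hna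
    rw [this]; exact IsPGroup.of_bot) hclY hβ hC

end Cfsg.Agent.OddHalf.NI3.Bad.NoFixOf

end

-- merged: Cfsg.Agent.OddHalf.NI3.Bad.O8pSheet
section

/-!
# NI over `F₃`, THEOREM NIB, step (1): `NoFix` for `PΩ₈⁺(3)`

In the model `Ω(V)/Z`, `V = M₂(3) ⟂ M₂(3)` (helper100, `OrthStd`): `x` the image of `z0 = (-1, 1)`, the four groups
`SL₂(3)` are subnormal in `C(x)` and the centralizer of their quaternion groups is `⟨x⟩`.
-/

set_option autoImplicit false
set_option linter.unusedSectionVars false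
set_option linter.style.haveILetI false

namespace Cfsg.Agent.OddHalf.NI3.Bad.O8pSheet

open Subgroup Cfsg Cfsg.Agent.LieClassical.OrthCore Cfsg.Agent.LieClassical.OrthFourPlus
  Cfsg.Agent.LieClassical.OrthFourCommon Cfsg.Agent.OddHalf.NI3.Bad.Sim Cfsg.Agent.OddHalf.NI3.Bad.OrthEight
  Cfsg.Agent.OddHalf.NI3.Bad.OrthStd Cfsg.Agent.OddHalf.NI3
open Cfsg.Agent.OddHalf.NI3.Bad.RowO8p (pi pi_eq_one mem_center ngO_sq ngO_ne)
open scoped MatrixGroups

abbrev F := ZMod 3
abbrev V := OrthStd.V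
abbrev Q := OrthStd.Q

/-! ### The four subgroups in `Ω(V)` -/

theorem good : LieClassical.OrthTrans.Good Q :=
  LieClassical.OrthFinite.good_of_finite nondeg_Q (by rw [finrank_V]; norm_num)

theorem sq_mem_Om {g : V ≃ₗ[F] V} (hg : g ∈ O Q) : g * g ∈ Om Q := by
  have h1 := OutPow.O_sq good hg
  rwa [← good.commutator_eq_E] at h1

set_option maxRecDepth 100000 in
theorem cube_Q8 : ∀ a : SL23, (a * a * a) * (a * a * a) = 1 ∨ (a * a * a) * (a * a * a) = -1 := by
  decide +kernel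

theorem mem_Om {k : SL23 →* (V ≃ₗ[F] V)} (hk : ∀ a, k a ∈ O Q) (a : SL23) : k a ∈ Om Q := by
  have e : k a = k (a * a * a) * (k a⁻¹ * k a⁻¹) := by
    rw [← map_mul, ← map_mul]
    congr 1
    group
  rw [e]
  exact mul_mem (mem_Om_of_Q8 hk (cube_Q8 a)) (sq_mem_Om (hk _))

noncomputable def kk : Fin 4 → (SL23 →* (V ≃ₗ[F] V)) := ![k1, k2, k3, k4]

theorem kk_mem_O (i : Fin 4) (a : SL23) : kk i a ∈ O Q := by
  fin_cases i
  · exact k1_mem_O a
  · exact k2_mem_O a
  · exact k3_mem_O a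
  · exact k4_mem_O a

theorem kk_injective (i : Fin 4) : Function.Injective (kk i) := by
  fin_cases i
  · exact k1_injective
  · exact k2_injective
  · exact k3_injective
  · exact k4_injective

noncomputable def ka (i : Fin 4) : SL23 →* ↥(Om Q) := (kk i).codRestrict (Om Q) (mem_Om (kk_mem_O i))

theorem coe_ka (i : Fin 4) (a : SL23) : (ka i a : V ≃ₗ[F] V) = kk i a := rfl

/-- the involution -/
noncomputable def z : ↥(Om Q) := ka 0 (-1)

theorem z_coe : (z : V ≃ₗ[F] V) = z0 := by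
  show k1 (-1) = z0
  rw [k1_def]
  show pr (LL (-1), 1) = pr (LinearEquiv.neg F, 1)
  congr 1
  refine Prod.ext ?_ rfl
  ext1 X
  rw [LL_apply, Matrix.SpecialLinearGroup.coe_neg, Matrix.SpecialLinearGroup.coe_one, neg_mul, one_mul]
  rfl

/-! ### Conjugation -/

theorem isom_conj (g : isom (dt F)) (q : Gam F) : ∃ r : Gam F, g * psi q * g⁻¹ = psi r := by
  obtain ⟨p, hp | hp⟩ := exists_eq g
  · exact ⟨p * q * p⁻¹, by rw [hp, map_mul, map_mul, map_inv]⟩
  · refine ⟨p * sw q * p⁻¹, ?_⟩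
    rw [hp, map_mul, map_mul, map_inv, ← tau_conj]
    group

theorem conjL (p : Gam F) (q : SL23) :
    ∃ r : SL23, (psi p : isom (dt F)).1 * LL q * ((psi p : isom (dt F)).1)⁻¹ = LL r ∧ (q ∈ Q8 → r ∈ Q8) := by
  by_cases hq : q ∈ Q8
  · obtain ⟨r, hr, h⟩ := conj_LL p hq
    exact ⟨r, h, fun _ => hr⟩
  have hd : ((p.1.1 : MM) * (q : MM) * ((p.1.1⁻¹ : GL (Fin 2) F) : MM)).det = 1 := by
    rw [Matrix.det_mul, Matrix.det_mul, q.2, mul_one, ← Matrix.det_mul, ← Units.val_mul, mul_inv_cancel,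
      Units.val_one, Matrix.det_one]
  obtain ⟨r, hr⟩ : ∃ r : SL23, (r : MM) = (p.1.1 : MM) * (q : MM) * ((p.1.1⁻¹ : GL (Fin 2) F) : MM) := ⟨⟨_, hd⟩, rfl⟩
  refine ⟨r, ?_, fun h => absurd h hq⟩
  rw [mul_inv_eq_iff_eq_mul]
  ext1 X
  show (psi p : isom (dt F)).1 (LL q X) = LL r ((psi p : isom (dt F)).1 X)
  rw [LL_apply, LL_apply, psi_coe_apply, psi_coe_apply, hr]
  calc (p.1.1 : MM) * ((q : MM) * X) * ((p.1.2⁻¹ : GL (Fin 2) F) : MM)
      = (p.1.1 : MM) * (q : MM) * 1 * X * ((p.1.2⁻¹ : GL (Fin 2) F) : MM) := by noncomm_ring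
    _ = (p.1.1 : MM) * (q : MM) * (((p.1.1⁻¹ : GL (Fin 2) F) : MM) * (p.1.1 : MM)) * X *
        ((p.1.2⁻¹ : GL (Fin 2) F) : MM) := by rw [Units.inv_mul]
    _ = _ := by noncomm_ring

theorem conjR (p : Gam F) (q : SL23) :
    ∃ r : SL23, (psi p : isom (dt F)).1 * RR q * ((psi p : isom (dt F)).1)⁻¹ = RR r ∧ (q ∈ Q8 → r ∈ Q8) := by
  by_cases hq : q ∈ Q8
  · obtain ⟨r, hr, h⟩ := conj_RR p hq
    exact ⟨r, h, fun _ => hr⟩
  have hd : ((p.1.2 : MM) * ((q⁻¹ : SL23) : MM) * ((p.1.2⁻¹ : GL (Fin 2) F) : MM)).det = 1 := by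
    rw [Matrix.det_mul, Matrix.det_mul, (q⁻¹ : SL23).2, mul_one, ← Matrix.det_mul, ← Units.val_mul, mul_inv_cancel,
      Units.val_one, Matrix.det_one]
  obtain ⟨r, hr⟩ : ∃ r : SL23, (r : MM) = (p.1.2 : MM) * ((q⁻¹ : SL23) : MM) * ((p.1.2⁻¹ : GL (Fin 2) F) : MM) :=
    ⟨⟨_, hd⟩, rfl⟩
  refine ⟨r⁻¹, ?_, fun h => absurd h hq⟩
  rw [mul_inv_eq_iff_eq_mul]
  ext1 X
  show (psi p : isom (dt F)).1 (RR q X) = RR r⁻¹ ((psi p : isom (dt F)).1 X)
  rw [RR_apply, RR_apply, psi_coe_apply, psi_coe_apply, inv_inv, hr]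
  calc (p.1.1 : MM) * (X * ((q⁻¹ : SL23) : MM)) * ((p.1.2⁻¹ : GL (Fin 2) F) : MM)
      = (p.1.1 : MM) * X * 1 * ((q⁻¹ : SL23) : MM) * ((p.1.2⁻¹ : GL (Fin 2) F) : MM) := by noncomm_ring
    _ = (p.1.1 : MM) * X * (((p.1.2⁻¹ : GL (Fin 2) F) : MM) * (p.1.2 : MM)) * ((q⁻¹ : SL23) : MM) *
        ((p.1.2⁻¹ : GL (Fin 2) F) : MM) := by rw [Units.inv_mul]
    _ = _ := by noncomm_ring

/-- the map `(p, p') ↦ (psi p, psi p')` -/
noncomputable def Psi2 : Gam F × Gam F →* (V ≃ₗ[F] V) :=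
  pr.comp (MonoidHom.prodMap ((isom (dt F)).subtype.comp psi) ((isom (dt F)).subtype.comp psi))

theorem Psi2_apply (p p' : Gam F) : Psi2 (p, p') = pr ((psi p : isom (dt F)).1, (psi p' : isom (dt F)).1) := rfl

theorem conjK (i : Fin 4) (p p' : Gam F) (q : SL23) :
    ∃ r : SL23, Psi2 (p, p') * kk i q * (Psi2 (p, p'))⁻¹ = kk i r ∧ (q ∈ Q8 → r ∈ Q8) := by
  have hone : ∀ g : MM ≃ₗ[F] MM, g * 1 * g⁻¹ = 1 := fun g => by group
  fin_cases i
  · obtain ⟨r, hr, hr'⟩ := conjL p q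
    refine ⟨r, ?_, hr'⟩
    show Psi2 (p, p') * k1 q * (Psi2 (p, p'))⁻¹ = k1 r
    rw [Psi2_apply, k1_def, k1_def, ← map_mul, ← map_inv, ← map_mul, ← hr]
    congr 1
    exact Prod.ext rfl (hone _)
  · obtain ⟨r, hr, hr'⟩ := conjR p q
    refine ⟨r, ?_, hr'⟩
    show Psi2 (p, p') * k2 q * (Psi2 (p, p'))⁻¹ = k2 r
    rw [Psi2_apply, k2_def, k2_def, ← map_mul, ← map_inv, ← map_mul, ← hr]
    congr 1
    exact Prod.ext rfl (hone _)
  · obtain ⟨r, hr, hr'⟩ := conjL p' q
    refine ⟨r, ?_, hr'⟩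
    show Psi2 (p, p') * k3 q * (Psi2 (p, p'))⁻¹ = k3 r
    rw [Psi2_apply, k3_def, k3_def, ← map_mul, ← map_inv, ← map_mul, ← hr]
    congr 1
    exact Prod.ext (hone _) rfl
  · obtain ⟨r, hr, hr'⟩ := conjR p' q
    refine ⟨r, ?_, hr'⟩
    show Psi2 (p, p') * k4 q * (Psi2 (p, p'))⁻¹ = k4 r
    rw [Psi2_apply, k4_def, k4_def, ← map_mul, ← map_inv, ← map_mul, ← hr]
    congr 1
    exact Prod.ext (hone _) rfl

/-! ### Subnormality -/

/-- pairs of proper isometries -/
noncomputable def S1 : Subgroup ↥(Om Q) := Psi2.range.comap (Om Q).subtype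

theorem mem_S1 {g : ↥(Om Q)} : g ∈ S1 ↔ ∃ p p' : Gam F, Psi2 (p, p') = (g : V ≃ₗ[F] V) := by
  constructor
  · rintro ⟨⟨p, p'⟩, h⟩
    exact ⟨p, p', h⟩
  · rintro ⟨p, p', h⟩
    exact ⟨(p, p'), h⟩

theorem S1_le : S1 ≤ centralizer ({z} : Set ↥(Om Q)) := by
  intro g hg
  obtain ⟨p, p', h⟩ := mem_S1.1 hg
  rw [mem_centralizer_singleton_iff]
  apply Subtype.ext
  rw [Subgroup.coe_mul, Subgroup.coe_mul, z_coe, ← h, Psi2_apply]
  exact pr_comm_z0 _ _

theorem normalizer_of {G : Type*} [Group G] {J C : Subgroup G} (h : ∀ c ∈ C, ∀ j ∈ J, c * j * c⁻¹ ∈ J) :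
    C ≤ normalizer (J : Set G) := by
  intro c hc
  rw [mem_normalizer_iff]
  intro x
  refine ⟨h c hc x, fun hx => ?_⟩
  have := h c⁻¹ (inv_mem hc) _ hx
  have e : c⁻¹ * (c * x * c⁻¹) * c⁻¹⁻¹ = x := by group
  rwa [e] at this

theorem S1_normal : centralizer ({z} : Set ↥(Om Q)) ≤ normalizer (S1 : Set ↥(Om Q)) := by
  refine normalizer_of fun c hc g hg => ?_
  rw [mem_centralizer_singleton_iff] at hc
  obtain ⟨p, p', h⟩ := mem_S1.1 hg
  have hc0 : (c : V ≃ₗ[F] V) * z0 = z0 * c := by rw [← z_coe]; exact congrArg Subtype.val hc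
  have hcO : (c : V ≃ₗ[F] V) ∈ O Q := Om_le_O c.2
  have e := eq_pr _ hc0
  obtain ⟨r, hr⟩ := isom_conj ⟨_, fst_mem hc0 hcO⟩ p
  obtain ⟨r', hr'⟩ := isom_conj ⟨_, snd_mem hc0 hcO⟩ p'
  refine mem_S1.2 ⟨r, r', ?_⟩
  show Psi2 (r, r') = (c : V ≃ₗ[F] V) * g * (c : V ≃ₗ[F] V)⁻¹
  rw [← h, e, Psi2_apply, Psi2_apply, ← map_mul, ← map_inv, ← map_mul, ← hr, ← hr']
  rfl

theorem ka_mem_S1 (i : Fin 4) (a : SL23) : ka i a ∈ S1 := by
  fin_cases i
  · exact mem_S1.2 ⟨inc (a, 1), 1, by rw [Psi2_apply, map_one]; rfl⟩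
  · exact mem_S1.2 ⟨inc (1, a), 1, by rw [Psi2_apply, map_one]; rfl⟩
  · exact mem_S1.2 ⟨1, inc (a, 1), by rw [Psi2_apply, map_one]; rfl⟩
  · exact mem_S1.2 ⟨1, inc (1, a), by rw [Psi2_apply, map_one]; rfl⟩

theorem sn_range (i : Fin 4) : Sn (ka i).range (centralizer ({z} : Set ↥(Om Q))) := by
  have h1 : (ka i).range ≤ S1 := by
    rintro _ ⟨a, rfl⟩
    exact ka_mem_S1 i a
  refine (Sn.of_normal h1 (normalizer_of ?_)).trans (Sn.of_normal S1_le S1_normal)
  rintro c hc _ ⟨a, rfl⟩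
  obtain ⟨p, p', h⟩ := mem_S1.1 hc
  obtain ⟨r, hr, -⟩ := conjK i p p' a
  refine ⟨r, Subtype.ext ?_⟩
  show kk i r = (c : V ≃ₗ[F] V) * kk i a * (c : V ≃ₗ[F] V)⁻¹
  rw [← hr, h]

theorem sn_Q8 (i : Fin 4) : Sn (Q8.map (ka i)) (centralizer ({z} : Set ↥(Om Q))) := by
  have h1 : Q8.map (ka i) ≤ S1 := by
    rintro _ ⟨a, -, rfl⟩
    exact ka_mem_S1 i a
  refine (Sn.of_normal h1 (normalizer_of ?_)).trans (Sn.of_normal S1_le S1_normal)
  rintro c hc _ ⟨a, ha, rfl⟩
  obtain ⟨p, p', h⟩ := mem_S1.1 hc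
  obtain ⟨r, hr, hr'⟩ := conjK i p p' a
  refine ⟨r, hr' ha, Subtype.ext ?_⟩
  show kk i r = (c : V ≃ₗ[F] V) * kk i a * (c : V ≃ₗ[F] V)⁻¹
  rw [← hr, h]

/-! ### In `PΩ(V)` -/

theorem ng_central (g : ↥(Om Q)) : g * EightPair.ngO neg_Q = EightPair.ngO neg_Q * g :=
  mem_center_iff.1 ((mem_center _).2 (Or.inr rfl)) g

theorem ng_apply (v : V) : (EightPair.ngO neg_Q : V ≃ₗ[F] V) v = -v := rfl

theorem comm_aux {G : Type*} [Group G] {y u z n : G} (hcn : ∀ g, g * n = n * g) (hnn : n * n = 1)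
    (h3 : y * z = n * (z * y)) (hu : u * z = z * u) : y * u * y⁻¹ * z = z * (y * u * y⁻¹) := by
  have h5 : z * y = n * (y * z) := by rw [h3, ← mul_assoc, hnn, one_mul]
  have h4 : y⁻¹ * z = n * (z * y⁻¹) := by
    calc y⁻¹ * z = y⁻¹ * (z * y) * y⁻¹ := by group
      _ = (y⁻¹ * n) * (y * z) * y⁻¹ := by rw [h5]; group
      _ = (n * y⁻¹) * (y * z) * y⁻¹ := by rw [hcn y⁻¹]
      _ = n * (z * y⁻¹) := by group
  calc y * u * y⁻¹ * z = y * u * (y⁻¹ * z) := by group
    _ = y * (u * n) * z * y⁻¹ := by rw [h4]; group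
    _ = (y * n) * (u * z) * y⁻¹ := by rw [hcn u]; group
    _ = n * (y * z) * u * y⁻¹ := by rw [hcn y, hu]; group
    _ = (n * n) * (z * y) * u * y⁻¹ := by rw [h3]; group
    _ = z * (y * u * y⁻¹) := by rw [hnn]; group

theorem cent_normal : centralizer ({pi z} : Set (↥(Om Q) ⧸ center ↥(Om Q))) ≤
    normalizer ((centralizer ({z} : Set ↥(Om Q))).map pi : Set (↥(Om Q) ⧸ center ↥(Om Q))) := by
  refine normalizer_of ?_
  rintro c hc _ ⟨u, hu, rfl⟩
  obtain ⟨y, rfl⟩ := QuotientGroup.mk_surjective c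
  change pi y ∈ _ at hc
  rw [mem_centralizer_singleton_iff] at hc
  rw [SetLike.mem_coe, mem_centralizer_singleton_iff] at hu
  have h1 : pi (y * z * y⁻¹ * z⁻¹) = 1 := by
    rw [map_mul, map_mul, map_mul, map_inv, map_inv, hc]; group
  have key : y * u * y⁻¹ * z = z * (y * u * y⁻¹) := by
    rcases (mem_center _).1 (pi_eq_one.1 h1) with h2 | h2
    · have h3 : y * z = z * y := by
        calc y * z = (y * z * y⁻¹ * z⁻¹) * (z * y) := by group
          _ = z * y := by rw [h2, one_mul]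
      have c1 : Commute y z := h3
      have c2 : Commute u z := hu
      exact ((c1.mul_left c2).mul_left c1.inv_left).eq
    · refine comm_aux ng_central ngO_sq ?_ hu
      rw [← h2]; group
  refine ⟨y * u * y⁻¹, ?_, ?_⟩
  · rw [SetLike.mem_coe, mem_centralizer_singleton_iff]; exact key
  · show pi (y * u * y⁻¹) = pi y * pi u * (pi y)⁻¹
    rw [map_mul, map_mul, map_inv]

theorem cent_le : (centralizer ({z} : Set ↥(Om Q))).map pi ≤
    centralizer ({pi z} : Set (↥(Om Q) ⧸ center ↥(Om Q))) := by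
  rintro _ ⟨u, hu, rfl⟩
  rw [SetLike.mem_coe, mem_centralizer_singleton_iff] at hu
  rw [mem_centralizer_singleton_iff, ← map_mul, hu, map_mul]

theorem sn_pi {E : Subgroup ↥(Om Q)} (h : Sn E (centralizer ({z} : Set ↥(Om Q)))) :
    Sn (E.map pi) (centralizer ({pi z} : Set (↥(Om Q) ⧸ center ↥(Om Q)))) :=
  (h.map pi).trans (Sn.of_normal cent_le cent_normal)

/-! ### The centralizer of the quaternion groups -/

set_option maxRecDepth 100000 in
theorem no_ii : ∀ a : MM, (a = -((ii : MM) * a) → a = 0) ∧ (a = -(a * ((ii⁻¹ : SL23) : MM)) → a = 0) := by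
  decide +kernel

set_option maxRecDepth 100000 in
theorem no_jj : ∀ a : MM, (a = -((jj : MM) * a) → a = 0) ∧ (a = -(a * ((jj⁻¹ : SL23) : MM)) → a = 0) := by
  decide +kernel

theorem one_ne_zero_MM : (1 : MM) ≠ 0 := by decide +kernel

theorem no_neg (i : Fin 4) {q : SL23}
    (hq : ∀ a : MM, (a = -((q : MM) * a) → a = 0) ∧ (a = -(a * ((q⁻¹ : SL23) : MM)) → a = 0)) {g : V ≃ₗ[F] V}
    (h : ∀ v, g (kk i q v) = -(kk i q (g v))) : False := by
  have key : ∀ v : V, v ≠ 0 → kk i q v = v → False := by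
    intro v hv hkv
    have h1 := h v
    rw [hkv] at h1
    apply hv
    apply g.injective
    rw [map_zero]
    have hz : ∀ w : V, w = -(kk i q w) → w = 0 := by
      intro w hw
      fin_cases i
      · have h2 : w.1 = -((q : MM) * w.1) := by
          have := congrArg Prod.fst hw
          change w.1 = -(LL q w.1) at this
          rwa [LL_apply] at this
        have h3 : w.2 = -w.2 := congrArg Prod.snd hw
        exact Prod.ext ((hq _).1 h2) (ne_neg _ h3)
      · have h2 : w.1 = -(w.1 * ((q⁻¹ : SL23) : MM)) := by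
          have := congrArg Prod.fst hw
          change w.1 = -(RR q w.1) at this
          rwa [RR_apply] at this
        have h3 : w.2 = -w.2 := congrArg Prod.snd hw
        exact Prod.ext ((hq _).2 h2) (ne_neg _ h3)
      · have h2 : w.2 = -((q : MM) * w.2) := by
          have := congrArg Prod.snd hw
          change w.2 = -(LL q w.2) at this
          rwa [LL_apply] at this
        have h3 : w.1 = -w.1 := congrArg Prod.fst hw
        exact Prod.ext (ne_neg _ h3) ((hq _).1 h2)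
      · have h2 : w.2 = -(w.2 * ((q⁻¹ : SL23) : MM)) := by
          have := congrArg Prod.snd hw
          change w.2 = -(RR q w.2) at this
          rwa [RR_apply] at this
        have h3 : w.1 = -w.1 := congrArg Prod.fst hw
        exact Prod.ext (ne_neg _ h3) ((hq _).2 h2)
    exact hz _ h1
  have e1 : ((0, 1) : V) ≠ 0 := fun h => one_ne_zero_MM (congrArg Prod.snd h)
  have e2 : ((1, 0) : V) ≠ 0 := fun h => one_ne_zero_MM (congrArg Prod.fst h)
  fin_cases i
  · exact key (0, 1) e1 (Prod.ext (map_zero (LL q)) rfl)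
  · exact key (0, 1) e1 (Prod.ext (map_zero (RR q)) rfl)
  · exact key (1, 0) e2 (Prod.ext rfl (map_zero (LL q)))
  · exact key (1, 0) e2 (Prod.ext rfl (map_zero (RR q)))

theorem comm_of_pi (i : Fin 4) {q : SL23}
    (hq : ∀ a : MM, (a = -((q : MM) * a) → a = 0) ∧ (a = -(a * ((q⁻¹ : SL23) : MM)) → a = 0)) {y : ↥(Om Q)}
    (h : pi y * pi (ka i q) = pi (ka i q) * pi y) :
    (y : V ≃ₗ[F] V) * kk i q = kk i q * (y : V ≃ₗ[F] V) := by
  have h1 : pi (y * ka i q * y⁻¹ * (ka i q)⁻¹) = 1 := by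
    rw [map_mul, map_mul, map_mul, map_inv, map_inv, h]; group
  rcases (mem_center _).1 (pi_eq_one.1 h1) with h2 | h2
  · have h3 : y * ka i q = ka i q * y := by
      calc y * ka i q = (y * ka i q * y⁻¹ * (ka i q)⁻¹) * (ka i q * y) := by group
        _ = ka i q * y := by rw [h2, one_mul]
    exact congrArg Subtype.val h3
  · exfalso
    have h3 : y * ka i q = EightPair.ngO neg_Q * (ka i q * y) := by
      rw [← h2]; group
    exact no_neg i hq (g := (y : V ≃ₗ[F] V)) fun v => congrArg (fun k : ↥(Om Q) => (k : V ≃ₗ[F] V) v) h3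

set_option maxRecDepth 100000 in
theorem scalar3 : ∀ s : MM, (ii : MM) * s = s * (ii : MM) → (jj : MM) * s = s * (jj : MM) → s = 0 ∨ s = 1 ∨ s = -1 := by
  decide +kernel

theorem pm (f : MM ≃ₗ[F] MM) (hi : f * LL ii = LL ii * f) (hj : f * LL jj = LL jj * f)
    (hi' : f * RR ii = RR ii * f) (hj' : f * RR jj = RR jj * f) : f = 1 ∨ f = LinearEquiv.neg F := by
  have h1 := left_comm f hi hj
  have h2 := right_comm f hi' hj'
  have h4 : ∀ X : MM, X * f 1 = f 1 * X := fun X => by rw [← h1, ← h2]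
  rcases scalar3 (f 1) (h4 _) (h4 _) with h | h | h
  · exfalso
    apply one_ne_zero_MM
    apply f.injective
    rw [h, map_zero]
  · left
    ext1 X
    rw [h1, h, mul_one]; rfl
  · right
    ext1 X
    rw [h1, h, mul_neg, mul_one]; rfl

theorem ii_sq : ii * ii = -1 := by decide +kernel

theorem pi_ng : pi (EightPair.ngO neg_Q) = 1 := pi_eq_one.2 ((mem_center _).2 (Or.inr rfl))

theorem cen (g : ↥(Om Q) ⧸ center ↥(Om Q))
    (h : ∀ i : Fin 4, ∀ e ∈ (Q8.map (ka i)).map pi, g * e = e * g) : g = 1 ∨ g = pi z := by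
  obtain ⟨y, rfl⟩ := QuotientGroup.mk_surjective g
  change ∀ i : Fin 4, ∀ e ∈ (Q8.map (ka i)).map pi, pi y * e = e * pi y at h
  change pi y = 1 ∨ pi y = pi z
  have hI : ∀ i : Fin 4, (y : V ≃ₗ[F] V) * kk i ii = kk i ii * (y : V ≃ₗ[F] V) := fun i =>
    comm_of_pi i no_ii (h i _ ⟨_, ⟨ii, ii_mem, rfl⟩, rfl⟩)
  have hJ : ∀ i : Fin 4, (y : V ≃ₗ[F] V) * kk i jj = kk i jj * (y : V ≃ₗ[F] V) := fun i =>
    comm_of_pi i no_jj (h i _ ⟨_, ⟨jj, jj_mem, rfl⟩, rfl⟩)
  have hz0 : (y : V ≃ₗ[F] V) * z0 = z0 * y := by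
    have h1 : kk 0 ii * kk 0 ii = z0 := by
      rw [← map_mul, ii_sq]
      exact z_coe
    rw [← h1, ← mul_assoc, hI, mul_assoc, hI, mul_assoc]
  have e := eq_pr _ hz0
  set f := fstE _ hz0 with hf
  set f' := sndE _ hz0 with hf'
  have c1 : ∀ a : MM ≃ₗ[F] MM, (y : V ≃ₗ[F] V) * pr (a, 1) = pr (a, 1) * y → f * a = a * f := by
    intro a ha
    rw [e, ← map_mul, ← map_mul] at ha
    exact congrArg Prod.fst (pr_injective ha)
  have c2 : ∀ a : MM ≃ₗ[F] MM, (y : V ≃ₗ[F] V) * pr (1, a) = pr (1, a) * y → f' * a = a * f' := by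
    intro a ha
    rw [e, ← map_mul, ← map_mul] at ha
    exact congrArg Prod.snd (pr_injective ha)
  have p1 := pm f (c1 _ (hI 0)) (c1 _ (hJ 0)) (c1 _ (hI 1)) (c1 _ (hJ 1))
  have p2 := pm f' (c2 _ (hI 2)) (c2 _ (hJ 2)) (c2 _ (hI 3)) (c2 _ (hJ 3))
  rcases p1 with p1 | p1 <;> rcases p2 with p2 | p2
  · left
    have : y = 1 := Subtype.ext (by rw [e, p1, p2]; rfl)
    rw [this, map_one]
  · right
    have : y = EightPair.ngO neg_Q * z := by
      apply Subtype.ext
      rw [Subgroup.coe_mul, z_coe, e, p1, p2]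
      ext1 v
      show ((v.1, -v.2) : V) = -(z0 v)
      rw [z0_apply, Prod.neg_mk, neg_neg]
    rw [this, map_mul, pi_ng, one_mul]
  · right
    have : y = z := Subtype.ext (by rw [e, p1, p2, z_coe]; rfl)
    rw [this]
  · left
    have : y = EightPair.ngO neg_Q := by
      apply Subtype.ext
      rw [e, p1, p2]
      rfl
    rw [this, pi_ng]

/-! ### The classical pair -/

theorem pi_ka_injective : Function.Injective (pi.comp (ka 0)) := by
  rw [injective_iff_map_eq_one]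
  intro a ha
  rcases (mem_center _).1 (pi_eq_one.1 ha) with h | h
  · exact kk_injective 0 (by rw [map_one]; exact congrArg Subtype.val h)
  · exfalso
    have h1 : k1 a ((0, 1) : V) = -((0, 1) : V) := congrArg (fun k : ↥(Om Q) => (k : V ≃ₗ[F] V) (0, 1)) h
    have h2 : (1 : MM) = -1 := congrArg Prod.snd h1
    exact absurd h2 (by decide +kernel)

theorem neg_one_ne : (-1 : SL23) ≠ 1 := by decide +kernel

theorem cl : Cl (pi z) ((ka 0).range.map pi) := by
  have hr : (pi.comp (ka 0)).range = (ka 0).range.map pi := MonoidHom.range_comp _ _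
  refine ⟨⟨?_, ?_, ?_⟩, sn_pi (sn_range 0)⟩
  · rw [← hr]
    exact ⟨(MonoidHom.ofInjective pi_ka_injective).symm⟩
  · have h1 : pi z = (pi.comp (ka 0)) (-1) := rfl
    refine orderOf_eq_prime ?_ ?_
    · rw [h1, ← map_pow, pow_two, neg_mul_neg, one_mul, map_one]
    · rw [h1]
      intro h2
      exact neg_one_ne (pi_ka_injective (by rw [h2, map_one]))
  · exact ⟨z, ⟨-1, rfl⟩, rfl⟩

/-! ### Transfer -/

/-- the sheet -/
def Sh (X : Type*) [Group X] : Prop :=
  ∃ (x : X) (J : Subgroup X) (E : Fin 4 → Subgroup X), Cl x J ∧ (∀ k, Sn (E k) (centralizer ({x} : Set X))) ∧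
    (∀ k, IsPGroup 2 (E k)) ∧ ∀ g, (∀ k, ∀ e ∈ E k, g * e = e * g) → g = 1 ∨ g = x

theorem sh_model : Sh (↥(Om Q) ⧸ center ↥(Om Q)) := by
  refine ⟨pi z, _, fun i => (Q8.map (ka i)).map pi, cl, fun i => sn_pi (sn_Q8 i), fun i => ?_, cen⟩
  have h : IsPGroup 2 Q8 := fun q => ⟨2, Subtype.ext (Q8_pow q.2)⟩
  exact (h.map _).map _

theorem Sh.of_equiv {X Y : Type*} [Group X] [Group Y] (e : X ≃* Y) (h : Sh X) : Sh Y := by
  obtain ⟨x, J, E, h1, h2, h3, h4⟩ := h
  refine ⟨e x, J.map e.toMonoidHom, fun k => (E k).map e.toMonoidHom, h1.mapE e, fun k => ?_, fun k => (h3 k).map _,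
    fun g hg => ?_⟩
  · rw [← cent_mapE]
    exact (h2 k).map _
  · rcases h4 (e.symm g) (fun k a ha => by
      have h5 := hg k (e a) ⟨a, ha, rfl⟩
      apply e.injective
      rw [map_mul, map_mul, e.apply_symm_apply]
      exact h5) with h5 | h5
    · left
      rw [← e.apply_symm_apply g, h5, map_one]
    · right
      rw [← e.apply_symm_apply g, h5]

theorem sh {X : Type*} [Group X] (h : XO8p X) : Sh X := by
  obtain ⟨K, i, i', hK, ⟨e⟩⟩ := h
  obtain ⟨e1⟩ := Cfsg.Agent.S1082.result (F := K)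
  obtain ⟨e2⟩ := Cfsg.Agent.S1082.result (F := F)
  obtain ⟨e3⟩ := Models.om8p card_F nondeg_Q finrank_V neg_Q
  have hcard : Fintype.card K = Fintype.card F := by rw [hK]; rfl
  let φ : K ≃+* F := FiniteField.ringEquivOfCardEq hcard
  let e4 := ChevalleyStructure.FieldIso.groupEquiv Lie.chevD4 φ
  exact sh_model.of_equiv ((((e.trans e1.symm).trans e4).trans e2).trans e3.symm).symm

universe u

/-- **`NoFix` for `PΩ₈⁺(3)`** -/
theorem o8p (hT : Cit.TStmt.{u}) (X : Type u) [Group X] [Finite X] (h : XO8p X) : StepOne.NoFix X := by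
  obtain ⟨x, J, E, h1, h2, h3, h4⟩ := sh h
  have hs : IsSimpleGroup X := by
    obtain ⟨K, _, _, hK, ⟨e⟩⟩ := h
    have h5 : IsSimpleGroup (POmega K (quadFormPlus 4 K)) := S0296.result 4 le_rfl
    have : Nontrivial X := e.toEquiv.nontrivial
    exact IsSimpleGroup.isSimpleGroup_of_surjective e.symm.toMonoidHom e.symm.surjective
  have hna : ¬ IsMulCommutative X := by
    intro hc
    obtain ⟨i, j, d, hl⟩ := h1.pr.sl
    have h6 := hl.q.ji
    have h7 : j * i = i * j := hc.is_comm.comm j i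
    have h8 : x = 1 := by
      have h9 : x * (i * j) = 1 * (i * j) := by
        rw [one_mul, ← h6, h7]
      exact mul_right_cancel h9
    exact h1.pr.t3.z_ne h8
  exact NoFixOf.noFix_of hT hna h1 E h2 h3 h4

end Cfsg.Agent.OddHalf.NI3.Bad.O8pSheet

end

-- merged: Cfsg.Agent.OddHalf.NI3.Bad.OutRows
section

/-!
# NI over `F₃`, THEOREM NIB, step (1): the K-facts `OutRows`

`rows` : all fields of `OutRows` but `o8p`; `outRows` : `TStmt → OutRows`.
-/

set_option autoImplicit false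
set_option linter.style.haveILetI false

namespace Cfsg.Agent.OddHalf.NI3.Bad.OutRowsOf

open Subgroup Cfsg Cfsg.Agent.OddHalf.LieOddFam Cfsg.Agent.OddHalf.NI3.Bad.StepOneG
open Cfsg.Agent.Omega.Lie.OutT (OutNil)

universe u

theorem u43 {X : Type u} [Group X] (h : XU43 X) : OutNil X := by
  obtain ⟨F, _, _, hF, ⟨e⟩⟩ := h
  exact (OutPow.outNil_PSU_nine hF (by norm_num)).of_equiv e.symm

theorem small {X : Type u} [Group X] (h : Small3 X) (h' : ¬ XO8p X) : OutNil X := by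
  rcases small3_iff.1 h with h | h | h | h | h | h | h | h | h
  · obtain ⟨F, _, _, hF, ⟨e⟩⟩ := h
    exact (OutPow.outNil_PSL_three hF (by norm_num)).of_equiv e.symm
  · obtain ⟨F, _, _, hF, ⟨e⟩⟩ := h
    exact (OutPow.outNil_PSU_nine hF le_rfl).of_equiv e.symm
  · obtain ⟨F, _, _, hF, ⟨e⟩⟩ := h
    exact (OutPow.outNil_PSL_three hF (by norm_num)).of_equiv e.symm
  · exact u43 h
  · obtain ⟨F, _, _, hF, ⟨e⟩⟩ := h
    exact (OutPow.outNil_PSp_three hF le_rfl).of_equiv e.symm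
  · obtain ⟨F, _, _, hF, ⟨e⟩⟩ := h
    exact (OutThree.outNil_G2 hF).of_equiv e.symm
  · obtain ⟨F, _, _, hF, ⟨e⟩⟩ := h
    exact (OutPow.outNil_odd_three hF le_rfl).of_equiv e.symm
  · exact absurd h h'
  · obtain ⟨F, _, _, b, c, hF, hbc, ⟨e⟩⟩ := h
    exact (OutPow.outNil_minus_three hF le_rfl b c hbc).of_equiv e.symm

/-- **The K-facts of step (1)**, except `PΩ₈⁺(3)`. -/
theorem rows (o8p : ∀ (X : Type u) [Group X] [Finite X], XO8p X → StepOne.NoFix X) : OutRows.{u} where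
  l2 := fun F _ _ _ _ => OutPow.outNil_PSL_two F
  ree := fun X _ _ _ h => Omega.Lie.OutT.outNil_ree h
  alt := fun n _ hn => OutPow.outNil_alt hn
  l34 := fun F _ _ h4 => by
    have hc : CharP F 2 := by
      have h1 : (2 : F) * 2 = 0 := by
        have h2 : (Fintype.card F : F) = 0 := Nat.cast_card_eq_zero F
        rw [h4] at h2
        calc (2 : F) * 2 = ((4 : ℕ) : F) := by norm_num
          _ = 0 := h2
      have h2 : (2 : F) = 0 := by
        rcases mul_eq_zero.1 h1 with h | h <;> exact h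
      obtain ⟨p, hp⟩ := CharP.exists F
      have h3 : p ∣ 2 := (CharP.cast_eq_zero_iff F p 2).1 (by exact_mod_cast h2)
      have h5 : p.Prime := CharP.char_is_prime F p
      rwa [(Nat.prime_dvd_prime_iff_eq h5 Nat.prime_two).1 h3] at hp
    exact Omega.Lie.OutT.outNil_PSL (by norm_num)
  he := fun X _ _ h => OutPow.outNil_he h
  small := fun X _ _ h h' => small h h'
  u43 := fun X _ _ h => u43 h
  o8p := o8p

/-- **The K-facts of step (1)** -/
theorem outRows (hT : Cit.TStmt.{u}) : OutRows.{u} := rows fun X _ _ h => O8pSheet.o8p hT X h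

end Cfsg.Agent.OddHalf.NI3.Bad.OutRowsOf

end
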