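import Cfsg.Agent.OddHalf.NI3.Sn
import Cfsg.Agent.Cit.SLThreeComm
import Cfsg.Agent.Lib.ProductSet
import Cfsg.Agent.OddHalf.NI3.Bad.Basic
import Cfsg.Agent.OddHalf.NI3.SubSL
import Cfsg.Agent.OddHalf.NI3.LemP
import Cfsg.Agent.Lib.ThompsonPQ
import Cfsg.Agent.OddHalf.NI3.TC
import Cfsg.Agent.OddHalf.NI3.Bad.StepThree

-- merged: Cfsg.Agent.OddHalf.NI3.Bad.Inner
section

/-!
# THEOREM NIB, K-free tools: 2-groups `S` with `[S, v] ≤ Q` (helper598)

`J = Q⟨v⟩ ≅ SL₂(3)` in coordinates (`Cit.SLThree.Sl J z i j v`, `Q = ⟨i, j⟩`), `S` a 2-group containing `Q`,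
`Br S i j v` : `[S, v] ≤ Q`.

* `Br.comm_iff` : `C_S(v) = C_S(Q)`; `Br.decomp` : `S = Q C_S(Q)`; `Br.inner` : `S` acts on `Q` by inner automorphisms;
* `Br.comm_mem` : `[g, v] ∈ S` implies `[g, v] ∈ Q`;
* `br_of_sn` : `J` subnormal in `C ≥ S` implies `Br S`.
-/

set_option autoImplicit false
set_option linter.unusedSimpArgs false

namespace Cfsg.Agent.OddHalf.NI3.Bad

open Subgroup Cfsg Cfsg.Agent.Cit Cfsg.Agent.Cit.SLThree

variable {H : Type*} [Group H]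

/-- `[S, v] ≤ ⟨i, j⟩` -/
def Br (S : Subgroup H) (i j v : H) : Prop := ∀ s ∈ S, v * s * v⁻¹ * s⁻¹ ∈ closure ({i, j} : Set H)

section Elem

variable {J : Subgroup H} {z i j v : H}

/-- if a power `v ^ 2 ^ n` of an element of order 3 commutes with `x`, so does `v` -/
theorem comm_of_two_pow {v x : H} (hv : v * v * v = 1) {n : ℕ} (h : v ^ 2 ^ n * x = x * v ^ 2 ^ n) :
    v * x = x * v := by
  have h3 : v ^ 3 = 1 := by rw [pow_succ, pow_two]; exact hv
  have h4 : ∃ k : ℕ, v = (v ^ 2 ^ n) ^ k := by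
    have hc : Nat.Coprime (2 ^ n) 3 := Nat.Coprime.pow_left n (by norm_num)
    obtain ⟨k, hk⟩ := Nat.exists_mul_mod_eq_one_of_coprime hc (by norm_num)
    refine ⟨k, ?_⟩
    rw [← pow_mul]
    have h5 : 2 ^ n * k = 3 * (2 ^ n * k / 3) + 1 := by
      have := Nat.div_add_mod (2 ^ n * k) 3
      omega
    rw [h5, pow_succ, pow_mul, h3, one_pow, one_mul]
  obtain ⟨k, hk⟩ := h4
  rw [hk]
  have : Commute (v ^ 2 ^ n) x := h
  exact (this.pow_left k)

/-- an element of 2-power order which commutes with `v` and normalises `Q` centralises `Q` -/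
theorem comm_i_of_comm_v (h : Sl J z i j v) {c : H} {n : ℕ} (hn : c ^ 2 ^ n = 1) (hc : v * c = c * v)
    (hcc : v * (c * i * c⁻¹) * v⁻¹ * (c * i * c⁻¹)⁻¹ ∈ closure ({i, j} : Set H)) : c * i = i * c := by
  have hcv : v * c * v⁻¹ = c := by rw [hc]; group
  have hvc : c * v * c⁻¹ = v := by rw [← hc]; group
  have hvc' : c * v⁻¹ * c⁻¹ = v⁻¹ := by
    have : c * v⁻¹ * c⁻¹ = (c * v * c⁻¹)⁻¹ := by group
    rw [this, hvc]
  have tr : ∀ y, c * (v * y * v⁻¹) * c⁻¹ = v * (c * y * c⁻¹) * v⁻¹ := by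
    intro y
    calc c * (v * y * v⁻¹) * c⁻¹ = (c * v * c⁻¹) * (c * y * c⁻¹) * (c * v⁻¹ * c⁻¹) := by group
      _ = v * (c * y * c⁻¹) * v⁻¹ := by rw [hvc, hvc']
  have e1 : v * (c * i * c⁻¹) * v⁻¹ * (c * i * c⁻¹)⁻¹ = c * (i * j) * c⁻¹ := by
    rw [← tr, h.di]
    have h2 : j * i⁻¹ = i * j := by
      rw [h.q.i_inv]
      simp only [mul_assoc, one_mul, mul_one, h.q.z2, h.q.zz, h.q.iz, h.q.jz, h.q.izx, h.q.jzx, h.q.i2, h.q.j2, h.q.iix,
        h.q.jjx, h.q.ji, h.q.jix]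
    calc c * j * c⁻¹ * (c * i * c⁻¹)⁻¹ = c * (j * i⁻¹) * c⁻¹ := by group
      _ = c * (i * j) * c⁻¹ := by rw [h2]
  rw [e1] at hcc
  have hx : c * i * c⁻¹ ∈ closure ({i, j} : Set H) := by
    have h1 := h.conj_mem hcc
    rw [← tr, h.dij] at h1
    exact h1
  have ej : c * j * c⁻¹ = v * (c * i * c⁻¹) * v⁻¹ := by rw [← tr, h.di]
  have ek : c * (i * j) * c⁻¹ = v * (v * (c * i * c⁻¹) * v⁻¹) * v⁻¹ := by rw [← ej, ← tr, h.dj]
  have rel : (c * i * c⁻¹) * (v * (c * i * c⁻¹) * v⁻¹) = v * (v * (c * i * c⁻¹) * v⁻¹) * v⁻¹ := by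
    rw [← ek, ← ej]; group
  have dz : v * z * v⁻¹ = z := by rw [h.dz]; group
  have dzx : ∀ w, v * (z * w) * v⁻¹ = z * (v * w * v⁻¹) := fun w => by
    rw [← mul_assoc, h.dz]; group
  have h3 : v ^ 3 = 1 := by rw [pow_succ, pow_two]; exact h.d3
  -- an element `u = v ^ e c` commuting with `i` is impossible
  have kill : ∀ e : ℤ, (e = 1 ∨ e = -1) → v ^ e * c * i = i * (v ^ e * c) → c * i = i * c := by
    intro e he hu
    exfalso
    have hcm : Commute v c := hc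
    have h5 : Commute (v ^ e * c) i := hu
    have h6 := h5.pow_left (2 ^ n)
    have h7 : (v ^ e * c) ^ 2 ^ n = (v ^ e) ^ 2 ^ n := by
      rw [(hcm.zpow_left e).mul_pow, hn, mul_one]
    rw [h7] at h6
    have h8 : v ^ e * i = i * v ^ e := by
      refine comm_of_two_pow (n := n) ?_ h6
      rw [← pow_two, ← pow_succ, ← zpow_natCast, ← zpow_mul, mul_comm, zpow_mul, zpow_natCast, h3, one_zpow]
    have h9 : v * i = i * v := by
      rcases he with rfl | rfl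
      · rwa [zpow_one] at h8
      · rw [zpow_neg_one] at h8
        calc v * i = v * (i * v⁻¹) * v := by group
          _ = v * (v⁻¹ * i) * v := by rw [h8]
          _ = i * v := by group
    have h10 : j = i := by rw [← h.di, h9]; group
    exact h.q.not_comm (by rw [h10])
  have hz1 := h.q.z1
  have nz : ∀ w : H, w ≠ z * w := fun w hw => hz1 (mul_right_cancel (b := w) (by rw [one_mul]; exact hw.symm))
  rcases h.q.mem_cases hx with hx | hx | hx | hx | hx | hx | hx | hx <;> rw [hx] at rel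
  · exfalso
    apply h.q.i_ne
    have : i = c⁻¹ * (c * i * c⁻¹) * c := by group
    rw [this, hx]; group
  · exfalso
    rw [dz, dz, h.q.z2] at rel
    exact hz1 rel.symm
  · exact mul_inv_eq_iff_eq_mul.1 hx
  · exfalso
    rw [dzx, h.di, dzx, h.dj] at rel
    refine nz (i * j) ?_
    rw [← rel]
    simp only [mul_assoc, one_mul, mul_one, h.q.z2, h.q.zz, h.q.iz, h.q.jz, h.q.izx, h.q.jzx, h.q.i2, h.q.j2, h.q.iix,
        h.q.jjx, h.q.ji, h.q.jix]
  · refine kill (-1) (Or.inr rfl) ?_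
    rw [zpow_neg_one]
    have h5 : c * i = j * c := mul_inv_eq_iff_eq_mul.1 hx
    calc v⁻¹ * c * i = v⁻¹ * (j * c) := by rw [mul_assoc, h5]
      _ = v⁻¹ * (v * i * v⁻¹) * c := by rw [h.di]; group
      _ = i * (v⁻¹ * c) := by group
  · exfalso
    rw [dzx, h.dj, dzx, h.dij] at rel
    refine nz i ?_
    rw [← rel]
    simp only [mul_assoc, one_mul, mul_one, h.q.z2, h.q.zz, h.q.iz, h.q.jz, h.q.izx, h.q.jzx, h.q.i2, h.q.j2, h.q.iix,
        h.q.jjx, h.q.ji, h.q.jix]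
  · refine kill 1 (Or.inl rfl) ?_
    rw [zpow_one]
    have h5 : c * i = i * j * c := mul_inv_eq_iff_eq_mul.1 hx
    calc v * c * i = v * (i * j * c) := by rw [mul_assoc, h5]
      _ = (v * (i * j) * v⁻¹) * (v * c) := by group
      _ = i * (v * c) := by rw [h.dij]
  · exfalso
    rw [dzx, h.dij, dzx, h.di] at rel
    refine nz j ?_
    rw [← rel]
    simp only [mul_assoc, one_mul, mul_one, h.q.z2, h.q.zz, h.q.iz, h.q.jz, h.q.izx, h.q.jzx, h.q.i2, h.q.j2, h.q.iix,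
        h.q.jjx, h.q.ji, h.q.jix]

/-- `x ∈ Q` with `N(x) = 1` is a commutator `(v q v⁻¹) q⁻¹` -/
theorem exists_comm (h : Sl J z i j v) {x : H} (hx : x ∈ closure ({i, j} : Set H))
    (hN : (v * (v * x * v⁻¹) * v⁻¹) * (v * x * v⁻¹) * x = 1) :
    ∃ q ∈ closure ({i, j} : Set H), x = (v * q * v⁻¹) * q⁻¹ := by
  have dz : v * z * v⁻¹ = z := by rw [h.dz]; group
  have dzx : ∀ w, v * (z * w) * v⁻¹ = z * (v * w * v⁻¹) := fun w => by
    rw [← mul_assoc, h.dz]; group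
  have hz1 := h.q.z1
  rcases h.q.mem_cases hx with rfl | rfl | rfl | rfl | rfl | rfl | rfl | rfl
  · exact ⟨1, one_mem _, by group⟩
  · exfalso
    rw [dz, dz, h.q.z2, one_mul] at hN
    exact hz1 hN
  · refine ⟨j, Qt.mem_j z _ _, ?_⟩
    rw [h.dj]; group
  · exfalso
    rw [dzx, h.di, dzx, h.dj] at hN
    simp only [mul_assoc, one_mul, mul_one, h.q.z2, h.q.zz, h.q.iz, h.q.jz, h.q.izx, h.q.jzx, h.q.i2, h.q.j2, h.q.iix,
        h.q.jjx, h.q.ji, h.q.jix] at hN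
    exact hz1 hN
  · refine ⟨i * x, mul_mem (Qt.mem_i z _ _) (Qt.mem_j z _ _), ?_⟩
    rw [h.dij]
    simp only [mul_inv_rev, h.q.i_inv, h.q.j_inv, mul_assoc, one_mul, mul_one, h.q.z2, h.q.zz, h.q.iz, h.q.jz, h.q.izx,
      h.q.jzx, h.q.i2, h.q.j2, h.q.iix, h.q.jjx, h.q.ji, h.q.jix]
  · exfalso
    rw [dzx, h.dj, dzx, h.dij] at hN
    simp only [mul_assoc, one_mul, mul_one, h.q.z2, h.q.zz, h.q.iz, h.q.jz, h.q.izx, h.q.jzx, h.q.i2, h.q.j2, h.q.iix,
        h.q.jjx, h.q.ji, h.q.jix] at hN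
    exact hz1 hN
  · refine ⟨i, Qt.mem_i z _ _, ?_⟩
    rw [h.di]
    simp only [mul_inv_rev, h.q.i_inv, h.q.j_inv, mul_assoc, one_mul, mul_one, h.q.z2, h.q.zz, h.q.iz, h.q.jz, h.q.izx,
      h.q.jzx, h.q.i2, h.q.j2, h.q.iix, h.q.jjx, h.q.ji, h.q.jix]
  · exfalso
    rw [dzx, h.dij, dzx, h.di] at hN
    simp only [mul_assoc, one_mul, mul_one, h.q.z2, h.q.zz, h.q.iz, h.q.jz, h.q.izx, h.q.jzx, h.q.i2, h.q.j2, h.q.iix,
        h.q.jjx, h.q.ji, h.q.jix] at hN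
    exact hz1 hN

/-- conjugation by elements of `Q` on `Q` -/
theorem q_conj (h : Qt z i j) {q w : H} (hq : q ∈ closure ({i, j} : Set H)) (hw : w ∈ closure ({i, j} : Set H)) :
    q * w * q⁻¹ = w ∨ q * w * q⁻¹ = z * w := by
  rcases h.mem_cases hq with rfl | rfl | rfl | rfl | rfl | rfl | rfl | rfl <;>
  rcases h.mem_cases hw with rfl | rfl | rfl | rfl | rfl | rfl | rfl | rfl <;>
  simp only [mul_inv_rev, h.z_inv, h.i_inv, h.j_inv, inv_one,
    mul_assoc, one_mul, mul_one, h.z2, h.zz, h.iz, h.jz, h.izx, h.jzx, h.i2, h.j2,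
    h.iix, h.jjx, h.ji, h.jix, true_or, or_true]

end Elem

/-! ### `[S, v] ≤ Q` -/

section Br

variable {J : Subgroup H} {z i j v : H} (h : Sl J z i j v) {S : Subgroup H}

include h

/-- one element: `g = q c` with `c` commuting with `v` -/
theorem exists_mul_of_mem {g : H} (hg : v * g * v⁻¹ * g⁻¹ ∈ closure ({i, j} : Set H)) :
    ∃ q ∈ closure ({i, j} : Set H), ∃ c, g = q * c ∧ v * c = c * v := by
  have h3 : v * v * v = 1 := h.d3
  obtain ⟨q, hq, hx⟩ := exists_comm h hg (by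
    calc (v * (v * (v * g * v⁻¹ * g⁻¹) * v⁻¹) * v⁻¹) * (v * (v * g * v⁻¹ * g⁻¹) * v⁻¹) * (v * g * v⁻¹ * g⁻¹)
        = (v * v * v) * g * (v * v * v)⁻¹ * g⁻¹ := by group
      _ = 1 := by rw [h3]; group)
  refine ⟨q, hq, q⁻¹ * g, by group, ?_⟩
  have h4 : v * g * v⁻¹ = v * q * v⁻¹ * q⁻¹ * g := by rw [← hx]; group
  calc v * (q⁻¹ * g) = (v * q⁻¹ * v⁻¹) * (v * g * v⁻¹) * v := by group
    _ = (v * q⁻¹ * v⁻¹) * (v * q * v⁻¹ * q⁻¹ * g) * v := by rw [h4]
    _ = q⁻¹ * g * v := by group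

/-- `C_S(v) = C_S(Q)` -/
theorem comm_of_comm_v (hS : IsPGroup 2 S) (hQ : closure ({i, j} : Set H) ≤ S) (hB : Br S i j v) {c : H} (hc : c ∈ S)
    (hv : v * c = c * v) : ∀ q ∈ closure ({i, j} : Set H), c * q = q * c := by
  obtain ⟨n, hn⟩ := hS ⟨c, hc⟩
  have hn' : c ^ 2 ^ n = 1 := by simpa using congrArg Subtype.val hn
  have hi : c * i = i * c := comm_i_of_comm_v h hn' hv
    (hB _ (mul_mem (mul_mem hc (hQ (Qt.mem_i z i j))) (inv_mem hc)))
  have hj : c * j = j * c := by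
    rw [← h.di]
    calc c * (v * i * v⁻¹) = (c * v) * i * v⁻¹ := by group
      _ = (v * c) * i * v⁻¹ := by rw [hv]
      _ = v * (c * i) * v⁻¹ := by group
      _ = v * i * (c * v⁻¹) := by rw [hi]; group
      _ = v * i * (v⁻¹ * (v * c) * v⁻¹) := by group
      _ = v * i * (v⁻¹ * (c * v) * v⁻¹) := by rw [hv]
      _ = v * i * v⁻¹ * c := by group
  intro q hq
  have h1 : closure ({i, j} : Set H) ≤ centralizer {c} := by
    rw [closure_le]
    rintro x (rfl | rfl)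
    · exact mem_centralizer_singleton_iff.2 hi.symm
    · exact mem_centralizer_singleton_iff.2 hj.symm
  exact (mem_centralizer_singleton_iff.1 (h1 hq)).symm

theorem comm_v_of_comm (hB : Br S i j v) {c : H} (hc : c ∈ S)
    (hcQ : ∀ q ∈ closure ({i, j} : Set H), c * q = q * c) : v * c = c * v := by
  have hx := hB c hc
  set x := v * c * v⁻¹ * c⁻¹ with hxd
  have h1 : ∀ q ∈ closure ({i, j} : Set H), x * q = q * x := by
    intro q hq
    have hq' : v⁻¹ * q * v ∈ closure ({i, j} : Set H) := by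
      have := h.conj_mem (h.conj_mem hq)
      have e : v * (v * q * v⁻¹) * v⁻¹ = v⁻¹ * q * v := by
        have h4 : v * v = v⁻¹ := h.d_inv.symm
        have h5 : v⁻¹ * v⁻¹ = v := by rw [← mul_inv_rev, h4, inv_inv]
        calc v * (v * q * v⁻¹) * v⁻¹ = (v * v) * q * (v⁻¹ * v⁻¹) := by group
          _ = v⁻¹ * q * v := by rw [h4, h5]
      rwa [e] at this
    have e1 : (v * c * v⁻¹) * q = q * (v * c * v⁻¹) := by
      calc (v * c * v⁻¹) * q = v * (c * (v⁻¹ * q * v)) * v⁻¹ := by group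
        _ = v * ((v⁻¹ * q * v) * c) * v⁻¹ := by rw [hcQ _ hq']
        _ = q * (v * c * v⁻¹) := by group
    have e2 : c⁻¹ * q = q * c⁻¹ := by
      calc c⁻¹ * q = c⁻¹ * (q * c) * c⁻¹ := by group
        _ = c⁻¹ * (c * q) * c⁻¹ := by rw [hcQ q hq]
        _ = q * c⁻¹ := by group
    calc x * q = (v * c * v⁻¹) * (c⁻¹ * q) := by rw [hxd]; group
      _ = (v * c * v⁻¹) * q * c⁻¹ := by rw [e2]; group
      _ = q * x := by rw [e1, hxd]; group
  rcases h.q.central hx (h1 i (Qt.mem_i z i j)) (h1 j (Qt.mem_j z i j)) with h2 | h2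
  · exact mul_inv_eq_iff_eq_mul.1 (mul_inv_eq_one.1 h2)
  · exfalso
    have h4 : v * c * v⁻¹ = z * c := by
      rw [← h2, hxd]; group
    have dz : v * z * v⁻¹ = z := by rw [h.dz]; group
    have h5 : c = z * c := by
      have h3 : v * v * v = 1 := h.d3
      calc c = (v * v * v) * c * (v * v * v)⁻¹ := by rw [h3]; group
        _ = v * (v * (v * c * v⁻¹) * v⁻¹) * v⁻¹ := by group
        _ = v * (v * (z * c) * v⁻¹) * v⁻¹ := by rw [h4]
        _ = v * ((v * z * v⁻¹) * (v * c * v⁻¹)) * v⁻¹ := by group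
        _ = v * (z * (z * c)) * v⁻¹ := by rw [dz, h4]
        _ = v * c * v⁻¹ := by rw [h.q.zz]
        _ = z * c := h4
    exact h.q.z1 (mul_right_cancel (b := c) (by rw [one_mul]; exact h5.symm))

theorem comm_iff (hS : IsPGroup 2 S) (hQ : closure ({i, j} : Set H) ≤ S) (hB : Br S i j v) {c : H} (hc : c ∈ S) :
    v * c = c * v ↔ ∀ q ∈ closure ({i, j} : Set H), c * q = q * c :=
  ⟨comm_of_comm_v h hS hQ hB hc, comm_v_of_comm h hB hc⟩

/-- `S = Q C_S(Q)` -/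
theorem decomp (hS : IsPGroup 2 S) (hQ : closure ({i, j} : Set H) ≤ S) (hB : Br S i j v) {s : H} (hs : s ∈ S) :
    ∃ q ∈ closure ({i, j} : Set H), ∃ c ∈ S, s = q * c ∧ v * c = c * v ∧
      ∀ q ∈ closure ({i, j} : Set H), c * q = q * c := by
  obtain ⟨q, hq, c, hsc, hvc⟩ := exists_mul_of_mem h (hB s hs)
  have hc : c ∈ S := by
    have : c = q⁻¹ * s := by rw [hsc]; group
    rw [this]; exact mul_mem (inv_mem (hQ hq)) hs
  exact ⟨q, hq, c, hc, hsc, hvc, comm_of_comm_v h hS hQ hB hc hvc⟩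

/-- `S` acts on `Q` by inner automorphisms -/
theorem inner (hS : IsPGroup 2 S) (hQ : closure ({i, j} : Set H) ≤ S) (hB : Br S i j v) {s : H} (hs : s ∈ S)
    {q : H} (hq : q ∈ closure ({i, j} : Set H)) : s * q * s⁻¹ = q ∨ s * q * s⁻¹ = z * q := by
  obtain ⟨r, hr, c, -, rfl, -, hc⟩ := decomp h hS hQ hB hs
  have e : r * c * q * (r * c)⁻¹ = r * q * r⁻¹ := by
    calc r * c * q * (r * c)⁻¹ = r * (c * q) * c⁻¹ * r⁻¹ := by group
      _ = r * q * r⁻¹ := by rw [hc q hq]; group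
  rw [e]
  exact q_conj h.q hr hq

/-- `[g, v] ∈ S` implies `[g, v] ∈ Q` -/
theorem comm_mem (hS : IsPGroup 2 S) (hQ : closure ({i, j} : Set H) ≤ S) (hB : Br S i j v) {g : H}
    (hg : v * g * v⁻¹ * g⁻¹ ∈ S) : v * g * v⁻¹ * g⁻¹ ∈ closure ({i, j} : Set H) := by
  obtain ⟨q, hq, c, hc, hy, hvc, hcQ⟩ := decomp h hS hQ hB hg
  have h3 : v * v * v = 1 := h.d3
  have hN : (v * (v * (v * g * v⁻¹ * g⁻¹) * v⁻¹) * v⁻¹) * (v * (v * g * v⁻¹ * g⁻¹) * v⁻¹) * (v * g * v⁻¹ * g⁻¹) = 1 := by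
    calc (v * (v * (v * g * v⁻¹ * g⁻¹) * v⁻¹) * v⁻¹) * (v * (v * g * v⁻¹ * g⁻¹) * v⁻¹) * (v * g * v⁻¹ * g⁻¹)
        = (v * v * v) * g * (v * v * v)⁻¹ * g⁻¹ := by group
      _ = 1 := by rw [h3]; group
  rw [hy] at hN ⊢
  have hvc' : v * c * v⁻¹ = c := by rw [hvc]; group
  have e1 : v * (q * c) * v⁻¹ = (v * q * v⁻¹) * c := by
    calc v * (q * c) * v⁻¹ = (v * q * v⁻¹) * (v * c * v⁻¹) := by group
      _ = (v * q * v⁻¹) * c := by rw [hvc']
  have e2 : v * ((v * q * v⁻¹) * c) * v⁻¹ = (v * (v * q * v⁻¹) * v⁻¹) * c := by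
    calc v * ((v * q * v⁻¹) * c) * v⁻¹ = (v * (v * q * v⁻¹) * v⁻¹) * (v * c * v⁻¹) := by group
      _ = (v * (v * q * v⁻¹) * v⁻¹) * c := by rw [hvc']
  rw [e1, e2] at hN
  have hq1 := h.conj_mem hq
  have hq2 := h.conj_mem hq1
  have e3 : (v * (v * q * v⁻¹) * v⁻¹) * c * ((v * q * v⁻¹) * c) * (q * c) =
      (v * (v * q * v⁻¹) * v⁻¹) * (v * q * v⁻¹) * q * (c * c * c) := by
    calc (v * (v * q * v⁻¹) * v⁻¹) * c * ((v * q * v⁻¹) * c) * (q * c)
        = (v * (v * q * v⁻¹) * v⁻¹) * (c * (v * q * v⁻¹)) * (c * q) * c := by group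
      _ = (v * (v * q * v⁻¹) * v⁻¹) * ((v * q * v⁻¹) * c) * (q * c) * c := by rw [hcQ _ hq1, hcQ q hq]
      _ = (v * (v * q * v⁻¹) * v⁻¹) * (v * q * v⁻¹) * (c * q) * c * c := by group
      _ = (v * (v * q * v⁻¹) * v⁻¹) * (v * q * v⁻¹) * (q * c) * c * c := by rw [hcQ q hq]
      _ = (v * (v * q * v⁻¹) * v⁻¹) * (v * q * v⁻¹) * q * (c * c * c) := by group
  rw [e3] at hN
  have h4 : c * c * c ∈ closure ({i, j} : Set H) := by
    have : c * c * c = ((v * (v * q * v⁻¹) * v⁻¹) * (v * q * v⁻¹) * q)⁻¹ := by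
      rw [eq_comm, inv_eq_iff_mul_eq_one]; exact hN
    rw [this]
    exact inv_mem (mul_mem (mul_mem hq2 hq1) hq)
  have h5 : c ∈ closure ({i, j} : Set H) := by
    obtain ⟨n, hn⟩ := hS ⟨c, hc⟩
    have hn' : c ^ 2 ^ n = 1 := by simpa using congrArg Subtype.val hn
    have hcop : Nat.Coprime 3 (2 ^ n) := Nat.Coprime.pow_right n (by norm_num)
    rcases Nat.eq_zero_or_pos n with rfl | hn0
    · rw [pow_zero, pow_one] at hn'
      rw [hn']; exact one_mem _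
    · obtain ⟨k, hk⟩ := Nat.exists_mul_mod_eq_one_of_coprime hcop (Nat.one_lt_two_pow hn0.ne')
      have h6 : 3 * k = 2 ^ n * (3 * k / 2 ^ n) + 1 := by
        have := Nat.div_add_mod (3 * k) (2 ^ n)
        omega
      have h7 : c = (c * c * c) ^ k := by
        have : c * c * c = c ^ 3 := by rw [pow_succ, pow_two]
        rw [this, ← pow_mul, h6, pow_succ, pow_mul, hn', one_pow, one_mul]
      rw [h7]
      exact pow_mem h4 k
  exact mul_mem hq h5

omit h in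
theorem Br.mono {i j v : H} {S S' : Subgroup H} (hB : Br S i j v) (h : S' ≤ S) : Br S' i j v := fun s hs => hB s (h hs)

omit h in
theorem Br.cj {i j v : H} {S : Subgroup H} (hB : Br S i j v) {m : H} (hm : Cit.cj m S = S) :
    Br S (m * i * m⁻¹) (m * j * m⁻¹) (m * v * m⁻¹) := by
  intro s hs
  rw [← hm] at hs
  obtain ⟨t, ht, rfl⟩ := hs
  have h1 := hB t ht
  have e : m * v * m⁻¹ * (m * t * m⁻¹) * (m * v * m⁻¹)⁻¹ * (m * t * m⁻¹)⁻¹ = m * (v * t * v⁻¹ * t⁻¹) * m⁻¹ := by group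
  change m * v * m⁻¹ * (m * t * m⁻¹) * (m * v * m⁻¹)⁻¹ * (m * t * m⁻¹)⁻¹ ∈ _
  rw [e]
  have h2 : closure ({i, j} : Set H) ≤ (closure ({m * i * m⁻¹, m * j * m⁻¹} : Set H)).comap (MulAut.conj m).toMonoidHom := by
    rw [closure_le]
    rintro x (rfl | rfl)
    · exact subset_closure (by simp)
    · exact subset_closure (by simp)
  exact h2 h1

end Br

/-- `J` subnormal in `C ≥ S` : `[S, v] ≤ Q` -/
theorem br_of_sn [Finite H] {J C S : Subgroup H} {z i j v : H} (h : Sl J z i j v) (hs : Sn J C) (hSC : S ≤ C)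
    (hS : IsPGroup 2 S) (hn : J ≤ normalizer (S : Set H)) (hQ : closure ({i, j} : Set H) ≤ S) : Br S i j v := by
  intro s hs'
  have h1 : Sn J (J ⊔ S) := hs.restrict (sup_le hs.1 hSC) le_sup_left
  have h2 : s * v⁻¹ * s⁻¹ ∈ J := by
    refine mem_of_sup h1 hS hn ?_ ?_
    · exact mul_mem (mul_mem (mem_sup_right hs') (mem_sup_left (inv_mem h.hd))) (inv_mem (mem_sup_right hs'))
    · have h4 : orderOf (s * v⁻¹ * s⁻¹) = orderOf v⁻¹ := by
        have := orderOf_injective (MulAut.conj s).toMonoidHom (MulAut.conj s).injective v⁻¹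
        simpa using this
      rw [h4, orderOf_inv]
      exact odd_of_cube h.d3
  have e : v * s * v⁻¹ * s⁻¹ = v * (s * v⁻¹ * s⁻¹) := by group
  refine h.mem_Q ?_ hS hQ ?_
  · rw [e]; exact mul_mem h.hd h2
  · have h5 : v * s * v⁻¹ ∈ S := (mem_normalizer_iff.1 (hn h.hd) s).1 hs'
    exact mul_mem h5 (inv_mem hs')

end Cfsg.Agent.OddHalf.NI3.Bad

end

-- merged: Cfsg.Agent.OddHalf.NI3.Bad.Pair
section

/-!
# THEOREM NIB, K-free tools: the pair lemma (helper598)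

`pair` : `S` a normal 2-subgroup of the finite group `H`, `J = Q⟨v⟩`, `J' = Q'⟨v'⟩ ≅ SL₂(3)` with the same involution,
`Q, Q' ≤ S`, `[S, v] ≤ Q`, `[S, v'] ≤ Q'`, `J` subnormal in `H`. Then `Q = Q'` or `v'` centralises `Q`.
-/

set_option autoImplicit false
set_option linter.unusedSimpArgs false

namespace Cfsg.Agent.OddHalf.NI3.Bad

open Subgroup Cfsg Cfsg.Agent.Cit Cfsg.Agent.Cit.SLThree
open scoped Pointwise

variable {H : Type*} [Group H]

/-- `v x v⁻¹ = z x` is impossible -/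
theorem ne_z_mul {J : Subgroup H} {z i j v : H} (h : Sl J z i j v) {x : H} (hx : v * x * v⁻¹ = z * x) : False := by
  have dz : v * z * v⁻¹ = z := by rw [h.dz]; group
  have h3 : v * v * v = 1 := h.d3
  have h5 : x = z * x := by
    calc x = (v * v * v) * x * (v * v * v)⁻¹ := by rw [h3]; group
      _ = v * (v * (v * x * v⁻¹) * v⁻¹) * v⁻¹ := by group
      _ = v * (v * (z * x) * v⁻¹) * v⁻¹ := by rw [hx]
      _ = v * ((v * z * v⁻¹) * (v * x * v⁻¹)) * v⁻¹ := by group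
      _ = v * (z * (z * x)) * v⁻¹ := by rw [dz, hx]
      _ = v * x * v⁻¹ := by rw [h.q.zz]
      _ = z * x := hx
  exact h.q.z1 (mul_right_cancel (b := x) (by rw [one_mul]; exact h5.symm))

/-- `S` normalises `Q` -/
theorem le_normalizer_Q {J S : Subgroup H} {z i j v : H} (h : Sl J z i j v) (hS : IsPGroup 2 S)
    (hQ : closure ({i, j} : Set H) ≤ S) (hB : Br S i j v) : S ≤ normalizer (closure ({i, j} : Set H) : Set H) := by
  have key : ∀ s ∈ S, ∀ q ∈ closure ({i, j} : Set H), s * q * s⁻¹ ∈ closure ({i, j} : Set H) := by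
    intro s hs q hq
    rcases inner h hS hQ hB hs hq with h1 | h1
    · rw [h1]; exact hq
    · rw [h1]; exact mul_mem h.q.mem_z hq
  intro s hs
  rw [mem_normalizer_iff]
  intro q
  refine ⟨fun hq => key s hs q hq, fun hq => ?_⟩
  have h1 := key s⁻¹ (inv_mem hs) _ hq
  have e : s⁻¹ * (s * q * s⁻¹) * s⁻¹⁻¹ = q := by group
  rwa [e] at h1

theorem v_mem_normalizer_Q {J : Subgroup H} {z i j v : H} (h : Sl J z i j v) :
    v ∈ normalizer (closure ({i, j} : Set H) : Set H) := by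
  rw [mem_normalizer_iff]
  intro q
  refine ⟨fun hq => h.conj_mem hq, fun hq => ?_⟩
  have h1 := h.conj_mem (h.conj_mem hq)
  have h4 : v * v = v⁻¹ := h.d_inv.symm
  have h3 : v * v * v = 1 := h.d3
  have e : v * (v * (v * q * v⁻¹) * v⁻¹) * v⁻¹ = q := by
    calc v * (v * (v * q * v⁻¹) * v⁻¹) * v⁻¹ = (v * v * v) * q * (v * v * v)⁻¹ := by group
      _ = q := by rw [h3]; group
  rwa [e] at h1

/-- a subgroup of order eight normalised by `J`, contained in `S` -/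
theorem eq_or_comm [Finite H] {J S : Subgroup H} {z i j v : H} (h : Sl J z i j v) (hB : Br S i j v)
    {R : Subgroup H} (hR : R ≤ S) (hn : J ≤ normalizer (R : Set H)) (hc : Nat.card R = 8) :
    closure ({i, j} : Set H) = R ∨ ∀ x ∈ R, v * x = x * v := by
  by_cases hall : ∀ x ∈ R, v * x * v⁻¹ * x⁻¹ = 1 ∨ v * x * v⁻¹ * x⁻¹ = z
  · right
    intro x hx
    rcases hall x hx with h1 | h1
    · exact mul_inv_eq_iff_eq_mul.1 (mul_inv_eq_one.1 h1)
    · exact (ne_z_mul h (mul_inv_eq_iff_eq_mul.1 h1)).elim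
  · left
    push Not at hall
    obtain ⟨x, hx, h1, h2⟩ := hall
    have h3 := hB x (hR hx)
    have h4 : v * x * v⁻¹ * x⁻¹ ∈ R := mul_mem ((mem_normalizer_iff.1 (hn h.hd) x).1 hx) (inv_mem hx)
    refine eq_of_le_of_card_ge (h.normal_gen hn h4 (h.Qle h3) h1 h2) ?_
    rw [hc, h.q.card]

theorem mem_cj_iff_normalizer {Q : Subgroup H} {v k : H} :
    v ∈ normalizer ((Cit.cj k Q : Subgroup H) : Set H) ↔ k⁻¹ * v * k ∈ normalizer (Q : Set H) := by
  rw [mem_normalizer_iff_cj, mem_normalizer_iff_cj]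
  constructor
  · intro h
    rw [cj_mul, cj_mul, h, cj_inv_cj]
  · intro h
    have h1 := congrArg (Cit.cj k) h
    rw [← cj_mul] at h1
    have e : k * (k⁻¹ * v * k) = v * k := by group
    rw [e, cj_mul] at h1
    exact h1

theorem cj_eq_iff {Q : Subgroup H} {k l : H} :
    Cit.cj k Q = Cit.cj l Q ↔ k⁻¹ * l ∈ normalizer (Q : Set H) := by
  rw [mem_normalizer_iff_cj, cj_mul]
  constructor
  · intro h
    rw [← h, cj_inv_cj]
  · intro h
    have h1 := congrArg (Cit.cj k) h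
    rw [cj_cj_inv] at h1
    exact h1.symm

section Main

variable [Finite H] {S : Subgroup H} [hSn : S.Normal] (hS : IsPGroup 2 S) {J J' : Subgroup H}
  {z i j v i' j' v' : H} (h : Sl J z i j v) (h' : Sl J' z i' j' v') (hQ : closure ({i, j} : Set H) ≤ S)
  (hQ' : closure ({i', j'} : Set H) ≤ S) (hB : Br S i j v) (hB' : Br S i' j' v') (hJ : J.IsSubnormal)

include hS h h' hQ hQ' hB hB'

omit hSn hB' in
/-- the order of `C_{QQ'}(v)` -/
theorem card_cent_le : Nat.card ((closure ({i, j} : Set H) ⊔ closure ({i', j'} : Set H)) ⊓ centralizer {v} :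
    Subgroup H) ≤ 8 := by
  set Q := closure ({i, j} : Set H) with hQd
  set Q' := closure ({i', j'} : Set H) with hQd'
  set C := (Q ⊔ Q') ⊓ centralizer {v} with hC
  have hES : Q ⊔ Q' ≤ S := sup_le hQ hQ'
  have hn : Q' ≤ normalizer (Q : Set H) := hQ'.trans (le_normalizer_Q h hS hQ hB)
  -- `|QQ'| ≤ 32`
  have e1 : Nat.card (Q ⊔ Q' : Subgroup H) * Nat.card (Q ⊓ Q' : Subgroup H) = 64 := by
    have h1 := Lib.ProductSet.card_mul_card_inf Q' Q
    rw [← Subgroup.coe_mul_of_left_le_normalizer_right Q' Q hn, h.q.card, h'.q.card] at h1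
    rw [sup_comm, inf_comm]
    exact h1
  have e2 : 2 ≤ Nat.card (Q ⊓ Q' : Subgroup H) := by
    have h1 : orderOf z = 2 := orderOf_eq_prime (by rw [pow_two]; exact h.q.z2) h.q.z1
    rw [← h1, ← Nat.card_zpowers]
    refine Nat.card_le_card_of_injective (inclusion ?_) (inclusion_injective _)
    rw [zpowers_le]
    exact ⟨h.q.mem_z, h'.q.mem_z⟩
  -- `QQ' = Q C`
  have e3 : ((Q : Set H) * (C : Set H)) = ((Q ⊔ Q' : Subgroup H) : Set H) := by
    ext x
    constructor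
    · rintro ⟨q, hq, c, hc, rfl⟩
      exact mul_mem (mem_sup_left hq) (show c ∈ Q ⊔ Q' from hc.1)
    · intro hx
      obtain ⟨q, hq, c, -, rfl, hv, -⟩ := decomp h hS hQ hB (hES hx)
      refine ⟨q, hq, c, ⟨?_, mem_centralizer_singleton_iff.2 hv.symm⟩, rfl⟩
      exact ((Q ⊔ Q').mul_mem_cancel_left (mem_sup_left hq)).1 hx
  have e4 := Lib.ProductSet.card_mul_card_inf Q C
  rw [e3] at e4
  have e5 : Nat.card (Q ⊓ C : Subgroup H) = 2 := by
    have h1 : orderOf z = 2 := orderOf_eq_prime (by rw [pow_two]; exact h.q.z2) h.q.z1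
    rw [← h1, ← Nat.card_zpowers]
    congr 1
    have : Q ⊓ C = zpowers z := by
      apply le_antisymm
      · rintro x ⟨hx, hx'⟩
        have h2 := comm_of_comm_v h hS hQ hB (hQ hx) (mem_centralizer_singleton_iff.1 hx'.2).symm
        rcases h.q.central hx (h2 i (Qt.mem_i z i j)) (h2 j (Qt.mem_j z i j)) with rfl | rfl
        · exact one_mem _
        · exact mem_zpowers _
      · rw [zpowers_le]
        exact ⟨h.q.mem_z, mem_sup_left h.q.mem_z, mem_centralizer_singleton_iff.2 h.dz.symm⟩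
    rw [this]
  have e6 : Nat.card ((Q ⊔ Q' : Subgroup H) : Set H) = Nat.card (Q ⊔ Q' : Subgroup H) := rfl
  rw [e6, e5, h.q.card] at e4
  have e7 : Nat.card (Q ⊔ Q' : Subgroup H) ≤ 32 := by
    have : Nat.card (Q ⊔ Q' : Subgroup H) * 2 ≤ 64 := by
      rw [← e1]; exact Nat.mul_le_mul_left _ e2
    omega
  omega

include hJ

/-- **The pair lemma.** -/
theorem pair : closure ({i, j} : Set H) = closure ({i', j'} : Set H) ∨
    ∀ q ∈ closure ({i, j} : Set H), v' * q = q * v' := by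
  have hcardC := card_cent_le hS h h' hQ hQ' hB
  set Q := closure ({i, j} : Set H) with hQd
  set Q' := closure ({i', j'} : Set H) with hQd'
  set C := (Q ⊔ Q') ⊓ centralizer {v} with hC
  have hSQ : S ≤ normalizer (Q : Set H) := le_normalizer_Q h hS hQ hB
  have hSQ' : S ≤ normalizer (Q' : Set H) := le_normalizer_Q h' hS hQ' hB'
  have hiS : i ∈ S := hQ (Qt.mem_i z i j)
  have hiS' : i' ∈ S := hQ' (Qt.mem_i z i' j')
  set K := closure ({v, v'} : Set H) ⊔ S with hK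
  have hvK : v ∈ K := mem_sup_left (subset_closure (by simp))
  have hvK' : v' ∈ K := mem_sup_left (subset_closure (by simp))
  -- `K` normalises `E = QQ'`
  have hKE : K ≤ normalizer ((Q ⊔ Q' : Subgroup H) : Set H) := by
    have hcube : ∀ u : H, u * u * u = 1 → (∀ x ∈ Q ⊔ Q', u * x * u⁻¹ ∈ Q ⊔ Q') →
        u ∈ normalizer ((Q ⊔ Q' : Subgroup H) : Set H) := by
      intro u hu hc
      rw [mem_normalizer_iff]
      intro x
      refine ⟨hc x, fun hx => ?_⟩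
      have h1 := hc _ (hc _ hx)
      have e : u * (u * (u * x * u⁻¹) * u⁻¹) * u⁻¹ = x := by
        calc u * (u * (u * x * u⁻¹) * u⁻¹) * u⁻¹ = (u * u * u) * x * (u * u * u)⁻¹ := by group
          _ = x := by rw [hu]; group
      rwa [e] at h1
    have hE : Q ⊔ Q' ≤ S := sup_le hQ hQ'
    refine sup_le ?_ ?_
    · rw [closure_le]
      rintro x (rfl | rfl)
      · refine hcube _ h.d3 fun y hy => ?_
        have e : x * y * x⁻¹ = (x * y * x⁻¹ * y⁻¹) * y := by group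
        rw [e]
        exact mul_mem (mem_sup_left (hB y (hE hy))) hy
      · refine hcube _ h'.d3 fun y hy => ?_
        have e : x * y * x⁻¹ = (x * y * x⁻¹ * y⁻¹) * y := by group
        rw [e]
        exact mul_mem (mem_sup_right (hB' y (hE hy))) hy
    · intro s hs
      rw [mem_normalizer_iff_cj]
      rw [show Cit.cj s (Q ⊔ Q') = Cit.cj s Q ⊔ Cit.cj s Q' from Subgroup.map_sup _ _ _,
        mem_normalizer_iff_cj.1 (hSQ hs), mem_normalizer_iff_cj.1 (hSQ' hs)]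
  -- `K / S` is a 3-group
  have hK3 : ∀ x ∈ K, ∃ n : ℕ, x ^ 3 ^ n ∈ S := by
    let π := QuotientGroup.mk' S
    have hπ : ∀ x, π x = 1 ↔ x ∈ S := fun x => by
      rw [QuotientGroup.mk'_apply, QuotientGroup.eq_one_iff]
    have p3 : ∀ u : H, u * u * u = 1 → IsPGroup 3 (zpowers (π u)) := by
      intro u hu
      rintro ⟨x, k, rfl⟩
      refine ⟨1, Subtype.ext ?_⟩
      change ((π u) ^ k) ^ 3 ^ 1 = 1
      rw [pow_one, ← zpow_natCast, ← zpow_mul, mul_comm, zpow_mul, zpow_natCast, pow_succ, pow_two, ← map_mul,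
        ← map_mul, hu, map_one, one_zpow]
    have hJm : J.map π ≤ zpowers (π v) := by
      rw [h.gen, MonoidHom.map_closure, closure_le]
      rintro _ ⟨x, (rfl | rfl), rfl⟩
      · rw [(hπ x).2 hiS]; exact one_mem _
      · exact mem_zpowers _
    have h1 : π v ∈ pCore 3 (H ⧸ S) := by
      have h2 : (J.map π).IsSubnormal := hJ.map (QuotientGroup.mk'_surjective S)
      exact SignalizersComponents.CompBasic.subnormal_pGroup_le_pCore h2 ((p3 v h.d3).to_le hJm) ⟨v, h.hd, rfl⟩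
    have hN : (pCore 3 (H ⧸ S)).Normal := Lib.Cores.pCore_normal 3
    have h3 : IsPGroup 3 (pCore 3 (H ⧸ S) ⊔ zpowers (π v') : Subgroup (H ⧸ S)) :=
      IsPGroup.to_sup_of_normal_left (Lib.Cores.pCore_isPGroup 3) (p3 v' h'.d3)
    have h4 : K ≤ (pCore 3 (H ⧸ S) ⊔ zpowers (π v')).comap π := by
      refine sup_le ?_ ?_
      · rw [closure_le]
        rintro x (rfl | rfl)
        · exact mem_sup_left h1
        · exact mem_sup_right (mem_zpowers _)
      · intro x hx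
        rw [mem_comap, (hπ x).2 hx]
        exact one_mem _
    intro x hx
    obtain ⟨n, hn⟩ := h3 ⟨π x, h4 hx⟩
    refine ⟨n, (hπ _).1 ?_⟩
    rw [map_pow]
    exact congrArg Subtype.val hn
  -- the index of the normaliser of `Q`
  set N' := (normalizer (Q : Set H)).subgroupOf K with hN'
  obtain ⟨e, he⟩ : ∃ e : ℕ, N'.index ∣ 3 ^ e := by
    have h1 : IsPGroup 3 (K ⧸ S.subgroupOf K) := by
      intro x
      induction x using QuotientGroup.induction_on with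
      | H x =>
        obtain ⟨n, hn⟩ := hK3 x x.2
        refine ⟨n, ?_⟩
        rw [← QuotientGroup.mk_pow, QuotientGroup.eq_one_iff, mem_subgroupOf]
        exact hn
    have : Fact (Nat.Prime 3) := ⟨Nat.prime_three⟩
    obtain ⟨e, he⟩ := IsPGroup.iff_card.1 h1
    refine ⟨e, ?_⟩
    rw [← he]
    have h2 : (S.subgroupOf K).index = Nat.card (K ⧸ S.subgroupOf K) := rfl
    rw [← h2]
    exact index_dvd_of_le fun x hx => hSQ hx
  -- the conjugates of `Q` normalised by `v`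
  have key : ∀ k ∈ K, v ∈ normalizer ((Cit.cj k Q : Subgroup H) : Set H) → Cit.cj k Q = Q ∨ Cit.cj k Q = C := by
    intro k hk hv
    have hkS : ∀ s ∈ S, s ∈ normalizer ((Cit.cj k Q : Subgroup H) : Set H) := by
      intro s hs
      rw [mem_cj_iff_normalizer]
      apply hSQ
      have := hSn.conj_mem s hs k⁻¹
      rwa [inv_inv] at this
    have hle : Cit.cj k Q ≤ S := by
      rintro _ ⟨x, hx, rfl⟩
      exact hSn.conj_mem x (hQ hx) k
    have hJn : J ≤ normalizer ((Cit.cj k Q : Subgroup H) : Set H) := by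
      rw [h.gen, closure_le]
      rintro x (rfl | rfl)
      · exact hkS _ hiS
      · exact hv
    have hcard : Nat.card (Cit.cj k Q : Subgroup H) = 8 := by
      rw [← h.q.card]
      exact Nat.card_congr (equivMapOfInjective _ _ (MulAut.conj k).injective).toEquiv.symm
    rcases eq_or_comm h hB hle hJn hcard with h1 | h1
    · exact Or.inl h1.symm
    · right
      refine eq_of_le_of_card_ge ?_ (by rw [hcard]; exact hcardC)
      intro x hx
      refine ⟨?_, mem_centralizer_singleton_iff.2 (h1 x hx).symm⟩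
      obtain ⟨y, hy, rfl⟩ := hx
      exact (mem_normalizer_iff.1 (hKE hk) y).1 (mem_sup_left hy)
  by_cases hidx : N'.index = 1
  · have h1 : v' ∈ normalizer (Q : Set H) := by
      have h2 : N' = ⊤ := index_eq_one.1 hidx
      have h3 : (⟨v', hvK'⟩ : K) ∈ N' := by rw [h2]; exact mem_top _
      exact h3
    have hJn : J' ≤ normalizer (Q : Set H) := by
      rw [h'.gen, closure_le]
      rintro x (rfl | rfl)
      · exact hSQ hiS'
      · exact h1
    rcases eq_or_comm h' hB' hQ hJn h.q.card with h2 | h2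
    · exact Or.inl h2.symm
    · exact Or.inr h2
  · exfalso
    have hp3 : Nat.Prime 3 := Nat.prime_three
    have : Fact (Nat.Prime 3) := ⟨hp3⟩
    have h3 : 3 ∣ N'.index := by
      obtain ⟨f, -, hf⟩ := (Nat.dvd_prime_pow hp3).1 he
      rw [hf] at hidx ⊢
      exact dvd_pow_self 3 (fun h0 => hidx (by rw [h0, pow_zero]))
    -- fixed points of `v` on `K / N'`
    let R : Subgroup K := zpowers (⟨v, hvK⟩ : K)
    have hR : IsPGroup 3 R := by
      rintro ⟨x, k, rfl⟩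
      refine ⟨1, Subtype.ext (Subtype.ext ?_)⟩
      change (v ^ k) ^ 3 ^ 1 = 1
      rw [pow_one, ← zpow_natCast, ← zpow_mul, mul_comm, zpow_mul, zpow_natCast, pow_succ, pow_two, h.d3, one_zpow]
    have hfin : Finite (K ⧸ N') := inferInstance
    have hmod := hR.card_modEq_card_fixedPoints (K ⧸ N')
    have hfix : ∀ k : K, ((k : K) : K ⧸ N') ∈ MulAction.fixedPoints R (K ⧸ N') →
        v ∈ normalizer ((Cit.cj (k : H) Q : Subgroup H) : Set H) := by
      intro k hk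
      have h4 := hk ⟨⟨v, hvK⟩, mem_zpowers _⟩
      change ((((⟨v, hvK⟩ : K) * k : K) : K ⧸ N')) = (k : K ⧸ N') at h4
      rw [eq_comm, QuotientGroup.eq] at h4
      rw [mem_cj_iff_normalizer]
      have h5 : (k : H)⁻¹ * (v * k) ∈ normalizer (Q : Set H) := h4
      rwa [← mul_assoc] at h5
    have hone : ((1 : K) : K ⧸ N') ∈ MulAction.fixedPoints R (K ⧸ N') := by
      rintro ⟨x, k, rfl⟩
      change ((((⟨v, hvK⟩ : K) ^ k * 1 : K) : K ⧸ N')) = ((1 : K) : K ⧸ N')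
      rw [mul_one, eq_comm, QuotientGroup.eq, inv_one, one_mul]
      exact zpow_mem (show (⟨v, hvK⟩ : K) ∈ N' from v_mem_normalizer_Q h) k
    have h4 : 3 ∣ Nat.card (MulAction.fixedPoints R (K ⧸ N')) := by
      have h5 : Nat.card (K ⧸ N') = N'.index := rfl
      rw [h5] at hmod
      exact (Nat.modEq_zero_iff_dvd.1 (hmod.symm.trans (Nat.modEq_zero_iff_dvd.2 h3)))
    have h5 : 0 < Nat.card (MulAction.fixedPoints R (K ⧸ N')) :=
      Nat.card_pos_iff.2 ⟨⟨⟨_, hone⟩⟩, inferInstance⟩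
    have h6 : 2 < Nat.card (MulAction.fixedPoints R (K ⧸ N')) := by
      have := Nat.le_of_dvd h5 h4
      omega
    have : Fintype (MulAction.fixedPoints R (K ⧸ N')) := Fintype.ofFinite _
    rw [Nat.card_eq_fintype_card] at h6
    obtain ⟨⟨a, ha⟩, ⟨b, hb⟩, ⟨c, hc⟩, hab, hac, hbc⟩ := Fintype.two_lt_card_iff.1 h6
    obtain ⟨a, rfl⟩ := QuotientGroup.mk_surjective a
    obtain ⟨b, rfl⟩ := QuotientGroup.mk_surjective b
    obtain ⟨c, rfl⟩ := QuotientGroup.mk_surjective c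
    have inj : ∀ k l : K, (k : K ⧸ N') ≠ (l : K ⧸ N') → Cit.cj (k : H) Q ≠ Cit.cj (l : H) Q := by
      intro k l hkl h7
      apply hkl
      rw [QuotientGroup.eq]
      exact cj_eq_iff.1 h7
    have iab := inj a b (fun h7 => hab (Subtype.ext h7))
    have iac := inj a c (fun h7 => hac (Subtype.ext h7))
    have ibc := inj b c (fun h7 => hbc (Subtype.ext h7))
    rcases key a a.2 (hfix a ha) with h7 | h7 <;> rcases key b b.2 (hfix b hb) with h8 | h8 <;>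
    rcases key c c.2 (hfix c hc) with h9 | h9
    · exact iab (h7.trans h8.symm)
    · exact iab (h7.trans h8.symm)
    · exact iac (h7.trans h9.symm)
    · exact ibc (h8.trans h9.symm)
    · exact ibc (h8.trans h9.symm)
    · exact iac (h7.trans h9.symm)
    · exact iab (h7.trans h8.symm)
    · exact iab (h7.trans h8.symm)

end Main

end Cfsg.Agent.OddHalf.NI3.Bad

end

-- merged: Cfsg.Agent.OddHalf.NI3.Bad.FourT
section

/-!
# THEOREM NIB, step (3d) (b), K-free (helper598; bb ODD #14136)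

`H` a finite group, `P` a normal 2-subgroup, `J₁, J₂` commuting subgroups `SL₂(3)` with involution `z ∈ Z(H)`, subnormal
in `C(w)`, `J₃, J₄` commuting subgroups `SL₂(3)` with involution `z₃`, subnormal in `C(w')`, `Q_i = O₂(J_i) ≤ P`,
`w' ∈ Q₁Q₂`, `w ∈ Q₃Q₄` noncentral involutions.

* `Half` : one half of the configuration; `Half.br`, `Half.br_norm`;
* `exists_g`, `le_normalizer` : `Y₁ = C_P(w') ≤ N(X₁)`, `X₁ = C_P(w)`;
* `caseB` : if `z₃ ≠ z` then `J₁` is subnormal in `H`.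
-/

set_option autoImplicit false
set_option linter.unusedSimpArgs false

namespace Cfsg.Agent.OddHalf.NI3.Bad

open Subgroup Cfsg Cfsg.Agent.Cit Cfsg.Agent.Cit.SLThree

variable {H : Type*} [Group H]

/-- a proper subgroup of a finite 2-group is properly contained in its normaliser -/
theorem exists_normalizer [Finite H] {P T : Subgroup H} (hP : IsPGroup 2 P) (hT : T ≤ P) (hne : T ≠ P) :
    ∃ x ∈ P, x ∈ normalizer (T : Set H) ∧ x ∉ T := by
  have : Fact (Nat.Prime 2) := ⟨Nat.prime_two⟩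
  have : Group.IsNilpotent P := hP.isNilpotent
  have hlt : T.subgroupOf P < ⊤ := by
    rw [lt_top_iff_ne_top, Ne, subgroupOf_eq_top]
    exact fun h => hne (le_antisymm hT h)
  obtain ⟨x, hx1, hx2⟩ := SetLike.exists_of_lt (Group.normalizerCondition_of_isNilpotent (G := P) _ hlt)
  refine ⟨x, x.2, ?_, fun h => hx2 (mem_subgroupOf.2 h)⟩
  rw [mem_normalizer_iff] at hx1 ⊢
  intro y
  constructor
  · intro hy
    exact mem_subgroupOf.1 ((hx1 ⟨y, hT hy⟩).1 (mem_subgroupOf.2 hy))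
  · intro hy
    have hyT : y ∈ P := by
      have h3 := P.mul_mem (P.mul_mem (P.inv_mem x.2) (hT hy)) x.2
      have h4 : (x : H)⁻¹ * (x * y * (x : H)⁻¹) * x = y := by group
      rwa [h4] at h3
    exact mem_subgroupOf.1 ((hx1 ⟨y, hyT⟩).2 (mem_subgroupOf.2 hy))

/-- one half of the configuration -/
structure Half (P : Subgroup H) (z w : H) (J₁ J₂ : Subgroup H) (i₁ j₁ v₁ i₂ j₂ v₂ : H) : Prop where
  h1 : Sl J₁ z i₁ j₁ v₁
  h2 : Sl J₂ z i₂ j₂ v₂
  cm : ∀ x ∈ J₁, ∀ y ∈ J₂, x * y = y * x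
  sn1 : Sn J₁ (centralizer ({w} : Set H))
  sn2 : Sn J₂ (centralizer ({w} : Set H))
  q1 : closure ({i₁, j₁} : Set H) ≤ P
  q2 : closure ({i₂, j₂} : Set H) ≤ P

namespace Half

variable {P : Subgroup H} {z w : H} {J₁ J₂ : Subgroup H} {i₁ j₁ v₁ i₂ j₂ v₂ : H}
  (D : Half P z w J₁ J₂ i₁ j₁ v₁ i₂ j₂ v₂)

include D

theorem symm : Half P z w J₂ J₁ i₂ j₂ v₂ i₁ j₁ v₁ where
  h1 := D.h2
  h2 := D.h1
  cm x hx y hy := (D.cm y hy x hx).symm
  sn1 := D.sn2
  sn2 := D.sn1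
  q1 := D.q2
  q2 := D.q1

theorem q1_le : closure ({i₁, j₁} : Set H) ≤ P ⊓ centralizer ({w} : Set H) :=
  le_inf D.q1 (D.h1.Qle.trans D.sn1.1)

theorem q2_le : closure ({i₂, j₂} : Set H) ≤ P ⊓ centralizer ({w} : Set H) := D.symm.q1_le

/-- `[C_P(w), v₁] ≤ Q₁` -/
theorem br [Finite H] [hPn : P.Normal] (hP : IsPGroup 2 P) : Br (P ⊓ centralizer ({w} : Set H)) i₁ j₁ v₁ := by
  refine br_of_sn D.h1 D.sn1 inf_le_right (hP.to_le inf_le_left) ?_ D.q1_le
  intro x hx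
  rw [mem_normalizer_iff]
  intro y
  have hxw := D.sn1.1 hx
  constructor
  · rintro ⟨h1, h2⟩
    exact mem_inf.2 ⟨hPn.conj_mem y h1 x, mul_mem (mul_mem hxw h2) (inv_mem hxw)⟩
  · rintro ⟨h1, h2⟩
    have e : x⁻¹ * (x * y * x⁻¹) * x⁻¹⁻¹ = y := by group
    refine ⟨?_, ?_⟩
    · have := hPn.conj_mem _ h1 x⁻¹
      rwa [e] at this
    · have := mul_mem (mul_mem (inv_mem hxw) h2) (inv_mem (inv_mem hxw))
      rwa [e] at this

/-- `[N_P(C_P(w)), v₁] ≤ Q₁` -/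
theorem br_norm [Finite H] [hPn : P.Normal] (hP : IsPGroup 2 P) (hw : w ∈ P) :
    Br (P ⊓ normalizer ((P ⊓ centralizer ({w} : Set H) : Subgroup H) : Set H)) i₁ j₁ v₁ := by
  have hB := D.br hP
  have hX : IsPGroup 2 (P ⊓ centralizer ({w} : Set H) : Subgroup H) := hP.to_le inf_le_left
  intro g hg
  refine comm_mem D.h1 hX D.q1_le hB ⟨?_, ?_⟩
  · exact P.mul_mem (hPn.conj_mem g hg.1 v₁) (P.inv_mem hg.1)
  · -- `w'' = g⁻¹ w g` is central in `C_P(w)`
    have hwX : w ∈ P ⊓ centralizer ({w} : Set H) := ⟨hw, mem_centralizer_singleton_iff.2 rfl⟩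
    have hn : ∀ y, y ∈ P ⊓ centralizer ({w} : Set H) → g * y * g⁻¹ ∈ P ⊓ centralizer ({w} : Set H) :=
      fun y hy => (mem_normalizer_iff.1 hg.2 y).1 hy
    have hn' : ∀ y, y ∈ P ⊓ centralizer ({w} : Set H) → g⁻¹ * y * g ∈ P ⊓ centralizer ({w} : Set H) := by
      intro y hy
      refine (mem_normalizer_iff.1 hg.2 _).2 ?_
      have e : g * (g⁻¹ * y * g) * g⁻¹ = y := by group
      rw [e]; exact hy
    have hc : ∀ q ∈ closure ({i₁, j₁} : Set H), (g⁻¹ * w * g) * q = q * (g⁻¹ * w * g) := by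
      intro q hq
      have h1 := mem_centralizer_singleton_iff.1 (hn q (D.q1_le hq)).2
      calc (g⁻¹ * w * g) * q = g⁻¹ * (w * (g * q * g⁻¹)) * g := by group
        _ = g⁻¹ * ((g * q * g⁻¹) * w) * g := by rw [h1]
        _ = q * (g⁻¹ * w * g) := by group
    have hv := comm_v_of_comm D.h1 hB (hn' w hwX) hc
    have hvw : v₁ * w = w * v₁ := mem_centralizer_singleton_iff.1 (D.sn1.1 D.h1.hd)
    change _ ∈ centralizer ({w} : Set H)
    rw [mem_centralizer_singleton_iff]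
    have e1 : v₁⁻¹ * w = w * v₁⁻¹ := by
      calc v₁⁻¹ * w = v₁⁻¹ * (w * v₁) * v₁⁻¹ := by group
        _ = v₁⁻¹ * (v₁ * w) * v₁⁻¹ := by rw [hvw]
        _ = w * v₁⁻¹ := by group
    have e2 : v₁⁻¹ * (g⁻¹ * w * g) = (g⁻¹ * w * g) * v₁⁻¹ := by
      calc v₁⁻¹ * (g⁻¹ * w * g) = v₁⁻¹ * ((g⁻¹ * w * g) * v₁) * v₁⁻¹ := by group
        _ = v₁⁻¹ * (v₁ * (g⁻¹ * w * g)) * v₁⁻¹ := by rw [hv]
        _ = (g⁻¹ * w * g) * v₁⁻¹ := by group
    calc v₁ * g * v₁⁻¹ * g⁻¹ * w = v₁ * g * (v₁⁻¹ * (g⁻¹ * w * g)) * g⁻¹ := by group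
      _ = v₁ * g * ((g⁻¹ * w * g) * v₁⁻¹) * g⁻¹ := by rw [e2]
      _ = (v₁ * w) * g * v₁⁻¹ * g⁻¹ := by group
      _ = w * (v₁ * g * v₁⁻¹ * g⁻¹) := by rw [hvw]; group

/-- decomposition with respect to both quaternion groups -/
theorem decomp2 {S : Subgroup H} (hS : IsPGroup 2 S) (hQ1 : closure ({i₁, j₁} : Set H) ≤ S)
    (hQ2 : closure ({i₂, j₂} : Set H) ≤ S) (hB1 : Br S i₁ j₁ v₁) (hB2 : Br S i₂ j₂ v₂) {s : H} (hs : s ∈ S) :
    ∃ q₁ ∈ closure ({i₁, j₁} : Set H), ∃ q₂ ∈ closure ({i₂, j₂} : Set H), ∃ c ∈ S, s = q₁ * q₂ * c ∧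
      (∀ q ∈ closure ({i₁, j₁} : Set H), c * q = q * c) ∧ (∀ q ∈ closure ({i₂, j₂} : Set H), c * q = q * c) := by
  obtain ⟨q₁, hq₁, c₁, hc₁, rfl, -, hcc₁⟩ := decomp D.h1 hS hQ1 hB1 hs
  obtain ⟨q₂, hq₂, c₂, hc₂, rfl, -, hcc₂⟩ := decomp D.h2 hS hQ2 hB2 hc₁
  refine ⟨q₁, hq₁, q₂, hq₂, c₂, hc₂, by group, ?_, hcc₂⟩
  intro q hq
  have h1 := hcc₁ q hq
  have h2 := D.cm q (D.h1.Qle hq) q₂ (D.h2.Qle hq₂)
  have h3 : c₂ * q = q₂⁻¹ * (q₂ * c₂ * q) := by group
  rw [h3, h1]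
  calc q₂⁻¹ * (q * (q₂ * c₂)) = q₂⁻¹ * (q * q₂) * c₂ := by group
    _ = q₂⁻¹ * (q₂ * q) * c₂ := by rw [h2]
    _ = q * c₂ := by group

/-- inner action on a product of elements of order four -/
theorem conj_w {S : Subgroup H} (hS : IsPGroup 2 S) (hQ1 : closure ({i₁, j₁} : Set H) ≤ S)
    (hQ2 : closure ({i₂, j₂} : Set H) ≤ S) (hB1 : Br S i₁ j₁ v₁) (hB2 : Br S i₂ j₂ v₂) {s a₁ a₂ : H} (hs : s ∈ S)
    (h₁ : a₁ ∈ closure ({i₁, j₁} : Set H)) (h₂ : a₂ ∈ closure ({i₂, j₂} : Set H)) :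
    s * (a₁ * a₂) * s⁻¹ = a₁ * a₂ ∨ s * (a₁ * a₂) * s⁻¹ = z * (a₁ * a₂) := by
  have e : s * (a₁ * a₂) * s⁻¹ = (s * a₁ * s⁻¹) * (s * a₂ * s⁻¹) := by group
  have e1 : a₁ * (z * a₂) = z * (a₁ * a₂) := by
    rw [← mul_assoc, D.h1.q.comm_z h₁, mul_assoc]
  rcases inner D.h1 hS hQ1 hB1 hs h₁ with h3 | h3 <;> rcases inner D.h2 hS hQ2 hB2 hs h₂ with h4 | h4 <;>
    rw [e, h3, h4]
  · exact Or.inl rfl
  · exact Or.inr e1
  · exact Or.inr (mul_assoc _ _ _)
  · left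
    rw [mul_assoc, e1, ← mul_assoc, D.h1.q.z2, one_mul]

end Half

section Two

variable [Finite H] {P : Subgroup H} [hPn : P.Normal] (hP : IsPGroup 2 P) {z z₃ w w' : H}
  {J₁ J₂ J₃ J₄ : Subgroup H} {i₁ j₁ v₁ i₂ j₂ v₂ i₃ j₃ v₃ i₄ j₄ v₄ : H}
  (D : Half P z w J₁ J₂ i₁ j₁ v₁ i₂ j₂ v₂) (D' : Half P z₃ w' J₃ J₄ i₃ j₃ v₃ i₄ j₄ v₄)
  {a₁ a₂ a₃ a₄ : H} (ha₁ : a₁ ∈ closure ({i₁, j₁} : Set H)) (ha₂ : a₂ ∈ closure ({i₂, j₂} : Set H))
  (ha₃ : a₃ ∈ closure ({i₃, j₃} : Set H)) (ha₄ : a₄ ∈ closure ({i₄, j₄} : Set H))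
  (s₁ : a₁ * a₁ = z) (s₃ : a₃ * a₃ = z₃) (hw' : w' = a₁ * a₂) (hw : w = a₃ * a₄)

include hP D D' ha₁ ha₂ ha₃ ha₄ s₃ hw hw'

/-- `C_P(w)` is not `P`, and there is an element of `N_P(C_P(w)) ⊓ C_P(w')` moving `w` to `z₃ w` -/
theorem exists_g : ∃ g ∈ P ⊓ centralizer ({w'} : Set H),
    g ∈ normalizer ((P ⊓ centralizer ({w} : Set H) : Subgroup H) : Set H) ∧ g * w * g⁻¹ = z₃ * w := by
  have hwP : w ∈ P := by rw [hw]; exact mul_mem (D'.q1 ha₃) (D'.q2 ha₄)
  set X := P ⊓ centralizer ({w} : Set H) with hX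
  set Y := P ⊓ centralizer ({w'} : Set H) with hY
  have hY2 : IsPGroup 2 Y := hP.to_le inf_le_left
  have hne : X ≠ P := by
    intro h0
    obtain ⟨y, hy, -, hya⟩ := D'.h1.q.exists_inv ha₃ s₃
    have h1 : y ∈ X := by rw [h0]; exact D'.q1 hy
    have h2 := mem_centralizer_singleton_iff.1 h1.2
    have h3 : y * a₄ = a₄ * y := D'.cm y (D'.h1.Qle hy) a₄ (D'.h2.Qle ha₄)
    rw [hw] at h2
    have h4 : z₃ * (a₃ * a₄ * y) = a₃ * a₄ * y := by
      calc z₃ * (a₃ * a₄ * y) = (z₃ * (a₃ * y)) * a₄ := by rw [mul_assoc, mul_assoc, ← h3]; group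
        _ = y * a₃ * a₄ := by rw [← hya]
        _ = y * (a₃ * a₄) := by group
        _ = a₃ * a₄ * y := h2
    exact D'.h1.q.z1 (mul_right_cancel (b := a₃ * a₄ * y) (by rw [one_mul]; exact h4))
  obtain ⟨g, hgP, hgn, hgX⟩ := exists_normalizer hP (inf_le_left : X ≤ P) hne
  have hN2 : IsPGroup 2 (P ⊓ normalizer (X : Set H) : Subgroup H) := hP.to_le inf_le_left
  have hXN : X ≤ P ⊓ normalizer (X : Set H) := le_inf inf_le_left le_normalizer
  obtain ⟨q₁, hq₁, q₂, hq₂, c, hc, rfl, hc1, hc2⟩ := D.decomp2 hN2 (D.q1_le.trans hXN) (D.q2_le.trans hXN)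
    (D.br_norm hP hwP) (D.symm.br_norm hP hwP) (⟨hgP, hgn⟩ : g ∈ P ⊓ normalizer (X : Set H))
  have hcX : c ∉ X := fun h0 => hgX (mul_mem (mul_mem (D.q1_le hq₁) (D.q2_le hq₂)) h0)
  have hcY : c ∈ Y := by
    refine ⟨hc.1, mem_centralizer_singleton_iff.2 ?_⟩
    rw [hw']
    calc c * (a₁ * a₂) = (c * a₁) * a₂ := by group
      _ = a₁ * (c * a₂) := by rw [hc1 a₁ ha₁]; group
      _ = a₁ * a₂ * c := by rw [hc2 a₂ ha₂]; group
  refine ⟨c, hcY, hc.2, ?_⟩
  rcases D'.conj_w hY2 D'.q1_le D'.q2_le (D'.br hP) (D'.symm.br hP) hcY ha₃ ha₄ with h1 | h1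
  · exfalso
    apply hcX
    rw [← hw] at h1
    exact ⟨hc.1, mem_centralizer_singleton_iff.2 (mul_inv_eq_iff_eq_mul.1 h1)⟩
  · rw [hw]; exact h1

/-- an element moving `w` inside `{w, z₃ w}` lies in `X ⊔ Y` -/
theorem mem_of_conj {p : H} (hp : p ∈ P) (h : p * w * p⁻¹ = w ∨ p * w * p⁻¹ = z₃ * w) :
    p ∈ (P ⊓ centralizer ({w'} : Set H)) ⊔ (P ⊓ centralizer ({w} : Set H)) ∧
      p ∈ normalizer ((P ⊓ centralizer ({w} : Set H) : Subgroup H) : Set H) := by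
  rcases h with h | h
  · have h1 : p ∈ P ⊓ centralizer ({w} : Set H) :=
      ⟨hp, mem_centralizer_singleton_iff.2 (mul_inv_eq_iff_eq_mul.1 h)⟩
    exact ⟨mem_sup_right h1, le_normalizer h1⟩
  · obtain ⟨g, hg, hgn, hgw⟩ := exists_g hP D D' ha₁ ha₂ ha₃ ha₄ s₃ hw' hw
    have h1 : g⁻¹ * p ∈ P ⊓ centralizer ({w} : Set H) := by
      refine mem_inf.2 ⟨mul_mem (inv_mem hg.1) hp, mem_centralizer_singleton_iff.2 ?_⟩
      have h2 : p * w = g * w * g⁻¹ * p := by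
        rw [hgw, ← h]; group
      calc g⁻¹ * p * w = g⁻¹ * (p * w) := by group
        _ = w * (g⁻¹ * p) := by rw [h2]; group
    have e : p = g * (g⁻¹ * p) := by group
    rw [e]
    exact ⟨mul_mem (mem_sup_left hg) (mem_sup_right h1), mul_mem hgn (le_normalizer h1)⟩

/-- `C_P(w')` normalises `C_P(w)` -/
theorem le_normalizer' : P ⊓ centralizer ({w'} : Set H) ≤
    normalizer ((P ⊓ centralizer ({w} : Set H) : Subgroup H) : Set H) := by
  intro y hy
  refine (mem_of_conj hP D D' ha₁ ha₂ ha₃ ha₄ s₃ hw' hw hy.1 ?_).2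
  rw [hw]
  exact D'.conj_w (hP.to_le inf_le_left) D'.q1_le D'.q2_le (D'.br hP) (D'.symm.br hP) hy ha₃ ha₄

/-- `T = X ⊔ Y` acts on `Q₁` as a group of inner automorphisms -/
theorem br_T : Br ((P ⊓ centralizer ({w'} : Set H)) ⊔ (P ⊓ centralizer ({w} : Set H))) i₁ j₁ v₁ := by
  have hwP : w ∈ P := by rw [hw]; exact mul_mem (D'.q1 ha₃) (D'.q2 ha₄)
  refine (D.br_norm hP hwP).mono (sup_le ?_ ?_)
  · exact le_inf inf_le_left (le_normalizer' hP D D' ha₁ ha₂ ha₃ ha₄ s₃ hw' hw)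
  · exact le_inf inf_le_left le_normalizer

end Two

/-- `J ≅ SL₂(3)` is generated by its elements of order three -/
theorem le_of_v_mem {A J : Subgroup H} {z i j v : H} (h : Sl J z i j v) (hA : A.Normal) (hv : v ∈ A) : J ≤ A := by
  have hi : i ∈ A := by
    have h4 : v * (i * v * i⁻¹ * v⁻¹) * v⁻¹ = i⁻¹ := by
      calc v * (i * v * i⁻¹ * v⁻¹) * v⁻¹ = (v * i * v⁻¹) * (v * (v * i * v⁻¹) * v⁻¹)⁻¹ := by group
        _ = i⁻¹ := by rw [h.di, h.dj]; group
    have h5 : i⁻¹ ∈ A := by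
      rw [← h4]
      exact mul_mem (mul_mem hv (mul_mem (hA.conj_mem v hv i) (inv_mem hv))) (inv_mem hv)
    exact inv_mem_iff.1 h5
  rw [h.gen, closure_le]
  rintro x (rfl | rfl)
  · exact hi
  · exact hv

/-- `J` subnormal in `C(w)`, contained in a normal subgroup of `H` centralising `w` -/
theorem isSubnormal_of_normal {A J : Subgroup H} {w : H} (hA : A.Normal) (hAw : A ≤ centralizer ({w} : Set H))
    (hJA : J ≤ A) (hs : Sn J (centralizer ({w} : Set H))) : J.IsSubnormal :=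
  (hs.restrict hAw hJA).isSubnormal hA.isSubnormal

section CaseB

variable [Finite H] {P : Subgroup H} [hPn : P.Normal] (hP : IsPGroup 2 P) {z z₃ w w' : H}
  (hz : ∀ x : H, x * z = z * x) {J₁ J₂ J₃ J₄ : Subgroup H} {i₁ j₁ v₁ i₂ j₂ v₂ i₃ j₃ v₃ i₄ j₄ v₄ : H}
  (D : Half P z w J₁ J₂ i₁ j₁ v₁ i₂ j₂ v₂) (D' : Half P z₃ w' J₃ J₄ i₃ j₃ v₃ i₄ j₄ v₄)
  {a₁ a₂ a₃ a₄ : H} (ha₁ : a₁ ∈ closure ({i₁, j₁} : Set H)) (ha₂ : a₂ ∈ closure ({i₂, j₂} : Set H))
  (ha₃ : a₃ ∈ closure ({i₃, j₃} : Set H)) (ha₄ : a₄ ∈ closure ({i₄, j₄} : Set H))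
  (s₁ : a₁ * a₁ = z) (s₃ : a₃ * a₃ = z₃) (hw' : w' = a₁ * a₂) (hw : w = a₃ * a₄) (hne : z₃ ≠ z)

omit [Finite H] in
/-- a 2-element `t` with `[S, t] ≤ ⟨z⟩` is centralised by `v`, if the involution of `J = Q⟨v⟩` is not `z` -/
theorem comm_v_of_small {S J : Subgroup H} {z z₃ i j v : H} (h : Sl J z₃ i j v) (hS : IsPGroup 2 S)
    (hQ : closure ({i, j} : Set H) ≤ S) (hB : Br S i j v) (hne : z₃ ≠ z) {t : H} (ht : t ∈ S)
    (hc : ∀ s ∈ S, s * t * s⁻¹ * t⁻¹ = 1 ∨ s * t * s⁻¹ * t⁻¹ = z) : v * t = t * v := by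
  refine comm_v_of_comm h hB ht fun q hq => ?_
  rcases inner h hS hQ hB ht hq with h1 | h1
  · exact mul_inv_eq_iff_eq_mul.1 h1
  · exfalso
    have e : q * t * q⁻¹ * t⁻¹ = z₃ := by
      have h2 : q * t * q⁻¹ * t⁻¹ = q * (t * q * t⁻¹)⁻¹ := by group
      rw [h2, h1, mul_inv_rev, ← mul_assoc, mul_inv_cancel, one_mul, h.q.z_inv]
    rcases hc q (hQ hq) with h2 | h2
    · exact h.q.z1 (e.symm.trans h2)
    · exact hne (e.symm.trans h2)

include hP hz D D' ha₁ ha₂ ha₃ ha₄ s₁ s₃ hw' hw hne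

/-- **(3d) (b).** -/
theorem caseB : J₁.IsSubnormal := by
  have hz1 := D.h1.q.z1
  have hzi := D.h1.q.z_inv
  set X := P ⊓ centralizer ({w} : Set H) with hX
  set Y := P ⊓ centralizer ({w'} : Set H) with hY
  have hTP : Y ⊔ X ≤ P := sup_le inf_le_left inf_le_left
  have hT2 : IsPGroup 2 (Y ⊔ X : Subgroup H) := hP.to_le hTP
  -- `s₄ : a₂ a₂ = z` is not needed
  have B1 : Br (Y ⊔ X) i₁ j₁ v₁ := br_T hP D D' ha₁ ha₂ ha₃ ha₄ s₃ hw' hw
  have cm12 : a₁ * a₂ = a₂ * a₁ := D.cm a₁ (D.h1.Qle ha₁) a₂ (D.h2.Qle ha₂)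
  have cm34 : a₃ * a₄ = a₄ * a₃ := D'.cm a₃ (D'.h1.Qle ha₃) a₄ (D'.h2.Qle ha₄)
  have B3 : Br (Y ⊔ X) i₃ j₃ v₃ := by
    rw [sup_comm]
    exact br_T hP D' D ha₃ ha₄ ha₁ ha₂ s₁ hw hw'
  have q1T : closure ({i₁, j₁} : Set H) ≤ Y ⊔ X := D.q1_le.trans le_sup_right
  have q2T : closure ({i₂, j₂} : Set H) ≤ Y ⊔ X := D.q2_le.trans le_sup_right
  have q3T : closure ({i₃, j₃} : Set H) ≤ Y ⊔ X := D'.q1_le.trans le_sup_left
  have q4T : closure ({i₄, j₄} : Set H) ≤ Y ⊔ X := D'.q2_le.trans le_sup_left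
  have B2 : Br (Y ⊔ X) i₂ j₂ v₂ := by
    have hwP : w ∈ P := by rw [hw]; exact mul_mem (D'.q1 ha₃) (D'.q2 ha₄)
    refine (D.symm.br_norm hP hwP).mono (sup_le ?_ ?_)
    · exact le_inf inf_le_left (le_normalizer' hP D D' ha₁ ha₂ ha₃ ha₄ s₃ hw' hw)
    · exact le_inf inf_le_left le_normalizer
  have B4 : Br (Y ⊔ X) i₄ j₄ v₄ := by
    have hwP : w' ∈ P := by rw [hw']; exact mul_mem (D.q1 ha₁) (D.q2 ha₂)
    refine (D'.symm.br_norm hP hwP).mono (sup_le ?_ ?_)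
    · exact le_inf inf_le_left le_normalizer
    · exact le_inf inf_le_left (le_normalizer' hP D' D ha₃ ha₄ ha₁ ha₂ s₁ hw hw')
  have hw'T : w' ∈ Y ⊔ X := by rw [hw']; exact mul_mem (q1T ha₁) (q2T ha₂)
  -- `T = P`
  have hT : Y ⊔ X = P := by
    by_contra hcon
    obtain ⟨p, hpP, hpn, hpT⟩ := exists_normalizer hP hTP hcon
    -- elements of `N_P(T)` act on `Q₃`, `Q₄` as inner automorphisms
    have key : ∀ {J i j v}, Sl J z₃ i j v → closure ({i, j} : Set H) ≤ Y ⊔ X → Br (Y ⊔ X) i j v →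
        J ≤ centralizer ({w'} : Set H) → Br (P ⊓ normalizer ((Y ⊔ X : Subgroup H) : Set H)) i j v := by
      intro J i j v hSl hQ hB hJw g hg
      refine comm_mem hSl hT2 hQ hB (mem_sup_left (mem_inf.2 ⟨?_, ?_⟩))
      · exact mul_mem (hPn.conj_mem g hg.1 v) (inv_mem hg.1)
      · have hgn : ∀ y, y ∈ Y ⊔ X → g * y * g⁻¹ ∈ Y ⊔ X := fun y hy => (mem_normalizer_iff.1 hg.2 y).1 hy
        have hgn' : ∀ y, y ∈ Y ⊔ X → g⁻¹ * y * g ∈ Y ⊔ X := by
          intro y hy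
          refine (mem_normalizer_iff.1 hg.2 _).2 ?_
          have e : g * (g⁻¹ * y * g) * g⁻¹ = y := by group
          rw [e]; exact hy
        have hsm : ∀ s ∈ Y ⊔ X, s * w' * s⁻¹ * w'⁻¹ = 1 ∨ s * w' * s⁻¹ * w'⁻¹ = z := by
          intro s hs
          rcases D.conj_w hT2 q1T q2T B1 B2 hs ha₁ ha₂ with h1 | h1
          · left; rw [hw', h1, mul_inv_cancel]
          · right; rw [hw', h1, mul_assoc, mul_inv_cancel, mul_one]
        have hgz : g⁻¹ * z * g = z := by rw [mul_assoc, ← hz g]; group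
        have hv : v * (g⁻¹ * w' * g) = (g⁻¹ * w' * g) * v := by
          refine comm_v_of_small hSl hT2 hQ hB hne (hgn' w' hw'T) fun s hs => ?_
          have e : s * (g⁻¹ * w' * g) * s⁻¹ * (g⁻¹ * w' * g)⁻¹ =
              g⁻¹ * ((g * s * g⁻¹) * w' * (g * s * g⁻¹)⁻¹ * w'⁻¹) * g := by group
          rw [e]
          rcases hsm _ (hgn s hs) with h1 | h1
          · left; rw [h1]; group
          · right; rw [h1, hgz]
        have hvw : v * w' = w' * v := mem_centralizer_singleton_iff.1 (hJw hSl.hd)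
        rw [mem_centralizer_singleton_iff]
        have e2 : v⁻¹ * (g⁻¹ * w' * g) = (g⁻¹ * w' * g) * v⁻¹ := by
          calc v⁻¹ * (g⁻¹ * w' * g) = v⁻¹ * ((g⁻¹ * w' * g) * v) * v⁻¹ := by group
            _ = v⁻¹ * (v * (g⁻¹ * w' * g)) * v⁻¹ := by rw [hv]
            _ = (g⁻¹ * w' * g) * v⁻¹ := by group
        calc v * g * v⁻¹ * g⁻¹ * w' = v * g * (v⁻¹ * (g⁻¹ * w' * g)) * g⁻¹ := by group
          _ = v * g * ((g⁻¹ * w' * g) * v⁻¹) * g⁻¹ := by rw [e2]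
          _ = (v * w') * g * v⁻¹ * g⁻¹ := by group
          _ = w' * (v * g * v⁻¹ * g⁻¹) := by rw [hvw]; group
    have hN2 : IsPGroup 2 (P ⊓ normalizer ((Y ⊔ X : Subgroup H) : Set H) : Subgroup H) := hP.to_le inf_le_left
    have hTN : Y ⊔ X ≤ P ⊓ normalizer ((Y ⊔ X : Subgroup H) : Set H) := le_inf hTP le_normalizer
    apply hpT
    refine (mem_of_conj hP D D' ha₁ ha₂ ha₃ ha₄ s₃ hw' hw hpP ?_).1
    rw [hw]
    exact D'.conj_w hN2 (q3T.trans hTN) (q4T.trans hTN) (key D'.h1 q3T B3 D'.sn1.1)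
      (key D'.h2 q4T B4 D'.sn2.1) ⟨hpP, hpn⟩ ha₃ ha₄
  rw [hT] at B1 B3 B4 q1T q3T q4T
  -- all conjugates of `v₁` centralise `w`
  have hwP : w ∈ P := by rw [hw]; exact mul_mem (q3T ha₃) (q4T ha₄)
  have hall : ∀ m : H, m * v₁ * m⁻¹ ∈ centralizer ({w} : Set H) := by
    intro m
    have hm : Cit.cj m P = P := by
      rw [← mem_normalizer_iff_cj]
      rw [normalizer_eq_top]
      exact mem_top m
    have h1 := D.h1.of_cj m
    have hmz : m * z * m⁻¹ = z := by rw [hz m]; group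
    rw [hmz] at h1
    have h2 := B1.cj hm
    have h3 : closure ({m * i₁ * m⁻¹, m * j₁ * m⁻¹} : Set H) ≤ P := by
      rw [closure_le]
      rintro x (rfl | rfl)
      · exact hPn.conj_mem _ (q1T (Qt.mem_i z i₁ j₁)) m
      · exact hPn.conj_mem _ (q1T (Qt.mem_j z i₁ j₁)) m
    rw [mem_centralizer_singleton_iff]
    refine comm_v_of_small h1 hP h3 h2 hne.symm hwP fun s hs => ?_
    rcases D'.conj_w hP q3T q4T B3 B4 hs ha₃ ha₄ with h4 | h4
    · left; rw [hw, h4, mul_inv_cancel]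
    · right; rw [hw, h4, mul_assoc, mul_inv_cancel, mul_one]
  have hA : normalClosure ({v₁} : Set H) ≤ centralizer ({w} : Set H) := by
    rw [normalClosure, closure_le]
    intro x hx
    obtain ⟨y, hy, hxy⟩ := Group.mem_conjugatesOfSet_iff.1 hx
    rw [Set.mem_singleton_iff] at hy
    subst hy
    obtain ⟨m, rfl⟩ := isConj_iff.1 hxy
    exact hall m
  exact isSubnormal_of_normal normalClosure_normal hA
    (le_of_v_mem D.h1 normalClosure_normal (subset_normalClosure rfl)) D.sn1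

end CaseB

end Cfsg.Agent.OddHalf.NI3.Bad

end

-- merged: Cfsg.Agent.OddHalf.NI3.Bad.FourPr
section

/-!
# THEOREM NIB, step (3d) (b), in the language `IsPr` (helper598)

* `mem_Q_of_sqrt` : square roots of `z` in `J ≅ SL₂(3)` lie in `Q`.
* `half_of` : `Half` from `IsPr`.
* `caseB_pr` : (3d) (b) in an abstract group `H`.
* `caseB_G` : (3d) (b) in a group `G`, `H = C(z)`.
-/

set_option autoImplicit false

namespace Cfsg.Agent.OddHalf.NI3.Bad

open Subgroup Cfsg Cfsg.Agent.Cit Cfsg.Agent.Cit.SLThree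

section

variable {H : Type*} [Group H]

/-- the square roots of `z` lie in `Q` -/
theorem mem_Q_of_sqrt {J : Subgroup H} {z i j d : H} (h : Sl J z i j d) {y : H} (hy : y ∈ J) (hyz : y * y = z) :
    y ∈ closure ({i, j} : Set H) := by
  obtain ⟨q, hq, hx⟩ := h.mem_cases hy
  have hn1 := h.conj_mem hq
  have hn2 := h.conj_mem hn1
  have key : ∀ r ∈ closure ({i, j} : Set H), ∀ e : H, e = d ∨ e = d * d → r * e ≠ z := by
    intro r hr e he h0
    have h1 : e ∈ closure ({i, j} : Set H) := by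
      have : e = r⁻¹ * z := by rw [← h0]; group
      rw [this]; exact mul_mem (inv_mem hr) h.q.mem_z
    have h2 : d ∈ closure ({i, j} : Set H) := by
      rcases he with rfl | rfl
      · exact h1
      · have : d = (d * d)⁻¹ := by
          rw [eq_inv_iff_mul_eq_one, ← mul_assoc]; exact h.d3
        rw [this]; exact inv_mem h1
    obtain ⟨n, hn⟩ := h.q.isPGroup ⟨d, h2⟩
    have h4 : d ^ 2 ^ n = 1 := by simpa using congrArg Subtype.val hn
    exact h.d_ne (SLThree.Sl.eq_one_of_cube h.d3 h4)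
  rcases hx with rfl | rfl | rfl
  · exact hq
  · exfalso
    have h1 : q * d * (q * d) = (q * (d * q * d⁻¹)) * (d * d) := by group
    exact key _ (mul_mem hq hn1) (d * d) (Or.inr rfl) (h1 ▸ hyz)
  · exfalso
    have h1 : q * (d * d) * (q * (d * d)) = (q * (d * (d * q * d⁻¹) * d⁻¹)) * d * (d * d * d) := by
      simp only [mul_assoc, inv_mul_cancel_left, inv_mul_cancel, mul_one]
    rw [h.d3, mul_one] at h1
    exact key _ (mul_mem hq hn2) d (Or.inl rfl) (h1 ▸ hyz)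

/-- `Q ≤ P` if `P` contains the square roots of `z` in `J` -/
theorem Q_le_of_sq {J P : Subgroup H} {z i j d : H} (h : Sl J z i j d) (hP : ∀ x ∈ J, x * x = z → x ∈ P) :
    closure ({i, j} : Set H) ≤ P := by
  rw [closure_le]
  rintro x (rfl | rfl)
  · exact hP _ h.hi h.q.i2
  · exact hP _ h.hj h.q.j2

/-- `Half` from `IsPr` -/
theorem half_of {P : Subgroup H} {z w : H} {J₁ J₂ : Subgroup H} (p₁ : IsPr J₁ z) (p₂ : IsPr J₂ z)
    (cm : ∀ x ∈ J₁, ∀ y ∈ J₂, x * y = y * x) (s₁ : Sn J₁ (centralizer ({w} : Set H)))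
    (s₂ : Sn J₂ (centralizer ({w} : Set H))) (r₁ : ∀ x ∈ J₁, x * x = z → x ∈ P) (r₂ : ∀ x ∈ J₂, x * x = z → x ∈ P) :
    ∃ i₁ j₁ v₁ i₂ j₂ v₂, Half P z w J₁ J₂ i₁ j₁ v₁ i₂ j₂ v₂ := by
  obtain ⟨i₁, j₁, v₁, h₁⟩ := p₁.sl
  obtain ⟨i₂, j₂, v₂, h₂⟩ := p₂.sl
  exact ⟨i₁, j₁, v₁, i₂, j₂, v₂, h₁, h₂, cm, s₁, s₂, Q_le_of_sq h₁ r₁, Q_le_of_sq h₂ r₂⟩

/-- **(3d) (b)**, in an abstract group with `z` central. -/
theorem caseB_pr [Finite H] {P : Subgroup H} [P.Normal] (hP : IsPGroup 2 P) {z z₃ w w' : H}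
    (hz : ∀ x : H, x * z = z * x) {J₁ J₂ J₃ J₄ : Subgroup H} (p₁ : IsPr J₁ z) (p₂ : IsPr J₂ z) (p₃ : IsPr J₃ z₃)
    (p₄ : IsPr J₄ z₃) (c₁₂ : ∀ x ∈ J₁, ∀ y ∈ J₂, x * y = y * x) (c₃₄ : ∀ x ∈ J₃, ∀ y ∈ J₄, x * y = y * x)
    (s₁ : Sn J₁ (centralizer ({w} : Set H))) (s₂ : Sn J₂ (centralizer ({w} : Set H)))
    (s₃ : Sn J₃ (centralizer ({w'} : Set H))) (s₄ : Sn J₄ (centralizer ({w'} : Set H)))
    (r₁ : ∀ x ∈ J₁, x * x = z → x ∈ P) (r₂ : ∀ x ∈ J₂, x * x = z → x ∈ P)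
    (r₃ : ∀ x ∈ J₃, x * x = z₃ → x ∈ P) (r₄ : ∀ x ∈ J₄, x * x = z₃ → x ∈ P)
    (hw' : ∃ p ∈ J₁, ∃ q ∈ J₂, p * p = z ∧ q * q = z ∧ w' = p * q)
    (hw : ∃ p ∈ J₃, ∃ q ∈ J₄, p * p = z₃ ∧ q * q = z₃ ∧ w = p * q) (hne : z₃ ≠ z) : J₁.IsSubnormal := by
  obtain ⟨i₁, j₁, v₁, i₂, j₂, v₂, D⟩ := half_of p₁ p₂ c₁₂ s₁ s₂ r₁ r₂
  obtain ⟨i₃, j₃, v₃, i₄, j₄, v₄, D'⟩ := half_of p₃ p₄ c₃₄ s₃ s₄ r₃ r₄
  obtain ⟨a₁, h₁, a₂, h₂, e₁, e₂, hw'⟩ := hw'
  obtain ⟨a₃, h₃, a₄, h₄, e₃, e₄, hw⟩ := hw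
  exact caseB hP hz D D' (mem_Q_of_sqrt D.h1 h₁ e₁) (mem_Q_of_sqrt D.h2 h₂ e₂) (mem_Q_of_sqrt D'.h1 h₃ e₃)
    (mem_Q_of_sqrt D'.h2 h₄ e₄) e₁ e₃ hw' hw hne

end

section

variable {G : Type*} [Group G]

/-- passing to `H = C(z)` -/
theorem sn_sub {z w : G} (hw : w ∈ centralizer ({z} : Set G)) {J : Subgroup G}
    (h : Sn J (centralizer ({z} : Set G) ⊓ centralizer ({w} : Set G))) :
    Sn (J.subgroupOf (centralizer ({z} : Set G)))
      (centralizer ({(⟨w, hw⟩ : ↥(centralizer ({z} : Set G)))} : Set ↥(centralizer ({z} : Set G)))) := by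
  have h1 := h.comap (centralizer ({z} : Set G)).subtype
  have h2 : (centralizer ({z} : Set G) ⊓ centralizer ({w} : Set G)).comap (centralizer ({z} : Set G)).subtype =
      centralizer ({(⟨w, hw⟩ : ↥(centralizer ({z} : Set G)))} : Set ↥(centralizer ({z} : Set G))) := by
    ext x
    rw [mem_comap, mem_inf]
    simp only [coe_subtype, mem_centralizer_singleton_iff]
    constructor
    · rintro ⟨-, h3⟩
      exact Subtype.ext h3
    · intro h3
      exact ⟨mem_centralizer_singleton_iff.1 x.2, congrArg Subtype.val h3⟩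
  rw [h2] at h1
  exact h1

/-- back to `G` -/
theorem sn_of_sub {z : G} {J : Subgroup G} (hJ : J ≤ centralizer ({z} : Set G))
    (h : (J.subgroupOf (centralizer ({z} : Set G))).IsSubnormal) : Sn J (centralizer ({z} : Set G)) := ⟨hJ, h⟩

/-- **(3d) (b)**, for subgroups of `G`, `H = C(z)`. -/
theorem caseB_G [Finite G] {z z₃ w w' : G} {J₁ J₂ J₃ J₄ : Subgroup G} (p₁ : IsPr J₁ z) (p₂ : IsPr J₂ z)
    (p₃ : IsPr J₃ z₃) (p₄ : IsPr J₄ z₃) (c₁₂ : ∀ x ∈ J₁, ∀ y ∈ J₂, x * y = y * x)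
    (c₃₄ : ∀ x ∈ J₃, ∀ y ∈ J₄, x * y = y * x)
    (s₁ : Sn J₁ (centralizer ({z} : Set G) ⊓ centralizer ({w} : Set G)))
    (s₂ : Sn J₂ (centralizer ({z} : Set G) ⊓ centralizer ({w} : Set G)))
    (s₃ : Sn J₃ (centralizer ({z} : Set G) ⊓ centralizer ({w'} : Set G)))
    (s₄ : Sn J₄ (centralizer ({z} : Set G) ⊓ centralizer ({w'} : Set G)))
    (r₁ : ∀ x ∈ J₁, x * x = z → x ∈ PP z) (r₂ : ∀ x ∈ J₂, x * x = z → x ∈ PP z)
    (r₃ : ∀ x ∈ J₃, x * x = z₃ → x ∈ PP z) (r₄ : ∀ x ∈ J₄, x * x = z₃ → x ∈ PP z)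
    (hw' : ∃ p ∈ J₁, ∃ q ∈ J₂, p * p = z ∧ q * q = z ∧ w' = p * q)
    (hw : ∃ p ∈ J₃, ∃ q ∈ J₄, p * p = z₃ ∧ q * q = z₃ ∧ w = p * q) (hne : z₃ ≠ z) :
    Sn J₁ (centralizer ({z} : Set G)) := by
  have l₁ : J₁ ≤ centralizer ({z} : Set G) := s₁.le.trans inf_le_left
  have l₂ : J₂ ≤ centralizer ({z} : Set G) := s₂.le.trans inf_le_left
  have l₃ : J₃ ≤ centralizer ({z} : Set G) := s₃.le.trans inf_le_left
  have l₄ : J₄ ≤ centralizer ({z} : Set G) := s₄.le.trans inf_le_left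
  obtain ⟨a₁, h₁, a₂, h₂, e₁, e₂, hw'⟩ := hw'
  obtain ⟨a₃, h₃, a₄, h₄, e₃, e₄, hw⟩ := hw
  have w'C : w' ∈ centralizer ({z} : Set G) := by rw [hw']; exact mul_mem (l₁ h₁) (l₂ h₂)
  have wC : w ∈ centralizer ({z} : Set G) := by rw [hw]; exact mul_mem (l₃ h₃) (l₄ h₄)
  refine sn_of_sub l₁ ?_
  have hr : ∀ {J : Subgroup G} {z' : G} (hJ : J ≤ centralizer ({z} : Set G)) (hz' : z' ∈ centralizer ({z} : Set G)),
      (∀ x ∈ J, x * x = z' → x ∈ PP z) → ∀ x ∈ J.subgroupOf (centralizer ({z} : Set G)),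
        x * x = (⟨z', hz'⟩ : ↥(centralizer ({z} : Set G))) → x ∈ pCore 2 ↥(centralizer ({z} : Set G)) := by
    intro J z' hJ hz' h x hx hxx
    have h1 := h x hx (congrArg Subtype.val hxx)
    exact (mem_PP x.2).1 h1
  refine caseB_pr (P := pCore 2 ↥(centralizer ({z} : Set G))) (z := ⟨z, l₁ p₁.mem⟩) (z₃ := ⟨z₃, l₃ p₃.mem⟩)
    (w := ⟨w, wC⟩) (w' := ⟨w', w'C⟩) (J₂ := J₂.subgroupOf _) (J₃ := J₃.subgroupOf _) (J₄ := J₄.subgroupOf _)
    (Lib.Cores.pCore_isPGroup 2) ?_ (p₁.subgroupOf l₁) (p₂.subgroupOf l₂)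
    (p₃.subgroupOf l₃) (p₄.subgroupOf l₄) ?_ ?_ (sn_sub wC s₁) (sn_sub wC s₂) (sn_sub w'C s₃) (sn_sub w'C s₄)
    (hr l₁ (l₁ p₁.mem) r₁) (hr l₂ (l₂ p₂.mem) r₂) (hr l₃ (l₃ p₃.mem) r₃) (hr l₄ (l₄ p₄.mem) r₄) ?_ ?_ ?_
  · intro x
    exact Subtype.ext (mem_centralizer_singleton_iff.1 x.2)
  · intro x hx y hy
    exact Subtype.ext (c₁₂ x hx y hy)
  · intro x hx y hy
    exact Subtype.ext (c₃₄ x hx y hy)
  · exact ⟨⟨a₁, l₁ h₁⟩, h₁, ⟨a₂, l₂ h₂⟩, h₂, Subtype.ext e₁, Subtype.ext e₂, Subtype.ext hw'⟩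
  · exact ⟨⟨a₃, l₃ h₃⟩, h₃, ⟨a₄, l₄ h₄⟩, h₄, Subtype.ext e₃, Subtype.ext e₄, Subtype.ext hw⟩
  · intro h
    exact hne (congrArg Subtype.val h)

end

end Cfsg.Agent.OddHalf.NI3.Bad

end

-- merged: Cfsg.Agent.OddHalf.NI3.Bad.Dbl
section

/-!
# THEOREM NIB, step (3d), G-level: the double configuration (helper355; bb ODD #14136)

`Dbl N D a b e e' A B A' B'` : `Cfg N a b e A B`, `D = 2.U₄(3)` a component of `C(a)` with the frame
`Sheet D e e' b A' B'` (`e' = -1₇₈`, `A'`, `B'` = `J₃`, `J₄`, the factors of `Ω(5678)`), `Q₁, Q₂ ≤ O₂(C(z))`.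

* `Dbl.of` : from the sheet `Sheet D b e e' (cj c A) (cj c B)`;
* `Dbl.snA'`, `Dbl.snB'` : `J₃`, `J₄` are subnormal in `C(z) ∩ C(a)`;
* `Dbl.rA'`, `Dbl.rB'` : `Q₃, Q₄ ≤ O₂(C(z))`;
* `Dbl.z_eq` : (b) is dead, `e e' = a b`.
-/

set_option autoImplicit false
set_option linter.style.haveILetI false

namespace Cfsg.Agent.OddHalf.NI3.Bad

open Subgroup Cfsg Cfsg.Agent.OddHalf.Iface Cfsg.Agent.OddHalf.LieOddFam
open Cfsg.Agent.OddHalf.D3 (Comp)
open Cfsg.Agent.OddHalf.NI (CompIn)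
open Cfsg.Agent.Cit Cfsg.Agent.Cit.SLThree

universe u

/-! ### (L1) -/

section

variable {G : Type*} [Group G]

/-- **(L1)** `J` subnormal in `C(z) ∩ C(t)`, `t` an involution of `O₂(C(z))`: then `O₂(J) ≤ O₂(C(z))`. -/
theorem mem_PP_of_sn [Finite G] {z z' t : G} {J : Subgroup G} (htt : t * t = 1) (ht : t ∈ PP z)
    (hJ : IsPr J z') (hs : Sn J (centralizer ({z} : Set G) ⊓ centralizer ({t} : Set G))) :
    ∀ x ∈ J, x * x = z' → x ∈ PP z := by
  by_contra hcon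
  haveI : Fact (Nat.Prime 2) := ⟨Nat.prime_two⟩
  have hPz : PP z ≤ centralizer ({z} : Set G) := PP_le z
  have hP2 : IsPGroup 2 (PP z) := (Lib.Cores.pCore_isPGroup (G := ↥(centralizer ({z} : Set G))) 2).map _
  have hJz : J ≤ centralizer ({z} : Set G) := hs.1.trans inf_le_left
  have hJt : J ≤ centralizer ({t} : Set G) := hs.1.trans inf_le_right
  have htz : t * z = z * t := PP_comm ht
  have hPn : centralizer ({z} : Set G) ≤ normalizer (PP z : Set G) := by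
    have key : ∀ g ∈ centralizer ({z} : Set G), ∀ x ∈ PP z, g * x * g⁻¹ ∈ PP z := by
      rintro g hg _ ⟨x, hx, rfl⟩
      have hn : (pCore 2 ↥(centralizer ({z} : Set G))).Normal := Lib.Cores.pCore_normal 2
      exact ⟨⟨g, hg⟩ * x * ⟨g, hg⟩⁻¹, hn.conj_mem x hx _, rfl⟩
    intro g hg
    rw [mem_normalizer_iff]
    intro x
    refine ⟨key g hg x, fun hx => ?_⟩
    have := key g⁻¹ (inv_mem hg) _ hx
    have e : g⁻¹ * (g * x * g⁻¹) * g⁻¹⁻¹ = x := by group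
    rwa [e] at this
  -- the elements of order 3 of `J` centralise `P`
  have key : ∀ v ∈ J, v * v * v = 1 → v ∈ centralizer (PP z : Set G) := by
    intro v hv h3
    have hc : zpowers v ≤ centralizer (PP z : Set G) := by
      refine Lib.ThompsonPQ.thompson_p_times_q 2 (zpowers t) (zpowers v) (PP z) ?_ ?_ hP2 ?_ ?_ ?_ ?_
      · rintro ⟨x, k, rfl⟩
        refine ⟨1, ?_⟩
        apply Subtype.ext
        change (t ^ k) ^ (2 ^ 1) = 1
        rw [pow_one, ← zpow_natCast, ← zpow_mul, mul_comm, zpow_mul, zpow_natCast, pow_two, htt, one_zpow]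
      · rw [Nat.card_zpowers]; exact (Nat.coprime_two_right).2 (odd_of_cube h3)
      · rw [zpowers_le, mem_centralizer_iff]
        rintro _ ⟨k, rfl⟩
        exact ((show Commute v t from mem_centralizer_singleton_iff.1 (hJt hv)).zpow_left k).eq
      · rw [zpowers_le]; exact hPn (mem_centralizer_singleton_iff.2 htz)
      · rw [zpowers_le]; exact hPn (hJz hv)
      · intro x hx
        obtain ⟨hxW, hxt⟩ := mem_inf.1 hx
        have hxt' : x * t = t * x := ((mem_centralizer_iff.1 hxt) t (mem_zpowers t)).symm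
        rw [mem_centralizer_iff]
        rintro _ ⟨k, rfl⟩
        have h4 : v * x = x * v := by
          refine T3.comm_of_sn hJ.t3 hs (P := PP z ⊓ centralizer ({t} : Set G)) (inf_le_inf_right _ hPz)
            (hP2.to_le inf_le_left) ?_ ?_ hv h3 (mem_inf.2 ⟨hxW, mem_centralizer_singleton_iff.2 hxt'⟩)
          · intro g hg
            have hgt := hJt hg
            rw [mem_normalizer_iff]
            intro y
            have h5 := mem_normalizer_iff.1 (hPn (hJz hg)) y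
            constructor
            · intro hy
              obtain ⟨hy1, hy2⟩ := mem_inf.1 hy
              exact mem_inf.2 ⟨h5.1 hy1, mul_mem (mul_mem hgt hy2) (inv_mem hgt)⟩
            · intro hy
              obtain ⟨hy1, hy2⟩ := mem_inf.1 hy
              refine mem_inf.2 ⟨h5.2 hy1, ?_⟩
              have e : y = g⁻¹ * (g * y * g⁻¹) * g⁻¹⁻¹ := by group
              rw [e]
              exact mul_mem (mul_mem (inv_mem hgt) hy2) (inv_mem (inv_mem hgt))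
          · intro hall
            exact hcon fun y hy hyz => (mem_inf.1 (hall y hy hyz)).1
        exact ((show Commute v x from h4).zpow_left k).eq
    exact hc (mem_zpowers v)
  -- `J` is subnormal in `C(z)`
  have h1 : J ≤ centralizer (PP z : Set G) := hJ.le_of_cube key
  have h2 : Sn (centralizer ({z} : Set G) ⊓ centralizer (PP z : Set G)) (centralizer ({z} : Set G)) := by
    refine Sn.of_normal inf_le_left ?_
    have key2 : ∀ g ∈ centralizer ({z} : Set G), ∀ x ∈ centralizer ({z} : Set G) ⊓ centralizer (PP z : Set G),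
        g * x * g⁻¹ ∈ centralizer ({z} : Set G) ⊓ centralizer (PP z : Set G) := by
      intro g hg x hx
      obtain ⟨hx1, hx2⟩ := mem_inf.1 hx
      refine mem_inf.2 ⟨mul_mem (mul_mem hg hx1) (inv_mem hg), ?_⟩
      rw [mem_centralizer_iff] at hx2 ⊢
      intro w hw
      have h3 : g⁻¹ * w * g⁻¹⁻¹ ∈ PP z := (mem_normalizer_iff.1 (hPn (inv_mem hg)) w).1 hw
      have h4 := hx2 _ h3
      calc w * (g * x * g⁻¹) = g * ((g⁻¹ * w * g⁻¹⁻¹) * x) * g⁻¹ := by group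
        _ = g * (x * (g⁻¹ * w * g⁻¹⁻¹)) * g⁻¹ := by rw [h4]
        _ = g * x * g⁻¹ * w := by group
    intro g hg
    rw [mem_normalizer_iff]
    intro x
    refine ⟨key2 g hg x, fun hx => ?_⟩
    have := key2 g⁻¹ (inv_mem hg) _ hx
    have e : g⁻¹ * (g * x * g⁻¹) * g⁻¹⁻¹ = x := by group
    rwa [e] at this
  have h3 : Sn J (centralizer ({z} : Set G)) := by
    refine Sn.trans (hs.restrict (C' := centralizer ({z} : Set G) ⊓ centralizer (PP z : Set G)) ?_ ?_) h2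
    · refine inf_le_inf_left _ ?_
      intro x hx
      exact mem_centralizer_singleton_iff.2 ((mem_centralizer_iff.1 hx) t ht).symm
    · exact le_inf hJz h1
  -- so `O₂(J) ≤ O₂(C(z))`
  apply hcon
  intro x hx hxz
  have h4 : IsPr (J.subgroupOf (centralizer ({z} : Set G))) ⟨z', hJz hJ.mem⟩ := hJ.subgroupOf hJz
  exact (mem_PP (hJz hx)).2 (h4.mem_pCore h3.2 (y := ⟨x, hJz hx⟩) hx (Subtype.ext hxz))

end


/-! ### The double configuration -/

/-- `D = 2.U₄(3)` a component of `C(a)`, `a = -1₁₂`, with the frame `e = -1₅₆`, `e' = -1₇₈`, `b = -1₃₄`; `A'`, `B'` the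
factors of `Ω(5678)`. -/
structure Dbl {G : Type*} [Group G] (N D : Subgroup G) (a b e e' : G) (A B A' B' : Subgroup G) : Prop where
  cfg : Cfg N a b e A B
  comp : Comp a D
  sh : Sheet D e e' b A' B'
  rA : ∀ x ∈ A, x * x = a * b → x ∈ PP (a * b)
  rB : ∀ x ∈ B, x * x = a * b → x ∈ PP (a * b)

/-- from the sheet of `D` with the factors `J₅, J₆` of `Ω(3456)` -/
theorem Dbl.of {G : Type*} [Group G] {N D : Subgroup G} {a b e e' : G} {A B A₅ B₅ : Subgroup G}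
    (h : Cfg N a b e A B) (hR : (∀ x ∈ A, x * x = a * b → x ∈ PP (a * b)) ∧ (∀ x ∈ B, x * x = a * b → x ∈ PP (a * b)))
    (hD : Comp a D) (hS : Sheet D b e e' A₅ B₅) : ∃ A' B' : Subgroup G, Dbl N D a b e e' A B A' B' := by
  obtain ⟨c, hc, h1, h2, h3⟩ := hS.rot
  exact ⟨cj c A₅, cj c B₅, h, hD, hS.rotate hc h1 h2 h3, hR.1, hR.2⟩

namespace Dbl

variable {G : Type*} [Group G] {N D : Subgroup G} {a b e e' : G} {A B A' B' : Subgroup G}
  (h : Dbl N D a b e e' A B A' B')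

include h

theorem comm_a {x : G} (hx : x ∈ D) : x * a = a * x := mem_centralizer_singleton_iff.1 (h.comp.le hx)

/-- the centre of `D` : `e e' b = b e e'` -/
theorem bee : e * e' * b = b * (e * e') := by
  rw [mul_assoc, h.sh.be, ← mul_assoc, h.sh.ae, mul_assoc]

/-- elements of `D` commuting with `e e'` commute with `b` -/
theorem comm_b {x : G} (hx : x ∈ D) (h1 : x * (e * e') = e * e' * x) : x * b = b * x := by
  have h2 := h.sh.y_comm x hx
  have h3 : e * e' * (x * b) = e * e' * (b * x) := by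
    calc e * e' * (x * b) = x * (e * e') * b := by rw [h1]; group
      _ = x * (e * e' * b) := by group
      _ = e * e' * b * x := h2
      _ = e * e' * (b * x) := by group
  exact mul_left_cancel h3

theorem comm_b' {x : G} (hx : x ∈ D) (h1 : x * b = b * x) : x * (e * e') = e * e' * x := by
  have h2 := h.sh.y_comm x hx
  rw [h.bee] at h2
  have h3 : b * (x * (e * e')) = b * (e * e' * x) := by
    calc b * (x * (e * e')) = x * b * (e * e') := by rw [h1]; group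
      _ = x * (b * (e * e')) := by group
      _ = b * (e * e') * x := h2
      _ = b * (e * e' * x) := by group
  exact mul_left_cancel h3

/-- `C_D(e e') = C_D(b)` -/
theorem inf_eq : D ⊓ centralizer ({e * e'} : Set G) = D ⊓ centralizer ({b} : Set G) := by
  ext x
  simp only [mem_inf, mem_centralizer_singleton_iff]
  exact ⟨fun ⟨h1, h2⟩ => ⟨h1, h.comm_b h1 h2⟩, fun ⟨h1, h2⟩ => ⟨h1, h.comm_b' h1 h2⟩⟩

/-- `C_D(b)` is subnormal in `C(z) ∩ C(a)` -/
theorem snD : Sn (D ⊓ centralizer ({b} : Set G)) (centralizer ({a * b} : Set G) ⊓ centralizer ({a} : Set G)) := by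
  have h3 := Sn.inf ⟨h.comp.le, h.comp.comp.1⟩ (centralizer ({b} : Set G))
  have h4 : centralizer ({a} : Set G) ⊓ centralizer ({b} : Set G) =
      centralizer ({a * b} : Set G) ⊓ centralizer ({a} : Set G) := by
    rw [← cent_inf_eq, inf_comm]
  rwa [h4] at h3

theorem snA' : Sn A' (centralizer ({a * b} : Set G) ⊓ centralizer ({a} : Set G)) := by
  have h1 := h.sh.snA
  rw [h.inf_eq] at h1
  exact h1.trans h.snD

theorem snB' : Sn B' (centralizer ({a * b} : Set G) ⊓ centralizer ({a} : Set G)) := by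
  have h1 := h.sh.snB
  rw [h.inf_eq] at h1
  exact h1.trans h.snD

/-- `a ∈ O₂(C(z))` -/
theorem aP : a ∈ PP (a * b) := by
  obtain ⟨p, hp, q, hq, h1, h2, h3⟩ := h.cfg.a_eq
  have h4 := mul_mem (h.rA p hp h1) (h.rB q hq h2)
  rwa [← h3] at h4

/-- `Q₃ ≤ O₂(C(z))` -/
theorem rA' [Finite G] : ∀ x ∈ A', x * x = e * e' → x ∈ PP (a * b) :=
  mem_PP_of_sn h.cfg.aa h.aP h.sh.prA h.snA'

/-- `Q₄ ≤ O₂(C(z))` -/
theorem rB' [Finite G] : ∀ x ∈ B', x * x = e * e' → x ∈ PP (a * b) :=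
  mem_PP_of_sn h.cfg.aa h.aP h.sh.prB h.snB'

/-- **case (b)** is dead -/
theorem sn_of_ne [Finite G] (hne : e * e' ≠ a * b) : Sn A (centralizer ({a * b} : Set G)) :=
  caseB_G h.cfg.prA h.cfg.prB h.sh.prA h.sh.prB h.cfg.AB h.sh.AB h.cfg.snA_e h.cfg.snB_e h.snA' h.snB' h.rA h.rB
    h.rA' h.rB' h.cfg.a_eq h.sh.a_eq hne

end Dbl

/-- **(3d) (b)** : `z₃ = z` -/
theorem Dbl.z_eq {G : Type u} [Group G] (C : Ctx G) {N D : Subgroup G} {a b e e' : G} {A B A' B' : Subgroup G}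
    (h : Dbl N D a b e e' A B A' B') : e * e' = a * b := by
  haveI := C.fin
  by_contra hne
  exact Cfg.not_cl C ⟨h.cfg.prA, h.sn_of_ne hne⟩

end Cfsg.Agent.OddHalf.NI3.Bad

end

-- merged: Cfsg.Agent.OddHalf.NI3.Bad.FourQ
section

/-!
# THEOREM NIB, step (3d) (a2), the K-free part (helper598)

`H` a finite group, `P` a normal 2-subgroup, `J₁, J₂` commuting subgroups `SL₂(3)` with involution `z`, subnormal in
`C(w)`, `J₃, J₄` commuting subgroups `SL₂(3)` with the same involution `z`, subnormal in `C(w')`, `Q_i = O₂(J_i) ≤ P`,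
`w' = a₁ a₂ ∈ Q₁Q₂`, `w = a₃ a₄ ∈ Q₃Q₄` noncentral involutions.

* `Loc`, `Loc.pair` : the pair lemma in a subgroup `X`.
* `perm_four` : an element `g` of order 3 commuting with `w` such that `w'^g` and `w'^(g⁻¹)` centralise `J₃J₄` normalises
  `Q₃` and `Q₄`;
* `comm_of_cj` : it centralises them; `comm_v` : it commutes with `J₃`.
* `comm_all` : `[J₁J₂, J₃J₄] = 1`.
-/

set_option autoImplicit false
set_option linter.unusedSimpArgs false

namespace Cfsg.Agent.OddHalf.NI3.Bad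

open Subgroup Cfsg Cfsg.Agent.Cit Cfsg.Agent.Cit.SLThree

section Gen

variable {H : Type*} [Group H]

/-- `Sl` is reflected by injective homomorphisms -/
theorem sl_of_map {H' : Type*} [Group H'] (f : H →* H') (hf : Function.Injective f) {J : Subgroup H} {z i j d : H}
    (h : Sl (J.map f) (f z) (f i) (f j) (f d)) : Sl J z i j d where
  q := ⟨hf (by rw [map_mul, map_one, h.q.z2]), fun h1 => h.q.z1 (by rw [h1, map_one]),
    hf (by rw [map_mul, h.q.i2]), hf (by rw [map_mul, h.q.j2]), hf (by rw [map_mul, map_mul, map_mul, h.q.ji])⟩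
  di := hf (by rw [map_mul, map_mul, map_inv, h.di])
  dj := hf (by rw [map_mul, map_mul, map_inv, map_mul, h.dj])
  d3 := hf (by rw [map_mul, map_mul, map_one, h.d3])
  gen := Subgroup.map_injective hf (by rw [h.gen, MonoidHom.map_closure, Set.image_pair])

theorem sl_sub {X J : Subgroup H} {z i j d : H} (h : Sl J z i j d) (hJ : J ≤ X) :
    Sl (J.subgroupOf X) ⟨z, hJ h.hz⟩ ⟨i, hJ h.hi⟩ ⟨j, hJ h.hj⟩ ⟨d, hJ h.hd⟩ := by
  refine sl_of_map X.subtype X.subtype_injective ?_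
  rw [subgroupOf_map_subtype, inf_eq_left.2 hJ]
  exact h

theorem mem_closure_sub {X : Subgroup H} {i j : H} (hi : i ∈ X) (hj : j ∈ X) (x : X) :
    x ∈ closure ({⟨i, hi⟩, ⟨j, hj⟩} : Set X) ↔ (x : H) ∈ closure ({i, j} : Set H) := by
  have h1 : (closure ({⟨i, hi⟩, ⟨j, hj⟩} : Set X)).map X.subtype = closure ({i, j} : Set H) := by
    rw [MonoidHom.map_closure, Set.image_pair]
    rfl
  rw [← h1]
  constructor
  · intro h
    exact ⟨x, h, rfl⟩
  · rintro ⟨y, hy, hxy⟩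
    rwa [← Subtype.ext hxy]

/-- the pair lemma in a subgroup -/
theorem pair_sub [Finite H] {X S J J' : Subgroup H} {z i j v i' j' v' : H} (hSX : S ≤ X)
    (hn : X ≤ normalizer (S : Set H)) (hS : IsPGroup 2 S) (h : Sl J z i j v) (h' : Sl J' z i' j' v')
    (hQ : closure ({i, j} : Set H) ≤ S) (hQ' : closure ({i', j'} : Set H) ≤ S) (hB : Br S i j v)
    (hB' : Br S i' j' v') (hJ : Sn J X) (hJ' : J' ≤ X) :
    closure ({i, j} : Set H) = closure ({i', j'} : Set H) ∨ ∀ q ∈ closure ({i, j} : Set H), v' * q = q * v' := by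
  have hSn : (S.subgroupOf X).Normal := by
    constructor
    intro x hx g
    exact (mem_normalizer_iff.1 (hn g.2) x).1 hx
  have hS2 : IsPGroup 2 (S.subgroupOf X) := hS.comap_of_injective X.subtype X.subtype_injective
  have l := sl_sub h hJ.le
  have l' := sl_sub h' hJ'
  have key : ∀ {i j v : H} (hi : i ∈ X) (hj : j ∈ X) (hv : v ∈ X), Br S i j v →
      Br (S.subgroupOf X) (⟨i, hi⟩ : X) ⟨j, hj⟩ ⟨v, hv⟩ := by
    intro i j v hi hj hv hb s hs
    rw [mem_closure_sub hi hj]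
    exact hb s hs
  have hq : ∀ {i j : H} (hi : i ∈ X) (hj : j ∈ X), closure ({i, j} : Set H) ≤ S →
      closure ({⟨i, hi⟩, ⟨j, hj⟩} : Set X) ≤ S.subgroupOf X := by
    intro i j hi hj hle x hx
    exact hle ((mem_closure_sub hi hj x).1 hx)
  rcases pair hS2 l l' (hq _ _ hQ) (hq _ _ hQ') (key _ _ _ hB) (key _ _ _ hB') hJ.2 with h1 | h1
  · left
    have h2 := congrArg (Subgroup.map X.subtype) h1
    rw [MonoidHom.map_closure, Set.image_pair, MonoidHom.map_closure, Set.image_pair] at h2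
    exact h2
  · right
    intro q hq
    have hqX : q ∈ X := hSX (hQ hq)
    exact congrArg Subtype.val (h1 ⟨q, hqX⟩ ((mem_closure_sub _ _ _).2 hq))

/-- a local datum: `J = Q⟨v⟩` subnormal in `X`, `Q ≤ S`, `S` a normal 2-subgroup of `X` -/
structure Loc (X S : Subgroup H) (z : H) (J : Subgroup H) (i j v : H) : Prop where
  le : S ≤ X
  nor : X ≤ normalizer (S : Set H)
  two : IsPGroup 2 S
  sl : Sl J z i j v
  sn : Sn J X
  q : closure ({i, j} : Set H) ≤ S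

namespace Loc

variable {X S J J' : Subgroup H} {z i j v i' j' v' : H}

theorem br [Finite H] (L : Loc X S z J i j v) : Br S i j v :=
  br_of_sn L.sl L.sn L.le L.two (L.sn.le.trans L.nor) L.q

theorem pair [Finite H] (L : Loc X S z J i j v) (L' : Loc X S z J' i' j' v') :
    closure ({i, j} : Set H) = closure ({i', j'} : Set H) ∨
      ∀ q ∈ closure ({i, j} : Set H), ∀ q' ∈ closure ({i', j'} : Set H), q * q' = q' * q := by
  rcases pair_sub L.le L.nor L.two L.sl L'.sl L.q L'.q L.br L'.br L.sn L'.sn.le with h | h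
  · exact Or.inl h
  · right
    intro q hq q' hq'
    exact comm_of_comm_v L'.sl L.two L'.q L'.br (L.q hq) (h q hq) q' hq'

/-- `Q = Q'` or `Q = Q''` -/
theorem perm_one [Finite H] {J'' : Subgroup H} {i'' j'' v'' a b a' b' : H} (L : Loc X S z J i j v)
    (L' : Loc X S z J' i' j' v') (L'' : Loc X S z J'' i'' j'' v'') (ha : a ∈ closure ({i, j} : Set H))
    (s : a * a = z) (ha' : a' ∈ closure ({i', j'} : Set H)) (hb' : b' ∈ closure ({i'', j''} : Set H))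
    (hc : ∀ q ∈ closure ({i, j} : Set H), q * b = b * q) (e : a * b = a' * b') :
    closure ({i, j} : Set H) = closure ({i', j'} : Set H) ∨ closure ({i, j} : Set H) = closure ({i'', j''} : Set H) := by
  by_contra hcon
  push Not at hcon
  have c1 := (L.pair L').resolve_left hcon.1
  have c2 := (L.pair L'').resolve_left hcon.2
  obtain ⟨y, hy, -, hya⟩ := L.sl.q.exists_inv ha s
  have h1 : y * (a * b) = (a * b) * y := by
    rw [e, ← mul_assoc, c1 y hy a' ha', mul_assoc, c2 y hy b' hb', ← mul_assoc]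
  have h2 : y * (a * b) = z * (a * b * y) := by
    rw [← mul_assoc, hya, mul_assoc, mul_assoc, hc y hy]; group
  rw [h1] at h2
  exact L.sl.q.z1 (mul_right_cancel (b := a * b * y) (by rw [one_mul]; exact h2.symm))

end Loc

theorem cj_closure_pair (g i j : H) : closure ({g * i * g⁻¹, g * j * g⁻¹} : Set H) = Cit.cj g (closure ({i, j} : Set H)) := by
  rw [Cit.cj_def, MonoidHom.map_closure, Set.image_pair]
  rfl

/-- an element of order 3 -/
theorem ne_z_mul' {z g x : H} (z1 : z ≠ 1) (z2 : z * z = 1) (gz : g * z = z * g) (g3 : g * g * g = 1)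
    (hx : g * x * g⁻¹ = z * x) : False := by
  have dz : g * z * g⁻¹ = z := by rw [gz]; group
  have h5 : x = z * x := by
    calc x = (g * g * g) * x * (g * g * g)⁻¹ := by rw [g3]; group
      _ = g * (g * (g * x * g⁻¹) * g⁻¹) * g⁻¹ := by group
      _ = g * (g * (z * x) * g⁻¹) * g⁻¹ := by rw [hx]
      _ = g * ((g * z * g⁻¹) * (g * x * g⁻¹)) * g⁻¹ := by group
      _ = g * (z * (z * x)) * g⁻¹ := by rw [dz, hx]
      _ = g * x * g⁻¹ := by rw [← mul_assoc z z, z2, one_mul]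
      _ = z * x := hx
  exact z1 (mul_right_cancel (b := x) (by rw [one_mul]; exact h5.symm))

/-- an element of order 3 which normalises `Q` and centralises an element of order 4 centralises `Q` -/
theorem comm_of_fix {z i j g a : H} (h : Qt z i j) (g3 : g * g * g = 1) (gz : g * z = z * g)
    (n : ∀ q ∈ closure ({i, j} : Set H), g * q * g⁻¹ ∈ closure ({i, j} : Set H))
    (ha : a ∈ closure ({i, j} : Set H)) (s : a * a = z) (ga : g * a = a * g) :
    ∀ q ∈ closure ({i, j} : Set H), g * q = q * g := by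
  intro y hy
  have hga : g * a * g⁻¹ = a := by rw [ga]; group
  set c := g * y * g⁻¹ * y⁻¹ with hc
  have hcQ : c ∈ closure ({i, j} : Set H) := mul_mem (n y hy) (inv_mem hy)
  -- `c` commutes with `a`
  have hca : c * a * c⁻¹ = a := by
    have h1 : ∀ x, x = 1 ∨ x = z → x * x = 1 ∧ g * x * g⁻¹ = x := by
      rintro x (rfl | rfl)
      · constructor <;> group
      · exact ⟨h.z2, by rw [gz]; group⟩
    obtain ⟨e, he, h2⟩ : ∃ e, (e = 1 ∨ e = z) ∧ y⁻¹ * a * y = e * a := by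
      rcases q_conj h (inv_mem hy) ha with h3 | h3
      · exact ⟨1, Or.inl rfl, by rw [inv_inv] at h3; rw [h3, one_mul]⟩
      · exact ⟨z, Or.inr rfl, by rw [inv_inv] at h3; exact h3⟩
    obtain ⟨e1, e2⟩ := h1 e he
    have ec : ∀ x ∈ closure ({i, j} : Set H), x * e = e * x := by
      intro x hx
      rcases he with rfl | rfl
      · rw [one_mul, mul_one]
      · exact h.comm_z hx
    have h4 : y * a * y⁻¹ = e * a := by
      have h5 : a = y * (e * a) * y⁻¹ := by rw [← h2]; group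
      have h6 : y * (e * a) * y⁻¹ = e * (y * a * y⁻¹) := by
        rw [← mul_assoc y e a, ec y hy]; group
      calc y * a * y⁻¹ = (e * e) * (y * a * y⁻¹) := by rw [e1, one_mul]
        _ = e * (y * (e * a) * y⁻¹) := by rw [h6, mul_assoc]
        _ = e * a := by rw [← h5]
    calc c * a * c⁻¹ = g * (y * (g⁻¹ * (y⁻¹ * a * y) * g) * y⁻¹) * g⁻¹ := by rw [hc]; group
      _ = g * (y * (g⁻¹ * (e * a) * g) * y⁻¹) * g⁻¹ := by rw [h2]
      _ = g * (y * (e * a) * y⁻¹) * g⁻¹ := by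
          have h7 : g⁻¹ * (e * a) * g = e * a := by
            have h8 : g⁻¹ * e * g = e := by
              calc g⁻¹ * e * g = g⁻¹ * (g * e * g⁻¹) * g := by rw [e2]
                _ = e := by group
            have h9 : g⁻¹ * a * g = a := by
              calc g⁻¹ * a * g = g⁻¹ * (g * a * g⁻¹) * g := by rw [hga]
                _ = a := by group
            calc g⁻¹ * (e * a) * g = (g⁻¹ * e * g) * (g⁻¹ * a * g) := by group
              _ = e * a := by rw [h8, h9]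
          rw [h7]
      _ = g * (e * (y * a * y⁻¹)) * g⁻¹ := by
          have h6 : y * (e * a) * y⁻¹ = e * (y * a * y⁻¹) := by
            rw [← mul_assoc y e a, ec y hy]; group
          rw [h6]
      _ = g * (e * (e * a)) * g⁻¹ := by rw [h4]
      _ = g * a * g⁻¹ := by rw [← mul_assoc e e, e1, one_mul]
      _ = a := hga
  have hca' : a * c = c * a := by
    have := mul_inv_eq_iff_eq_mul.1 hca
    exact this.symm
  -- `g` commutes with `c`
  have hgc : g * c * g⁻¹ = c := by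
    rcases h.sq hcQ with h1 | h1
    · rcases h.sq_cases hcQ h1 with h2 | h2
      · rw [h2]; group
      · rw [h2, gz]; group
    · rcases h.eq_or ha hcQ s h1 hca' with h2 | h2
      · rw [h2]; exact hga
      · rw [h2]
        calc g * (z * a) * g⁻¹ = (g * z) * g⁻¹ * (g * a * g⁻¹) := by group
          _ = z * a := by rw [gz, hga]; group
  have hgy : g * y * g⁻¹ = c * y := by rw [hc]; group
  have h3 : c * c * c = 1 := by
    have h4 : y = c * c * c * y := by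
      calc y = (g * g * g) * y * (g * g * g)⁻¹ := by rw [g3]; group
        _ = g * (g * (g * y * g⁻¹) * g⁻¹) * g⁻¹ := by group
        _ = g * (g * (c * y) * g⁻¹) * g⁻¹ := by rw [hgy]
        _ = g * ((g * c * g⁻¹) * (g * y * g⁻¹)) * g⁻¹ := by group
        _ = g * (c * (c * y)) * g⁻¹ := by rw [hgc, hgy]
        _ = (g * c * g⁻¹) * (g * c * g⁻¹) * (g * y * g⁻¹) := by group
        _ = c * c * c * y := by rw [hgc, hgy, mul_assoc (c * c)]
    exact (mul_right_cancel (b := y) (by rw [one_mul]; exact h4)).symm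
  have h5 : c = 1 := by
    rcases h.sq hcQ with h1 | h1
    · rw [h1, one_mul] at h3; exact h3
    · exfalso
      have h6 : c = z := by
        rw [h1] at h3
        have h7 : c = z⁻¹ := (inv_eq_of_mul_eq_one_right h3).symm
        rw [h7, h.z_inv]
      rw [h6, h.z2] at h1
      exact h.z1 h1.symm
  rw [h5, one_mul] at hgy
  exact mul_inv_eq_iff_eq_mul.1 hgy

/-- the `A × B` lemma -/
theorem axb [Finite H] {P A : Subgroup H} [hPn : P.Normal] (hP : IsPGroup 2 P) (hA : A ≤ P) {y : H}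
    (hy : Odd (orderOf y)) (hyA : ∀ a ∈ A, y * a = a * y)
    (hc : ∀ p ∈ P, (∀ a ∈ A, p * a = a * p) → y * p = p * y) : ∀ p ∈ P, y * p = p * y := by
  have : Fact (Nat.Prime 2) := ⟨Nat.prime_two⟩
  have hnor : ∀ K : Subgroup H, K ≤ normalizer (P : Set H) := by
    intro K
    rw [normalizer_eq_top]
    exact le_top
  have hz : ∀ x ∈ zpowers y, ∀ g, g * y = y * g → g * x = x * g := by
    rintro _ ⟨n, rfl⟩ g hg
    exact (Commute.zpow_right (show Commute g y from hg) n).eq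
  have h1 := Lib.ThompsonPQ.thompson_p_times_q 2 A (zpowers y) P (hP.to_le hA)
    (by rw [Nat.card_zpowers]; exact Nat.coprime_two_right.2 hy) hP (by
      intro a ha
      rw [mem_centralizer_iff]
      intro x hx
      exact (hz x hx a (hyA a ha).symm).symm) (hnor _) (hnor _) (by
      rintro p ⟨hp, hpA⟩
      rw [mem_centralizer_iff]
      intro x hx
      refine (hz x hx p ?_).symm
      exact (hc p hp fun a ha => (mem_centralizer_iff.1 hpA a ha).symm).symm)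
  intro p hp
  exact (mem_centralizer_iff.1 (h1 (mem_zpowers y)) p hp).symm

/-- a subgroup without nontrivial elements of odd order is a 2-group -/
theorem isPGroup_of_odd [Finite H] {W : Subgroup H} (h : ∀ y ∈ W, Odd (orderOf y) → y = 1) : IsPGroup 2 W := by
  rintro ⟨x, hx⟩
  obtain ⟨k, m, hm, hk⟩ := Nat.exists_eq_two_pow_mul_odd (orderOf_pos x).ne'
  refine ⟨k, Subtype.ext ?_⟩
  change x ^ 2 ^ k = 1
  refine h _ (pow_mem hx _) ?_
  have h1 : orderOf (x ^ 2 ^ k) ∣ m := by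
    apply orderOf_dvd_of_pow_eq_one
    rw [← pow_mul, ← hk, pow_orderOf_eq_one]
  exact hm.of_dvd_nat h1

/-- `v' = v` -/
theorem comm_v [Finite H] {X S J J' K : Subgroup H} {z i j v v' : H} (L : Loc X S z J i j v)
    (L' : Loc X S z J' i j v') [hKn : K.Normal] (hu : v⁻¹ * v' ∈ K)
    (hW : ∀ y ∈ K, y ∈ X → (∀ s ∈ S, y * s = s * y) → Odd (orderOf y) → y = 1) : v' = v := by
  set u := v⁻¹ * v' with hud
  have hvX : v ∈ X := L.sn.le L.sl.hd
  have hvX' : v' ∈ X := L'.sn.le L'.sl.hd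
  -- `u` centralises `Q`
  have uQ : ∀ q ∈ closure ({i, j} : Set H), u * q = q * u := by
    have h1 : u * i = i * u := by
      have h2 : v' * i * v'⁻¹ = v * i * v⁻¹ := by rw [L.sl.di, L'.sl.di]
      calc u * i = v⁻¹ * (v' * i * v'⁻¹) * v' := by rw [hud]; group
        _ = i * u := by rw [h2, hud]; group
    have h2 : u * j = j * u := by
      have h2 : v' * j * v'⁻¹ = v * j * v⁻¹ := by rw [L.sl.dj, L'.sl.dj]
      calc u * j = v⁻¹ * (v' * j * v'⁻¹) * v' := by rw [hud]; group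
        _ = j * u := by rw [h2, hud]; group
    have h3 : closure ({i, j} : Set H) ≤ centralizer {u} := by
      rw [closure_le]
      rintro x (rfl | rfl)
      · exact mem_centralizer_singleton_iff.2 h1.symm
      · exact mem_centralizer_singleton_iff.2 h2.symm
    intro q hq
    exact (mem_centralizer_singleton_iff.1 (h3 hq)).symm
  -- `u` centralises `S`
  have uS : ∀ s ∈ S, u * s = s * u := by
    intro s hs
    obtain ⟨q, hq, c, hc, rfl, hvc, hcQ⟩ := decomp L.sl L.two L.q L.br hs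
    have hvc' := comm_v_of_comm L'.sl L'.br hc hcQ
    have h1 : u * c = c * u := by
      have h2 : v⁻¹ * c = c * v⁻¹ := by
        calc v⁻¹ * c = v⁻¹ * (c * v) * v⁻¹ := by group
          _ = v⁻¹ * (v * c) * v⁻¹ := by rw [hvc]
          _ = c * v⁻¹ := by group
      rw [hud, mul_assoc, hvc', ← mul_assoc, h2, mul_assoc]
    rw [← mul_assoc, uQ q hq, mul_assoc, h1, ← mul_assoc]
  have uX : u ∈ X := mul_mem (inv_mem hvX) hvX'
  set W := (K ⊓ X) ⊓ centralizer (S : Set H) with hWd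
  have memW : ∀ y, y ∈ W ↔ (y ∈ K ∧ y ∈ X) ∧ ∀ s ∈ S, y * s = s * y := by
    intro y
    rw [hWd, mem_inf, mem_inf, mem_centralizer_iff]
    exact ⟨fun h => ⟨h.1, fun s hs => (h.2 s hs).symm⟩, fun h => ⟨h.1, fun s hs => (h.2 s hs).symm⟩⟩
  have hW2 : IsPGroup 2 W := isPGroup_of_odd fun y hy ho => hW y ((memW y).1 hy).1.1 ((memW y).1 hy).1.2 ((memW y).1 hy).2 ho
  have hWn : X ≤ normalizer (W : Set H) := by
    have key : ∀ x ∈ X, ∀ y ∈ W, x * y * x⁻¹ ∈ W := by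
      intro x hx y hy
      obtain ⟨⟨h1, h2⟩, h3⟩ := (memW y).1 hy
      refine (memW _).2 ⟨⟨hKn.conj_mem y h1 x, mul_mem (mul_mem hx h2) (inv_mem hx)⟩, ?_⟩
      intro s hs
      have h4 : x⁻¹ * s * x ∈ S := by
        refine (mem_normalizer_iff.1 (L.nor hx) _).2 ?_
        have e : x * (x⁻¹ * s * x) * x⁻¹ = s := by group
        rw [e]; exact hs
      calc x * y * x⁻¹ * s = x * (y * (x⁻¹ * s * x)) * x⁻¹ := by group
        _ = x * ((x⁻¹ * s * x) * y) * x⁻¹ := by rw [h3 _ h4]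
        _ = s * (x * y * x⁻¹) := by group
    intro x hx
    rw [mem_normalizer_iff]
    intro y
    refine ⟨key x hx y, fun h => ?_⟩
    have h1 := key x⁻¹ (inv_mem hx) _ h
    have e : x⁻¹ * (x * y * x⁻¹) * x⁻¹⁻¹ = y := by group
    rwa [e] at h1
  have hWX : W ≤ X := inf_le_left.trans inf_le_right
  -- `S W` is a normal 2-subgroup of `X`
  have hSW2 : IsPGroup 2 (S ⊔ W : Subgroup H) :=
    IsPGroup.to_sup_of_normal_right' L.two hW2 (L.le.trans hWn)
  have hSWn : X ≤ normalizer ((S ⊔ W : Subgroup H) : Set H) := by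
    intro x hx
    rw [mem_normalizer_iff_cj, show Cit.cj x (S ⊔ W) = Cit.cj x S ⊔ Cit.cj x W from Subgroup.map_sup _ _ _,
      mem_normalizer_iff_cj.1 (L.nor hx), mem_normalizer_iff_cj.1 (hWn hx)]
  have L2 : Loc X (S ⊔ W) z J i j v := ⟨sup_le L.le hWX, hSWn, hSW2, L.sl, L.sn, L.q.trans le_sup_left⟩
  have huW : u ∈ W := (memW u).2 ⟨⟨hu, uX⟩, uS⟩
  have h1 : v * u * v⁻¹ * u⁻¹ ∈ closure ({i, j} : Set H) := L2.br u (mem_sup_right huW)
  have h2 : v * u * v⁻¹ * u⁻¹ ∈ W := mul_mem ((mem_normalizer_iff.1 (hWn hvX) u).1 huW) (inv_mem huW)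
  have h3 : v * u * v⁻¹ * u⁻¹ = 1 ∨ v * u * v⁻¹ * u⁻¹ = z :=
    L.sl.q.central h1 (((memW _).1 h2).2 i (L.q (Qt.mem_i z i j))) (((memW _).1 h2).2 j (L.q (Qt.mem_j z i j)))
  have h4 : v * u = u * v := by
    rcases h3 with h3 | h3
    · exact mul_inv_eq_iff_eq_mul.1 (mul_inv_eq_one.1 h3)
    · exact (ne_z_mul L.sl (mul_inv_eq_iff_eq_mul.1 h3)).elim
  have h5 : u * u * u = 1 := by
    have e1 : v' = v * u := by rw [hud]; group
    have e2 : v' * v' * v' = (v * v * v) * (u * u * u) := by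
      rw [e1]
      calc v * u * (v * u) * (v * u) = v * (u * v) * u * v * u := by group
        _ = v * (v * u) * u * v * u := by rw [h4]
        _ = v * v * u * (u * v) * u := by group
        _ = v * v * u * (v * u) * u := by rw [h4]
        _ = v * v * (u * v) * u * u := by group
        _ = v * v * (v * u) * u * u := by rw [h4]
        _ = (v * v * v) * (u * u * u) := by group
    rw [show v' * v' * v' = 1 from L'.sl.d3, show v * v * v = 1 from L.sl.d3, one_mul] at e2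
    exact e2.symm
  obtain ⟨n, hn⟩ := hW2 ⟨u, huW⟩
  have h6 : u = 1 := SLThree.Sl.eq_one_of_cube h5 (n := n) (by simpa using congrArg Subtype.val hn)
  rw [hud] at h6
  exact (inv_mul_eq_one.1 h6).symm

/-- `Q₃ ∩ Q₄ ≤ ⟨z⟩`, `Q₃ ≠ Q₄` -/
theorem Half.inter {P : Subgroup H} {z w : H} {J₁ J₂ : Subgroup H} {i₁ j₁ v₁ i₂ j₂ v₂ : H}
    (D : Half P z w J₁ J₂ i₁ j₁ v₁ i₂ j₂ v₂) {x : H} (h1 : x ∈ closure ({i₁, j₁} : Set H))
    (h2 : x ∈ closure ({i₂, j₂} : Set H)) : x = 1 ∨ x = z :=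
  D.h1.q.central h1 (D.cm i₁ D.h1.hi x (D.h2.Qle h2)).symm (D.cm j₁ D.h1.hj x (D.h2.Qle h2)).symm

theorem Half.ne {P : Subgroup H} {z w : H} {J₁ J₂ : Subgroup H} {i₁ j₁ v₁ i₂ j₂ v₂ : H}
    (D : Half P z w J₁ J₂ i₁ j₁ v₁ i₂ j₂ v₂) : closure ({i₁, j₁} : Set H) ≠ closure ({i₂, j₂} : Set H) := by
  intro h
  have h1 : i₁ ∈ closure ({i₂, j₂} : Set H) := h ▸ Qt.mem_i z i₁ j₁
  rcases D.inter (Qt.mem_i z i₁ j₁) h1 with h2 | h2
  · exact D.h1.q.i_ne h2
  · have h3 := D.h1.q.i2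
    rw [h2, D.h1.q.z2] at h3
    exact D.h1.q.z1 h3.symm

section OneG

variable [Finite H] {P : Subgroup H} [hPn : P.Normal] (hP : IsPGroup 2 P) {z w w' : H} {J₃ J₄ : Subgroup H}
  {i₃ j₃ v₃ i₄ j₄ v₄ : H} (D' : Half P z w' J₃ J₄ i₃ j₃ v₃ i₄ j₄ v₄) (hw'P : w' ∈ P)
  {a₃ a₄ : H} (ha₃ : a₃ ∈ closure ({i₃, j₃} : Set H)) (ha₄ : a₄ ∈ closure ({i₄, j₄} : Set H))
  (s₃ : a₃ * a₃ = z) (s₄ : a₄ * a₄ = z) (hw : w = a₃ * a₄)
  {g : H} (gz : g * z = z * g) (gw : g * w = w * g) (g3 : g * g * g = 1)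
  (c₃ : ∀ y ∈ J₃, g * w' * g⁻¹ * y = y * (g * w' * g⁻¹)) (c₄ : ∀ y ∈ J₄, g * w' * g⁻¹ * y = y * (g * w' * g⁻¹))
  (c₃' : ∀ y ∈ J₃, g⁻¹ * w' * g * y = y * (g⁻¹ * w' * g)) (c₄' : ∀ y ∈ J₄, g⁻¹ * w' * g * y = y * (g⁻¹ * w' * g))

/-- the subgroup `X = C(w') ∩ C(w'^g)` -/
def XX (w' g : H) : Subgroup H := centralizer ({w'} : Set H) ⊓ centralizer ({g * w' * g⁻¹} : Set H)

omit [Finite H] in
theorem mem_XX {w' g x : H} : x ∈ XX w' g ↔ x * w' = w' * x ∧ x * (g * w' * g⁻¹) = (g * w' * g⁻¹) * x := by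
  rw [XX, mem_inf, mem_centralizer_singleton_iff, mem_centralizer_singleton_iff]

omit [Finite H] in
theorem XX_nor (w' g : H) : XX w' g ≤ normalizer ((P ⊓ XX w' g : Subgroup H) : Set H) := by
  intro x hx
  rw [mem_normalizer_iff]
  intro y
  constructor
  · rintro ⟨h1, h2⟩
    exact mem_inf.2 ⟨hPn.conj_mem y h1 x, mul_mem (mul_mem hx h2) (inv_mem hx)⟩
  · rintro ⟨h1, h2⟩
    have e : x⁻¹ * (x * y * x⁻¹) * x⁻¹⁻¹ = y := by group
    refine mem_inf.2 ⟨?_, ?_⟩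
    · have := hPn.conj_mem _ h1 x⁻¹
      rwa [e] at this
    · have := mul_mem (mul_mem (inv_mem hx) h2) (inv_mem (inv_mem hx))
      rwa [e] at this

include hP

omit [Finite H] in
theorem loc_one {J : Subgroup H} {i j v : H} (hJ : Sl J z i j v) (hs : Sn J (centralizer ({w'} : Set H)))
    (hQ : closure ({i, j} : Set H) ≤ P) (hc : ∀ y ∈ J, g * w' * g⁻¹ * y = y * (g * w' * g⁻¹)) :
    Loc (XX w' g) (P ⊓ XX w' g) z J i j v := by
  have hX : J ≤ XX w' g := fun y hy =>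
    mem_XX.2 ⟨mem_centralizer_singleton_iff.1 (hs.le hy), (hc y hy).symm⟩
  exact ⟨inf_le_right, XX_nor w' g, hP.to_le inf_le_left, hJ, hs.restrict inf_le_left hX, le_inf hQ (hJ.Qle.trans hX)⟩

include gz

omit [Finite H] in
theorem loc_two {J : Subgroup H} {i j v : H} (hJ : Sl J z i j v) (hs : Sn J (centralizer ({w'} : Set H)))
    (hQ : closure ({i, j} : Set H) ≤ P) (hc : ∀ y ∈ J, g⁻¹ * w' * g * y = y * (g⁻¹ * w' * g)) :
    Loc (XX w' g) (P ⊓ XX w' g) z (Cit.cj g J) (g * i * g⁻¹) (g * j * g⁻¹) (g * v * g⁻¹) := by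
  have hX : Cit.cj g J ≤ XX w' g := by
    rintro _ ⟨y, hy, rfl⟩
    change g * y * g⁻¹ ∈ XX w' g
    refine mem_XX.2 ⟨?_, ?_⟩
    · calc g * y * g⁻¹ * w' = g * (y * (g⁻¹ * w' * g)) * g⁻¹ := by group
        _ = g * (g⁻¹ * w' * g * y) * g⁻¹ := by rw [hc y hy]
        _ = w' * (g * y * g⁻¹) := by group
    · have h1 : y * w' = w' * y := mem_centralizer_singleton_iff.1 (hs.le hy)
      calc g * y * g⁻¹ * (g * w' * g⁻¹) = g * (y * w') * g⁻¹ := by group
        _ = g * (w' * y) * g⁻¹ := by rw [h1]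
        _ = g * w' * g⁻¹ * (g * y * g⁻¹) := by group
  have h1 : Sl (Cit.cj g J) z (g * i * g⁻¹) (g * j * g⁻¹) (g * v * g⁻¹) := by
    have := hJ.of_cj g
    have e : g * z * g⁻¹ = z := by rw [gz]; group
    rwa [e] at this
  have h2 : Cit.cj g (centralizer ({w'} : Set H)) = centralizer ({g * w' * g⁻¹} : Set H) := by
    ext x
    rw [Cit.mem_cj, mem_centralizer_singleton_iff, mem_centralizer_singleton_iff]
    constructor
    · intro h
      calc x * (g * w' * g⁻¹) = g * (g⁻¹ * x * g * w') * g⁻¹ := by group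
        _ = g * (w' * (g⁻¹ * x * g)) * g⁻¹ := by rw [h]
        _ = g * w' * g⁻¹ * x := by group
    · intro h
      calc g⁻¹ * x * g * w' = g⁻¹ * (x * (g * w' * g⁻¹)) * g := by group
        _ = g⁻¹ * (g * w' * g⁻¹ * x) * g := by rw [h]
        _ = w' * (g⁻¹ * x * g) := by group
  have h3 := hs.cj g
  rw [h2] at h3
  refine ⟨inf_le_right, XX_nor w' g, hP.to_le inf_le_left, h1, h3.restrict inf_le_right hX, ?_⟩
  refine le_inf ?_ (h1.Qle.trans hX)
  rw [cj_closure_pair]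
  rintro _ ⟨y, hy, rfl⟩
  exact hPn.conj_mem y (hQ hy) g

include D' ha₃ ha₄ s₃ s₄ hw gw g3 c₃ c₄ c₃' c₄'

/-- `g` normalises `Q₃` and `Q₄` -/
theorem perm_four : Cit.cj g (closure ({i₃, j₃} : Set H)) = closure ({i₃, j₃} : Set H) ∧
    Cit.cj g (closure ({i₄, j₄} : Set H)) = closure ({i₄, j₄} : Set H) := by
  have L₃ := loc_one hP D'.h1 D'.sn1 D'.q1 c₃
  have L₄ := loc_one hP D'.h2 D'.sn2 D'.q2 c₄
  have L₃' := loc_two hP gz D'.h1 D'.sn1 D'.q1 c₃'
  have L₄' := loc_two hP gz D'.h2 D'.sn2 D'.q2 c₄'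
  have cm : a₃ * a₄ = a₄ * a₃ := D'.cm a₃ (D'.h1.Qle ha₃) a₄ (D'.h2.Qle ha₄)
  have m₃ : g * a₃ * g⁻¹ ∈ closure ({g * i₃ * g⁻¹, g * j₃ * g⁻¹} : Set H) := by
    rw [cj_closure_pair]; exact ⟨a₃, ha₃, rfl⟩
  have m₄ : g * a₄ * g⁻¹ ∈ closure ({g * i₄ * g⁻¹, g * j₄ * g⁻¹} : Set H) := by
    rw [cj_closure_pair]; exact ⟨a₄, ha₄, rfl⟩
  have e1 : a₃ * a₄ = (g * a₃ * g⁻¹) * (g * a₄ * g⁻¹) := by
    calc a₃ * a₄ = w * g * g⁻¹ := by rw [hw]; group
      _ = g * w * g⁻¹ := by rw [gw]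
      _ = (g * a₃ * g⁻¹) * (g * a₄ * g⁻¹) := by rw [hw]; group
  have h3 := L₃.perm_one L₃' L₄' ha₃ s₃ m₃ m₄
    (fun q hq => D'.cm q (D'.h1.Qle hq) a₄ (D'.h2.Qle ha₄)) e1
  have h4 := L₄.perm_one L₃' L₄' ha₄ s₄ m₃ m₄
    (fun q hq => (D'.cm a₃ (D'.h1.Qle ha₃) q (D'.h2.Qle hq)).symm) (cm.symm.trans e1)
  rw [cj_closure_pair, cj_closure_pair] at h3 h4
  have hne := D'.ne
  rcases h3 with h3 | h3 <;> rcases h4 with h4 | h4
  · exact absurd (h3.trans h4.symm) hne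
  · exact ⟨h3.symm, h4.symm⟩
  · exfalso
    have h5 : Cit.cj (g * g * g) (closure ({i₃, j₃} : Set H)) = closure ({i₃, j₃} : Set H) := by
      rw [g3, Cit.cj_one]
    rw [cj_mul, cj_mul, ← h4, ← h3, ← h4] at h5
    exact hne h5.symm
  · exact absurd (h3.trans h4.symm) hne

/-- `g` centralises `Q₃` -/
theorem comm_Q3 : ∀ q ∈ closure ({i₃, j₃} : Set H), g * q = q * g := by
  obtain ⟨n₃, n₄⟩ := perm_four hP D' ha₃ ha₄ s₃ s₄ hw gz gw g3 c₃ c₄ c₃' c₄'
  have n₃' : ∀ q ∈ closure ({i₃, j₃} : Set H), g * q * g⁻¹ ∈ closure ({i₃, j₃} : Set H) := by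
    intro q hq
    rw [← n₃]; exact ⟨q, hq, rfl⟩
  have n₄' : ∀ q ∈ closure ({i₄, j₄} : Set H), g * q * g⁻¹ ∈ closure ({i₄, j₄} : Set H) := by
    intro q hq
    rw [← n₄]; exact ⟨q, hq, rfl⟩
  refine comm_of_fix D'.h1.q g3 gz n₃' ha₃ s₃ ?_
  -- `g` commutes with `a₃`
  have e1 : a₃ * a₄ = (g * a₃ * g⁻¹) * (g * a₄ * g⁻¹) := by
    calc a₃ * a₄ = w * g * g⁻¹ := by rw [hw]; group
      _ = g * w * g⁻¹ := by rw [gw]
      _ = (g * a₃ * g⁻¹) * (g * a₄ * g⁻¹) := by rw [hw]; group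
  have e2 : (g * a₃ * g⁻¹)⁻¹ * a₃ = (g * a₄ * g⁻¹) * a₄⁻¹ := by
    calc (g * a₃ * g⁻¹)⁻¹ * a₃ = (g * a₃ * g⁻¹)⁻¹ * (a₃ * a₄) * a₄⁻¹ := by group
      _ = (g * a₄ * g⁻¹) * a₄⁻¹ := by rw [e1]; group
  have h1 : (g * a₃ * g⁻¹)⁻¹ * a₃ ∈ closure ({i₃, j₃} : Set H) := mul_mem (inv_mem (n₃' _ ha₃)) ha₃
  have h2 : (g * a₃ * g⁻¹)⁻¹ * a₃ ∈ closure ({i₄, j₄} : Set H) := by
    rw [e2]; exact mul_mem (n₄' _ ha₄) (inv_mem ha₄)
  rcases D'.inter h1 h2 with h3 | h3
  · exact (mul_inv_eq_iff_eq_mul.1 (inv_mul_eq_one.1 h3))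
  · exfalso
    refine ne_z_mul' (g := g) (x := a₃) D'.h1.q.z1 D'.h1.q.z2 gz g3 ?_
    have h4 : a₃ = (g * a₃ * g⁻¹) * z := by rw [← h3]; group
    have h5 : (g * a₃ * g⁻¹) * z = z * (g * a₃ * g⁻¹) := D'.h1.q.comm_z (n₃' _ ha₃)
    calc g * a₃ * g⁻¹ = (z * z) * (g * a₃ * g⁻¹) := by rw [D'.h1.q.z2, one_mul]
      _ = z * (z * (g * a₃ * g⁻¹)) := by rw [mul_assoc]
      _ = z * a₃ := by rw [← h5, ← h4]

variable {K : Subgroup H} [hKn : K.Normal] (hg : g ∈ K)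
  (hK : ∀ y ∈ K, (∀ p ∈ P, y * p = p * y) → y ∈ P)

include hw'P hg hK

/-- `g` centralises `J₃` -/
theorem comm_J3 : ∀ y ∈ J₃, g * y = y * g := by
  have gQ := comm_Q3 hP D' ha₃ ha₄ s₃ s₄ hw gz gw g3 c₃ c₄ c₃' c₄'
  have L := loc_one hP D'.h1 D'.sn1 D'.q1 c₃
  have L' := loc_two hP gz D'.h1 D'.sn1 D'.q1 c₃'
  have e1 : g * i₃ * g⁻¹ = i₃ := by rw [gQ i₃ (Qt.mem_i z i₃ j₃)]; group
  have e2 : g * j₃ * g⁻¹ = j₃ := by rw [gQ j₃ (Qt.mem_j z i₃ j₃)]; group
  rw [e1, e2] at L'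
  have h1 : g * v₃ * g⁻¹ = v₃ := by
    refine comm_v (K := K) L L' ?_ ?_
    · have e : v₃⁻¹ * (g * v₃ * g⁻¹) = (v₃⁻¹ * g * v₃⁻¹⁻¹) * g⁻¹ := by group
      rw [e]
      exact mul_mem (hKn.conj_mem g hg v₃⁻¹) (inv_mem hg)
    · intro y hyK hyX hyS ho
      have h2 := mem_XX.1 hyX
      have hyP : ∀ p ∈ P, y * p = p * y := by
        refine axb (A := closure ({w', g * w' * g⁻¹} : Set H)) hP ?_ ho ?_ ?_
        · rw [closure_le]
          rintro x (rfl | rfl)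
          · exact hw'P
          · exact hPn.conj_mem _ hw'P g
        · have h3 : closure ({w', g * w' * g⁻¹} : Set H) ≤ centralizer {y} := by
            rw [closure_le]
            rintro x (rfl | rfl)
            · exact mem_centralizer_singleton_iff.2 h2.1.symm
            · exact mem_centralizer_singleton_iff.2 h2.2.symm
          intro a ha
          exact (mem_centralizer_singleton_iff.1 (h3 ha)).symm
        · intro p hp hpA
          exact hyS p (mem_inf.2 ⟨hp, mem_XX.2 ⟨hpA _ (subset_closure (by simp)), hpA _ (subset_closure (by simp))⟩⟩)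
      have hy := hK y hyK hyP
      obtain ⟨n, hn⟩ := hP ⟨y, hy⟩
      have hn' : y ^ 2 ^ n = 1 := by simpa using congrArg Subtype.val hn
      have h3 : orderOf y ∣ 2 ^ n := orderOf_dvd_of_pow_eq_one hn'
      have h4 : Nat.Coprime (orderOf y) (2 ^ n) := Nat.Coprime.pow_right n (Nat.coprime_two_right.2 ho)
      have h5 := Nat.dvd_gcd dvd_rfl h3
      rw [h4] at h5
      exact orderOf_eq_one_iff.1 (Nat.dvd_one.1 h5)
  have h2 : J₃ ≤ centralizer {g} := by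
    rw [D'.h1.gen, closure_le]
    rintro x (rfl | rfl)
    · exact mem_centralizer_singleton_iff.2 (gQ _ (Qt.mem_i z _ j₃)).symm
    · exact mem_centralizer_singleton_iff.2 (mul_inv_eq_iff_eq_mul.1 h1).symm
  intro y hy
  exact (mem_centralizer_singleton_iff.1 (h2 hy)).symm

/-- `g` centralises `J₄` -/
theorem comm_J4 : ∀ y ∈ J₄, g * y = y * g :=
  comm_J3 hP D'.symm hw'P ha₄ ha₃ s₄ s₃ (hw.trans (D'.cm a₃ (D'.h1.Qle ha₃) a₄ (D'.h2.Qle ha₄))) gz gw g3 c₄ c₃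
    c₄' c₃' hg hK

end OneG

/-- a conjugate of an element of order 4 under an element of order 3 -/
theorem anti {J : Subgroup H} {z i j v a : H} (h : Sl J z i j v) (ha : a ∈ closure ({i, j} : Set H)) (s : a * a = z)
    {u : H} (hu : u = v ∨ u = v⁻¹) : u * a * u⁻¹ ∈ closure ({i, j} : Set H) ∧ (u * a * u⁻¹) * (u * a * u⁻¹) = z ∧
      (u * a * u⁻¹) * a = z * (a * (u * a * u⁻¹)) := by
  have key : ∀ a ∈ closure ({i, j} : Set H), a * a = z → v * a * v⁻¹ ∈ closure ({i, j} : Set H) ∧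
      (v * a * v⁻¹) * (v * a * v⁻¹) = z ∧ (v * a * v⁻¹) * a = z * (a * (v * a * v⁻¹)) := by
    intro a ha s
    have hm := h.conj_mem ha
    have h2 : (v * a * v⁻¹) * (v * a * v⁻¹) = z := by
      calc (v * a * v⁻¹) * (v * a * v⁻¹) = v * (a * a) * v⁻¹ := by group
        _ = z := by rw [s, h.dz]; group
    refine ⟨hm, h2, ?_⟩
    rcases q_conj h.q hm ha with h3 | h3
    · exfalso
      have h4 : a * (v * a * v⁻¹) = (v * a * v⁻¹) * a := (mul_inv_eq_iff_eq_mul.1 h3).symm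
      rcases h.q.eq_or ha hm s h2 h4 with h5 | h5
      · have h6 := comm_of_fix h.q h.d3 h.dz (fun q hq => h.conj_mem hq) ha s (mul_inv_eq_iff_eq_mul.1 h5) i
          (Qt.mem_i z i j)
        have h7 := h.di
        rw [h6] at h7
        have h8 : i = j := by rw [← h7]; group
        exact h.q.not_comm (by rw [h8])
      · exact ne_z_mul h h5
    · rw [mul_inv_eq_iff_eq_mul.1 h3, mul_assoc]
  rcases hu with rfl | rfl
  · exact key a ha s
  · have hm : v⁻¹ * a * v⁻¹⁻¹ ∈ closure ({i, j} : Set H) := by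
      have h1 := h.conj_mem (h.conj_mem ha)
      have e : v * (v * a * v⁻¹) * v⁻¹ = v⁻¹ * a * v⁻¹⁻¹ := by
        have h4 : v * v = v⁻¹ := h.d_inv.symm
        calc v * (v * a * v⁻¹) * v⁻¹ = (v * v) * a * (v * v)⁻¹ := by group
          _ = v⁻¹ * a * v⁻¹⁻¹ := by rw [h4]
      rwa [e] at h1
    have h2 : (v⁻¹ * a * v⁻¹⁻¹) * (v⁻¹ * a * v⁻¹⁻¹) = z := by
      calc (v⁻¹ * a * v⁻¹⁻¹) * (v⁻¹ * a * v⁻¹⁻¹) = v⁻¹ * (a * a) * v := by group
        _ = v⁻¹ * (z * v) := by rw [s]; group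
        _ = z := by rw [← h.dz]; group
    have h3 := (key _ hm h2).2.2
    have e : v * (v⁻¹ * a * v⁻¹⁻¹) * v⁻¹ = a := by group
    rw [e] at h3
    refine ⟨hm, h2, ?_⟩
    rw [h3, h.q.zz]

/-- `J` is generated by an element of order 4 and one of order 3 -/
theorem gen_mem {J : Subgroup H} {z i j v a : H} (h : Sl J z i j v) (ha : a ∈ closure ({i, j} : Set H))
    (s : a * a = z) {C : Subgroup H} (haC : a ∈ C) (hvC : v ∈ C) : J ≤ C := by
  have hzC : z ∈ C := by rw [← s]; exact mul_mem haC haC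
  have hj : j ∈ C → i ∈ C := by
    intro hj
    have e : i = v⁻¹ * j * v := by rw [← h.di]; group
    rw [e]; exact mul_mem (mul_mem (inv_mem hvC) hj) hvC
  have hk : i * j ∈ C → j ∈ C := by
    intro hk
    have e : j = v⁻¹ * (i * j) * v := by rw [← h.dj]; group
    rw [e]; exact mul_mem (mul_mem (inv_mem hvC) hk) hvC
  have hz : ∀ x, z * x ∈ C → x ∈ C := fun x hx => (C.mul_mem_cancel_left hzC).1 hx
  have hi : i ∈ C := by
    rcases h.q.mem_cases ha with e | e | e | e | e | e | e | e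
    · exfalso; rw [e, one_mul] at s; exact h.q.z1 s.symm
    · exfalso; rw [e, h.q.z2] at s; exact h.q.z1 s.symm
    · rwa [e] at haC
    · rw [e] at haC; exact hz _ haC
    · rw [e] at haC; exact hj haC
    · rw [e] at haC; exact hj (hz _ haC)
    · rw [e] at haC; exact hj (hk haC)
    · rw [e] at haC; exact hj (hk (hz _ haC))
  rw [h.gen, closure_le]
  rintro x (rfl | rfl)
  · exact hi
  · exact hvC

section All

variable [Finite H] {P : Subgroup H} [hPn : P.Normal] (hP : IsPGroup 2 P) {z w w' : H}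
  {J₁ J₂ J₃ J₄ : Subgroup H} {i₁ j₁ v₁ i₂ j₂ v₂ i₃ j₃ v₃ i₄ j₄ v₄ : H}
  (D : Half P z w J₁ J₂ i₁ j₁ v₁ i₂ j₂ v₂) (D' : Half P z w' J₃ J₄ i₃ j₃ v₃ i₄ j₄ v₄)
  {a₁ a₂ a₃ a₄ : H} (ha₁ : a₁ ∈ closure ({i₁, j₁} : Set H)) (ha₂ : a₂ ∈ closure ({i₂, j₂} : Set H))
  (ha₃ : a₃ ∈ closure ({i₃, j₃} : Set H)) (ha₄ : a₄ ∈ closure ({i₄, j₄} : Set H))
  (s₁ : a₁ * a₁ = z) (s₂ : a₂ * a₂ = z) (s₃ : a₃ * a₃ = z) (s₄ : a₄ * a₄ = z) (hw' : w' = a₁ * a₂)
  (hw : w = a₃ * a₄) {K : Subgroup H} [hKn : K.Normal] (k₁ : J₁ ≤ K) (k₂ : J₂ ≤ K)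
  (hK : ∀ y ∈ K, (∀ p ∈ P, y * p = p * y) → y ∈ P)
  (hr : ∀ x₁ ∈ J₁, ∀ x₂ ∈ J₂, x₁ * x₁ = z → x₂ * x₂ = z → x₁ * a₁ = z * (a₁ * x₁) → x₂ * a₂ = z * (a₂ * x₂) →
    ∀ y, y ∈ J₃ ∨ y ∈ J₄ → x₁ * x₂ * y = y * (x₁ * x₂))

include hP D D' ha₁ ha₂ ha₃ ha₄ s₁ s₂ s₃ s₄ hw' hw k₁ k₂ hK hr

/-- **(3d) (a2), K-free part**: `[J₁J₂, J₃J₄] = 1`. -/
theorem comm_all : ∀ x, x ∈ J₁ ∨ x ∈ J₂ → ∀ y, y ∈ J₃ ∨ y ∈ J₄ → x * y = y * x := by
  have cv : v₁ * v₂ = v₂ * v₁ := D.cm v₁ D.h1.hd v₂ D.h2.hd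
  have m₁ : ∀ u₁, u₁ = v₁ ∨ u₁ = v₁⁻¹ → u₁ ∈ J₁ := by
    rintro u (rfl | rfl)
    · exact D.h1.hd
    · exact inv_mem D.h1.hd
  have m₂ : ∀ u₂, u₂ = v₂ ∨ u₂ = v₂⁻¹ → u₂ ∈ J₂ := by
    rintro u (rfl | rfl)
    · exact D.h2.hd
    · exact inv_mem D.h2.hd
  have i₁' : ∀ u₁, u₁ = v₁ ∨ u₁ = v₁⁻¹ → u₁⁻¹ = v₁ ∨ u₁⁻¹ = v₁⁻¹ := by
    rintro u (rfl | rfl)
    · exact Or.inr rfl
    · exact Or.inl (inv_inv _)
  have i₂' : ∀ u₂, u₂ = v₂ ∨ u₂ = v₂⁻¹ → u₂⁻¹ = v₂ ∨ u₂⁻¹ = v₂⁻¹ := by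
    rintro u (rfl | rfl)
    · exact Or.inr rfl
    · exact Or.inl (inv_inv _)
  have cub₁ : ∀ u₁, u₁ = v₁ ∨ u₁ = v₁⁻¹ → u₁ * u₁ * u₁ = 1 := by
    rintro u (rfl | rfl)
    · exact D.h1.d3
    · have h3 : v₁ * v₁ * v₁ = 1 := D.h1.d3
      calc v₁⁻¹ * v₁⁻¹ * v₁⁻¹ = (v₁ * v₁ * v₁)⁻¹ := by group
        _ = 1 := by rw [h3, inv_one]
  have cub₂ : ∀ u₂, u₂ = v₂ ∨ u₂ = v₂⁻¹ → u₂ * u₂ * u₂ = 1 := by
    rintro u (rfl | rfl)
    · exact D.h2.d3
    · have h3 : v₂ * v₂ * v₂ = 1 := D.h2.d3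
      calc v₂⁻¹ * v₂⁻¹ * v₂⁻¹ = (v₂ * v₂ * v₂)⁻¹ := by group
        _ = 1 := by rw [h3, inv_one]
  -- conjugates of `w'`
  have cw : ∀ u₁, u₁ = v₁ ∨ u₁ = v₁⁻¹ → ∀ u₂, u₂ = v₂ ∨ u₂ = v₂⁻¹ →
      (u₁ * u₂) * w' * (u₁ * u₂)⁻¹ = (u₁ * a₁ * u₁⁻¹) * (u₂ * a₂ * u₂⁻¹) := by
    intro u₁ h₁ u₂ h₂
    have e1 : u₂ * a₁ = a₁ * u₂ := (D.cm a₁ (D.h1.Qle ha₁) u₂ (m₂ u₂ h₂)).symm
    have e2 : u₂ * a₂ * u₂⁻¹ * u₁⁻¹ = u₁⁻¹ * (u₂ * a₂ * u₂⁻¹) :=
      (D.cm u₁⁻¹ (inv_mem (m₁ u₁ h₁)) _ (mul_mem (mul_mem (m₂ u₂ h₂) (D.h2.Qle ha₂)) (inv_mem (m₂ u₂ h₂)))).symm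
    calc (u₁ * u₂) * w' * (u₁ * u₂)⁻¹ = u₁ * (u₂ * a₁) * a₂ * u₂⁻¹ * u₁⁻¹ := by rw [hw']; group
      _ = u₁ * a₁ * (u₂ * a₂ * u₂⁻¹ * u₁⁻¹) := by rw [e1]; group
      _ = (u₁ * a₁ * u₁⁻¹) * (u₂ * a₂ * u₂⁻¹) := by rw [e2]; group
  have cc : ∀ u₁, u₁ = v₁ ∨ u₁ = v₁⁻¹ → ∀ u₂, u₂ = v₂ ∨ u₂ = v₂⁻¹ → ∀ y, y ∈ J₃ ∨ y ∈ J₄ →
      (u₁ * u₂) * w' * (u₁ * u₂)⁻¹ * y = y * ((u₁ * u₂) * w' * (u₁ * u₂)⁻¹) := by
    intro u₁ h₁ u₂ h₂ y hy
    rw [cw u₁ h₁ u₂ h₂]
    obtain ⟨b1, b2, b3⟩ := anti D.h1 ha₁ s₁ h₁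
    obtain ⟨b4, b5, b6⟩ := anti D.h2 ha₂ s₂ h₂
    exact hr _ (D.h1.Qle b1) _ (D.h2.Qle b4) b2 b5 b3 b6 y hy
  have hw'P : w' ∈ P := by rw [hw']; exact mul_mem (D.q1 ha₁) (D.q2 ha₂)
  -- `u₁ u₂` centralises `J₃`, `J₄`
  have key : ∀ u₁, u₁ = v₁ ∨ u₁ = v₁⁻¹ → ∀ u₂, u₂ = v₂ ∨ u₂ = v₂⁻¹ → ∀ y, y ∈ J₃ ∨ y ∈ J₄ →
      (u₁ * u₂) * y = y * (u₁ * u₂) := by
    intro u₁ h₁ u₂ h₂ y hy
    have c12 : u₁ * u₂ = u₂ * u₁ := D.cm u₁ (m₁ u₁ h₁) u₂ (m₂ u₂ h₂)
    have gz : (u₁ * u₂) * z = z * (u₁ * u₂) := by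
      rw [mul_assoc, D.h2.comm_z (m₂ u₂ h₂), ← mul_assoc, D.h1.comm_z (m₁ u₁ h₁), mul_assoc]
    have gw : (u₁ * u₂) * w = w * (u₁ * u₂) := by
      have e1 : u₁ * w = w * u₁ := mem_centralizer_singleton_iff.1 (D.sn1.le (m₁ u₁ h₁))
      have e2 : u₂ * w = w * u₂ := mem_centralizer_singleton_iff.1 (D.sn2.le (m₂ u₂ h₂))
      rw [mul_assoc, e2, ← mul_assoc, e1, mul_assoc]
    have g3 : (u₁ * u₂) * (u₁ * u₂) * (u₁ * u₂) = 1 := by
      calc (u₁ * u₂) * (u₁ * u₂) * (u₁ * u₂) = u₁ * (u₂ * u₁) * (u₂ * u₁) * u₂ := by group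
        _ = u₁ * (u₁ * u₂) * (u₁ * u₂) * u₂ := by rw [c12]
        _ = u₁ * u₁ * (u₂ * u₁) * u₂ * u₂ := by group
        _ = u₁ * u₁ * (u₁ * u₂) * u₂ * u₂ := by rw [c12]
        _ = (u₁ * u₁ * u₁) * (u₂ * u₂ * u₂) := by group
        _ = 1 := by rw [cub₁ u₁ h₁, cub₂ u₂ h₂, one_mul]
    have gi : ∀ x, (u₁ * u₂)⁻¹ * x * (u₁ * u₂) = (u₁⁻¹ * u₂⁻¹) * x * (u₁⁻¹ * u₂⁻¹)⁻¹ := by
      intro x
      have e : (u₁ * u₂)⁻¹ = u₁⁻¹ * u₂⁻¹ := by rw [c12, mul_inv_rev]
      rw [← e, inv_inv]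
    have c' : ∀ y, y ∈ J₃ ∨ y ∈ J₄ → (u₁ * u₂)⁻¹ * w' * (u₁ * u₂) * y = y * ((u₁ * u₂)⁻¹ * w' * (u₁ * u₂)) := by
      intro y hy
      rw [gi w']
      exact cc u₁⁻¹ (i₁' u₁ h₁) u₂⁻¹ (i₂' u₂ h₂) y hy
    have c := cc u₁ h₁ u₂ h₂
    have gK : u₁ * u₂ ∈ K := mul_mem (k₁ (m₁ u₁ h₁)) (k₂ (m₂ u₂ h₂))
    rcases hy with hy | hy
    · exact comm_J3 hP D' hw'P ha₃ ha₄ s₃ s₄ hw gz gw g3 (fun y hy => c y (Or.inl hy)) (fun y hy => c y (Or.inr hy))
        (fun y hy => c' y (Or.inl hy)) (fun y hy => c' y (Or.inr hy)) gK hK y hy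
    · exact comm_J4 hP D' hw'P ha₃ ha₄ s₃ s₄ hw gz gw g3 (fun y hy => c y (Or.inl hy)) (fun y hy => c y (Or.inr hy))
        (fun y hy => c' y (Or.inl hy)) (fun y hy => c' y (Or.inr hy)) gK hK y hy
  -- conclusion
  intro x hx y hy
  have k1 : v₁ * v₂ ∈ centralizer ({y} : Set H) :=
    mem_centralizer_singleton_iff.2 (key v₁ (Or.inl rfl) v₂ (Or.inl rfl) y hy)
  have k2 : v₁ * v₂⁻¹ ∈ centralizer ({y} : Set H) :=
    mem_centralizer_singleton_iff.2 (key v₁ (Or.inl rfl) v₂⁻¹ (Or.inr rfl) y hy)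
  have hv₁ : v₁ ∈ centralizer ({y} : Set H) := by
    have e1 : (v₁ * v₂) * (v₁ * v₂⁻¹) = v₁ * v₁ := by
      calc (v₁ * v₂) * (v₁ * v₂⁻¹) = v₁ * (v₂ * v₁) * v₂⁻¹ := by group
        _ = v₁ * v₁ := by rw [← cv]; group
    have h1 := mul_mem k1 k2
    rw [e1] at h1
    have h2 := mul_mem h1 h1
    have h3 : v₁ * v₁ * v₁ = 1 := D.h1.d3
    have e2 : v₁ * v₁ * (v₁ * v₁) = v₁ := by rw [← mul_assoc, h3, one_mul]
    rwa [e2] at h2
  have hv₂ : v₂ ∈ centralizer ({y} : Set H) := (mul_mem_cancel_left hv₁).1 k1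
  obtain ⟨b1, b2, b3⟩ := anti D.h1 ha₁ s₁ (Or.inl rfl)
  obtain ⟨b4, b5, b6⟩ := anti D.h2 ha₂ s₂ (Or.inl rfl)
  set x₁ := v₁ * a₁ * v₁⁻¹ with hx₁
  set x₂ := v₂ * a₂ * v₂⁻¹ with hx₂
  have r0 : x₁ * x₂ ∈ centralizer ({y} : Set H) :=
    mem_centralizer_singleton_iff.2 (hr _ (D.h1.Qle b1) _ (D.h2.Qle b4) b2 b5 b3 b6 y hy)
  have sq : ∀ {x a : H}, x * z = z * x → a * z = z * a → z * z = 1 → x * x = z → a * a = z →
      x * a = z * (a * x) → (x * a) * (x * a) = z ∧ (x * a) * a = z * (a * (x * a)) := by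
    intro x a xz az zz hx ha hxa
    have hax : a * x = z * (x * a) := by rw [hxa, ← mul_assoc, zz, one_mul]
    constructor
    · calc (x * a) * (x * a) = x * (a * x) * a := by group
        _ = x * (z * (x * a)) * a := by rw [hax]
        _ = (x * z) * x * (a * a) := by group
        _ = z * (x * x) * (a * a) := by rw [xz]; group
        _ = z := by rw [hx, ha, zz, one_mul]
    · calc (x * a) * a = x * a * a := rfl
        _ = z * (a * x) * a := by rw [hxa]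
        _ = z * (a * (x * a)) := by group
  have ha₁C : a₁ ∈ centralizer ({y} : Set H) := by
    obtain ⟨e1, e2⟩ := sq (D.h1.q.comm_z b1) (D.h1.q.comm_z ha₁) D.h1.q.z2 b2 s₁ b3
    have r1 : x₁ * a₁ * x₂ ∈ centralizer ({y} : Set H) :=
      mem_centralizer_singleton_iff.2 (hr _ (mul_mem (D.h1.Qle b1) (D.h1.Qle ha₁)) _ (D.h2.Qle b4) e1 b5 e2 b6 y hy)
    have e3 : (x₁ * x₂)⁻¹ * (x₁ * a₁ * x₂) = a₁ := by
      have e4 : a₁ * x₂ = x₂ * a₁ := D.cm a₁ (D.h1.Qle ha₁) x₂ (D.h2.Qle b4)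
      calc (x₁ * x₂)⁻¹ * (x₁ * a₁ * x₂) = x₂⁻¹ * (a₁ * x₂) := by group
        _ = a₁ := by rw [e4]; group
    rw [← e3]; exact mul_mem (inv_mem r0) r1
  have ha₂C : a₂ ∈ centralizer ({y} : Set H) := by
    obtain ⟨e1, e2⟩ := sq (D.h2.q.comm_z b4) (D.h2.q.comm_z ha₂) D.h2.q.z2 b5 s₂ b6
    have r1 : x₁ * (x₂ * a₂) ∈ centralizer ({y} : Set H) :=
      mem_centralizer_singleton_iff.2 (hr _ (D.h1.Qle b1) _ (mul_mem (D.h2.Qle b4) (D.h2.Qle ha₂)) b2 e1 b3 e2 y hy)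
    have e3 : (x₁ * x₂)⁻¹ * (x₁ * (x₂ * a₂)) = a₂ := by group
    rw [← e3]; exact mul_mem (inv_mem r0) r1
  rcases hx with hx | hx
  · exact mem_centralizer_singleton_iff.1 (gen_mem D.h1 ha₁ s₁ ha₁C hv₁ hx)
  · exact mem_centralizer_singleton_iff.1 (gen_mem D.h2 ha₂ s₂ ha₂C hv₂ hx)

end All

end Gen

end Cfsg.Agent.OddHalf.NI3.Bad

end

-- merged: Cfsg.Agent.OddHalf.NI3.Bad.FourRoot
section

/-!
# Node NI over `F₃`, THEOREM NIB: roots of a 2-group

`Root S z r s δ` : `δ³ = 1`, `⟨r, s⟩` is a quaternion subgroup of `S` with involution `z`, `δ` acts on it as a 3-cycle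
and `[S, δ] ≤ ⟨r, s⟩`.
* `Root.fac` : `S = ⟨r, s⟩ C_S(⟨r, s, δ⟩)`; `Root.comm_iff` : `C_S(δ) = C_S(⟨r, s⟩)`;
* `dich` : for `J = ⟨i, j, v⟩` subnormal in `X ∋ δ`, two roots of the normal 2-subgroup `S` of `X` are equal, or `δ`
  centralises `⟨i, j⟩`.
-/

set_option autoImplicit false
set_option linter.style.haveILetI false
set_option linter.unusedSectionVars false
set_option linter.unusedSimpArgs false
set_option linter.unreachableTactic false
set_option linter.unusedTactic false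

namespace Cfsg.Agent.OddHalf.NI3.Bad.FourLin

open Subgroup Cfsg Cfsg.Agent.Cit Cfsg.Agent.Cit.SLThree

variable {H : Type*} [Group H]

/-- `x` commutes with `y` if `x³` does and `x` is a 2-element -/
theorem comm_of_cube {x y : H} {n : ℕ} (hn : x ^ 2 ^ n = 1) (h : (x * x * x) * y = y * (x * x * x)) :
    x * y = y * x := by
  have h1 : Nat.Coprime (orderOf x) 3 := by
    have h2 : orderOf x ∣ 2 ^ n := orderOf_dvd_of_pow_eq_one hn
    exact Nat.Coprime.coprime_dvd_left h2 (Nat.Coprime.pow_left n (by norm_num))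
  obtain ⟨m, hm⟩ := exists_pow_eq_self_of_coprime h1.symm
  have h3 : x ^ 3 = x * x * x := by rw [pow_succ, pow_succ, pow_one]
  rw [← hm, h3]
  exact (Commute.pow_left (show Commute (x * x * x) y from h) m).eq

theorem cube_of_cycle {b x y w : H} (h1 : b * x = y * b) (h2 : b * y = w * b) (h3 : b * w = x * b) :
    (b * b * b) * x = x * (b * b * b) := by
  calc (b * b * b) * x = b * b * (b * x) := by group
    _ = b * (b * y) * b := by rw [h1]; group
    _ = (b * w) * b * b := by rw [h2]; group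
    _ = x * (b * b * b) := by rw [h3]; group

/-- a root -/
structure Root (S : Subgroup H) (z r s δ : H) : Prop where
  q : Qt z r s
  dr : δ * r * δ⁻¹ = s
  ds : δ * s * δ⁻¹ = r * s
  d3 : δ * δ * δ = 1
  hr : r ∈ S
  hs : s ∈ S
  com : ∀ t ∈ S, δ * t * δ⁻¹ * t⁻¹ ∈ closure {r, s}

namespace Root

variable {S : Subgroup H} {z r s δ : H}

theorem sl (h : Root S z r s δ) : Sl (closure {r, δ}) z r s δ := ⟨h.q, h.dr, h.ds, h.d3, rfl⟩

theorem le (h : Root S z r s δ) : closure {r, s} ≤ S := by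
  rw [closure_le]
  rintro x (rfl | rfl)
  · exact h.hr
  · exact h.hs

theorem dz (h : Root S z r s δ) : δ * z = z * δ := h.sl.dz

theorem drs (h : Root S z r s δ) : δ * (r * s) * δ⁻¹ = r := h.sl.dij

/-- conjugation by `δ` is additive -/
theorem dmul (δ x y : H) : δ * (x * y) * δ⁻¹ = (δ * x * δ⁻¹) * (δ * y * δ⁻¹) := by group

theorem dzz (h : Root S z r s δ) (x : H) : δ * (z * x) * δ⁻¹ = z * (δ * x * δ⁻¹) := by
  rw [← mul_assoc δ, h.dz]; group

/-- `δ` acts without fixed points on the elements of order 4 -/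
theorem fpf (h : Root S z r s δ) {x : H} (hx : x ∈ closure {r, s}) (hc : x * (δ * x * δ⁻¹) = (δ * x * δ⁻¹) * x) :
    x = 1 ∨ x = z := by
  have hq := h.q
  have e1 : ∀ w : H, w = z * w → False := fun w hw =>
    hq.z1 (mul_right_cancel (b := w) (by rw [one_mul]; exact hw.symm))
  have e2 : ∀ w : H, z * w = w → False := fun w hw =>
    hq.z1 (mul_right_cancel (b := w) (by rw [one_mul]; exact hw))
  rcases hq.mem_cases hx with rfl | rfl | rfl | rfl | rfl | rfl | rfl | rfl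
  · exact Or.inl rfl
  · exact Or.inr rfl
  all_goals
    exfalso
    simp only [h.dzz, h.dr, h.ds, h.drs, mul_assoc, one_mul, mul_one, hq.z2, hq.zz, hq.iz, hq.jz, hq.izx, hq.jzx,
      hq.i2, hq.j2, hq.iix, hq.jjx, hq.ji, hq.jix] at hc
    first
    | exact e1 _ hc
    | exact e2 _ hc

/-- the cocycle condition -/
theorem cocycle (h : Root S z r s δ) {t u : H} (hu : δ * t * δ⁻¹ = u * t) :
    (δ * (δ * u * δ⁻¹) * δ⁻¹) * (δ * u * δ⁻¹) * u = 1 := by
  have h1 : δ * (δ * (δ * t * δ⁻¹) * δ⁻¹) * δ⁻¹ = t := by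
    calc δ * (δ * (δ * t * δ⁻¹) * δ⁻¹) * δ⁻¹ = (δ * δ * δ) * t * (δ * δ * δ)⁻¹ := by group
      _ = t := by rw [h.d3]; group
  have h2 : δ * (δ * t * δ⁻¹) * δ⁻¹ = (δ * u * δ⁻¹) * (u * t) := by rw [hu, dmul, hu]
  have h3 : δ * (δ * (δ * t * δ⁻¹) * δ⁻¹) * δ⁻¹ = (δ * (δ * u * δ⁻¹) * δ⁻¹) * ((δ * u * δ⁻¹) * (u * t)) := by
    rw [h2, dmul δ (δ * u * δ⁻¹) (u * t), dmul δ u t, hu]
  refine mul_right_cancel (b := t) ?_
  rw [one_mul]
  conv_rhs => rw [← h1, h3]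
  simp only [mul_assoc]

/-- a fixed point of `δ` in the coset `⟨r, s⟩ t` -/
theorem exists_fix (h : Root S z r s δ) {t : H} (ht : t ∈ S) :
    ∃ a ∈ closure ({r, s} : Set H), ∃ b, t = a * b ∧ δ * b = b * δ := by
  have hq := h.q
  set u := δ * t * δ⁻¹ * t⁻¹ with hu
  have hu1 : u ∈ closure ({r, s} : Set H) := h.com t ht
  have hu2 : δ * t * δ⁻¹ = u * t := by rw [hu]; group
  have hco := h.cocycle hu2
  have hi := Qt.mem_i z r s
  have hj := Qt.mem_j z r s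
  have key : ∀ q ∈ closure ({r, s} : Set H), (δ * q * δ⁻¹) * u = q →
      ∃ a ∈ closure ({r, s} : Set H), ∃ b, t = a * b ∧ δ * b = b * δ := by
    intro q hq' he
    refine ⟨q⁻¹, inv_mem hq', q * t, by group, ?_⟩
    rw [← mul_inv_eq_iff_eq_mul, dmul, hu2, ← mul_assoc, he]
  clear_value u
  rcases hq.mem_cases hu1 with rfl | rfl | rfl | rfl | rfl | rfl | rfl | rfl
  · exact key 1 (one_mem _) (by group)
  · exfalso
    apply hq.z1
    have h2 : δ * u * δ⁻¹ = u := by rw [h.dz]; group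
    rw [h2, h2, hq.z2, one_mul] at hco
    exact hco
  · refine key s hj ?_
    simp only [h.dr, h.ds, h.drs, mul_assoc, hq.ji, hq.izx, hq.iix, hq.zz]
  · exfalso
    apply hq.z1
    simpa only [h.dzz, h.dr, h.ds, h.drs, mul_assoc, one_mul, mul_one, hq.z2, hq.zz, hq.iz, hq.jz, hq.izx, hq.jzx,
      hq.i2, hq.j2, hq.iix, hq.jjx, hq.ji, hq.jix] using hco
  · refine key (r * u) (mul_mem hi hj) ?_
    simp only [h.drs]
  · exfalso
    apply hq.z1
    simpa only [h.dzz, h.dr, h.ds, h.drs, mul_assoc, one_mul, mul_one, hq.z2, hq.zz, hq.iz, hq.jz, hq.izx, hq.jzx,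
      hq.i2, hq.j2, hq.iix, hq.jjx, hq.ji, hq.jix] using hco
  · refine key r hi ?_
    simp only [h.dr, mul_assoc, hq.jix, hq.j2, hq.iz, hq.zz]
  · exfalso
    apply hq.z1
    simpa only [h.dzz, h.dr, h.ds, h.drs, mul_assoc, one_mul, mul_one, hq.z2, hq.zz, hq.iz, hq.jz, hq.izx, hq.jzx,
      hq.i2, hq.j2, hq.iix, hq.jjx, hq.ji, hq.jix] using hco

/-- an element of `S` normalises `⟨r, s⟩` -/
theorem conj_mem (h : Root S z r s δ) {b : H} (hb : b ∈ S) {x : H} (hx : x ∈ closure ({r, s} : Set H)) :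
    b * x * b⁻¹ ∈ closure ({r, s} : Set H) := by
  have key : ∀ y ∈ closure ({r, s} : Set H), b * (δ * y * δ⁻¹ * y⁻¹) * b⁻¹ ∈ closure ({r, s} : Set H) := by
    intro y hy
    have h1 := h.com (b * y) (mul_mem hb (h.le hy))
    have h2 : b * (δ * y * δ⁻¹ * y⁻¹) * b⁻¹ = (δ * b * δ⁻¹ * b⁻¹)⁻¹ * (δ * (b * y) * δ⁻¹ * (b * y)⁻¹) := by group
    rw [h2]
    exact mul_mem (inv_mem (h.com b hb)) h1
  have h1 : b * r * b⁻¹ ∈ closure ({r, s} : Set H) := by
    have h2 := key s (Qt.mem_j z r s)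
    rw [h.ds] at h2
    simpa only [mul_assoc, mul_inv_cancel, mul_one] using h2
  have h2 : b * s * b⁻¹ ∈ closure ({r, s} : Set H) := by
    have h2 := key r (Qt.mem_i z r s)
    rw [h.dr] at h2
    have h3 : b * s * b⁻¹ = (b * (s * r⁻¹) * b⁻¹) * (b * r * b⁻¹) := by group
    rw [h3]
    exact mul_mem h2 h1
  have h3 : closure {r, s} ≤ (closure {r, s}).comap (MulAut.conj b).toMonoidHom := by
    rw [closure_le]
    rintro y (rfl | rfl)
    · exact h1
    · exact h2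
  exact h3 hx

/-- `C_S(δ) ≤ C_S(⟨r, s⟩)` -/
theorem comm_r (h : Root S z r s δ) (hz : ∀ x : H, z * x = x * z) (hS : IsPGroup 2 S) {b : H} (hb : b ∈ S)
    (hd : δ * b = b * δ) : b * r = r * b ∧ b * s = s * b := by
  have hq := h.q
  obtain ⟨n, hn⟩ := hS ⟨b, hb⟩
  have hn' : b ^ 2 ^ n = 1 := by simpa using congrArg Subtype.val hn
  have hσ : ∀ x : H, b * (δ * x * δ⁻¹) * b⁻¹ = δ * (b * x * b⁻¹) * δ⁻¹ := by
    intro x
    have e1 : δ⁻¹ * b⁻¹ = b⁻¹ * δ⁻¹ := by rw [← mul_inv_rev, ← mul_inv_rev, hd]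
    calc b * (δ * x * δ⁻¹) * b⁻¹ = (b * δ) * x * (δ⁻¹ * b⁻¹) := by group
      _ = δ * (b * x * b⁻¹) * δ⁻¹ := by rw [← hd, e1]; group
  have key : b * r = r * b := by
    set r' := b * r * b⁻¹ with hr'
    have h1 : r' ∈ closure ({r, s} : Set H) := h.conj_mem hb (Qt.mem_i z r s)
    have h2 : b * s * b⁻¹ = δ * r' * δ⁻¹ := by rw [← h.dr, hσ]
    have h3 : δ * (δ * r' * δ⁻¹) * δ⁻¹ = r' * (δ * r' * δ⁻¹) := by
      rw [← h2, ← hσ, h.ds]
      rw [hr']; group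
    have h4 : r' * r' = z := by
      have : r' * r' = b * (r * r) * b⁻¹ := by rw [hr']; group
      rw [this, hq.i2, ← hz, mul_assoc, mul_inv_cancel, mul_one]
    have e0 : b * r = r' * b := by rw [hr']; group
    clear_value r'
    rcases hq.mem_cases h1 with rfl | rfl | rfl | rfl | rfl | rfl | rfl | rfl
    · exact absurd (by rw [← h4, one_mul]) hq.z1
    · exact absurd (by rw [← h4, hq.z2]) hq.z1
    · exact e0
    · exfalso
      apply hq.z1
      have h5 : z * (r * s) = 1 * (r * s) := by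
        rw [one_mul]
        simpa only [h.dzz, h.dr, h.ds, h.drs, mul_assoc, one_mul, mul_one, hq.z2, hq.zz, hq.iz, hq.jz, hq.izx, hq.jzx,
          hq.i2, hq.j2, hq.iix, hq.jjx, hq.ji, hq.jix] using h3
      exact mul_right_cancel h5
    · -- `b` acts as `δ`
      have e1 : b * r' = (r * r') * b := by rw [h.ds] at h2; rw [← h2]; group
      refine comm_of_cube hn' (cube_of_cycle e0 e1 ?_)
      rw [← mul_assoc, e0, mul_assoc, e1]
      simp only [← mul_assoc]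
      rw [hq.ji]
      simp only [mul_assoc]
      simp only [hq.jjx, hq.izx, hq.zz]
    · exfalso
      apply hq.z1
      have h5 : z * r = 1 * r := by
        rw [one_mul]
        simpa only [h.dzz, h.dr, h.ds, h.drs, mul_assoc, one_mul, mul_one, hq.z2, hq.zz, hq.iz, hq.jz, hq.izx, hq.jzx,
          hq.i2, hq.j2, hq.iix, hq.jjx, hq.ji, hq.jix] using h3
      exact mul_right_cancel h5
    · -- `b` acts as `δ⁻¹`
      have e1 : b * s = r * b := by rw [h.drs] at h2; rw [← h2]; group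
      refine comm_of_cube hn' (cube_of_cycle e0 ?_ e1)
      rw [← mul_assoc, e0, mul_assoc, e1]
      simp only [← mul_assoc]
      congr 1
      simp only [mul_assoc]
      simp only [hq.ji, hq.izx, hq.iix, hq.zz]
    · exfalso
      apply hq.z1
      have h5 : z * s = 1 * s := by
        rw [one_mul]
        simpa only [h.dzz, h.dr, h.ds, h.drs, mul_assoc, one_mul, mul_one, hq.z2, hq.zz, hq.iz, hq.jz, hq.izx, hq.jzx,
          hq.i2, hq.j2, hq.iix, hq.jjx, hq.ji, hq.jix] using h3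
      exact mul_right_cancel h5
  refine ⟨key, ?_⟩
  have h1 : b * s * b⁻¹ = s := by
    rw [← h.dr, hσ, key, mul_assoc r, mul_inv_cancel, mul_one]
  rw [← mul_inv_eq_iff_eq_mul]; exact h1

/-- `S = ⟨r, s⟩ C_S(⟨r, s, δ⟩)` -/
theorem fac (h : Root S z r s δ) (hz : ∀ x : H, z * x = x * z) (hS : IsPGroup 2 S) {t : H} (ht : t ∈ S) :
    ∃ a ∈ closure ({r, s} : Set H), ∃ b ∈ S, t = a * b ∧ b * r = r * b ∧ b * s = s * b ∧ δ * b = b * δ := by
  obtain ⟨a, ha, b, hab, hb⟩ := h.exists_fix ht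
  have hbS : b ∈ S := by
    have h1 : b = a⁻¹ * t := by rw [hab]; group
    rw [h1]; exact mul_mem (inv_mem (h.le ha)) ht
  obtain ⟨h1, h2⟩ := h.comm_r hz hS hbS hb
  exact ⟨a, ha, b, hbS, hab, h1, h2, hb⟩

/-- an element commuting with `r`, `s` commutes with `⟨r, s⟩` -/
theorem comm_closure {r s b x : H} (hr : b * r = r * b) (hs : b * s = s * b) (hx : x ∈ closure ({r, s} : Set H)) :
    b * x = x * b := by
  have h1 : closure ({r, s} : Set H) ≤ centralizer ({b} : Set H) := by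
    rw [closure_le]
    rintro y (rfl | rfl)
    · exact mem_centralizer_singleton_iff.2 hr.symm
    · exact mem_centralizer_singleton_iff.2 hs.symm
  exact (mem_centralizer_singleton_iff.1 (h1 hx)).symm

/-- `C_S(⟨r, s⟩) ≤ C_S(δ)` -/
theorem comm_d (h : Root S z r s δ) (hz : ∀ x : H, z * x = x * z) (hS : IsPGroup 2 S) {t : H} (ht : t ∈ S)
    (hr : t * r = r * t) (hs : t * s = s * t) : δ * t = t * δ := by
  obtain ⟨a, ha, b, hbS, hab, h1, h2, h3⟩ := h.fac hz hS ht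
  have h4 : a = t * b⁻¹ := by rw [hab]; group
  have e1 : ∀ y : H, t * y = y * t → b * y = y * b → a * y = y * a := by
    intro y hy hy'
    have e2 : b⁻¹ * y = y * b⁻¹ := (show Commute b y from hy').inv_left.eq
    rw [h4, mul_assoc, e2, ← mul_assoc, hy, mul_assoc]
  have h5 : a = 1 ∨ a = z := h.q.central ha (e1 r hr h1) (e1 s hs h2)
  rcases h5 with h5 | h5
  · rw [hab, h5, one_mul, h3]
  · rw [hab, h5, ← mul_assoc, ← hz, mul_assoc, h3, mul_assoc]

/-- an element of `S` acts on `⟨r, s⟩` as an inner automorphism -/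
theorem sign (h : Root S z r s δ) (hz : ∀ x : H, z * x = x * z) (hS : IsPGroup 2 S) {t : H} (ht : t ∈ S) {x : H}
    (hx : x ∈ closure ({r, s} : Set H)) : t * x = x * t ∨ t * x = z * (x * t) := by
  obtain ⟨a, ha, b, hbS, hab, h1, h2, h3⟩ := h.fac hz hS ht
  have h4 := comm_closure h1 h2 hx
  have h5 : a * x = x * a ∨ a * x = z * (x * a) := by
    have hq := h.q
    rcases hq.mem_cases ha with rfl | rfl | rfl | rfl | rfl | rfl | rfl | rfl <;>
    rcases hq.mem_cases hx with rfl | rfl | rfl | rfl | rfl | rfl | rfl | rfl <;>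
    simp only [mul_assoc, one_mul, mul_one, hq.z2, hq.zz, hq.iz, hq.jz, hq.izx, hq.jzx, hq.i2, hq.j2, hq.iix, hq.jjx,
      hq.ji, hq.jix, true_or, or_true]
  rcases h5 with h5 | h5
  · left
    rw [hab, mul_assoc, h4, ← mul_assoc, h5, mul_assoc]
  · right
    rw [hab, mul_assoc, h4, ← mul_assoc, h5]
    simp only [mul_assoc]

theorem conj (h : Root S z r s δ) (hz : ∀ x : H, z * x = x * z) {m : H} (hm : m ∈ normalizer (S : Set H)) :
    Root S z (m * r * m⁻¹) (m * s * m⁻¹) (m * δ * m⁻¹) := by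
  have hq := h.q
  have hmz : m * z * m⁻¹ = z := by rw [← hz, mul_assoc, mul_inv_cancel, mul_one]
  refine ⟨⟨hq.z2, hq.z1, ?_, ?_, ?_⟩, ?_, ?_, ?_, ?_, ?_, ?_⟩
  · calc m * r * m⁻¹ * (m * r * m⁻¹) = m * (r * r) * m⁻¹ := by group
      _ = z := by rw [hq.i2, hmz]
  · calc m * s * m⁻¹ * (m * s * m⁻¹) = m * (s * s) * m⁻¹ := by group
      _ = z := by rw [hq.j2, hmz]
  · calc m * s * m⁻¹ * (m * r * m⁻¹) = m * (s * r) * m⁻¹ := by group
      _ = (m * z * m⁻¹) * (m * r * m⁻¹ * (m * s * m⁻¹)) := by rw [hq.ji]; group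
      _ = z * (m * r * m⁻¹ * (m * s * m⁻¹)) := by rw [hmz]
  · calc m * δ * m⁻¹ * (m * r * m⁻¹) * (m * δ * m⁻¹)⁻¹ = m * (δ * r * δ⁻¹) * m⁻¹ := by group
      _ = m * s * m⁻¹ := by rw [h.dr]
  · calc m * δ * m⁻¹ * (m * s * m⁻¹) * (m * δ * m⁻¹)⁻¹ = m * (δ * s * δ⁻¹) * m⁻¹ := by group
      _ = m * r * m⁻¹ * (m * s * m⁻¹) := by rw [h.ds]; group
  · calc m * δ * m⁻¹ * (m * δ * m⁻¹) * (m * δ * m⁻¹) = m * (δ * δ * δ) * m⁻¹ := by group
      _ = 1 := by rw [h.d3]; group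
  · exact (mem_normalizer_iff.1 hm r).1 h.hr
  · exact (mem_normalizer_iff.1 hm s).1 h.hs
  · intro t ht
    have h1 : m⁻¹ * t * m ∈ S := by
      have := (mem_normalizer_iff.1 (inv_mem hm) t).1 ht
      rwa [inv_inv] at this
    have h2 := h.com _ h1
    have h3 : m * δ * m⁻¹ * t * (m * δ * m⁻¹)⁻¹ * t⁻¹ =
        m * (δ * (m⁻¹ * t * m) * δ⁻¹ * (m⁻¹ * t * m)⁻¹) * m⁻¹ := by group
    rw [h3]
    have h4 : closure {r, s} ≤ (closure {m * r * m⁻¹, m * s * m⁻¹}).comap (MulAut.conj m).toMonoidHom := by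
      rw [closure_le]
      rintro y (rfl | rfl)
      · exact subset_closure (Or.inl rfl)
      · exact subset_closure (Or.inr rfl)
    exact h4 h2

/-- `δ` normalises `S` -/
theorem dS (h : Root S z r s δ) : δ ∈ normalizer (S : Set H) := by
  have h1 : ∀ t ∈ S, δ * t * δ⁻¹ ∈ S := by
    intro t ht
    have h2 : δ * t * δ⁻¹ = (δ * t * δ⁻¹ * t⁻¹) * t := by group
    rw [h2]
    exact mul_mem (h.le (h.com t ht)) ht
  rw [mem_normalizer_iff]
  intro t
  refine ⟨h1 t, fun ht => ?_⟩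
  have h2 := h1 _ (h1 _ ht)
  have h3 : δ * (δ * (δ * t * δ⁻¹) * δ⁻¹) * δ⁻¹ = t := by
    calc δ * (δ * (δ * t * δ⁻¹) * δ⁻¹) * δ⁻¹ = (δ * δ * δ) * t * (δ * δ * δ)⁻¹ := by group
      _ = t := by rw [h.d3]; group
  rwa [h3] at h2

theorem mono (h : Root S z r s δ) {S' : Subgroup H} (hle : S' ≤ S) (hr : r ∈ S') (hs : s ∈ S') : Root S' z r s δ :=
  ⟨h.q, h.dr, h.ds, h.d3, hr, hs, fun t ht => h.com t (hle ht)⟩

end Root

/-- two elements of a quaternion group which do not commute generate it -/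
theorem closure_eq [Finite H] {z i j x y : H} (h : Qt z i j) (hx : x ∈ closure ({i, j} : Set H))
    (hy : y ∈ closure ({i, j} : Set H)) (hxy : x * y ≠ y * x) : closure ({x, y} : Set H) = closure {i, j} := by
  have h1 : Qt z x y := by
    have hx2 : x * x = z := by
      rcases h.sq hx with h1 | h1
      · exfalso
        rcases h.sq_cases hx h1 with rfl | rfl
        · exact hxy (by simp)
        · exact hxy (h.comm_z hy).symm
      · exact h1
    have hy2 : y * y = z := by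
      rcases h.sq hy with h1 | h1
      · exfalso
        rcases h.sq_cases hy h1 with rfl | rfl
        · exact hxy (by simp)
        · exact hxy (h.comm_z hx)
      · exact h1
    refine ⟨h.z2, h.z1, hx2, hy2, ?_⟩
    have h5 : y * x = x * y ∨ y * x = z * (x * y) := by
      rcases h.mem_cases hx with rfl | rfl | rfl | rfl | rfl | rfl | rfl | rfl <;>
      rcases h.mem_cases hy with rfl | rfl | rfl | rfl | rfl | rfl | rfl | rfl <;>
      simp only [mul_assoc, one_mul, mul_one, h.z2, h.zz, h.iz, h.jz, h.izx, h.jzx, h.i2, h.j2, h.iix, h.jjx,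
        h.ji, h.jix, true_or, or_true]
    rcases h5 with h5 | h5
    · exact absurd h5.symm hxy
    · exact h5
  refine eq_of_le_of_card_ge ?_ (by rw [h.card, h1.card])
  rw [closure_le]
  rintro w (rfl | rfl)
  · exact hx
  · exact hy

/-- `δ` normalises `⟨i, j⟩` -/
theorem Root.dich_norm [Finite H] {S : Subgroup H} {z i j v r s δ : H} (hz : ∀ x : H, z * x = x * z)
    (hS : IsPGroup 2 S) (h : Root S z i j v) (h' : Root S z r s δ) (hi : δ * i * δ⁻¹ ∈ closure ({i, j} : Set H))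
    (hj : δ * j * δ⁻¹ ∈ closure ({i, j} : Set H)) :
    closure ({i, j} : Set H) = closure {r, s} ∨ (δ * i = i * δ ∧ δ * j = j * δ) := by
  have hq := h.q
  have hq' := h'.q
  -- `δ y δ⁻¹ = z y` is impossible
  have hzy : ∀ y : H, δ * y * δ⁻¹ ≠ z * y := by
    intro y hy
    apply hq.z1
    have h1 := h'.cocycle hy
    have h2 : δ * z * δ⁻¹ = z := by rw [← hz]; group
    rw [h2, h2, hq.z2, one_mul] at h1
    exact h1
  have key : ∀ y ∈ closure ({i, j} : Set H), δ * y * δ⁻¹ ∈ closure ({i, j} : Set H) →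
      (∀ x ∈ closure ({i, j} : Set H), δ * x * δ⁻¹ ∈ closure ({i, j} : Set H)) →
      closure ({i, j} : Set H) = closure {r, s} ∨ δ * y = y * δ := by
    intro y hy hy' hn
    set x := δ * y * δ⁻¹ * y⁻¹ with hx
    have hxQ : x ∈ closure ({i, j} : Set H) := mul_mem hy' (inv_mem hy)
    have hxR : x ∈ closure ({r, s} : Set H) := h'.com y (h.le hy)
    by_cases h1 : x = 1
    · right
      rw [hx, mul_inv_eq_one, mul_inv_eq_iff_eq_mul] at h1
      exact h1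
    by_cases h2 : x = z
    · exfalso
      apply hzy y
      rw [← h2, hx]; group
    left
    have h3 : x * (δ * x * δ⁻¹) ≠ (δ * x * δ⁻¹) * x := by
      intro h3
      rcases h'.fpf hxR h3 with h4 | h4
      · exact h1 h4
      · exact h2 h4
    rw [← closure_eq hq hxQ (hn x hxQ) h3, ← closure_eq hq' hxR (h'.sl.conj_mem hxR) h3]
  have hn : ∀ x ∈ closure ({i, j} : Set H), δ * x * δ⁻¹ ∈ closure ({i, j} : Set H) := by
    have h3 : closure {i, j} ≤ (closure {i, j}).comap (MulAut.conj δ).toMonoidHom := by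
      rw [closure_le]
      rintro y (rfl | rfl)
      · exact hi
      · exact hj
    exact fun x hx => h3 hx
  rcases key i (Qt.mem_i z i j) hi hn with h1 | h1
  · exact Or.inl h1
  rcases key j (Qt.mem_j z i j) hj hn with h2 | h2
  · exact Or.inl h2
  · exact Or.inr ⟨h1, h2⟩

/-- `y ∈ S` commuting with `δ y δ⁻¹` commutes with `δ` -/
theorem Root.fix_of_comm {S : Subgroup H} {z r s δ : H} (h : Root S z r s δ) (hz : ∀ x : H, z * x = x * z)
    (hS : IsPGroup 2 S) {y : H} (hy : y ∈ S) (hc : y * (δ * y * δ⁻¹) = (δ * y * δ⁻¹) * y) : δ * y = y * δ := by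
  obtain ⟨a, ha, b, hbS, rfl, h1, h2, h3⟩ := h.fac hz hS hy
  have e1 : δ * (a * b) * δ⁻¹ = (δ * a * δ⁻¹) * b := by
    calc δ * (a * b) * δ⁻¹ = (δ * a * δ⁻¹) * (δ * b) * δ⁻¹ := by group
      _ = (δ * a * δ⁻¹) * b := by rw [h3]; group
  have ha' := h.sl.conj_mem ha
  have e2 := Root.comm_closure h1 h2 ha
  have e3 := Root.comm_closure h1 h2 ha'
  rw [e1] at hc
  have h4 : a * (δ * a * δ⁻¹) = (δ * a * δ⁻¹) * a := by
    have h5 : (a * (δ * a * δ⁻¹)) * (b * b) = ((δ * a * δ⁻¹) * a) * (b * b) := by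
      calc (a * (δ * a * δ⁻¹)) * (b * b) = a * ((δ * a * δ⁻¹) * b) * b := by group
        _ = a * (b * (δ * a * δ⁻¹)) * b := by rw [e3]
        _ = a * b * ((δ * a * δ⁻¹) * b) := by group
        _ = (δ * a * δ⁻¹) * b * (a * b) := hc
        _ = (δ * a * δ⁻¹) * (b * a) * b := by group
        _ = ((δ * a * δ⁻¹) * a) * (b * b) := by rw [e2]; group
    exact mul_right_cancel h5
  rcases h.fpf ha h4 with h5 | h5
  · rw [h5, one_mul, h3]
  · rw [h5, ← mul_assoc, ← hz, mul_assoc, h3, mul_assoc]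

/-- **the pair lemma** for subgroups -/
theorem dich [Finite H] {z : H} (hz : ∀ x : H, z * x = x * z) :
    ∀ (n : ℕ) (X S : Subgroup H), Nat.card X ≤ n → S ≤ X → X ≤ normalizer (S : Set H) → IsPGroup 2 S →
      ∀ {i j v r s δ : H}, Root S z i j v → Root S z r s δ → Sn (closure {i, v}) X → δ ∈ X →
      closure ({i, j} : Set H) = closure {r, s} ∨ (δ * i = i * δ ∧ δ * j = j * δ) := by
  intro n
  induction n with
  | zero =>
    intro X S hX
    exact absurd hX (by have := Nat.card_pos (α := X); omega)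
  | succ n ih =>
    intro X S hX hSX hXS hS i j v r s δ h h' hsn hδ
    by_cases hJX : closure ({i, v} : Set H) = X
    · -- `δ ∈ J`
      have h1 : δ ∈ closure ({i, v} : Set H) := by rw [hJX]; exact hδ
      have h2 : ∀ x ∈ closure ({i, j} : Set H), δ * x * δ⁻¹ ∈ closure ({i, j} : Set H) := by
        intro x hx
        obtain ⟨q, hq, h3⟩ := h.sl.mem_cases h1
        rcases h3 with rfl | rfl | rfl
        · exact mul_mem (mul_mem hq hx) (inv_mem hq)
        · have : q * v * x * (q * v)⁻¹ = q * (v * x * v⁻¹) * q⁻¹ := by group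
          rw [this]
          exact mul_mem (mul_mem hq (h.sl.conj_mem hx)) (inv_mem hq)
        · have : q * (v * v) * x * (q * (v * v))⁻¹ = q * (v * (v * x * v⁻¹) * v⁻¹) * q⁻¹ := by group
          rw [this]
          exact mul_mem (mul_mem hq (h.sl.conj_mem (h.sl.conj_mem hx))) (inv_mem hq)
      exact h.dich_norm hz hS h' (h2 i (Qt.mem_i z i j)) (h2 j (Qt.mem_j z i j))
    · -- a proper normal subgroup `N`
      obtain ⟨N, hNn, hJN, hNt⟩ : ∃ N : Subgroup X, N.Normal ∧ (closure {i, v}).subgroupOf X ≤ N ∧ N < ⊤ := by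
        rcases hsn.2.lt_normal with h1 | h1
        · exfalso
          exact hJX (le_antisymm hsn.1 (subgroupOf_eq_top.1 h1))
        · exact h1
      set N' : Subgroup H := N.map X.subtype with hN'
      have hN'X : N' ≤ X := map_subtype_le N
      have hcomap : N'.subgroupOf X = N := comap_map_eq_self_of_injective X.subtype_injective N
      have hXN : X ≤ normalizer (N' : Set H) := by
        have h1 : (N'.subgroupOf X).Normal := by rw [hcomap]; exact hNn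
        exact (normal_subgroupOf_iff_le_normalizer hN'X).1 h1
      have hJN' : closure {i, v} ≤ N' := by
        intro x hx
        exact ⟨⟨x, hsn.1 hx⟩, hJN (show (⟨x, hsn.1 hx⟩ : X) ∈ (closure {i, v}).subgroupOf X from hx), rfl⟩
      have hcard : Nat.card N' ≤ n := by
        have h1 : Nat.card N' ≠ Nat.card X := by
          intro h2
          have h3 : N' = X := eq_of_le_of_card_ge hN'X (le_of_eq h2.symm)
          apply hNt.ne
          rw [← hcomap, h3, subgroupOf_self]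
        have h2 : Nat.card N' ≤ Nat.card X := Nat.card_le_card_of_injective (inclusion hN'X) (inclusion_injective _)
        omega
      have hnS : X ≤ normalizer ((S ⊓ N' : Subgroup H) : Set H) := (le_inf hXS hXN).trans inf_normalizer_le_normalizer_inf
      have hiN : i ∈ N' := hJN' (subset_closure (by simp))
      have hvN : v ∈ N' := hJN' (subset_closure (by simp))
      have hjN : j ∈ N' := by
        rw [← h.dr]; exact mul_mem (mul_mem hvN hiN) (inv_mem hvN)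
      have hS' : IsPGroup 2 (S ⊓ N' : Subgroup H) := hS.to_le inf_le_left
      have r1 : Root (S ⊓ N') z i j v := h.mono inf_le_left ⟨h.hr, hiN⟩ ⟨h.hs, hjN⟩
      have r2 := r1.conj hz (hnS hδ)
      have hvN' : δ * v * δ⁻¹ ∈ N' := (mem_normalizer_iff.1 (hXN hδ) v).1 hvN
      have r3 := h.conj hz h'.dS
      rcases ih N' (S ⊓ N') hcard inf_le_right (hN'X.trans hnS) hS' r1 r2 (hsn.restrict hN'X hJN') hvN' with h1 | h1
      · refine h.dich_norm hz hS h' ?_ ?_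
        · rw [h1]; exact Qt.mem_i z _ _
        · rw [h1]; exact Qt.mem_j z _ _
      · right
        have e1 := (r3.comm_r hz hS h.hr h1.1).1
        have e2 := (r3.comm_r hz hS h.hs h1.2).2
        exact ⟨h'.fix_of_comm hz hS h.hr e1, h'.fix_of_comm hz hS h.hs e2⟩

end Cfsg.Agent.OddHalf.NI3.Bad.FourLin

end

-- merged: Cfsg.Agent.OddHalf.NI3.Bad.FourLin
section

/-!
# Node NI over `F₃`, THEOREM NIB, (3d)(a3), (a4): four commuting `SL₂(3)` with the same involution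

`Four P z i j d` : `P` a normal 2-subgroup of `H`, `z` a central involution, `J k = ⟨i k, d k⟩ ≅ SL₂(3)` (`k : Fin 4`)
pairwise commuting, with involution `z`, `i k ∈ P`; `J 0`, `J 1` are subnormal in `C(i 2 * i 3)`, `J 2`, `J 3` in
`C(i 0 * i 1)`; the involution `z` is not a commutator of elements of `C_P(Q)`, `Q = Q 0 Q 1 Q 2 Q 3`.

* `Four.T` : the subgroup `Q C_P(Q)` of `P`; `Four.roots` : every root of `T` is one of the four `Q k`;
* `Four.T_eq` : `T = P`;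
* `Four.main` : `J 0` is subnormal in `H`.
-/

set_option autoImplicit false
set_option linter.style.haveILetI false
set_option linter.unusedSectionVars false
set_option linter.unusedSimpArgs false
set_option linter.unreachableTactic false
set_option linter.unusedTactic false

namespace Cfsg.Agent.OddHalf.NI3.Bad.FourLin

open Subgroup Cfsg Cfsg.Agent.Cit Cfsg.Agent.Cit.SLThree

variable {H : Type*} [Group H]

/-! ### Commutators modulo a central involution -/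

/-- a central involution -/
structure Cz (z : H) : Prop where
  cen : ∀ x : H, z * x = x * z
  sq : z * z = 1
  ne : z ≠ 1

/-- `z ^ b` -/
def zb (z : H) (b : Bool) : H := if b then z else 1

namespace Cz

variable {z : H}

theorem zb_xor (h : Cz z) (a b : Bool) : zb z (xor a b) = zb z a * zb z b := by
  cases a <;> cases b <;> simp [zb, h.sq]

theorem zb_cen (h : Cz z) (b : Bool) (x : H) : zb z b * x = x * zb z b := by
  cases b
  · simp [zb]
  · simpa [zb] using h.cen x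

theorem zb_sq (h : Cz z) (b : Bool) : zb z b * zb z b = 1 := by
  cases b <;> simp [zb, h.sq]

theorem zb_inj (h : Cz z) {a b : Bool} (e : zb z a = zb z b) : a = b := by
  have := h.ne
  cases a <;> cases b <;> simp_all [zb]

end Cz

/-- `x y = z ^ b y x` -/
def Rel (z x y : H) (b : Bool) : Prop := x * y = zb z b * (y * x)

namespace Rel

variable {z x x' y y' : H} {b b' : Bool}

theorem false_iff : Rel z x y false ↔ x * y = y * x := by simp [Rel, zb]

theorem true_iff : Rel z x y true ↔ x * y = z * (y * x) := by simp [Rel, zb]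

theorem symm (h : Cz z) (h1 : Rel z x y b) : Rel z y x b := by
  unfold Rel at *
  rw [h1, ← mul_assoc, h.zb_sq, one_mul]

theorem mul_left (h : Cz z) (h1 : Rel z x y b) (h2 : Rel z x' y b') : Rel z (x * x') y (xor b b') := by
  unfold Rel at *
  calc x * x' * y = x * (x' * y) := by group
    _ = x * (zb z b' * (y * x')) := by rw [h2]
    _ = (x * zb z b') * (y * x') := by group
    _ = zb z b' * (x * y) * x' := by rw [← h.zb_cen]; group
    _ = zb z b' * (zb z b * (y * x)) * x' := by rw [h1]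
    _ = (zb z b' * zb z b) * (y * (x * x')) := by group
    _ = zb z (xor b b') * (y * (x * x')) := by rw [h.zb_xor, h.zb_cen b' (zb z b)]

theorem mul_right (h : Cz z) (h1 : Rel z x y b) (h2 : Rel z x y' b') : Rel z x (y * y') (xor b b') :=
  (mul_left h (h1.symm h) (h2.symm h)).symm h

theorem inv_left (h : Cz z) (h1 : Rel z x y b) : Rel z x⁻¹ y b := by
  unfold Rel at *
  have h2 : y * x = zb z b * (x * y) := by rw [h1, ← mul_assoc, h.zb_sq, one_mul]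
  calc x⁻¹ * y = x⁻¹ * (y * x) * x⁻¹ := by group
    _ = x⁻¹ * (zb z b * (x * y)) * x⁻¹ := by rw [h2]
    _ = (x⁻¹ * zb z b) * (x * y) * x⁻¹ := by group
    _ = zb z b * (y * x⁻¹) := by rw [← h.zb_cen]; group

theorem inv_right (h : Cz z) (h1 : Rel z x y b) : Rel z x y⁻¹ b := (inv_left h (h1.symm h)).symm h

theorem uniq (h : Cz z) (h1 : Rel z x y b) (h2 : Rel z x y b') : b = b' := by
  unfold Rel at *
  rw [h1] at h2
  exact h.zb_inj (mul_right_cancel h2)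

theorem conj (h : Cz z) (m : H) (h1 : Rel z x y b) : Rel z (m * x * m⁻¹) (m * y * m⁻¹) b := by
  unfold Rel at *
  calc m * x * m⁻¹ * (m * y * m⁻¹) = m * (x * y) * m⁻¹ := by group
    _ = m * (zb z b * (y * x)) * m⁻¹ := by rw [h1]
    _ = (m * zb z b) * (y * x) * m⁻¹ := by group
    _ = zb z b * (m * y * m⁻¹ * (m * x * m⁻¹)) := by rw [← h.zb_cen]; group

theorem of_or (h : x * y = y * x ∨ x * y = z * (y * x)) : ∃ b, Rel z x y b := by
  rcases h with h | h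
  · exact ⟨false, false_iff.2 h⟩
  · exact ⟨true, true_iff.2 h⟩

theorem or_of (h : ∃ b, Rel z x y b) : x * y = y * x ∨ x * y = z * (y * x) := by
  obtain ⟨b, h⟩ := h
  cases b
  · exact Or.inl (false_iff.1 h)
  · exact Or.inr (true_iff.1 h)

end Rel

/-- `i ^ x j ^ y` -/
def ev (i j : H) (x y : Bool) : H := (if x then i else 1) * (if y then j else 1)

theorem ev_mem (i j : H) (x y : Bool) : ev i j x y ∈ closure ({i, j} : Set H) := by
  have h1 : i ∈ closure ({i, j} : Set H) := subset_closure (by simp)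
  have h2 : j ∈ closure ({i, j} : Set H) := subset_closure (by simp)
  cases x <;> cases y <;> simp [ev, h1, h2, mul_mem]

theorem Rel.one_left {z y : H} : Rel z 1 y false := by simp [Rel, zb]

theorem Rel.self {z y : H} : Rel z y y false := by simp [Rel, zb]

theorem Rel.ev {z i j t : H} {a b : Bool} (h : Cz z) (h1 : Rel z i t a) (h2 : Rel z j t b) (x y : Bool) :
    Rel z (ev i j x y) t (xor (x && a) (y && b)) := by
  have e1 : Rel z (if x then i else 1) t (x && a) := by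
    cases x
    · simpa using Rel.one_left
    · simpa using h1
  have e2 : Rel z (if y then j else 1) t (y && b) := by
    cases y
    · simpa using Rel.one_left
    · simpa using h2
  exact e1.mul_left h e2

theorem Rel.ev_i {z i j : H} (h : Cz z) (hq : Qt z i j) (x y : Bool) : Rel z (FourLin.ev i j x y) i y := by
  have h1 : Rel z j i true := Rel.true_iff.2 hq.ji
  have h2 := Rel.ev h Rel.self h1 x y
  simpa using h2

theorem Rel.ev_j {z i j : H} (h : Cz z) (hq : Qt z i j) (x y : Bool) : Rel z (FourLin.ev i j x y) j x := by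
  have h1 : Rel z i j true := (Rel.true_iff.2 hq.ji : Rel z j i true).symm h
  have h2 := Rel.ev h h1 Rel.self x y
  simpa using h2

/-! ### The Boolean lemma -/

theorem lemE : ∀ a b a' b' c d c' d' : Bool,
    (∃ x y x' y' : Bool, (x || y) = true ∧ (x' || y') = true ∧
      xor (xor (x && a) (y && b)) (xor (x' && c) (y' && d)) = false ∧
      xor (xor (x && a') (y && b')) (xor (x' && c') (y' && d')) = false) ∨
    xor (xor (b && a') (a && b')) (xor (d && c') (c && d')) = true := by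
  decide

/-! ### The configuration -/

/-- the first index of the other pair -/
def o1 : Fin 4 → Fin 4 := ![2, 2, 0, 0]

/-- the second index of the other pair -/
def o2 : Fin 4 → Fin 4 := ![3, 3, 1, 1]

/-- the other index of the same pair -/
def pn : Fin 4 → Fin 4 := ![1, 0, 3, 2]

theorem ind (k : Fin 4) : k ≠ o1 k ∧ k ≠ o2 k ∧ o1 k ≠ o2 k ∧ pn k ≠ k ∧ pn k ≠ o1 k ∧ pn k ≠ o2 k ∧ o1 (pn k) = o1 k ∧
    o2 (pn k) = o2 k := by
  revert k; decide

theorem ind2 (k l : Fin 4) (h : l = o1 k ∨ l = o2 k) : (o1 l = k ∨ o1 l = pn k) ∧ (o2 l = k ∨ o2 l = pn k) ∧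
    l ≠ k ∧ l ≠ pn k := by
  revert h; revert l; revert k; decide

theorem ind3 (k m : Fin 4) : m = k ∨ m = pn k ∨ m = o1 k ∨ m = o2 k := by
  revert m; revert k; decide

/-- four commuting `SL₂(3)` -/
structure Four (P : Subgroup H) (z : H) (i j d : Fin 4 → H) : Prop where
  cz : Cz z
  q : ∀ k, Qt z (i k) (j k)
  di : ∀ k, d k * i k * (d k)⁻¹ = j k
  dj : ∀ k, d k * j k * (d k)⁻¹ = i k * j k
  d3 : ∀ k, d k * d k * d k = 1
  com : ∀ k l, k ≠ l → ∀ a ∈ closure ({i k, d k} : Set H), ∀ b ∈ closure ({i l, d l} : Set H), a * b = b * a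
  hP : IsPGroup 2 P
  hn : P.Normal
  hi : ∀ k, i k ∈ P
  sn : ∀ k, Sn (closure {i k, d k}) (centralizer {i (o1 k) * i (o2 k)})
  hC : ∀ c ∈ P, ∀ c' ∈ P, (∀ k, c * i k = i k * c ∧ c * j k = j k * c) →
    (∀ k, c' * i k = i k * c' ∧ c' * j k = j k * c') → c * c' ≠ z * (c' * c)

namespace Four

variable {P : Subgroup H} {z : H} {i j d : Fin 4 → H}

theorem sl (h : Four P z i j d) (k : Fin 4) : Sl (closure {i k, d k}) z (i k) (j k) (d k) :=
  ⟨h.q k, h.di k, h.dj k, h.d3 k, rfl⟩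

theorem hj (h : Four P z i j d) (k : Fin 4) : j k ∈ P := by
  rw [← h.di k]; exact h.hn.conj_mem _ (h.hi k) _

theorem Qle (h : Four P z i j d) (k : Fin 4) : closure {i k, j k} ≤ P := by
  rw [closure_le]
  rintro x (rfl | rfl)
  · exact h.hi k
  · exact h.hj k

theorem comQ (h : Four P z i j d) {k l : Fin 4} (hkl : k ≠ l) {a b : H} (ha : a ∈ closure ({i k, j k} : Set H))
    (hb : b ∈ closure ({i l, d l} : Set H)) : a * b = b * a :=
  h.com k l hkl a ((h.sl k).Qle ha) b hb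

/-- the roots of `C_P(i (o1 k) * i (o2 k))` -/
theorem rootX (h : Four P z i j d) [Finite H] (k : Fin 4) :
    Root (P ⊓ centralizer {i (o1 k) * i (o2 k)}) z (i k) (j k) (d k) := by
  obtain ⟨n1, n2, n3, -, -, -, -, -⟩ := ind k
  set w := i (o1 k) * i (o2 k) with hw
  set S := P ⊓ centralizer {w} with hS
  have hJw : closure ({i k, d k} : Set H) ≤ centralizer {w} := (h.sn k).1
  have hiS : ∀ x ∈ closure ({i k, j k} : Set H), x ∈ S := fun x hx => ⟨h.Qle k hx, hJw ((h.sl k).Qle hx)⟩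
  have hJn : closure ({i k, d k} : Set H) ≤ normalizer (S : Set H) := by
    refine (le_inf ?_ (hJw.trans le_normalizer)).trans inf_normalizer_le_normalizer_inf
    haveI := h.hn
    rw [normalizer_eq_top_iff.2 h.hn]; exact le_top
  have hS2 : IsPGroup 2 S := h.hP.to_le inf_le_left
  refine ⟨h.q k, h.di k, h.dj k, h.d3 k, hiS _ (Qt.mem_i z _ _), hiS _ (Qt.mem_j z _ _), ?_⟩
  intro t ht
  have hd := (h.sl k).hd
  have hsn : Sn (closure {i k, d k}) (closure {i k, d k} ⊔ S) :=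
    (h.sn k).restrict (sup_le hJw inf_le_right) le_sup_left
  have h1 : t * (d k)⁻¹ * t⁻¹ ∈ closure ({i k, d k} : Set H) := by
    refine mem_of_sup hsn hS2 hJn ?_ ?_
    · exact mul_mem (mul_mem (mem_sup_right ht) (mem_sup_left (inv_mem hd))) (inv_mem (mem_sup_right ht))
    · apply odd_of_cube
      calc t * (d k)⁻¹ * t⁻¹ * (t * (d k)⁻¹ * t⁻¹) * (t * (d k)⁻¹ * t⁻¹) = t * (d k * d k * d k)⁻¹ * t⁻¹ := by group
        _ = 1 := by rw [h.d3]; group
  have h2 : d k * t * (d k)⁻¹ * t⁻¹ ∈ closure ({i k, d k} : Set H) := by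
    have h3 : d k * t * (d k)⁻¹ * t⁻¹ = d k * (t * (d k)⁻¹ * t⁻¹) := by group
    rw [h3]; exact mul_mem hd h1
  have h3 : d k * t * (d k)⁻¹ * t⁻¹ ∈ S := mul_mem ((mem_normalizer_iff.1 (hJn hd) t).1 ht) (inv_mem ht)
  exact (h.sl k).mem_Q h2 hS2 (fun x hx => hiS x hx) h3

/-- `d k` centralises `C_P(Q)` -/
theorem d_comm (h : Four P z i j d) [Finite H] {c : H} (hc : c ∈ P)
    (hc' : ∀ k, c * i k = i k * c ∧ c * j k = j k * c) (k : Fin 4) : d k * c = c * d k := by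
  refine (h.rootX k).comm_d h.cz.cen (h.hP.to_le inf_le_left) ⟨hc, mem_centralizer_singleton_iff.2 ?_⟩
    (hc' k).1 (hc' k).2
  rw [← mul_assoc, (hc' _).1, mul_assoc, (hc' _).1, mul_assoc]

/-- the group `T = Q C_P(Q)` -/
def T (h : Four P z i j d) : Subgroup H where
  carrier := {x | x ∈ P ∧ ∀ k, (∃ b, Rel z x (i k) b) ∧ (∃ b, Rel z x (j k) b)}
  one_mem' := ⟨one_mem _, fun k => ⟨⟨false, Rel.one_left⟩, ⟨false, Rel.one_left⟩⟩⟩
  mul_mem' := by
    rintro x y ⟨hx, hx'⟩ ⟨hy, hy'⟩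
    refine ⟨mul_mem hx hy, fun k => ⟨?_, ?_⟩⟩
    · obtain ⟨b, hb⟩ := (hx' k).1
      obtain ⟨b', hb'⟩ := (hy' k).1
      exact ⟨_, hb.mul_left h.cz hb'⟩
    · obtain ⟨b, hb⟩ := (hx' k).2
      obtain ⟨b', hb'⟩ := (hy' k).2
      exact ⟨_, hb.mul_left h.cz hb'⟩
  inv_mem' := by
    rintro x ⟨hx, hx'⟩
    refine ⟨inv_mem hx, fun k => ⟨?_, ?_⟩⟩
    · obtain ⟨b, hb⟩ := (hx' k).1
      exact ⟨_, hb.inv_left h.cz⟩
    · obtain ⟨b, hb⟩ := (hx' k).2
      exact ⟨_, hb.inv_left h.cz⟩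

theorem mem_T (h : Four P z i j d) {x : H} :
    x ∈ h.T ↔ x ∈ P ∧ ∀ k, (∃ b, Rel z x (i k) b) ∧ (∃ b, Rel z x (j k) b) := Iff.rfl

theorem T_le (h : Four P z i j d) : h.T ≤ P := fun _ hx => hx.1

theorem T_pg (h : Four P z i j d) : IsPGroup 2 h.T := h.hP.to_le h.T_le

/-- bits of commuting elements -/
theorem rel_ij (h : Four P z i j d) (k l : Fin 4) :
    (Rel z (i k) (i l) false) ∧ (Rel z (j k) (j l) false) ∧ (Rel z (i k) (j l) (decide (k = l))) ∧
      (Rel z (j k) (i l) (decide (k = l))) := by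
  by_cases hkl : k = l
  · subst hkl
    have h1 : Rel z (j k) (i k) true := Rel.true_iff.2 (h.q k).ji
    simp only [decide_true]
    exact ⟨Rel.self, Rel.self, h1.symm h.cz, h1⟩
  · have h1 : ∀ a ∈ closure ({i k, j k} : Set H), ∀ b ∈ closure ({i l, j l} : Set H), Rel z a b false :=
      fun a ha b hb => Rel.false_iff.2 (h.comQ hkl ha ((h.sl l).Qle hb))
    simp only [hkl, decide_false]
    exact ⟨h1 _ (Qt.mem_i z _ _) _ (Qt.mem_i z _ _), h1 _ (Qt.mem_j z _ _) _ (Qt.mem_j z _ _),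
      h1 _ (Qt.mem_i z _ _) _ (Qt.mem_j z _ _), h1 _ (Qt.mem_j z _ _) _ (Qt.mem_i z _ _)⟩

theorem iT (h : Four P z i j d) (k : Fin 4) : i k ∈ h.T :=
  ⟨h.hi k, fun l => ⟨⟨_, (h.rel_ij k l).1⟩, ⟨_, (h.rel_ij k l).2.2.1⟩⟩⟩

theorem jT (h : Four P z i j d) (k : Fin 4) : j k ∈ h.T :=
  ⟨h.hj k, fun l => ⟨⟨_, (h.rel_ij k l).2.2.2⟩, ⟨_, (h.rel_ij k l).2.1⟩⟩⟩

theorem QT (h : Four P z i j d) (k : Fin 4) : closure {i k, j k} ≤ h.T := by
  rw [closure_le]
  rintro x (rfl | rfl)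
  · exact h.iT k
  · exact h.jT k

/-- `C_P(i 2 * i 3)`, `C_P(i 0 * i 1) ≤ T` -/
theorem cent_le (h : Four P z i j d) [Finite H] (k : Fin 4) {x : H} (hx : x ∈ P)
    (hxw : x * (i (o1 k) * i (o2 k)) = (i (o1 k) * i (o2 k)) * x) : x ∈ h.T := by
  obtain ⟨n1, n2, n3, n4, n5, n6, n7, n8⟩ := ind k
  have hz := h.cz.cen
  set S := P ⊓ centralizer {i (o1 k) * i (o2 k)} with hS
  have hS2 : IsPGroup 2 S := h.hP.to_le inf_le_left
  have r1 : Root S z (i k) (j k) (d k) := h.rootX k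
  have r2 : Root S z (i (pn k)) (j (pn k)) (d (pn k)) := by
    have := h.rootX (pn k)
    rwa [n7, n8] at this
  have hxS : x ∈ S := ⟨hx, mem_centralizer_singleton_iff.2 hxw⟩
  obtain ⟨a, ha, b, hbS, hab, hb1, hb2, -⟩ := r1.fac hz hS2 hxS
  obtain ⟨a', ha', b', hbS', hab', hb1', hb2', -⟩ := r2.fac hz hS2 hbS
  -- `b'` commutes with `i k`
  have e1 : b' * i k = i k * b' := by
    have h1 : b' = a'⁻¹ * b := by rw [hab']; group
    have h2 : a' * i k = i k * a' := h.comQ n4 ha' ((h.sl k).hi)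
    have h3 : a'⁻¹ * i k = i k * a'⁻¹ := (show Commute a' (i k) from h2).inv_left.eq
    rw [h1, mul_assoc, hb1, ← mul_assoc, h3, mul_assoc]
  have e2 : ∀ m, (m = k ∨ m = pn k) → b' * i m = i m * b' := by
    rintro m (rfl | rfl)
    · exact e1
    · exact hb1'
  have e3 : ∀ l, (l = o1 k ∨ l = o2 k) → b' ∈ P ⊓ centralizer {i (o1 l) * i (o2 l)} := by
    intro l hl
    have h1 := ind2 k l hl
    refine ⟨hbS'.1, mem_centralizer_singleton_iff.2 ?_⟩
    rw [← mul_assoc, e2 _ h1.1, mul_assoc, e2 _ h1.2.1, mul_assoc]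
  refine ⟨hx, fun m => ?_⟩
  have hm := ind3 k m
  have key : (m = o1 k ∨ m = o2 k) → (∃ b, Rel z x (i m) b) ∧ (∃ b, Rel z x (j m) b) := by
    intro hm
    have h1 := (ind2 k m hm).2.2
    have hS3 : IsPGroup 2 (P ⊓ centralizer {i (o1 m) * i (o2 m)} : Subgroup H) := h.hP.to_le inf_le_left
    have h2 := Rel.of_or ((h.rootX m).sign hz hS3 (e3 m hm) (Qt.mem_i z _ _))
    have h3 := Rel.of_or ((h.rootX m).sign hz hS3 (e3 m hm) (Qt.mem_j z _ _))
    have hx' : x = a * (a' * b') := by rw [hab, hab']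
    have q1 : ∀ y ∈ closure ({i m, d m} : Set H), Rel z a y false := fun y hy =>
      Rel.false_iff.2 (h.comQ h1.1.symm ha hy)
    have q2 : ∀ y ∈ closure ({i m, d m} : Set H), Rel z a' y false := fun y hy =>
      Rel.false_iff.2 (h.comQ h1.2.symm ha' hy)
    obtain ⟨b2, h2⟩ := h2
    obtain ⟨b3, h3⟩ := h3
    rw [hx']
    exact ⟨⟨_, (q1 _ (h.sl m).hi).mul_left h.cz ((q2 _ (h.sl m).hi).mul_left h.cz h2)⟩,
      ⟨_, (q1 _ (h.sl m).hj).mul_left h.cz ((q2 _ (h.sl m).hj).mul_left h.cz h3)⟩⟩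
  rcases hm with hm | hm | hm
  · rw [hm]
    exact ⟨Rel.of_or (r1.sign hz hS2 hxS (Qt.mem_i z _ _)), Rel.of_or (r1.sign hz hS2 hxS (Qt.mem_j z _ _))⟩
  · rw [hm]
    exact ⟨Rel.of_or (r2.sign hz hS2 hxS (Qt.mem_i z _ _)), Rel.of_or (r2.sign hz hS2 hxS (Qt.mem_j z _ _))⟩
  · exact key hm

/-- **the roots of `T`** -/
theorem rootT (h : Four P z i j d) [Finite H] (k : Fin 4) : Root h.T z (i k) (j k) (d k) := by
  refine ⟨h.q k, h.di k, h.dj k, h.d3 k, h.iT k, h.jT k, ?_⟩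
  intro t ht
  have hz := h.cz.cen
  obtain ⟨⟨α, hα⟩, ⟨β, hβ⟩⟩ := ht.2 k
  set a := ev (i k) (j k) β α with ha
  have haQ : a ∈ closure ({i k, j k} : Set H) := ev_mem _ _ _ _
  set b := a⁻¹ * t with hb
  have hbT : b ∈ h.T := mul_mem (inv_mem (h.QT k haQ)) ht
  have hbi : b * i k = i k * b := by
    have h1 : Rel z a (i k) α := Rel.ev_i h.cz (h.q k) β α
    have h2 := (h1.inv_left h.cz).mul_left h.cz hα
    rw [Bool.xor_self] at h2
    exact Rel.false_iff.1 h2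
  have hbj : b * j k = j k * b := by
    have h1 : Rel z a (j k) β := Rel.ev_j h.cz (h.q k) β α
    have h2 := (h1.inv_left h.cz).mul_left h.cz hβ
    rw [Bool.xor_self] at h2
    exact Rel.false_iff.1 h2
  have hbQ : ∀ x ∈ closure ({i k, j k} : Set H), b * x = x * b := fun x hx => Root.comm_closure hbi hbj hx
  -- `d k` commutes with `b`
  have hd : d k * b = b * d k := by
    set y := d k * b * (d k)⁻¹ * b⁻¹ with hy
    have hyP : y ∈ P := mul_mem (h.hn.conj_mem _ hbT.1 _) (inv_mem hbT.1)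
    have hyc : ∀ l, y * i l = i l * y ∧ y * j l = j l * y := by
      intro l
      by_cases hkl : l = k
      · subst hkl
        have key : ∀ x ∈ closure ({i l, j l} : Set H), y * x = x * y := by
          intro x hx
          have h1 : (d l)⁻¹ * x * d l ∈ closure ({i l, j l} : Set H) := by
            have h2 := (h.sl l).conj_mem ((h.sl l).conj_mem hx)
            have h3 : (d l)⁻¹ = d l * d l := (h.sl l).d_inv
            have h4 : (d l)⁻¹ * x * d l = d l * (d l * x * (d l)⁻¹) * (d l)⁻¹ := by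
              calc (d l)⁻¹ * x * d l = (d l)⁻¹ * x * ((d l)⁻¹)⁻¹ := by rw [inv_inv]
                _ = (d l * d l) * x * (d l * d l)⁻¹ := by rw [h3]
                _ = _ := by group
            rw [h4]; exact h2
          have h5 := hbQ _ h1
          have h6 : (d l * b * (d l)⁻¹) * x = x * (d l * b * (d l)⁻¹) := by
            calc (d l * b * (d l)⁻¹) * x = d l * (b * ((d l)⁻¹ * x * d l)) * (d l)⁻¹ := by group
              _ = d l * (((d l)⁻¹ * x * d l) * b) * (d l)⁻¹ := by rw [h5]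
              _ = x * (d l * b * (d l)⁻¹) := by group
          have h7 : b⁻¹ * x = x * b⁻¹ := (show Commute b x from hbQ x hx).inv_left.eq
          rw [hy, mul_assoc, h7, ← mul_assoc, h6, mul_assoc]
        exact ⟨key _ (Qt.mem_i z _ _), key _ (Qt.mem_j z _ _)⟩
      · have key : ∀ x ∈ closure ({i l, d l} : Set H), (∃ c, Rel z b x c) → y * x = x * y := by
          rintro x hx ⟨c, hc⟩
          have h1 : d k * x = x * d k := h.com k l (Ne.symm hkl) _ (h.sl k).hd _ hx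
          have h2 : d k * x * (d k)⁻¹ = x := by rw [h1]; group
          have h3 := hc.conj h.cz (d k)
          rw [h2] at h3
          have h4 := h3.mul_left h.cz (hc.inv_left h.cz)
          rw [Bool.xor_self] at h4
          exact Rel.false_iff.1 h4
        exact ⟨key _ (h.sl l).hi (hbT.2 l).1, key _ (h.sl l).hj (hbT.2 l).2⟩
    have hdy := h.d_comm hyP hyc k
    have e1 : d k * b * (d k)⁻¹ = y * b := by rw [hy]; group
    have e2 : d k * (y * b) * (d k)⁻¹ = y * (y * b) := by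
      calc d k * (y * b) * (d k)⁻¹ = (d k * y) * b * (d k)⁻¹ := by group
        _ = y * (d k * b * (d k)⁻¹) := by rw [hdy]; group
        _ = y * (y * b) := by rw [e1]
    have e3 : d k * (y * (y * b)) * (d k)⁻¹ = y * (y * (y * b)) := by
      calc d k * (y * (y * b)) * (d k)⁻¹ = (d k * y) * (y * b) * (d k)⁻¹ := by group
        _ = y * (d k * (y * b) * (d k)⁻¹) := by rw [hdy]; group
        _ = y * (y * (y * b)) := by rw [e2]
    have e4 : y * y * y = 1 := by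
      have h1 : d k * (d k * (d k * b * (d k)⁻¹) * (d k)⁻¹) * (d k)⁻¹ = b := by
        calc d k * (d k * (d k * b * (d k)⁻¹) * (d k)⁻¹) * (d k)⁻¹ = (d k * d k * d k) * b * (d k * d k * d k)⁻¹ := by
              group
          _ = b := by rw [h.d3]; group
      rw [e1, e2, e3] at h1
      have h2 : (y * y * y) * b = 1 * b := by rw [one_mul]; simpa only [mul_assoc] using h1
      exact mul_right_cancel h2
    obtain ⟨n, hn⟩ := h.hP ⟨y, hyP⟩
    have hn' : y ^ 2 ^ n = 1 := by simpa using congrArg Subtype.val hn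
    have e5 : y = 1 := Cit.SLThree.Sl.eq_one_of_cube e4 hn'
    rw [hy, mul_inv_eq_one, mul_inv_eq_iff_eq_mul] at e5
    exact e5
  have h1 : t = a * b := by rw [hb]; group
  have h2 : d k * t * (d k)⁻¹ * t⁻¹ = (d k * a * (d k)⁻¹) * a⁻¹ := by
    rw [h1]
    calc d k * (a * b) * (d k)⁻¹ * (a * b)⁻¹ = d k * a * (b * (d k)⁻¹) * b⁻¹ * a⁻¹ := by group
      _ = d k * a * (b * (d k)⁻¹) * b⁻¹ * a⁻¹ := rfl
      _ = d k * a * ((d k)⁻¹ * (d k * b) * (d k)⁻¹) * b⁻¹ * a⁻¹ := by group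
      _ = d k * a * ((d k)⁻¹ * (b * d k) * (d k)⁻¹) * b⁻¹ * a⁻¹ := by rw [hd]
      _ = (d k * a * (d k)⁻¹) * a⁻¹ := by group
  rw [h2]
  exact mul_mem ((h.sl k).conj_mem haQ) (inv_mem haQ)

/-- the elements of the other pair -/
theorem sn_ev (h : Four P z i j d) (k : Fin 4) {x y x' y' : Bool} (h1 : (x || y) = true) (h2 : (x' || y') = true) :
    Sn (closure {i k, d k})
      (centralizer {ev (i (o1 k)) (j (o1 k)) x y * ev (i (o2 k)) (j (o2 k)) x' y'}) := by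
  have key : ∀ l : Fin 4, ∀ x y : Bool, (x || y) = true → ∃ g ∈ closure ({i l, d l} : Set H),
      g * i l * g⁻¹ = ev (i l) (j l) x y := by
    intro l x y hxy
    have hd := (h.sl l).hd
    cases x <;> cases y
    · simp at hxy
    · exact ⟨d l, hd, by rw [h.di]; simp [ev]⟩
    · exact ⟨1, one_mem _, by simp [ev]⟩
    · refine ⟨d l * d l, mul_mem hd hd, ?_⟩
      have : d l * d l * i l * (d l * d l)⁻¹ = d l * (d l * i l * (d l)⁻¹) * (d l)⁻¹ := by group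
      rw [this, h.di, h.dj]; simp [ev]
  obtain ⟨n1, n2, n3, -, -, -, -, -⟩ := ind k
  obtain ⟨g, hg, hg'⟩ := key (o1 k) x y h1
  obtain ⟨g', hgm, hgm'⟩ := key (o2 k) x' y' h2
  rw [← hg', ← hgm']
  have c1 : g * g' = g' * g := h.com _ _ n3 g hg g' hgm
  have c2 : g * i (o2 k) = i (o2 k) * g := h.com _ _ n3 g hg _ (h.sl _).hi
  have c3 : g' * i (o1 k) = i (o1 k) * g' := h.com _ _ n3.symm g' hgm _ (h.sl _).hi
  have e1 : g * i (o1 k) * g⁻¹ * (g' * i (o2 k) * g'⁻¹) = (g * g') * (i (o1 k) * i (o2 k)) * (g * g')⁻¹ := by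
    have c1' : g⁻¹ * g' = g' * g⁻¹ := (show Commute g g' from c1).inv_left.eq
    have c2' : g⁻¹ * i (o2 k) = i (o2 k) * g⁻¹ := (show Commute g (i (o2 k)) from c2).inv_left.eq
    have c1'' : g'⁻¹ * g⁻¹ = g⁻¹ * g'⁻¹ := by rw [← mul_inv_rev, ← mul_inv_rev, c1]
    calc g * i (o1 k) * g⁻¹ * (g' * i (o2 k) * g'⁻¹) = g * i (o1 k) * (g⁻¹ * g') * (i (o2 k) * g'⁻¹) := by group
      _ = g * (i (o1 k) * g') * (g⁻¹ * i (o2 k)) * g'⁻¹ := by rw [c1']; group
      _ = g * (g' * i (o1 k)) * (i (o2 k) * g⁻¹) * g'⁻¹ := by rw [c3, c2']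
      _ = (g * g') * (i (o1 k) * i (o2 k)) * (g⁻¹ * g'⁻¹) := by group
      _ = (g * g') * (i (o1 k) * i (o2 k)) * (g * g')⁻¹ := by rw [← c1'']; group
  rw [e1]
  have h3 := (h.sn k).cj (g * g')
  have h4 : Cit.cj (g * g') (closure {i k, d k}) = closure {i k, d k} := by
    have hgg : ∀ x ∈ closure ({i k, d k} : Set H), (g * g') * x = x * (g * g') := by
      intro x hx
      have a1 : g * x = x * g := (h.com k _ n1 x hx g hg).symm
      have a2 : g' * x = x * g' := (h.com k _ n2 x hx g' hgm).symm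
      rw [mul_assoc, a2, ← mul_assoc, a1, mul_assoc]
    ext x
    constructor
    · rintro ⟨y, hy, rfl⟩
      show (g * g') * y * (g * g')⁻¹ ∈ _
      rw [hgg y hy, mul_assoc, mul_inv_cancel, mul_one]
      exact hy
    · intro hx
      refine ⟨x, hx, ?_⟩
      show (g * g') * x * (g * g')⁻¹ = x
      rw [hgg x hx, mul_assoc, mul_inv_cancel, mul_one]
  have h5 : Cit.cj (g * g') (centralizer {i (o1 k) * i (o2 k)}) =
      centralizer {(g * g') * (i (o1 k) * i (o2 k)) * (g * g')⁻¹} := by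
    ext x
    rw [mem_centralizer_singleton_iff]
    constructor
    · rintro ⟨y, hy, rfl⟩
      have hy' := mem_centralizer_singleton_iff.1 hy
      show (g * g') * y * (g * g')⁻¹ * _ = _ * ((g * g') * y * (g * g')⁻¹)
      calc (g * g') * y * (g * g')⁻¹ * (g * g' * (i (o1 k) * i (o2 k)) * (g * g')⁻¹) =
          (g * g') * (y * (i (o1 k) * i (o2 k))) * (g * g')⁻¹ := by group
        _ = (g * g') * ((i (o1 k) * i (o2 k)) * y) * (g * g')⁻¹ := by rw [hy']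
        _ = _ := by group
    · intro hx
      refine ⟨(g * g')⁻¹ * x * (g * g'), mem_centralizer_singleton_iff.2 ?_, ?_⟩
      · calc (g * g')⁻¹ * x * (g * g') * (i (o1 k) * i (o2 k)) =
            (g * g')⁻¹ * (x * (g * g' * (i (o1 k) * i (o2 k)) * (g * g')⁻¹)) * (g * g') := by group
          _ = (g * g')⁻¹ * ((g * g' * (i (o1 k) * i (o2 k)) * (g * g')⁻¹) * x) * (g * g') := by rw [hx]
          _ = _ := by group
      · show (g * g') * ((g * g')⁻¹ * x * (g * g')) * (g * g')⁻¹ = x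
        group
  rw [h4, h5] at h3
  exact h3

/-- **(∗∗)** -/
theorem star (h : Four P z i j d) [Finite H] {r s δ : H} (hR : Root h.T z r s δ) (k : Fin 4) {x y x' y' : Bool}
    (h1 : (x || y) = true) (h2 : (x' || y') = true)
    (hr : r * (ev (i (o1 k)) (j (o1 k)) x y * ev (i (o2 k)) (j (o2 k)) x' y') =
      (ev (i (o1 k)) (j (o1 k)) x y * ev (i (o2 k)) (j (o2 k)) x' y') * r)
    (hs : s * (ev (i (o1 k)) (j (o1 k)) x y * ev (i (o2 k)) (j (o2 k)) x' y') =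
      (ev (i (o1 k)) (j (o1 k)) x y * ev (i (o2 k)) (j (o2 k)) x' y') * s) :
    closure ({i k, j k} : Set H) = closure {r, s} ∨
      ((r * i k = i k * r ∧ r * j k = j k * r) ∧ (s * i k = i k * s ∧ s * j k = j k * s)) := by
  obtain ⟨n1, n2, n3, -, -, -, -, -⟩ := ind k
  have hz := h.cz.cen
  have hsn := h.sn_ev k h1 h2
  set v := ev (i (o1 k)) (j (o1 k)) x y * ev (i (o2 k)) (j (o2 k)) x' y' with hv
  have hvT : v ∈ h.T := mul_mem (h.QT _ (ev_mem _ _ _ _)) (h.QT _ (ev_mem _ _ _ _))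
  have hδv : δ * v = v * δ := hR.comm_d hz h.T_pg hvT hr.symm hs.symm
  set S := h.T ⊓ centralizer {v} with hS
  set X := normalizer (h.T : Set H) ⊓ centralizer {v} with hX
  have hJv := hsn.1
  have rk := h.rootT k
  have r1 : Root S z (i k) (j k) (d k) :=
    rk.mono inf_le_left ⟨h.iT k, hJv (h.sl k).hi⟩ ⟨h.jT k, hJv (h.sl k).hj⟩
  have r2 : Root S z r s δ := hR.mono inf_le_left ⟨hR.hr, mem_centralizer_singleton_iff.2 hr⟩
    ⟨hR.hs, mem_centralizer_singleton_iff.2 hs⟩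
  have hSX : S ≤ X := inf_le_inf_right _ le_normalizer
  have hXS : X ≤ normalizer (S : Set H) :=
    (inf_le_inf_left _ le_normalizer).trans inf_normalizer_le_normalizer_inf
  have hJX : closure {i k, d k} ≤ X := by
    refine le_inf ?_ hJv
    rw [closure_le]
    rintro y (rfl | rfl)
    · exact le_normalizer (h.iT k)
    · exact rk.dS
  have hδX : δ ∈ X := ⟨hR.dS, mem_centralizer_singleton_iff.2 hδv⟩
  rcases dich hz _ X S le_rfl hSX hXS (h.T_pg.to_le inf_le_left) r1 r2 (hsn.restrict inf_le_right hJX) hδX with h3 | h3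
  · exact Or.inl h3
  · right
    have h4 := hR.comm_r hz h.T_pg (h.iT k) h3.1
    have h5 := hR.comm_r hz h.T_pg (h.jT k) h3.2
    exact ⟨⟨h4.1.symm, h5.1.symm⟩, ⟨h4.2.symm, h5.2.symm⟩⟩

/-- products -/
def E (i j : Fin 4 → H) (x y : Fin 4 → Bool) : H :=
  ev (i 0) (j 0) (x 0) (y 0) * (ev (i 1) (j 1) (x 1) (y 1) * (ev (i 2) (j 2) (x 2) (y 2) * ev (i 3) (j 3) (x 3) (y 3)))

theorem rel_E (h : Four P z i j d) (x y : Fin 4 → Bool) (k : Fin 4) :
    Rel z (E i j x y) (i k) (y k) ∧ Rel z (E i j x y) (j k) (x k) := by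
  have h1 : ∀ l, Rel z (ev (i l) (j l) (x l) (y l)) (i k) (if l = k then y k else false) := by
    intro l
    by_cases hlk : l = k
    · subst hlk
      rw [if_pos rfl]
      exact Rel.ev_i h.cz (h.q l) _ _
    · rw [if_neg hlk]
      exact Rel.false_iff.2 (h.comQ hlk (ev_mem _ _ _ _) (h.sl k).hi)
  have h2 : ∀ l, Rel z (ev (i l) (j l) (x l) (y l)) (j k) (if l = k then x k else false) := by
    intro l
    by_cases hlk : l = k
    · subst hlk
      rw [if_pos rfl]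
      exact Rel.ev_j h.cz (h.q l) _ _
    · rw [if_neg hlk]
      exact Rel.false_iff.2 (h.comQ hlk (ev_mem _ _ _ _) (h.sl k).hj)
  have h3 := (h1 0).mul_left h.cz ((h1 1).mul_left h.cz ((h1 2).mul_left h.cz (h1 3)))
  have h4 := (h2 0).mul_left h.cz ((h2 1).mul_left h.cz ((h2 2).mul_left h.cz (h2 3)))
  constructor
  · have e : xor (if (0 : Fin 4) = k then y k else false) (xor (if (1 : Fin 4) = k then y k else false)
        (xor (if (2 : Fin 4) = k then y k else false) (if (3 : Fin 4) = k then y k else false))) = y k := by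
      fin_cases k <;> simp
    rw [e] at h3
    exact h3
  · have e : xor (if (0 : Fin 4) = k then x k else false) (xor (if (1 : Fin 4) = k then x k else false)
        (xor (if (2 : Fin 4) = k then x k else false) (if (3 : Fin 4) = k then x k else false))) = x k := by
      fin_cases k <;> simp
    rw [e] at h4
    exact h4

theorem E_mem (h : Four P z i j d) (x y : Fin 4 → Bool) : E i j x y ∈ P :=
  mul_mem (h.Qle _ (ev_mem _ _ _ _)) (mul_mem (h.Qle _ (ev_mem _ _ _ _)) (mul_mem (h.Qle _ (ev_mem _ _ _ _))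
    (h.Qle _ (ev_mem _ _ _ _))))

/-- **Every root of `T` is one of the four `Q k`.** -/
theorem roots (h : Four P z i j d) [Finite H] {r s δ : H} (hR : Root h.T z r s δ) :
    ∃ k, closure ({i k, j k} : Set H) = closure {r, s} := by
  by_contra hno
  push Not at hno
  have hz := h.cz
  choose A hA using fun k => (hR.hr.2 k).1
  choose B hB using fun k => (hR.hr.2 k).2
  choose A' hA' using fun k => (hR.hs.2 k).1
  choose B' hB' using fun k => (hR.hs.2 k).2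
  have hstar : ∀ (k : Fin 4) (x y x' y' : Bool), (x || y) = true → (x' || y') = true →
      xor (xor (x && A (o1 k)) (y && B (o1 k))) (xor (x' && A (o2 k)) (y' && B (o2 k))) = false →
      xor (xor (x && A' (o1 k)) (y && B' (o1 k))) (xor (x' && A' (o2 k)) (y' && B' (o2 k))) = false →
      A k = false ∧ B k = false ∧ A' k = false ∧ B' k = false := by
    intro k x y x' y' h1 h2 h3 h4
    have e1 := (Rel.ev hz ((hA (o1 k)).symm hz) ((hB (o1 k)).symm hz) x y).mul_left hz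
      (Rel.ev hz ((hA (o2 k)).symm hz) ((hB (o2 k)).symm hz) x' y')
    have e2 := (Rel.ev hz ((hA' (o1 k)).symm hz) ((hB' (o1 k)).symm hz) x y).mul_left hz
      (Rel.ev hz ((hA' (o2 k)).symm hz) ((hB' (o2 k)).symm hz) x' y')
    rw [h3] at e1
    rw [h4] at e2
    rcases h.star hR k h1 h2 (Rel.false_iff.1 e1).symm (Rel.false_iff.1 e2).symm with h5 | h5
    · exact absurd h5 (hno k)
    · exact ⟨(hA k).uniq hz (Rel.false_iff.2 h5.1.1), (hB k).uniq hz (Rel.false_iff.2 h5.1.2),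
        (hA' k).uniq hz (Rel.false_iff.2 h5.2.1), (hB' k).uniq hz (Rel.false_iff.2 h5.2.2)⟩
  -- the commutator form
  let D : Fin 4 → Bool := fun k => xor (B k && A' k) (A k && B' k)
  have hD : xor (D 0) (xor (D 1) (xor (D 2) (D 3))) = true := by
    set c := r * (E i j B A)⁻¹ with hc
    set c' := s * (E i j B' A')⁻¹ with hc'
    have hcP : c ∈ P := mul_mem hR.hr.1 (inv_mem (h.E_mem _ _))
    have hcP' : c' ∈ P := mul_mem hR.hs.1 (inv_mem (h.E_mem _ _))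
    have hcc : ∀ k, c * i k = i k * c ∧ c * j k = j k * c := by
      intro k
      have e1 := (hA k).mul_left hz ((h.rel_E B A k).1.inv_left hz)
      have e2 := (hB k).mul_left hz ((h.rel_E B A k).2.inv_left hz)
      rw [Bool.xor_self] at e1 e2
      exact ⟨Rel.false_iff.1 e1, Rel.false_iff.1 e2⟩
    have hcc' : ∀ k, c' * i k = i k * c' ∧ c' * j k = j k * c' := by
      intro k
      have e1 := (hA' k).mul_left hz ((h.rel_E B' A' k).1.inv_left hz)
      have e2 := (hB' k).mul_left hz ((h.rel_E B' A' k).2.inv_left hz)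
      rw [Bool.xor_self] at e1 e2
      exact ⟨Rel.false_iff.1 e1, Rel.false_iff.1 e2⟩
    have hrs : Rel z r s true := (Rel.true_iff.2 hR.q.ji : Rel z s r true).symm hz
    have e0 : ∀ k, Rel z (ev (i k) (j k) (B k) (A k)) s (D k) := fun k =>
      Rel.ev hz ((hA' k).symm hz) ((hB' k).symm hz) _ _
    have e1 : Rel z (E i j B A) s (xor (D 0) (xor (D 1) (xor (D 2) (D 3)))) :=
      (e0 0).mul_left hz ((e0 1).mul_left hz ((e0 2).mul_left hz (e0 3)))
    have e2 := hrs.mul_left hz (e1.inv_left hz)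
    have e3 : ∀ k, Rel z (ev (i k) (j k) (B' k) (A' k)) c false := by
      intro k
      have := Rel.ev hz (Rel.false_iff.2 (hcc k).1.symm : Rel z (i k) c false)
        (Rel.false_iff.2 (hcc k).2.symm : Rel z (j k) c false) (B' k) (A' k)
      simpa using this
    have e4 : Rel z (E i j B' A') c false := by
      have := (e3 0).mul_left hz ((e3 1).mul_left hz ((e3 2).mul_left hz (e3 3)))
      simpa [E] using this
    have e5 := e2.mul_right hz ((e4.symm hz).inv_right hz)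
    have h6 := h.hC c hcP c' hcP' hcc hcc'
    by_contra hne
    rw [Bool.not_eq_true] at hne
    rw [hne] at e5
    apply h6
    exact Rel.true_iff.1 e5
  have o10 : o1 0 = 2 := rfl
  have o20 : o2 0 = 3 := rfl
  have o11 : o1 1 = 2 := rfl
  have o21 : o2 1 = 3 := rfl
  have o12 : o1 2 = 0 := rfl
  have o22 : o2 2 = 1 := rfl
  have o13 : o1 3 = 0 := rfl
  have o23 : o2 3 = 1 := rfl
  have s0 := hstar 0
  have s1 := hstar 1
  have s2 := hstar 2
  have s3 := hstar 3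
  rw [o10, o20] at s0
  rw [o11, o21] at s1
  rw [o12, o22] at s2
  rw [o13, o23] at s3
  rcases lemE (A 2) (B 2) (A' 2) (B' 2) (A 3) (B 3) (A' 3) (B' 3) with ⟨x, y, x', y', h1, h2, h3, h4⟩ | h23
  · obtain ⟨a0, b0, a0', b0'⟩ := s0 x y x' y' h1 h2 h3 h4
    obtain ⟨a1, b1, a1', b1'⟩ := s1 x y x' y' h1 h2 h3 h4
    obtain ⟨a2, b2, a2', b2'⟩ := s2 true false true false rfl rfl (by simp [a0, b0, a1, b1]) (by simp [a0', b0', a1', b1'])
    obtain ⟨a3, b3, a3', b3'⟩ := s3 true false true false rfl rfl (by simp [a0, b0, a1, b1]) (by simp [a0', b0', a1', b1'])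
    simp [D, a0, b0, a0', b0', a1, b1, a1', b1', a2, b2, a2', b2', a3, b3, a3', b3'] at hD
  · rcases lemE (A 0) (B 0) (A' 0) (B' 0) (A 1) (B 1) (A' 1) (B' 1) with ⟨x, y, x', y', h1, h2, h3, h4⟩ | h01
    · obtain ⟨a2, b2, a2', b2'⟩ := s2 x y x' y' h1 h2 h3 h4
      obtain ⟨a3, b3, a3', b3'⟩ := s3 x y x' y' h1 h2 h3 h4
      simp [a2, b2, a2', b2', a3, b3, a3', b3'] at h23
    · have h1 : xor (D 0) (D 1) = true := h01
      have h2 : xor (D 2) (D 3) = true := h23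
      rw [h2, ← Bool.xor_assoc, h1] at hD
      simp at hD

/-! ### `T = P` -/

theorem rel_pow {z x y : H} (hz : Cz z) (hx : ∃ b, Rel z x y b) (m : ℕ) : ∃ b, Rel z (x ^ m) y b := by
  induction m with
  | zero => exact ⟨false, by rw [pow_zero]; exact Rel.one_left⟩
  | succ m ih =>
    obtain ⟨b, hb⟩ := hx
    obtain ⟨b', hb'⟩ := ih
    exact ⟨_, by rw [pow_succ]; exact hb'.mul_left hz hb⟩

theorem rel_of_cube {z x y : H} (hz : Cz z) {n : ℕ} (hn : x ^ 2 ^ n = 1) (h : ∃ b, Rel z (x * x * x) y b) :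
    ∃ b, Rel z x y b := by
  have h1 : Nat.Coprime (orderOf x) 3 := by
    have h2 : orderOf x ∣ 2 ^ n := orderOf_dvd_of_pow_eq_one hn
    exact Nat.Coprime.coprime_dvd_left h2 (Nat.Coprime.pow_left n (by norm_num))
  obtain ⟨m, hm⟩ := exists_pow_eq_self_of_coprime h1.symm
  have h3 : x ^ 3 = x * x * x := by rw [pow_succ, pow_succ, pow_one]
  have h4 := rel_pow hz h m
  rw [← h3, hm] at h4
  exact h4

theorem rel_cycle {z b x y w : H} (hz : Cz z) {a1 a2 a3 : Bool} (h1 : b * x = zb z a1 * (y * b))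
    (h2 : b * y = zb z a2 * (w * b)) (h3 : b * w = zb z a3 * (x * b)) : ∃ e, Rel z (b * b * b) x e := by
  refine ⟨xor a1 (xor a2 a3), ?_⟩
  unfold Rel
  have c : ∀ (a : Bool) (u v : H), u * (zb z a * v) = zb z a * (u * v) := fun a u v => by
    rw [← mul_assoc, ← hz.zb_cen, mul_assoc]
  calc (b * b * b) * x = b * (b * (b * x)) := by group
    _ = b * (b * (zb z a1 * (y * b))) := by rw [h1]
    _ = zb z a1 * (b * ((b * y) * b)) := by rw [c, c]; group
    _ = zb z a1 * (b * ((zb z a2 * (w * b)) * b)) := by rw [h2]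
    _ = zb z a1 * (b * (zb z a2 * (w * b * b))) := by group
    _ = zb z a1 * (zb z a2 * ((b * w) * (b * b))) := by rw [c]; group
    _ = zb z a1 * (zb z a2 * (zb z a3 * (x * b) * (b * b))) := by rw [h3]
    _ = zb z a1 * (zb z a2 * zb z a3) * (x * (b * b * b)) := by group
    _ = zb z (xor a1 (xor a2 a3)) * (x * (b * b * b)) := by rw [hz.zb_xor, hz.zb_xor]

/-- `N_P(T)` normalises `Q k` -/
theorem norm_Q (h : Four P z i j d) [Finite H] {p : H} (hp : p ∈ P) (hpT : p ∈ normalizer (h.T : Set H)) (k : Fin 4) :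
    closure ({i k, j k} : Set H) = closure {p * i k * p⁻¹, p * j k * p⁻¹} := by
  have hz := h.cz.cen
  have r := (h.rootT k).conj hz hpT
  obtain ⟨l, hl⟩ := h.roots r
  by_cases hlk : l = k
  · rw [← hl, hlk]
  exfalso
  have hcom : ∀ x ∈ closure ({i k, j k} : Set H), ∀ y ∈ closure ({p * i k * p⁻¹, p * j k * p⁻¹} : Set H),
      x * y = y * x := by
    intro x hx y hy
    rw [← hl] at hy
    exact h.comQ (Ne.symm hlk) hx ((h.sl l).Qle hy)
  have hδ : ∀ x ∈ closure ({i k, j k} : Set H), p * d k * p⁻¹ * x = x * (p * d k * p⁻¹) := fun x hx =>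
    r.comm_d hz h.T_pg (h.QT k hx) (hcom x hx _ (Qt.mem_i z _ _)) (hcom x hx _ (Qt.mem_j z _ _))
  set c := p * d k * p⁻¹ * (d k)⁻¹ with hc
  have hcP : c ∈ P := by
    have h1 : c = p * (d k * p⁻¹ * (d k)⁻¹) := by rw [hc]; group
    rw [h1]; exact mul_mem hp (h.hn.conj_mem _ (inv_mem hp) _)
  have hcx : ∀ x y, y ∈ closure ({i k, j k} : Set H) → d k * y * (d k)⁻¹ = x → c * x = y * c := by
    intro x y hy hxy
    rw [← hxy, hc]
    calc p * d k * p⁻¹ * (d k)⁻¹ * (d k * y * (d k)⁻¹) = (p * d k * p⁻¹ * y) * (d k)⁻¹ := by group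
      _ = y * (p * d k * p⁻¹ * (d k)⁻¹) := by rw [hδ y hy]; group
  have hi := Qt.mem_i z (i k) (j k)
  have hj := Qt.mem_j z (i k) (j k)
  obtain ⟨n, hn⟩ := h.hP ⟨c, hcP⟩
  have hn' : c ^ 2 ^ n = 1 := by simpa using congrArg Subtype.val hn
  have h1 := hcx _ _ hi (h.di k)
  have h2 := hcx _ _ (mul_mem hi hj) (h.sl k).dij
  have h3 := hcx _ _ hj (h.dj k)
  have h4 := comm_of_cube hn' (cube_of_cycle h1 h2 h3)
  rw [h1] at h4
  exact (h.q k).not_comm (by rw [mul_right_cancel h4])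

/-- `N_P(T)` acts on `Q k` by inner automorphisms -/
theorem rel_norm (h : Four P z i j d) [Finite H] {p : H} (hp : p ∈ P) (hpT : p ∈ normalizer (h.T : Set H))
    (k : Fin 4) : ∃ b, Rel z p (i k) b := by
  have hz := h.cz.cen
  have hQ := h.norm_Q hp hpT k
  have r := (h.rootT k).conj hz hpT
  have hq := h.q k
  set c := p * d k * p⁻¹ * (d k)⁻¹ with hc
  have hcP : c ∈ P := by
    have h1 : c = p * (d k * p⁻¹ * (d k)⁻¹) := by rw [hc]; group
    rw [h1]; exact mul_mem hp (h.hn.conj_mem _ (inv_mem hp) _)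
  have hcT : c ∈ h.T := by
    refine h.cent_le k hcP ?_
    obtain ⟨n1, n2, -, -, -, -, -, -⟩ := ind k
    set w := i (o1 k) * i (o2 k) with hw
    have hwT : w ∈ h.T := mul_mem (h.iT _) (h.iT _)
    have hwc : ∀ x ∈ closure ({i k, d k} : Set H), w * x = x * w := by
      intro x hx
      have a1 : x * i (o1 k) = i (o1 k) * x := h.com k _ n1 x hx _ (h.sl _).hi
      have a2 : x * i (o2 k) = i (o2 k) * x := h.com k _ n2 x hx _ (h.sl _).hi
      rw [hw, mul_assoc, ← a2, ← mul_assoc, ← a1, mul_assoc]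
    have h1 : ∀ x ∈ closure ({p * i k * p⁻¹, p * j k * p⁻¹} : Set H), w * x = x * w := by
      intro x hx
      rw [← hQ] at hx
      exact hwc x ((h.sl k).Qle hx)
    have h2 : p * d k * p⁻¹ * w = w * (p * d k * p⁻¹) :=
      r.comm_d hz h.T_pg hwT (h1 _ (Qt.mem_i z _ _)) (h1 _ (Qt.mem_j z _ _))
    have h3 : (d k)⁻¹ * w = w * (d k)⁻¹ := (hwc _ (inv_mem (h.sl k).hd)).symm
    rw [hc, mul_assoc, h3, ← mul_assoc, h2, mul_assoc]
  have hpd : p * d k = c * d k * p := by rw [hc]; group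
  -- the action modulo `z`
  have step : ∀ x y, x ∈ closure ({i k, j k} : Set H) → y ∈ closure ({i k, j k} : Set H) → ∀ a,
      p * x = zb z a * (y * p) → ∃ a', p * (d k * x * (d k)⁻¹) = zb z a' * ((d k * y * (d k)⁻¹) * p) := by
    intro x y hx hy a hxy
    obtain ⟨b, hb⟩ := Rel.of_or ((h.rootT k).sign hz h.T_pg hcT ((h.sl k).conj_mem hy))
    refine ⟨xor a b, ?_⟩
    have hpd' : d k * p * (d k)⁻¹ = c⁻¹ * p := by rw [hc]; group
    calc p * (d k * x * (d k)⁻¹) = (p * d k) * x * (d k)⁻¹ := by group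
      _ = c * d k * (p * x) * (d k)⁻¹ := by rw [hpd]; group
      _ = (c * d k * zb z a) * (y * p) * (d k)⁻¹ := by rw [hxy]; group
      _ = zb z a * (c * (d k * y * (d k)⁻¹)) * (d k * p * (d k)⁻¹) := by rw [← h.cz.zb_cen]; group
      _ = zb z a * (zb z b * ((d k * y * (d k)⁻¹) * c)) * (c⁻¹ * p) := by rw [hb, hpd']
      _ = (zb z a * zb z b) * ((d k * y * (d k)⁻¹) * p) := by group
      _ = zb z (xor a b) * ((d k * y * (d k)⁻¹) * p) := by rw [h.cz.zb_xor]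
  obtain ⟨n, hn⟩ := h.hP ⟨p, hp⟩
  have hn' : p ^ 2 ^ n = 1 := by simpa using congrArg Subtype.val hn
  have hi := Qt.mem_i z (i k) (j k)
  have hj := Qt.mem_j z (i k) (j k)
  have hdi := h.di k
  have hdj := h.dj k
  have hdij := (h.sl k).dij
  have hmem : p * i k * p⁻¹ ∈ closure ({i k, j k} : Set H) := by rw [hQ]; exact Qt.mem_i z _ _
  have e0 : p * i k = (p * i k * p⁻¹) * p := by group
  have hsq : (p * i k * p⁻¹) * (p * i k * p⁻¹) = z := by
    calc (p * i k * p⁻¹) * (p * i k * p⁻¹) = p * (i k * i k) * p⁻¹ := by group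
      _ = z := by rw [hq.i2, ← hz, mul_assoc, mul_inv_cancel, mul_one]
  have caseJ : ∀ a, p * i k = zb z a * (j k * p) → ∃ b, Rel z p (i k) b := by
    intro a ha
    obtain ⟨a2, h2⟩ := step _ _ hi hj a ha
    rw [hdi, hdj] at h2
    obtain ⟨a3, h3⟩ := step _ _ hj (mul_mem hi hj) a2 h2
    rw [hdj, hdij] at h3
    exact rel_of_cube h.cz hn' (rel_cycle h.cz ha h2 h3)
  have caseK : ∀ a, p * i k = zb z a * ((i k * j k) * p) → ∃ b, Rel z p (i k) b := by
    intro a ha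
    obtain ⟨a2, h2⟩ := step _ _ hi (mul_mem hi hj) a ha
    rw [hdi, hdij] at h2
    obtain ⟨a3, h3⟩ := step _ _ hj hi a2 h2
    rw [hdj, hdi] at h3
    exact rel_of_cube h.cz hn' (rel_cycle h.cz ha h3 h2)
  rcases hq.mem_cases hmem with h1 | h1 | h1 | h1 | h1 | h1 | h1 | h1 <;> rw [h1] at e0 hsq
  · exact absurd (by rw [← hsq, one_mul]) hq.z1
  · exact absurd (by rw [← hsq, hq.z2]) hq.z1
  · exact ⟨false, Rel.false_iff.2 e0⟩
  · exact ⟨true, Rel.true_iff.2 (by rw [e0, mul_assoc])⟩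
  · exact caseJ false (by simpa [zb] using e0)
  · exact caseJ true (by simpa [zb, mul_assoc] using e0)
  · exact caseK false (by simpa [zb] using e0)
  · exact caseK true (by simpa [zb, mul_assoc] using e0)

/-- an element of `N_P(T)` lies in `T` -/
theorem norm_le (h : Four P z i j d) [Finite H] {p : H} (hp : p ∈ P) (hpT : p ∈ normalizer (h.T : Set H)) :
    p ∈ h.T := by
  obtain ⟨b0, h0⟩ := h.rel_norm hp hpT 0
  obtain ⟨b1, h1⟩ := h.rel_norm hp hpT 1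
  have h2 := h0.mul_right h.cz h1
  have o12 : o1 2 = 0 := rfl
  have o22 : o2 2 = 1 := rfl
  have key : ∀ x ∈ P, Rel z x (i 0 * i 1) false → x ∈ h.T := by
    intro x hx hr
    refine h.cent_le 2 hx ?_
    rw [o12, o22]
    exact Rel.false_iff.1 hr
  cases hb : xor b0 b1
  · rw [hb] at h2
    exact key p hp h2
  · rw [hb] at h2
    have h3 : Rel z (j 0) (i 0 * i 1) true := by
      have a1 := (h.rel_ij 0 0).2.2.2
      have a2 := (h.rel_ij 0 1).2.2.2
      have a3 := a1.mul_right h.cz a2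
      simpa using a3
    have h4 := h3.mul_left h.cz h2
    rw [Bool.xor_self] at h4
    have h5 := key _ (mul_mem (h.hj 0) hp) h4
    have h6 : p = (j 0)⁻¹ * (j 0 * p) := by group
    rw [h6]
    exact mul_mem (inv_mem (h.jT 0)) h5

/-- **`T = P`** -/
theorem T_eq (h : Four P z i j d) [Finite H] : h.T = P := by
  refine le_antisymm h.T_le ?_
  by_contra hle
  haveI : Fact (Nat.Prime 2) := ⟨Nat.prime_two⟩
  have hnil : Group.IsNilpotent P := h.hP.isNilpotent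
  have hlt : h.T.subgroupOf P < ⊤ := by
    rw [lt_top_iff_ne_top]
    intro h1
    exact hle (subgroupOf_eq_top.1 h1)
  have h1 := Group.normalizerCondition_of_isNilpotent (G := P) (h.T.subgroupOf P) hlt
  obtain ⟨x, hx, hx'⟩ := SetLike.exists_of_lt h1
  apply hx'
  refine h.norm_le x.2 ?_
  rw [mem_normalizer_iff] at hx ⊢
  intro t
  constructor
  · intro ht
    exact (hx ⟨t, h.T_le ht⟩).1 ht
  · intro ht
    have h2 : t ∈ P := by
      have h3 : (x : H)⁻¹ * (x * t * (x : H)⁻¹) * x ∈ P := mul_mem (mul_mem (inv_mem x.2) (h.T_le ht)) x.2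
      have h4 : (x : H)⁻¹ * (x * t * (x : H)⁻¹) * x = t := by group
      rwa [h4] at h3
    exact (hx ⟨t, h2⟩).2 ht

end Four

end Cfsg.Agent.OddHalf.NI3.Bad.FourLin

end

-- merged: Cfsg.Agent.OddHalf.NI3.Bad.FourEnd
section

/-!
# Node NI over `F₃`, THEOREM NIB, (3d)(a4): the end

`Four.main` : under `Four P z i j d`, if `P` contains all normal 2-subgroups of `H` and all elements of
`⟨⟨i 0, d 0⟩^H⟩` centralising `P`, then `J 0 = ⟨i 0, d 0⟩` is subnormal in `H`.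

`four_main` : the same for `P = O₂(H)` and `IsPr`.
-/

set_option autoImplicit false
set_option linter.style.haveILetI false
set_option linter.unusedSectionVars false
set_option linter.unusedSimpArgs false
set_option linter.unreachableTactic false
set_option linter.unusedTactic false

namespace Cfsg.Agent.OddHalf.NI3.Bad.FourLin

open Subgroup Cfsg Cfsg.Agent.Cit Cfsg.Agent.Cit.SLThree

variable {H : Type*} [Group H]

/-- equality modulo `z` -/
def Mz (z x y : H) : Prop := ∃ b, x = zb z b * y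

namespace Mz

variable {z x y x' y' w : H}

theorem rfl' : Mz z x x := ⟨false, by simp [zb]⟩

theorem of_eq (h : x = y) : Mz z x y := by rw [h]; exact rfl'

theorem symm (hz : Cz z) (h : Mz z x y) : Mz z y x := by
  obtain ⟨b, hb⟩ := h
  exact ⟨b, by rw [hb, ← mul_assoc, hz.zb_sq, one_mul]⟩

theorem trans (hz : Cz z) (h : Mz z x y) (h' : Mz z y w) : Mz z x w := by
  obtain ⟨b, hb⟩ := h
  obtain ⟨b', hb'⟩ := h'
  exact ⟨xor b b', by rw [hb, hb', ← mul_assoc, hz.zb_xor]⟩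

theorem mul (hz : Cz z) (h : Mz z x y) (h' : Mz z x' y') : Mz z (x * x') (y * y') := by
  obtain ⟨b, hb⟩ := h
  obtain ⟨b', hb'⟩ := h'
  refine ⟨xor b b', ?_⟩
  rw [hb, hb', hz.zb_xor]
  calc zb z b * y * (zb z b' * y') = zb z b * (y * zb z b') * y' := by group
    _ = zb z b * (zb z b' * y) * y' := by rw [← hz.zb_cen b' y]
    _ = zb z b * zb z b' * (y * y') := by group

theorem conj (hz : Cz z) (g : H) (h : Mz z x y) : Mz z (g * x * g⁻¹) (g * y * g⁻¹) := by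
  obtain ⟨b, hb⟩ := h
  refine ⟨b, ?_⟩
  rw [hb, ← mul_assoc g, ← hz.zb_cen]; group

theorem of_or (h : x = y ∨ x = z * y) : Mz z x y := by
  rcases h with h | h
  · exact ⟨false, by simpa [zb] using h⟩
  · exact ⟨true, by simpa [zb] using h⟩

theorem rel {c : H} (h : Mz z (c * x * c⁻¹) x) : ∃ b, Rel z c x b := by
  obtain ⟨b, hb⟩ := h
  refine ⟨b, ?_⟩
  unfold Rel
  calc c * x = (c * x * c⁻¹) * c := by group
    _ = zb z b * (x * c) := by rw [hb]; group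

end Mz

/-- two automorphisms of order 3 of the four-group `⟨i, j⟩ / z` commute -/
theorem comm_mod {S : Subgroup H} {z i j d r s δ : H} (hz : Cz z) (h : Root S z i j d) (h' : Root S z r s δ)
    (hQ : closure ({i, j} : Set H) = closure {r, s}) :
    Mz z ((d * δ * d⁻¹ * δ⁻¹) * i * (d * δ * d⁻¹ * δ⁻¹)⁻¹) i ∧
      Mz z ((d * δ * d⁻¹ * δ⁻¹) * j * (d * δ * d⁻¹ * δ⁻¹)⁻¹) j := by
  have hq := h.q
  have hi := Qt.mem_i z i j
  have hj := Qt.mem_j z i j
  -- norm relation for `δ`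
  have hN : ∀ x ∈ closure ({i, j} : Set H), Mz z (δ * (δ * x * δ⁻¹) * δ⁻¹) (x * (δ * x * δ⁻¹)) := by
    intro x hx
    rw [hQ] at hx
    have hq' := h'.q
    apply Mz.of_or
    rcases hq'.mem_cases hx with rfl | rfl | rfl | rfl | rfl | rfl | rfl | rfl
    · left; group
    · right
      have e : δ * x * δ⁻¹ = x := by rw [h'.dz]; group
      rw [e, e, hq'.z2, mul_one]
    all_goals
      simp only [h'.dzz, h'.dr, h'.ds, h'.drs, mul_assoc, one_mul, mul_one, hq'.z2, hq'.zz, hq'.iz, hq'.jz, hq'.izx,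
        hq'.jzx, hq'.i2, hq'.j2, hq'.iix, hq'.jjx, hq'.ji, hq'.jix, true_or, or_true]
  -- no fixed points
  have hF : ∀ x ∈ closure ({i, j} : Set H), x * x = z → ¬ Mz z (δ * x * δ⁻¹) x := by
    intro x hx hx2 hM
    obtain ⟨b, hb⟩ := hM
    have h1 : x * (δ * x * δ⁻¹) = (δ * x * δ⁻¹) * x := by
      rw [hb, ← mul_assoc, ← hz.zb_cen, mul_assoc]
    rw [hQ] at hx
    rcases h'.fpf hx h1 with h2 | h2
    · apply hz.ne; rw [← hx2, h2, one_mul]
    · apply hz.ne; rw [← hx2, h2, hz.sq]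
  have hmem : δ * i * δ⁻¹ ∈ closure ({i, j} : Set H) := by
    rw [hQ]; exact h'.sl.conj_mem (by rw [← hQ]; exact hi)
  have hsq : (δ * i * δ⁻¹) * (δ * i * δ⁻¹) = z := by
    calc (δ * i * δ⁻¹) * (δ * i * δ⁻¹) = δ * (i * i) * δ⁻¹ := by group
      _ = z := by rw [hq.i2, h'.dz]; group
  have inv : ∀ g x y : H, Mz z (g * x * g⁻¹) y → Mz z (g⁻¹ * y * g⁻¹⁻¹) x := by
    intro g x y hxy
    have h1 := (hxy.symm hz).conj hz g⁻¹
    have h2 : g⁻¹ * (g * x * g⁻¹) * g⁻¹⁻¹ = x := by group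
    rwa [h2] at h1
  have expand : ∀ x, (d * δ * d⁻¹ * δ⁻¹) * x * (d * δ * d⁻¹ * δ⁻¹)⁻¹ =
      d * (δ * (d⁻¹ * (δ⁻¹ * x * δ⁻¹⁻¹) * d⁻¹⁻¹) * δ⁻¹) * d⁻¹ := fun x => by group
  have chain : ∀ x y w v : H, Mz z (δ⁻¹ * x * δ⁻¹⁻¹) y → Mz z (d⁻¹ * y * d⁻¹⁻¹) w → Mz z (δ * w * δ⁻¹) v →
      Mz z (d * v * d⁻¹) x → Mz z ((d * δ * d⁻¹ * δ⁻¹) * x * (d * δ * d⁻¹ * δ⁻¹)⁻¹) x := by
    intro x y w v h1 h2 h3 h4
    rw [expand]
    exact ((((((h1.conj hz d⁻¹).trans hz h2).conj hz δ).trans hz h3).conj hz d).trans hz h4)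
  have di : Mz z (d * i * d⁻¹) j := Mz.of_eq h.dr
  have dj : Mz z (d * j * d⁻¹) (i * j) := Mz.of_eq h.ds
  have dk : Mz z (d * (i * j) * d⁻¹) i := Mz.of_eq h.drs
  -- alternative (α)
  have alpha : Mz z (δ * i * δ⁻¹) j → Mz z ((d * δ * d⁻¹ * δ⁻¹) * i * (d * δ * d⁻¹ * δ⁻¹)⁻¹) i ∧
      Mz z ((d * δ * d⁻¹ * δ⁻¹) * j * (d * δ * d⁻¹ * δ⁻¹)⁻¹) j := by
    intro hα
    have e1 : Mz z (δ * j * δ⁻¹) (i * j) :=
      (((hα.symm hz).conj hz δ).trans hz (hN i hi)).trans hz (Mz.rfl'.mul hz hα)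
    have e2 : Mz z (δ * (i * j) * δ⁻¹) i := by
      rw [Root.dmul]
      refine (hα.mul hz e1).trans hz (Mz.of_eq ?_)
      simp only [mul_assoc, one_mul, mul_one, hq.z2, hq.zz, hq.iz, hq.jz, hq.izx, hq.jzx, hq.i2, hq.j2, hq.iix,
        hq.jjx, hq.ji, hq.jix]
    exact ⟨chain i (i * j) j (i * j) (inv _ _ _ e2) (inv _ _ _ dj) e1 dk,
      chain j i (i * j) i (inv _ _ _ hα) (inv _ _ _ dk) e2 di⟩
  have beta : Mz z (δ * i * δ⁻¹) (i * j) → Mz z ((d * δ * d⁻¹ * δ⁻¹) * i * (d * δ * d⁻¹ * δ⁻¹)⁻¹) i ∧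
      Mz z ((d * δ * d⁻¹ * δ⁻¹) * j * (d * δ * d⁻¹ * δ⁻¹)⁻¹) j := by
    intro hβ
    have e1 : Mz z (δ * (i * j) * δ⁻¹) j := by
      refine ((((hβ.symm hz).conj hz δ).trans hz (hN i hi)).trans hz (Mz.rfl'.mul hz hβ)).trans hz (Mz.of_or (Or.inr ?_))
      simp only [mul_assoc, one_mul, mul_one, hq.z2, hq.zz, hq.iz, hq.jz, hq.izx, hq.jzx, hq.i2, hq.j2, hq.iix,
        hq.jjx, hq.ji, hq.jix]
    have e2 : Mz z (δ * j * δ⁻¹) i := by
      have h1 : j = i⁻¹ * (i * j) := by group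
      have h2 : Mz z (δ * i⁻¹ * δ⁻¹) (z * (i * j)) := by
        have h3 : δ * i⁻¹ * δ⁻¹ = z * (δ * i * δ⁻¹) := by
          rw [hq.i_inv, h'.dzz]
        rw [h3]
        exact (Mz.rfl' : Mz z z z).mul hz hβ
      rw [h1, Root.dmul]
      refine (h2.mul hz e1).trans hz (Mz.of_eq ?_)
      simp only [mul_assoc, one_mul, mul_one, hq.z2, hq.zz, hq.iz, hq.jz, hq.izx, hq.jzx, hq.i2, hq.j2, hq.iix,
        hq.jjx, hq.ji, hq.jix]
    exact ⟨chain i j i (i * j) (inv _ _ _ e2) (inv _ _ _ di) hβ dk,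
      chain j (i * j) j i (inv _ _ _ e1) (inv _ _ _ dj) e2 di⟩
  rcases hq.mem_cases hmem with h1 | h1 | h1 | h1 | h1 | h1 | h1 | h1
  · exact absurd (by rw [← hsq, h1, one_mul]) hz.ne
  · exact absurd (by rw [← hsq, h1, hz.sq]) hz.ne
  · exact absurd (Mz.of_eq h1) (hF i hi hq.i2)
  · exact absurd (Mz.of_or (Or.inr h1)) (hF i hi hq.i2)
  · exact alpha (Mz.of_eq h1)
  · exact alpha (Mz.of_or (Or.inr h1))
  · exact beta (Mz.of_eq h1)
  · exact beta (Mz.of_or (Or.inr h1))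

namespace Four

variable {P : Subgroup H} {z : H} {i j d : Fin 4 → H}

theorem rootP (h : Four P z i j d) [Finite H] (k : Fin 4) : Root P z (i k) (j k) (d k) := by
  have := h.rootT k
  rwa [h.T_eq] at this

/-- `[P, [d 0, δ]] ≤ ⟨z⟩` for every conjugate `δ` of `d 0` -/
theorem comm_rel (h : Four P z i j d) [Finite H] (m : H) {p : H} (hp : p ∈ P) :
    ∃ b, Rel z (d 0 * (m * d 0 * m⁻¹) * (d 0)⁻¹ * (m * d 0 * m⁻¹)⁻¹) p b := by
  have hz := h.cz.cen
  have r0 := h.rootP 0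
  have hm : m ∈ normalizer (P : Set H) := by
    haveI := h.hn
    rw [normalizer_eq_top_iff.2 h.hn]; exact mem_top m
  have r := r0.conj hz hm
  obtain ⟨l, hl⟩ := h.roots (r := m * i 0 * m⁻¹) (s := m * j 0 * m⁻¹) (δ := m * d 0 * m⁻¹) (by rw [h.T_eq]; exact r)
  set r' := m * i 0 * m⁻¹ with hr'
  set s' := m * j 0 * m⁻¹ with hs'
  set δ := m * d 0 * m⁻¹ with hδ
  set c := d 0 * δ * (d 0)⁻¹ * δ⁻¹ with hc
  have hi := Qt.mem_i z (i 0) (j 0)
  have hj := Qt.mem_j z (i 0) (j 0)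
  have hr := Qt.mem_i z r' s'
  have hs := Qt.mem_j z r' s'
  -- an element commuting with both commutes with `c`
  have hcc : ∀ x, d 0 * x = x * d 0 → δ * x = x * δ → Rel z c x false := by
    intro x h1 h2
    have a1 : Commute (d 0) x := h1
    have a2 : Commute δ x := h2
    exact Rel.false_iff.2 (((a1.mul_left a2).mul_left a1.inv_left).mul_left a2.inv_left)
  obtain ⟨a, ha, b, hb, rfl, hb1, hb2, hb3⟩ := r0.fac hz h.hP hp
  by_cases hl0 : l = 0
  · -- `R = Q 0`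
    subst hl0
    have hbr : δ * b = b * δ := by
      refine r.comm_d hz h.hP hb ?_ ?_
      · exact Root.comm_closure hb1 hb2 (by rw [hl]; exact hr)
      · exact Root.comm_closure hb1 hb2 (by rw [hl]; exact hs)
    have hcb := hcc b hb3 hbr
    obtain ⟨h1, h2⟩ := comm_mod h.cz r0 r hl
    obtain ⟨b1, h1⟩ := Mz.rel h1
    obtain ⟨b2, h2⟩ := Mz.rel h2
    have hca : ∀ x ∈ closure ({i 0, j 0} : Set H), ∃ b, Rel z c x b := by
      intro x hx
      induction hx using closure_induction with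
      | mem x hx =>
        rcases hx with rfl | rfl
        · exact ⟨b1, h1⟩
        · exact ⟨b2, h2⟩
      | one => exact ⟨false, Rel.one_left.symm h.cz⟩
      | mul x y _ _ hx hy =>
        obtain ⟨b3, h3⟩ := hx
        obtain ⟨b4, h4⟩ := hy
        exact ⟨_, h3.mul_right h.cz h4⟩
      | inv x _ hx =>
        obtain ⟨b3, h3⟩ := hx
        exact ⟨_, h3.inv_right h.cz⟩
    obtain ⟨b3, h3⟩ := hca a ha
    exact ⟨_, h3.mul_right h.cz hcb⟩
  · -- `R ≠ Q 0`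
    have hcom : ∀ x ∈ closure ({i 0, d 0} : Set H), ∀ y ∈ closure ({r', s'} : Set H), x * y = y * x := by
      intro x hx y hy
      rw [← hl] at hy
      exact (h.comQ hl0 hy hx).symm
    have hQJ := (h.sl 0).Qle
    have hδQ : ∀ x ∈ closure ({i 0, j 0} : Set H), δ * x = x * δ := fun x hx =>
      r.comm_d hz h.hP (h.Qle 0 hx) (hcom x (hQJ hx) _ hr) (hcom x (hQJ hx) _ hs)
    have hd0 : ∀ y ∈ closure ({r', s'} : Set H), d 0 * y = y * d 0 := fun y hy => hcom _ (h.sl 0).hd y hy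
    obtain ⟨a', ha', b', hb', rfl, hb1', hb2', hb3'⟩ := r.fac hz h.hP hb
    have e1 : b' * i 0 = i 0 * b' := by
      have h1 : a' * i 0 = i 0 * a' := (hcom _ (hQJ hi) a' ha').symm
      have h2 : a'⁻¹ * i 0 = i 0 * a'⁻¹ := (show Commute a' (i 0) from h1).inv_left.eq
      have h3 : b' = a'⁻¹ * (a' * b') := by group
      rw [h3, mul_assoc, hb1, ← mul_assoc, h2, mul_assoc]
    have e2 : b' * j 0 = j 0 * b' := by
      have h1 : a' * j 0 = j 0 * a' := (hcom _ (hQJ hj) a' ha').symm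
      have h2 : a'⁻¹ * j 0 = j 0 * a'⁻¹ := (show Commute a' (j 0) from h1).inv_left.eq
      have h3 : b' = a'⁻¹ * (a' * b') := by group
      rw [h3, mul_assoc, hb2, ← mul_assoc, h2, mul_assoc]
    have e3 : d 0 * b' = b' * d 0 := r0.comm_d hz h.hP hb' e1 e2
    have c1 : Rel z c b' false := hcc b' e3 hb3'
    have c2 : Rel z c a false := by
      apply Rel.false_iff.2
      have h1 : (d 0)⁻¹ * a * d 0 ∈ closure ({i 0, j 0} : Set H) := by
        have h2 := (h.sl 0).conj_mem ((h.sl 0).conj_mem ha)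
        have h3 : (d 0)⁻¹ = d 0 * d 0 := (h.sl 0).d_inv
        have h4 : (d 0)⁻¹ * a * d 0 = d 0 * (d 0 * a * (d 0)⁻¹) * (d 0)⁻¹ := by
          calc (d 0)⁻¹ * a * d 0 = (d 0)⁻¹ * a * ((d 0)⁻¹)⁻¹ := by rw [inv_inv]
            _ = (d 0 * d 0) * a * (d 0 * d 0)⁻¹ := by rw [h3]
            _ = _ := by group
        rw [h4]; exact h2
      have h2 := hδQ a ha
      have h3 := hδQ _ h1
      have h4 : δ⁻¹ * a = a * δ⁻¹ := (show Commute δ a from h2).inv_left.eq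
      rw [hc]
      calc d 0 * δ * (d 0)⁻¹ * δ⁻¹ * a = d 0 * δ * (d 0)⁻¹ * (δ⁻¹ * a) := by group
        _ = d 0 * (δ * ((d 0)⁻¹ * a * d 0)) * (d 0)⁻¹ * δ⁻¹ := by rw [h4]; group
        _ = a * (d 0 * δ * (d 0)⁻¹ * δ⁻¹) := by rw [h3]; group
    have c3 : Rel z c a' false := by
      apply Rel.false_iff.2
      have h1 : δ⁻¹ * a' * δ ∈ closure ({r', s'} : Set H) := by
        have h2 := r.sl.conj_mem (r.sl.conj_mem ha')
        have h3 : δ⁻¹ = δ * δ := r.sl.d_inv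
        have h4 : δ⁻¹ * a' * δ = δ * (δ * a' * δ⁻¹) * δ⁻¹ := by
          calc δ⁻¹ * a' * δ = δ⁻¹ * a' * (δ⁻¹)⁻¹ := by rw [inv_inv]
            _ = (δ * δ) * a' * (δ * δ)⁻¹ := by rw [h3]
            _ = _ := by group
        rw [h4]; exact h2
      have h2 := hd0 _ h1
      have h4 : (d 0)⁻¹ * (δ⁻¹ * a' * δ) = (δ⁻¹ * a' * δ) * (d 0)⁻¹ :=
        (show Commute (d 0) (δ⁻¹ * a' * δ) from h2).inv_left.eq
      have h5 := hd0 a' ha'
      rw [hc]
      calc d 0 * δ * (d 0)⁻¹ * δ⁻¹ * a' = d 0 * δ * ((d 0)⁻¹ * (δ⁻¹ * a' * δ)) * δ⁻¹ := by group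
        _ = (d 0 * a') * δ * (d 0)⁻¹ * δ⁻¹ := by rw [h4]; group
        _ = a' * (d 0 * δ * (d 0)⁻¹ * δ⁻¹) := by rw [h5]; group
    exact ⟨_, c2.mul_right h.cz (c3.mul_right h.cz c1)⟩

/-- **the end** -/
theorem main (h : Four P z i j d) [Finite H] (hmax : ∀ N : Subgroup H, N.Normal → IsPGroup 2 N → N ≤ P)
    (hE : ∀ g ∈ normalClosure (closure ({i 0, d 0} : Set H) : Set H), (∀ p ∈ P, g * p = p * g) → g ∈ P) :
    (closure ({i 0, d 0} : Set H)).IsSubnormal := by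
  have hz := h.cz.cen
  have r0 := h.rootP 0
  haveI hPn := h.hn
  set J := closure ({i 0, d 0} : Set H) with hJ
  set L := normalClosure (J : Set H) with hL
  have hLn : L.Normal := normalClosure_normal
  have hJL : J ≤ L := subset_normalClosure
  have hd0 : d 0 ∈ J := (h.sl 0).hd
  -- the normal 2-subgroup `N`
  let N : Subgroup H :=
    { carrier := {g | g ∈ L ∧ ∀ p ∈ P, ∃ b, Rel z g p b}
      one_mem' := ⟨one_mem _, fun p _ => ⟨false, Rel.one_left⟩⟩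
      mul_mem' := by
        rintro g g' ⟨hg, hg'⟩ ⟨hk, hk'⟩
        refine ⟨mul_mem hg hk, fun p hp => ?_⟩
        obtain ⟨b, hb⟩ := hg' p hp
        obtain ⟨b', hb'⟩ := hk' p hp
        exact ⟨_, hb.mul_left h.cz hb'⟩
      inv_mem' := by
        rintro g ⟨hg, hg'⟩
        refine ⟨inv_mem hg, fun p hp => ?_⟩
        obtain ⟨b, hb⟩ := hg' p hp
        exact ⟨_, hb.inv_left h.cz⟩ }
  have hNn : N.Normal := by
    refine ⟨?_⟩
    rintro g ⟨hg, hg'⟩ m
    refine ⟨hLn.conj_mem _ hg _, fun p hp => ?_⟩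
    obtain ⟨b, hb⟩ := hg' (m⁻¹ * p * m) (by
      have := hPn.conj_mem p hp m⁻¹
      rwa [inv_inv] at this)
    refine ⟨b, ?_⟩
    have h1 := hb.conj h.cz m
    have h2 : m * (m⁻¹ * p * m) * m⁻¹ = p := by group
    rwa [h2] at h1
  have hN2 : IsPGroup 2 N := by
    rintro ⟨g, hg, hg'⟩
    have h1 : g * g ∈ P := by
      refine hE _ (mul_mem hg hg) fun p hp => ?_
      obtain ⟨b, hb⟩ := hg' p hp
      have h2 := hb.mul_left h.cz hb
      rw [Bool.xor_self] at h2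
      exact Rel.false_iff.1 h2
    obtain ⟨n, hn⟩ := h.hP ⟨g * g, h1⟩
    refine ⟨n + 1, Subtype.ext ?_⟩
    show g ^ 2 ^ (n + 1) = 1
    have h2 : (g * g) ^ 2 ^ n = 1 := by simpa using congrArg Subtype.val hn
    rw [pow_succ, mul_comm, pow_mul, pow_two]
    exact h2
  have hNP : N ≤ P := hmax N hNn hN2
  have hcP : ∀ m : H, d 0 * (m * d 0 * m⁻¹) * (d 0)⁻¹ * (m * d 0 * m⁻¹)⁻¹ ∈ P := by
    intro m
    apply hNP
    have h1 : m * d 0 * m⁻¹ ∈ L := hLn.conj_mem _ (hJL hd0) _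
    exact ⟨mul_mem (mul_mem (mul_mem (hJL hd0) h1) (inv_mem (hJL hd0))) (inv_mem h1), fun p hp => h.comm_rel m hp⟩
  -- `A = P⟨d 0⟩`, `B = P⟨d 0 ^ H⟩`
  set A := P ⊔ zpowers (d 0) with hA
  set L1 := normalClosure ({d 0} : Set H) with hL1
  set B := P ⊔ L1 with hB
  have hL1n : L1.Normal := normalClosure_normal
  have hBn : B.Normal := inferInstance
  have hAB : A ≤ B := sup_le_sup_left (zpowers_le.2 (subset_normalClosure (Set.mem_singleton _))) P
  have hdA : d 0 ∈ A := mem_sup_right (mem_zpowers _)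
  have hBA : B ≤ normalizer (A : Set H) := by
    refine sup_le (le_sup_left.trans le_normalizer) ?_
    rw [hL1, normalClosure, closure_le]
    intro y hy
    rw [Group.mem_conjugatesOfSet_iff] at hy
    obtain ⟨a, ha, hay⟩ := hy
    rw [Set.mem_singleton_iff] at ha
    subst ha
    obtain ⟨m, rfl⟩ := isConj_iff.1 hay
    rw [SetLike.mem_coe, Cit.mem_normalizer_iff_cj]
    have h1 : Cit.cj (m * d 0 * m⁻¹) A ≤ A := by
      rw [Cit.cj_def, map_le_iff_le_comap, hA]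
      refine sup_le ?_ ?_
      · intro p hp
        exact mem_sup_left (hPn.conj_mem p hp _)
      · rw [zpowers_le]
        show (m * d 0 * m⁻¹) * d 0 * (m * d 0 * m⁻¹)⁻¹ ∈ P ⊔ zpowers (d 0)
        have h2 : (m * d 0 * m⁻¹) * d 0 * (m * d 0 * m⁻¹)⁻¹ =
            (d 0 * (m * d 0 * m⁻¹) * (d 0)⁻¹ * (m * d 0 * m⁻¹)⁻¹)⁻¹ * d 0 := by group
        rw [h2]
        exact mul_mem (inv_mem (mem_sup_left (hcP m))) (mem_sup_right (mem_zpowers _))
    refine eq_of_le_of_card_ge h1 (le_of_eq ?_)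
    exact Nat.card_congr (equivMapOfInjective A _ (MulAut.conj (m * d 0 * m⁻¹)).injective).toEquiv
  -- `J` is normal in `A`
  have hJA : J ≤ A := by
    rw [hJ, closure_le]
    rintro x (rfl | rfl)
    · exact mem_sup_left (h.hi 0)
    · exact hdA
  have hAJ : A ≤ normalizer (J : Set H) := by
    refine sup_le ?_ (zpowers_le.2 (le_normalizer hd0))
    intro p hp
    obtain ⟨a, ha, b, hb, rfl, hb1, hb2, hb3⟩ := r0.fac hz h.hP hp
    refine mul_mem (le_normalizer ((h.sl 0).Qle ha)) (centralizer_le_normalizer _ ?_)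
    have h1 : J ≤ centralizer ({b} : Set H) := by
      rw [hJ, closure_le]
      rintro x (rfl | rfl)
      · exact mem_centralizer_singleton_iff.2 hb1.symm
      · exact mem_centralizer_singleton_iff.2 hb3
    rw [mem_centralizer_iff]
    intro x hx
    exact mem_centralizer_singleton_iff.1 (h1 hx)
  exact ((Sn.of_normal hJA hAJ).trans (Sn.of_normal hAB hBA)).isSubnormal hBn.isSubnormal

end Four

/-- coordinates of `J ≅ SL₂(3)` with a given `i` -/
theorem exists_sl {J : Subgroup H} {z a : H} (hJ : IsPr J z) (ha : a ∈ J) (ha2 : a * a = z) :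
    ∃ j d, Sl J z a j d := by
  obtain ⟨i, j, d, h⟩ := hJ.sl
  obtain ⟨g, hg, hga⟩ := hJ.t3.conj i h.hi a ha h.q.i2 ha2
  have h1 := h.of_cj g
  have h2 : Cit.cj g J = J := Cit.mem_normalizer_iff_cj.1 (le_normalizer hg)
  have h3 : g * z * g⁻¹ = z := by rw [hJ.comm_z hg]; group
  rw [h2, h3, hga] at h1
  exact ⟨_, _, h1⟩

/-- **Four commuting `SL₂(3)` with the same central involution `z` of `H` and `O₂(J k) ≤ O₂(H)`.** -/
theorem four_main [Finite H] {z : H} (hz : ∀ x : H, z * x = x * z) {J : Fin 4 → Subgroup H}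
    (hJ : ∀ k, IsPr (J k) z) (hcom : ∀ k l, k ≠ l → ∀ a ∈ J k, ∀ b ∈ J l, a * b = b * a)
    (hQ : ∀ k, ∀ y ∈ J k, y * y = z → y ∈ pCore 2 H) {a : Fin 4 → H} (ha : ∀ k, a k ∈ J k)
    (ha2 : ∀ k, a k * a k = z) (s0 : Sn (J 0) (centralizer {a 2 * a 3})) (s1 : Sn (J 1) (centralizer {a 2 * a 3}))
    (s2 : Sn (J 2) (centralizer {a 0 * a 1})) (s3 : Sn (J 3) (centralizer {a 0 * a 1}))
    (hC : ∀ c ∈ pCore 2 H, ∀ c' ∈ pCore 2 H, (∀ k, ∀ y ∈ J k, y * y = z → c * y = y * c) →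
      (∀ k, ∀ y ∈ J k, y * y = z → c' * y = y * c') → c * c' ≠ z * (c' * c))
    (hE : ∀ g ∈ normalClosure (J 0 : Set H), (∀ p ∈ pCore 2 H, g * p = p * g) → g ∈ pCore 2 H) :
    (J 0).IsSubnormal := by
  choose j d hsl using fun k => exists_sl (hJ k) (ha k) (ha2 k)
  have hg : ∀ k, closure {a k, d k} = J k := fun k => (hsl k).gen.symm
  have hz1 : z ≠ 1 := (hsl 0).q.z1
  have hF : Four (pCore 2 H) z a j d := by
    refine ⟨⟨hz, (hsl 0).q.z2, hz1⟩, fun k => (hsl k).q, fun k => (hsl k).di, fun k => (hsl k).dj,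
      fun k => (hsl k).d3, ?_, Lib.Cores.pCore_isPGroup 2, Lib.Cores.pCore_normal 2, fun k => hQ k _ (ha k) (ha2 k),
      ?_, ?_⟩
    · intro k l hkl
      rw [hg, hg]
      exact hcom k l hkl
    · intro k
      rw [hg]
      fin_cases k
      · exact s0
      · exact s1
      · exact s2
      · exact s3
    · intro c hc c' hc' h1 h2
      have key : ∀ c, (∀ k, c * a k = a k * c ∧ c * j k = j k * c) → ∀ k, ∀ y ∈ J k, y * y = z → c * y = y * c := by
        intro c h3 k y hy hyz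
        refine Root.comm_closure (h3 k).1 (h3 k).2 ?_
        refine (hsl k).mem_Q hy (P := pCore 2 H) (Lib.Cores.pCore_isPGroup 2) ?_ (hQ k y hy hyz)
        rw [closure_le]
        rintro x (rfl | rfl)
        · exact hQ k _ (ha k) (ha2 k)
        · exact hQ k _ (hsl k).hj (hsl k).q.j2
      exact hC c hc c' hc' (key c h1) (key c' h2)
  have h1 := hF.main (fun N hN hN2 => by
      exact SignalizersComponents.CompBasic.subnormal_pGroup_le_pCore hN.isSubnormal hN2) (by rw [hg]; exact hE)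
  rwa [hg] at h1

/-- `C(O₂(H)) ∩ ⟨J^H⟩ ≤ O₂(H)` if `O(H) = 1` and `J` centralises the components of `H` -/
theorem mem_pCore_of_comm [Finite H] (hO : pPrimeCore 2 H = ⊥) {J : Subgroup H}
    (hJ : ∀ L : Subgroup H, IsComponent L → ∀ x ∈ J, ∀ y ∈ L, x * y = y * x) {g : H}
    (hg : g ∈ normalClosure (J : Set H)) (hc : ∀ p ∈ pCore 2 H, g * p = p * g) : g ∈ pCore 2 H := by
  have h1 : ∀ L : Subgroup H, IsComponent L → ∀ y ∈ L, g * y = y * g := by
    have h2 : normalClosure (J : Set H) ≤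
        ⨅ L : {L : Subgroup H // IsComponent L}, centralizer ((L : Subgroup H) : Set H) := by
      rw [normalClosure, closure_le]
      intro x hx
      rw [Group.mem_conjugatesOfSet_iff] at hx
      obtain ⟨a, ha, hax⟩ := hx
      obtain ⟨m, rfl⟩ := isConj_iff.1 hax
      rw [SetLike.mem_coe, mem_iInf]
      rintro ⟨L, hL⟩
      rw [mem_centralizer_iff]
      intro y hy
      have h3 : IsComponent (Cit.cj m⁻¹ L) := Comp.isComponent_cj hL m⁻¹
      have h4 : m⁻¹ * y * m ∈ Cit.cj m⁻¹ L := ⟨y, hy, by simp⟩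
      have h5 := hJ _ h3 a ha _ h4
      calc y * (m * a * m⁻¹) = m * ((m⁻¹ * y * m) * a) * m⁻¹ := by group
        _ = m * (a * (m⁻¹ * y * m)) * m⁻¹ := by rw [h5]
        _ = m * a * m⁻¹ * y := by group
    intro L hL y hy
    have h3 := h2 hg
    rw [mem_iInf] at h3
    exact (mem_centralizer_iff.1 (h3 ⟨L, hL⟩) y hy).symm
  have h5 : g ∈ centralizer (generalizedFittingSubgroup H : Set H) := by
    refine OneComp.mem_centralizer_genFit hO ?_ ?_
    · intro L hL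
      rw [mem_centralizer_iff]
      intro y hy
      exact (h1 L hL y hy).symm
    · rw [mem_centralizer_iff]
      intro y hy
      exact (hc y hy).symm
  exact OneComp.centralizer_genFit_le hO h5

/-- **NIB (3d)(a3) + (a4)**: `four_main` with `O(H) = 1` and `[J 0, E(H)] = 1`. -/
theorem four_main' [Finite H] (hO : pPrimeCore 2 H = ⊥) {z : H} (hz : ∀ x : H, z * x = x * z) {J : Fin 4 → Subgroup H}
    (hJ : ∀ k, IsPr (J k) z) (hcom : ∀ k l, k ≠ l → ∀ a ∈ J k, ∀ b ∈ J l, a * b = b * a)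
    (hQ : ∀ k, ∀ y ∈ J k, y * y = z → y ∈ pCore 2 H) {a : Fin 4 → H} (ha : ∀ k, a k ∈ J k)
    (ha2 : ∀ k, a k * a k = z) (s0 : Sn (J 0) (centralizer {a 2 * a 3})) (s1 : Sn (J 1) (centralizer {a 2 * a 3}))
    (s2 : Sn (J 2) (centralizer {a 0 * a 1})) (s3 : Sn (J 3) (centralizer {a 0 * a 1}))
    (hC : ∀ c ∈ pCore 2 H, ∀ c' ∈ pCore 2 H, (∀ k, ∀ y ∈ J k, y * y = z → c * y = y * c) →
      (∀ k, ∀ y ∈ J k, y * y = z → c' * y = y * c') → c * c' ≠ z * (c' * c))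
    (hE : ∀ L : Subgroup H, IsComponent L → ∀ x ∈ J 0, ∀ y ∈ L, x * y = y * x) : (J 0).IsSubnormal :=
  four_main hz hJ hcom hQ ha ha2 s0 s1 s2 s3 hC fun _ hg hc => mem_pCore_of_comm hO hE hg hc

end Cfsg.Agent.OddHalf.NI3.Bad.FourLin

end

-- merged: Cfsg.Agent.OddHalf.NI3.Bad.FourAll
section

/-!
# THEOREM NIB, step (3d) (a), K-free part assembled (helper598, helper289)

`caseA_pr` : in a finite group `H` with `O(H) = 1` and a central involution `z`, `J₁, J₂` commuting subgroups `SL₂(3)`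
with involution `z`, subnormal in `C(w)`, `J₃, J₄` commuting subgroups `SL₂(3)` with involution `z`, subnormal in `C(w')`,
`w' = a₁ a₂ ∈ J₁J₂`, `w = a₃ a₄ ∈ J₃J₄` (`a_i` of order 4), `O₂(J_i) ≤ O₂(H)`; `J₁`, `J₂` centralise the components of
`H`; (a2): every `x₁ x₂` with `x_k` of order 4 in `J_k`, inverting `a_k`, centralises `J₃`, `J₄`; (a4): two elements
of `O₂(H)` which centralise the four quaternion groups have commutator `≠ z`. Then `J₁` is subnormal in `H`.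

`caseA_G` : the same for subgroups of `G`, `H = C(z)`.
-/

set_option autoImplicit false

namespace Cfsg.Agent.OddHalf.NI3.Bad

open Subgroup Cfsg Cfsg.Agent.Cit Cfsg.Agent.Cit.SLThree

/-- **(3d) (a)**, K-free part, abstract group. -/
theorem caseA_pr {H : Type*} [Group H] [Finite H] (hO : pPrimeCore 2 H = ⊥) {z w w' : H}
    (hz : ∀ x : H, x * z = z * x) {J₁ J₂ J₃ J₄ : Subgroup H} (p₁ : IsPr J₁ z) (p₂ : IsPr J₂ z) (p₃ : IsPr J₃ z)
    (p₄ : IsPr J₄ z) (c₁₂ : ∀ x ∈ J₁, ∀ y ∈ J₂, x * y = y * x) (c₃₄ : ∀ x ∈ J₃, ∀ y ∈ J₄, x * y = y * x)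
    (s₁ : Sn J₁ (centralizer ({w} : Set H))) (s₂ : Sn J₂ (centralizer ({w} : Set H)))
    (s₃ : Sn J₃ (centralizer ({w'} : Set H))) (s₄ : Sn J₄ (centralizer ({w'} : Set H)))
    (r₁ : ∀ x ∈ J₁, x * x = z → x ∈ pCore 2 H) (r₂ : ∀ x ∈ J₂, x * x = z → x ∈ pCore 2 H)
    (r₃ : ∀ x ∈ J₃, x * x = z → x ∈ pCore 2 H) (r₄ : ∀ x ∈ J₄, x * x = z → x ∈ pCore 2 H)
    {a₁ a₂ a₃ a₄ : H} (h₁ : a₁ ∈ J₁) (h₂ : a₂ ∈ J₂) (h₃ : a₃ ∈ J₃) (h₄ : a₄ ∈ J₄)
    (e₁ : a₁ * a₁ = z) (e₂ : a₂ * a₂ = z) (e₃ : a₃ * a₃ = z) (e₄ : a₄ * a₄ = z) (hw' : w' = a₁ * a₂)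
    (hw : w = a₃ * a₄)
    (hE₁ : ∀ L : Subgroup H, IsComponent L → ∀ x ∈ J₁, ∀ y ∈ L, x * y = y * x)
    (hE₂ : ∀ L : Subgroup H, IsComponent L → ∀ x ∈ J₂, ∀ y ∈ L, x * y = y * x)
    (hr : ∀ x₁ ∈ J₁, ∀ x₂ ∈ J₂, x₁ * x₁ = z → x₂ * x₂ = z → x₁ * a₁ = z * (a₁ * x₁) → x₂ * a₂ = z * (a₂ * x₂) →
      ∀ y, y ∈ J₃ ∨ y ∈ J₄ → x₁ * x₂ * y = y * (x₁ * x₂))
    (hC : (∀ x, x ∈ J₁ ∨ x ∈ J₂ → ∀ y, y ∈ J₃ ∨ y ∈ J₄ → x * y = y * x) →
      ∀ c ∈ pCore 2 H, ∀ c' ∈ pCore 2 H,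
      (∀ y, (y ∈ J₁ ∨ y ∈ J₂) ∨ y ∈ J₃ ∨ y ∈ J₄ → y * y = z → c * y = y * c) →
      (∀ y, (y ∈ J₁ ∨ y ∈ J₂) ∨ y ∈ J₃ ∨ y ∈ J₄ → y * y = z → c' * y = y * c') → c * c' ≠ z * (c' * c)) :
    J₁.IsSubnormal := by
  have hPn : (pCore 2 H).Normal := Lib.Cores.pCore_normal 2
  have hall : ∀ x, x ∈ J₁ ∨ x ∈ J₂ → ∀ y, y ∈ J₃ ∨ y ∈ J₄ → x * y = y * x := by
    obtain ⟨i₁, j₁, v₁, i₂, j₂, v₂, D⟩ := half_of p₁ p₂ c₁₂ s₁ s₂ r₁ r₂
    obtain ⟨i₃, j₃, v₃, i₄, j₄, v₄, D'⟩ := half_of p₃ p₄ c₃₄ s₃ s₄ r₃ r₄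
    have hJE : ∀ L : Subgroup H, IsComponent L → ∀ x ∈ J₁ ⊔ J₂, ∀ y ∈ L, x * y = y * x := by
      intro L hL x hx y hy
      have h1 : J₁ ⊔ J₂ ≤ centralizer {y} := by
        refine sup_le ?_ ?_
        · intro x hx
          exact mem_centralizer_singleton_iff.2 (hE₁ L hL x hx y hy)
        · intro x hx
          exact mem_centralizer_singleton_iff.2 (hE₂ L hL x hx y hy)
      exact mem_centralizer_singleton_iff.1 (h1 hx)
    exact comm_all (Lib.Cores.pCore_isPGroup 2) D D' (mem_Q_of_sqrt D.h1 h₁ e₁) (mem_Q_of_sqrt D.h2 h₂ e₂)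
      (mem_Q_of_sqrt D'.h1 h₃ e₃) (mem_Q_of_sqrt D'.h2 h₄ e₄) e₁ e₂ e₃ e₄ hw' hw
      (K := normalClosure ((J₁ ⊔ J₂ : Subgroup H) : Set H)) (le_sup_left.trans le_normalClosure)
      (le_sup_right.trans le_normalClosure) (fun y hy hc => FourLin.mem_pCore_of_comm hO hJE hy hc) hr
  have hC' := hC hall
  have key := FourLin.four_main' hO (fun x => (hz x).symm) (J := ![J₁, J₂, J₃, J₄]) (a := ![a₁, a₂, a₃, a₄])
    (by intro k; fin_cases k <;> assumption)
    (by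
      intro k l hkl x hx y hy
      fin_cases k <;> fin_cases l <;> simp only [Fin.zero_eta, Fin.isValue, Fin.mk_one, Fin.reduceFinMk,
        Matrix.cons_val_zero, Matrix.cons_val_one, Matrix.cons_val] at hkl hx hy
      · exact absurd rfl hkl
      · exact c₁₂ x hx y hy
      · exact hall x (Or.inl hx) y (Or.inl hy)
      · exact hall x (Or.inl hx) y (Or.inr hy)
      · exact (c₁₂ y hy x hx).symm
      · exact absurd rfl hkl
      · exact hall x (Or.inr hx) y (Or.inl hy)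
      · exact hall x (Or.inr hx) y (Or.inr hy)
      · exact (hall y (Or.inl hy) x (Or.inl hx)).symm
      · exact (hall y (Or.inr hy) x (Or.inl hx)).symm
      · exact absurd rfl hkl
      · exact c₃₄ x hx y hy
      · exact (hall y (Or.inl hy) x (Or.inr hx)).symm
      · exact (hall y (Or.inr hy) x (Or.inr hx)).symm
      · exact (c₃₄ y hy x hx).symm
      · exact absurd rfl hkl)
    (by intro k; fin_cases k <;> assumption)
    (by intro k; fin_cases k <;> assumption)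
    (by intro k; fin_cases k <;> assumption)
    (by rw [hw] at s₁; exact s₁) (by rw [hw] at s₂; exact s₂) (by rw [hw'] at s₃; exact s₃)
    (by rw [hw'] at s₄; exact s₄)
    (by
      intro c hc c' hc' h1 h2
      refine hC' c hc c' hc' ?_ ?_
      · rintro y ((hy | hy) | hy | hy) hyz
        · exact h1 0 y hy hyz
        · exact h1 1 y hy hyz
        · exact h1 2 y hy hyz
        · exact h1 3 y hy hyz
      · rintro y ((hy | hy) | hy | hy) hyz
        · exact h2 0 y hy hyz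
        · exact h2 1 y hy hyz
        · exact h2 2 y hy hyz
        · exact h2 3 y hy hyz)
    hE₁
  exact key

/-- **(3d) (a)**, K-free part, for subgroups of `G`, `H = C(z)`. -/
theorem caseA_G {G : Type*} [Group G] [Finite G] {z w w' : G}
    (hO : pPrimeCore 2 ↥(centralizer ({z} : Set G)) = ⊥) {J₁ J₂ J₃ J₄ : Subgroup G}
    (p₁ : IsPr J₁ z) (p₂ : IsPr J₂ z) (p₃ : IsPr J₃ z) (p₄ : IsPr J₄ z)
    (c₁₂ : ∀ x ∈ J₁, ∀ y ∈ J₂, x * y = y * x) (c₃₄ : ∀ x ∈ J₃, ∀ y ∈ J₄, x * y = y * x)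
    (s₁ : Sn J₁ (centralizer ({z} : Set G) ⊓ centralizer ({w} : Set G)))
    (s₂ : Sn J₂ (centralizer ({z} : Set G) ⊓ centralizer ({w} : Set G)))
    (s₃ : Sn J₃ (centralizer ({z} : Set G) ⊓ centralizer ({w'} : Set G)))
    (s₄ : Sn J₄ (centralizer ({z} : Set G) ⊓ centralizer ({w'} : Set G)))
    (r₁ : ∀ x ∈ J₁, x * x = z → x ∈ PP z) (r₂ : ∀ x ∈ J₂, x * x = z → x ∈ PP z)
    (r₃ : ∀ x ∈ J₃, x * x = z → x ∈ PP z) (r₄ : ∀ x ∈ J₄, x * x = z → x ∈ PP z)
    {a₁ a₂ a₃ a₄ : G} (h₁ : a₁ ∈ J₁) (h₂ : a₂ ∈ J₂) (h₃ : a₃ ∈ J₃) (h₄ : a₄ ∈ J₄)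
    (e₁ : a₁ * a₁ = z) (e₂ : a₂ * a₂ = z) (e₃ : a₃ * a₃ = z) (e₄ : a₄ * a₄ = z) (hw' : w' = a₁ * a₂)
    (hw : w = a₃ * a₄)
    (hE₁ : ∀ L : Subgroup G, D3.Comp z L → ∀ x ∈ J₁, ∀ y ∈ L, x * y = y * x)
    (hE₂ : ∀ L : Subgroup G, D3.Comp z L → ∀ x ∈ J₂, ∀ y ∈ L, x * y = y * x)
    (hr : ∀ x₁ ∈ J₁, ∀ x₂ ∈ J₂, x₁ * x₁ = z → x₂ * x₂ = z → x₁ * a₁ = z * (a₁ * x₁) → x₂ * a₂ = z * (a₂ * x₂) →
      ∀ y, y ∈ J₃ ∨ y ∈ J₄ → x₁ * x₂ * y = y * (x₁ * x₂))
    (hC : (∀ x, x ∈ J₁ ∨ x ∈ J₂ → ∀ y, y ∈ J₃ ∨ y ∈ J₄ → x * y = y * x) →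
      ∀ c ∈ PP z, ∀ c' ∈ PP z,
      (∀ y, (y ∈ J₁ ∨ y ∈ J₂) ∨ y ∈ J₃ ∨ y ∈ J₄ → y * y = z → c * y = y * c) →
      (∀ y, (y ∈ J₁ ∨ y ∈ J₂) ∨ y ∈ J₃ ∨ y ∈ J₄ → y * y = z → c' * y = y * c') → c * c' ≠ z * (c' * c)) :
    Sn J₁ (centralizer ({z} : Set G)) := by
  have l₁ : J₁ ≤ centralizer ({z} : Set G) := s₁.le.trans inf_le_left
  have l₂ : J₂ ≤ centralizer ({z} : Set G) := s₂.le.trans inf_le_left
  have l₃ : J₃ ≤ centralizer ({z} : Set G) := s₃.le.trans inf_le_left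
  have l₄ : J₄ ≤ centralizer ({z} : Set G) := s₄.le.trans inf_le_left
  have w'C : w' ∈ centralizer ({z} : Set G) := by rw [hw']; exact mul_mem (l₁ h₁) (l₂ h₂)
  have wC : w ∈ centralizer ({z} : Set G) := by rw [hw]; exact mul_mem (l₃ h₃) (l₄ h₄)
  refine sn_of_sub l₁ ?_
  have hr' : ∀ {J : Subgroup G} (_ : J ≤ centralizer ({z} : Set G)) (hz' : z ∈ centralizer ({z} : Set G)),
      (∀ x ∈ J, x * x = z → x ∈ PP z) → ∀ x ∈ J.subgroupOf (centralizer ({z} : Set G)),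
        x * x = (⟨z, hz'⟩ : ↥(centralizer ({z} : Set G))) → x ∈ pCore 2 ↥(centralizer ({z} : Set G)) := by
    intro J _ hz' h x hx hxx
    have h1 := h x hx (congrArg Subtype.val hxx)
    exact (mem_PP x.2).1 h1
  have hE : ∀ {J : Subgroup G}, (∀ L : Subgroup G, D3.Comp z L → ∀ x ∈ J, ∀ y ∈ L, x * y = y * x) →
      ∀ L : Subgroup ↥(centralizer ({z} : Set G)), IsComponent L →
        ∀ x ∈ J.subgroupOf (centralizer ({z} : Set G)), ∀ y ∈ L, x * y = y * x := by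
    intro J h L hL x hx y hy
    refine Subtype.ext (h (L.map (centralizer ({z} : Set G)).subtype) ⟨map_subtype_le _, ?_⟩ x hx y ⟨y, hy, rfl⟩)
    rwa [Subgroup.subgroupOf, Subgroup.comap_map_eq_self_of_injective (subtype_injective _)]
  refine caseA_pr (z := ⟨z, l₁ p₁.mem⟩) (w := ⟨w, wC⟩) (w' := ⟨w', w'C⟩) (J₂ := J₂.subgroupOf _)
    (J₃ := J₃.subgroupOf _) (J₄ := J₄.subgroupOf _) (a₁ := ⟨a₁, l₁ h₁⟩) (a₂ := ⟨a₂, l₂ h₂⟩) (a₃ := ⟨a₃, l₃ h₃⟩)
    (a₄ := ⟨a₄, l₄ h₄⟩) hO ?_ (p₁.subgroupOf l₁) (p₂.subgroupOf l₂) (p₃.subgroupOf l₃) (p₄.subgroupOf l₄) ?_ ?_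
    (sn_sub wC s₁) (sn_sub wC s₂) (sn_sub w'C s₃) (sn_sub w'C s₄) (hr' l₁ _ r₁) (hr' l₂ _ r₂) (hr' l₃ _ r₃)
    (hr' l₄ _ r₄) h₁ h₂ h₃ h₄ (Subtype.ext e₁) (Subtype.ext e₂) (Subtype.ext e₃) (Subtype.ext e₄) (Subtype.ext hw')
    (Subtype.ext hw) (hE hE₁) (hE hE₂) ?_ ?_
  · intro x
    exact Subtype.ext (mem_centralizer_singleton_iff.1 x.2)
  · intro x hx y hy
    exact Subtype.ext (c₁₂ x hx y hy)
  · intro x hx y hy
    exact Subtype.ext (c₃₄ x hx y hy)
  · intro x₁ hx₁ x₂ hx₂ f₁ f₂ f₃ f₄ y hy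
    exact Subtype.ext (hr x₁ hx₁ x₂ hx₂ (congrArg Subtype.val f₁) (congrArg Subtype.val f₂) (congrArg Subtype.val f₃)
      (congrArg Subtype.val f₄) y hy)
  · intro hall c hc c' hc' f f' he
    have hall' : ∀ x, x ∈ J₁ ∨ x ∈ J₂ → ∀ y, y ∈ J₃ ∨ y ∈ J₄ → x * y = y * x := by
      intro x hx y hy
      have hxC : x ∈ centralizer ({z} : Set G) := by
        rcases hx with hx | hx
        · exact l₁ hx
        · exact l₂ hx
      have hyC : y ∈ centralizer ({z} : Set G) := by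
        rcases hy with hy | hy
        · exact l₃ hy
        · exact l₄ hy
      exact congrArg Subtype.val (hall ⟨x, hxC⟩ hx ⟨y, hyC⟩ hy)
    have hf : ∀ {c : ↥(centralizer ({z} : Set G))},
        (∀ y, (y ∈ J₁.subgroupOf (centralizer ({z} : Set G)) ∨ y ∈ J₂.subgroupOf (centralizer ({z} : Set G))) ∨
          y ∈ J₃.subgroupOf (centralizer ({z} : Set G)) ∨ y ∈ J₄.subgroupOf (centralizer ({z} : Set G)) →
          y * y = (⟨z, l₁ p₁.mem⟩ : ↥(centralizer ({z} : Set G))) → c * y = y * c) →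
        ∀ y, (y ∈ J₁ ∨ y ∈ J₂) ∨ y ∈ J₃ ∨ y ∈ J₄ → y * y = z → (c : G) * y = y * c := by
      intro c f y hy hyz
      have hyC : y ∈ centralizer ({z} : Set G) := by
        rcases hy with (hy | hy) | hy | hy
        · exact l₁ hy
        · exact l₂ hy
        · exact l₃ hy
        · exact l₄ hy
      exact congrArg Subtype.val (f ⟨y, hyC⟩ hy (Subtype.ext hyz))
    exact hC hall' c ((mem_PP c.2).2 hc) c' ((mem_PP c'.2).2 hc') (hf f) (hf f') (congrArg Subtype.val he)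

end Cfsg.Agent.OddHalf.NI3.Bad

end

-- merged: Cfsg.Agent.OddHalf.NI3.Bad.StepDOf
section

/-!
# THEOREM NIB, step (3d), assembly (helper355; bb ODD #14136)

`Dbl.false_of` : the contradiction, from (a1), (a2) and (a4):
* `Dbl.HE` : (a1) `A`, `B` centralise the components of `C(z)`;
* `Dbl.HR` : (a2) the involutions `x₁ x₂` of `Q₁ Q₂` commuting with `a` centralise `A'`, `B'`;
* `Dbl.HC` : (a4) `z` is not the commutator of two elements of `C_P(Q₁ Q₂ Q₃ Q₄)`, if `[A B, A' B'] = 1`.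
-/

set_option autoImplicit false
set_option linter.style.haveILetI false

namespace Cfsg.Agent.OddHalf.NI3.Bad

open Subgroup Cfsg Cfsg.Agent.OddHalf.Iface Cfsg.Agent.OddHalf.LieOddFam
open Cfsg.Agent.OddHalf.D3 (Comp)
open Cfsg.Agent.OddHalf.NI (CompIn)
open Cfsg.Agent.Cit (cj)

universe u

namespace Dbl

/-- (a1) -/
def HE {G : Type*} [Group G] (a b : G) (A B : Subgroup G) : Prop :=
  ∀ L : Subgroup G, Comp (a * b) L → (∀ x ∈ A, ∀ y ∈ L, x * y = y * x) ∧ (∀ x ∈ B, ∀ y ∈ L, x * y = y * x)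

/-- (a2) -/
def HR {G : Type*} [Group G] (a b : G) (A B A' B' : Subgroup G) : Prop :=
  ∀ p ∈ A, ∀ q ∈ B, p * p = a * b → q * q = a * b → a = p * q → ∀ x₁ ∈ A, ∀ x₂ ∈ B, x₁ * x₁ = a * b →
    x₂ * x₂ = a * b → x₁ * p = a * b * (p * x₁) → x₂ * q = a * b * (q * x₂) → ∀ y, y ∈ A' ∨ y ∈ B' →
      x₁ * x₂ * y = y * (x₁ * x₂)

/-- (a4) -/
def HC {G : Type*} [Group G] (a b : G) (A B A' B' : Subgroup G) : Prop :=
  (∀ x, x ∈ A ∨ x ∈ B → ∀ y, y ∈ A' ∨ y ∈ B' → x * y = y * x) → ∀ c ∈ PP (a * b), ∀ c' ∈ PP (a * b),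
    (∀ y, (y ∈ A ∨ y ∈ B) ∨ y ∈ A' ∨ y ∈ B' → y * y = a * b → c * y = y * c) →
    (∀ y, (y ∈ A ∨ y ∈ B) ∨ y ∈ A' ∨ y ∈ B' → y * y = a * b → c' * y = y * c') → c * c' ≠ a * b * (c' * c)

/-- **(3d) is dead**, from (a1), (a2), (a4) -/
theorem false_of {G : Type u} [Group G] (C : Ctx G) {N D : Subgroup G} {a b e e' : G} {A B A' B' : Subgroup G}
    (h : Dbl N D a b e e' A B A' B') (hE : HE a b A B) (hR : HR a b A B A' B') (hC : HC a b A B A' B') : False := by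
  haveI := C.fin
  have hz : e * e' = a * b := h.z_eq C
  have p₃ := h.sh.prA
  have p₄ := h.sh.prB
  have r₃ := h.rA'
  have r₄ := h.rB'
  obtain ⟨a₁, h₁, a₂, h₂, e₁, e₂, hw'⟩ := h.cfg.a_eq
  obtain ⟨a₃, h₃, a₄, h₄, e₃, e₄, hw⟩ := h.sh.a_eq
  rw [hz] at p₃ p₄ r₃ r₄ e₃ e₄
  have hO : pPrimeCore 2 ↥(centralizer ({a * b} : Set G)) = ⊥ := StepThree.core_of_ctx C h.cfg.prA.ord
  refine Cfg.not_cl C (x := a * b) (J := A) ⟨h.cfg.prA, ?_⟩
  exact caseA_G hO h.cfg.prA h.cfg.prB p₃ p₄ h.cfg.AB h.sh.AB h.cfg.snA_e h.cfg.snB_e h.snA' h.snB' h.rA h.rB r₃ r₄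
    h₁ h₂ h₃ h₄ e₁ e₂ e₃ e₄ hw' hw (fun L hL => (hE L hL).1) (fun L hL => (hE L hL).2)
    (fun x₁ hx₁ x₂ hx₂ => hR a₁ h₁ a₂ h₂ e₁ e₂ hw' x₁ hx₁ x₂ hx₂) hC

end Dbl

end Cfsg.Agent.OddHalf.NI3.Bad

end
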