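import Cfsg.Agent.OddHalf.NI3.Bad.Main
import Cfsg.Agent.OddHalf.NI3.Bad.StepThree
import Cfsg.Agent.OddHalf.NI3.Bad.StepDOf
import Cfsg.Agent.OddHalf.NI3.SubSL
import Cfsg.Agent.OddHalf.NI3.Bad.Basic
import Cfsg.Agent.TwoFusion.ClosedFunctor

-- merged: Cfsg.Agent.OddHalf.NI3.Bad.AOne
section

/-!
# THEOREM NIB, step (3d) (a1): the components of `C(z)` commute with `N` (helper967's text, typed by helper289)

* `layer_comm` : `N` a component of `C(y)`, `z ∈ N` an involution with `C_N(z)` solvable; a component `L` of `C(z)` which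
  centralises `y` centralises `N`.
* `PP_comm_comp` : `O₂(C(z))` centralises the components of `C(z)`.
* `Cfg.layer_comm` : `Cfg N a b e A B`, `e ∈ O₂(C(a b))`: every component of `C(a b)` centralises `N`.
* `Cfg.hE`, `Cfg.hE'` : the hypotheses `hE₁`, `hE₂` of `caseA_G`.
* `mem_PP_of_comm` : `O(C(z)) = 1`; an element of `C(z)` which centralises `O₂(C(z))` and the components lies in
  `O₂(C(z))`.
-/

set_option autoImplicit false
set_option linter.style.haveILetI false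

namespace Cfsg.Agent.OddHalf.NI3.Bad

open Subgroup Cfsg Cfsg.Agent.Cit Cfsg.Agent.OddHalf.Iface Cfsg.Agent.OddHalf.LieOddFam
open Cfsg.Agent.SignalizersComponents
open Cfsg.Agent.OddHalf.D3 (Comp FT BL)
open Cfsg.Agent.OddHalf.NI (CompIn Dg pump2)

universe u

/-- a solvable group has no quasisimple subgroup -/
theorem not_le_of_solvable {G : Type*} [Group G] {K X : Subgroup G} (hX : Group.IsSolvable ↥X)
    (hK : IsQuasisimple ↥K) : ¬ K ≤ X := by
  intro h
  exact Components.quasisimple_not_isSolvable hK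
    (Group.isSolvable_of_isSolvable_injective (Subgroup.inclusion_injective h))

/-- **(a1)** -/
theorem layer_comm {G : Type*} [Group G] [Finite G] (hFT : FT G) (hB : BL G) {y z : G} {N L : Subgroup G}
    (hN : Comp y N) (hyo : orderOf y = 2) (hz : z ∈ N) (hzo : orderOf z = 2)
    (hs : Group.IsSolvable ↥(N ⊓ centralizer ({z} : Set G))) (hL : Comp z L)
    (hLy : L ≤ centralizer ({y} : Set G)) : L ≤ centralizer (N : Set G) := by
  have hyz : y * z = z * y := (mem_centralizer_singleton_iff.1 (hN.le hz)).symm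
  have hin : CompIn (centralizer ({y} : Set G) ⊓ centralizer ({z} : Set G)) L :=
    (NI.compIn_of_comp hL).mono (le_inf hLy hL.le) inf_le_right
  obtain ⟨D, hD, hcase⟩ := pump2 hFT hB hyo hzo hyz hin
  by_cases hDN : D = N
  · subst hDN
    exfalso
    rcases hcase with h | h | h
    · exact not_le_of_solvable hs hL.quasi (le_inf h.le hL.le)
    · exact not_le_of_solvable hs hL.quasi (le_inf h.1.le hL.le)
    · exact h.ne (D3.cj_eq_of_mem hz)
  · have hc := hD.comm hN hDN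
    rcases hcase with h | h | h
    · rwa [h]
    · exact h.1.le.trans hc
    · exfalso
      apply h.ne
      apply le_antisymm
      · rintro _ ⟨d, hd, rfl⟩
        have h1 : d * z = z * d := (mem_centralizer_iff.1 (hc hd) z hz).symm
        show z * d * z⁻¹ ∈ D
        rw [← h1, mul_inv_cancel_right]
        exact hd
      · intro d hd
        refine ⟨d, hd, ?_⟩
        have h1 : d * z = z * d := (mem_centralizer_iff.1 (hc hd) z hz).symm
        show z * d * z⁻¹ = d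
        rw [← h1, mul_inv_cancel_right]

/-- `O₂(C(z))` centralises the components of `C(z)` -/
theorem PP_comm_comp {G : Type*} [Group G] [Finite G] {z : G} {L : Subgroup G} (hL : Comp z L) {q l : G}
    (hq : q ∈ PP z) (hl : l ∈ L) : q * l = l * q := by
  have hPn : (pCore 2 ↥(centralizer ({z} : Set G))).Normal := Lib.Cores.pCore_normal 2
  have hPp := Lib.Cores.pCore_isPGroup 2 (G := ↥(centralizer ({z} : Set G)))
  rcases Components.component_le_or_commutator_eq_bot hL.comp hPn.isSubnormal with h4 | h4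
  · exfalso
    haveI : Group.IsNilpotent (pCore 2 ↥(centralizer ({z} : Set G))) := hPp.isNilpotent
    have h5 : Group.IsSolvable (pCore 2 ↥(centralizer ({z} : Set G))) := inferInstance
    have h6 : Group.IsSolvable ↥(L.subgroupOf (centralizer ({z} : Set G))) :=
      Group.isSolvable_of_isSolvable_injective (Subgroup.inclusion_injective h4)
    exact Components.quasisimple_not_isSolvable hL.comp.2 h6
  · rw [commutator_eq_bot_iff_le_centralizer] at h4
    have hqC := PP_le z hq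
    have hlC := hL.le hl
    have h5 := mem_centralizer_iff.1 (h4 (show (⟨l, hlC⟩ : ↥(centralizer ({z} : Set G))) ∈ L.subgroupOf _ from hl))
      ⟨q, hqC⟩ ((mem_PP hqC).1 hq)
    exact congrArg Subtype.val h5

/-- an element of `C(z)` which centralises `O₂(C(z))` and the components lies in `O₂(C(z))` -/
theorem mem_PP_of_comm {G : Type*} [Group G] [Finite G] {z : G}
    (hO : pPrimeCore 2 ↥(centralizer ({z} : Set G)) = ⊥) {g : G} (hg : g * z = z * g)
    (hP : ∀ q ∈ PP z, g * q = q * g) (hE : ∀ L : Subgroup G, Comp z L → ∀ x ∈ L, g * x = x * g) : g ∈ PP z := by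
  have hgC : g ∈ centralizer ({z} : Set G) := mem_centralizer_singleton_iff.2 hg
  rw [mem_PP hgC]
  apply OneComp.centralizer_genFit_le hO
  refine OneComp.mem_centralizer_genFit hO (fun L hL => ?_) ?_
  · rw [mem_centralizer_iff]
    intro l hl
    have hLm : Comp z (L.map (centralizer ({z} : Set G)).subtype) := by
      refine ⟨map_subtype_le _, ?_⟩
      rwa [Subgroup.subgroupOf, Subgroup.comap_map_eq_self_of_injective (subtype_injective _)]
    exact Subtype.ext (hE _ hLm l ⟨l, hl, rfl⟩).symm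
  · rw [mem_centralizer_iff]
    intro q hq
    exact Subtype.ext (hP q ⟨q, hq, rfl⟩).symm

section

variable {G : Type u} [Group G] [Finite G] {N : Subgroup G} {a b e : G} {A B : Subgroup G}

/-- **(a1)** for a configuration: if `e ∈ O₂(C(a b))`, every component of `C(a b)` centralises `N` -/
theorem Cfg.layer_comm (hFT : FT G) (hB : BL G) (h : Cfg N a b e A B) (he : e ∈ PP (a * b)) {L : Subgroup G}
    (hL : Comp (a * b) L) : L ≤ centralizer (N : Set G) := by
  refine Bad.layer_comm hFT hB h.comp h.y_ord h.zN h.z_ord h.sol hL ?_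
  · intro l hl
    rw [mem_centralizer_singleton_iff]
    have h1 : l * e = e * l := (PP_comm_comp hL he hl).symm
    have h2 : l * (a * b) = (a * b) * l := mem_centralizer_singleton_iff.1 (hL.le hl)
    calc l * (a * b * e) = (l * (a * b)) * e := by group
      _ = (a * b) * (l * e) := by rw [h2]; group
      _ = a * b * e * l := by rw [h1]; group

/-- hypothesis `hE₁` of `caseA_G` -/
theorem Cfg.hE (hFT : FT G) (hB : BL G) (h : Cfg N a b e A B) (he : e ∈ PP (a * b)) :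
    ∀ L : Subgroup G, Comp (a * b) L → ∀ x ∈ A, ∀ y ∈ L, x * y = y * x := fun _ hL x hx _ hy =>
  mem_centralizer_iff.1 (h.layer_comm hFT hB he hL hy) x (h.AN hx)

/-- hypothesis `hE₂` of `caseA_G` -/
theorem Cfg.hE' (hFT : FT G) (hB : BL G) (h : Cfg N a b e A B) (he : e ∈ PP (a * b)) :
    ∀ L : Subgroup G, Comp (a * b) L → ∀ x ∈ B, ∀ y ∈ L, x * y = y * x := fun _ hL x hx _ hy =>
  mem_centralizer_iff.1 (h.layer_comm hFT hB he hL hy) x (h.BN hx)

end

end Cfsg.Agent.OddHalf.NI3.Bad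

end

-- merged: Cfsg.Agent.OddHalf.NI3.Bad.HC
section

/-!
# THEOREM NIB, step (3d), (a4): `z` is not a commutator in `C_P(Q₁ Q₂ Q₃ Q₄)`

* `Dbl.hC_of_sq` : `HC` from an element `x₀` not commuting with `z` and commuting with all squares of `C_P(Q₁ Q₂ Q₃ Q₄)`;
* `Dbl.hC_of_refl` : `HC` from the dichotomy rotation / reflection.
-/

set_option autoImplicit false
set_option linter.style.haveILetI false

namespace Cfsg.Agent.OddHalf.NI3.Bad

open Subgroup Cfsg Cfsg.Agent.OddHalf.Iface Cfsg.Agent.OddHalf.LieOddFam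
open Cfsg.Agent.OddHalf.D3 (Comp)
open Cfsg.Agent.OddHalf.NI (CompIn)
open Cfsg.Agent.Cit (cj)

universe u

namespace Dbl

variable {G : Type*} [Group G] {N D : Subgroup G} {a b e e' : G} {A B A' B' : Subgroup G}

/-- `C_P(Q₁ Q₂ Q₃ Q₄)` -/
def C0 (a b : G) (A B A' B' : Subgroup G) (c : G) : Prop :=
  c ∈ PP (a * b) ∧ ∀ y, (y ∈ A ∨ y ∈ B) ∨ y ∈ A' ∨ y ∈ B' → y * y = a * b → c * y = y * c

theorem C0.mul {c c' : G} (h : C0 a b A B A' B' c) (h' : C0 a b A B A' B' c') : C0 a b A B A' B' (c * c') :=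
  ⟨mul_mem h.1 h'.1, fun y hy hyy => ((show Commute c y from h.2 y hy hyy).mul_left
    (show Commute c' y from h'.2 y hy hyy)).eq⟩

/-- `z` is not a commutator if some `x₀` commutes with all squares and does not commute with `z` -/
theorem hC_of_sq (h : Dbl N D a b e e' A B A' B') {x₀ : G} (hx : x₀ * (a * b) ≠ a * b * x₀)
    (hsq : (∀ x, x ∈ A ∨ x ∈ B → ∀ y, y ∈ A' ∨ y ∈ B' → x * y = y * x) →
      ∀ c, C0 a b A B A' B' c → c * c * x₀ = x₀ * (c * c)) : HC a b A B A' B' := by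
  intro hcom c hc c' hc' h1 h2 hcc
  set z := a * b with hz
  have zz : z * z = 1 := h.cfg.zz
  have m1 : C0 a b A B A' B' c := ⟨hc, h1⟩
  have m2 : C0 a b A B A' B' c' := ⟨hc', h2⟩
  have s1 := hsq hcom c m1
  have s2 := hsq hcom c' m2
  have s3 := hsq hcom (c * c') (m1.mul m2)
  have cz : c * z = z * c := PP_comm hc
  have e1 : c' * c = z * (c * c') := by
    rw [hcc, ← mul_assoc, zz, one_mul]
  have e2 : c * c' * (c * c') = z * (c * c * (c' * c')) := by
    calc c * c' * (c * c') = c * (c' * c) * c' := by group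
      _ = (c * z) * (c * c') * c' := by rw [e1]; group
      _ = z * (c * c * (c' * c')) := by rw [cz]; group
  rw [e2] at s3
  apply hx
  have e3 : c * c * (c' * c') * x₀ = x₀ * (c * c * (c' * c')) :=
    ((show Commute (c * c) x₀ from s1).mul_left (show Commute (c' * c') x₀ from s2)).eq
  have e4 : z * x₀ * (c * c * (c' * c')) = x₀ * z * (c * c * (c' * c')) := by
    calc z * x₀ * (c * c * (c' * c')) = z * (x₀ * (c * c * (c' * c'))) := by group
      _ = z * (c * c * (c' * c')) * x₀ := by rw [← e3]; group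
      _ = x₀ * z * (c * c * (c' * c')) := by rw [s3]; group
  exact (mul_right_cancel e4).symm

/-- elements of `C_P(Q₁ Q₂ Q₃ Q₄)` commute with `a`, `b`, `e`, `e'` -/
theorem C0.comm (h : Dbl N D a b e e' A B A' B') (hz : e * e' = a * b) {c : G} (hc : C0 a b A B A' B' c) :
    c * a = a * c ∧ c * b = b * c ∧ c * e = e * c ∧ c * e' = e' * c := by
  have k1 : c * a = a * c := by
    obtain ⟨p, hp, q, hq, h1, h2, h3⟩ := h.cfg.a_eq
    rw [h3]
    exact ((show Commute c p from hc.2 p (Or.inl (Or.inl hp)) h1).mul_right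
      (show Commute c q from hc.2 q (Or.inl (Or.inr hq)) h2)).eq
  have k2 : c * (a * b) = a * b * c := PP_comm hc.1
  have k3 : c * e = e * c := by
    obtain ⟨p, hp, q, hq, h1, h2, h3⟩ := h.sh.a_eq
    rw [hz] at h1 h2
    rw [h3]
    exact ((show Commute c p from hc.2 p (Or.inr (Or.inl hp)) h1).mul_right
      (show Commute c q from hc.2 q (Or.inr (Or.inr hq)) h2)).eq
  have inv_mul : ∀ x y : G, x * x = 1 → y = x * (x * y) := fun x y hx => by rw [← mul_assoc, hx, one_mul]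
  refine ⟨k1, ?_, k3, ?_⟩
  · rw [inv_mul a b h.cfg.aa]
    exact ((show Commute c a from k1).mul_right (show Commute c (a * b) from k2)).eq
  · rw [inv_mul e e' h.sh.aa, hz]
    exact ((show Commute c e from k3).mul_right (show Commute c (a * b) from k2)).eq

/-- elements of `C_P(Q₁ Q₂ Q₃ Q₄)` centralise `A'` and `B'` -/
theorem C0.comm' [Finite G] (h : Dbl N D a b e e' A B A' B') (hz : e * e' = a * b) {c : G} (hc : C0 a b A B A' B' c) :
    ∀ y, y ∈ A' ∨ y ∈ B' → c * y = y * c := by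
  haveI : Fact (Nat.Prime 2) := ⟨Nat.prime_two⟩
  have ca := (hc.comm h hz).1
  have hP2 : IsPGroup 2 (PP (a * b)) :=
    (Lib.Cores.pCore_isPGroup (G := ↥(centralizer ({a * b} : Set G))) 2).map _
  have hPn : centralizer ({a * b} : Set G) ≤ normalizer (PP (a * b) : Set G) := by
    intro g hg
    refine mem_normalizer_fintype ?_
    rintro _ ⟨x, hx, rfl⟩
    have hn : (pCore 2 ↥(centralizer ({a * b} : Set G))).Normal := Lib.Cores.pCore_normal 2
    exact ⟨⟨g, hg⟩ * x * ⟨g, hg⟩⁻¹, hn.conj_mem x hx _, rfl⟩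
  -- for a factor `J`
  have key : ∀ J : Subgroup G, IsPr J (a * b) →
      Sn J (centralizer ({a * b} : Set G) ⊓ centralizer ({a} : Set G)) → (∀ y ∈ J, y * y = a * b → c * y = y * c) →
      ∀ y ∈ J, c * y = y * c := by
    intro J hJ hs hy
    set X := PP (a * b) ⊓ centralizer ({a} : Set G) with hX
    have hX2 : IsPGroup 2 X := hP2.to_le inf_le_left
    have hJX : J ≤ normalizer (X : Set G) :=
      (le_inf ((hs.le.trans inf_le_left).trans hPn) ((hs.le.trans inf_le_right).trans le_normalizer)).trans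
        inf_normalizer_le_normalizer_inf
    have hs' : Sn J (J ⊔ X) :=
      hs.restrict (sup_le hs.le (inf_le_inf_right _ (PP_le _))) le_sup_left
    have h1 : J ≤ centralizer ({c} : Set G) := by
      refine hJ.le_of_cube fun v hv hv3 => ?_
      rw [mem_centralizer_singleton_iff]
      exact (comm_of_cent hJ.t3 hX2 hJX hs' (fun a' ha' => hJ.comm_z ha')
        (mem_inf.2 ⟨hc.1, mem_centralizer_singleton_iff.2 ca⟩) (fun y hyJ hyy => hy y hyJ hyy) hv hv3).symm
    intro y hyJ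
    exact (mem_centralizer_singleton_iff.1 (h1 hyJ)).symm
  have p3 := h.sh.prA
  have p4 := h.sh.prB
  rw [hz] at p3 p4
  rintro y (hy | hy)
  · exact key A' p3 h.snA' (fun y hy hyy => hc.2 y (Or.inr (Or.inl hy)) hyy) y hy
  · exact key B' p4 h.snB' (fun y hy hyy => hc.2 y (Or.inr (Or.inr hy)) hyy) y hy

/-- an element of `C(a)` commuting with `A'` normalises `D` -/
theorem norm_D (h : Dbl N D a b e e' A B A' B') {g : G} (ga : g * a = a * g) (hg : ∀ y ∈ A', g * y = y * g) :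
    cj g D = D := by
  by_contra hne
  have h1 := (h.comp.conj_of_comm ga).comm h.comp hne
  obtain ⟨x, hx, y, hy, -, -, hxy⟩ := h.sh.prA.t3.ex4
  have h2 : x ∈ cj g D := by
    refine ⟨x, h.sh.AN hx, ?_⟩
    show g * x * g⁻¹ = x
    rw [hg x hx]; group
  exact hxy (mem_centralizer_iff.1 (h1 h2) y (h.sh.AN hy)).symm

/-- `HC` from the dichotomy rotation / reflection: `p₅`, `q₅ ∈ D`, `r ∈ C_{Q₁Q₂}(a)` a reflection -/
theorem hC_of_refl [Finite G] (h : Dbl N D a b e e' A B A' B') (hz : e * e' = a * b) {p₅ q₅ x₀ x₁ x₂ : G}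
    (hx : x₀ * (a * b) ≠ a * b * x₀)
    (hdich : ∀ g : G, cj g D = D → g * a = a * g → g * b = b * g → g * e = e * g → g * e' = e' * g →
      (∀ y, y ∈ A' ∨ y ∈ B' → g * y = y * g) → g * p₅ * g⁻¹ = p₅ ∨ g * p₅ * g⁻¹ = q₅⁻¹)
    (hrefl : ∀ g : G, cj g D = D → g * a = a * g → g * b = b * g → g * e = e * g → g * e' = e' * g →
      (∀ y, y ∈ A' ∨ y ∈ B' → g * y = y * g) → g * p₅ * g⁻¹ = q₅⁻¹ → g * g * x₀ = x₀ * (g * g))
    (h1 : x₁ ∈ A) (h2 : x₂ ∈ B) (h11 : x₁ * x₁ = a * b) (h22 : x₂ * x₂ = a * b) (ha : x₁ * x₂ * a = a * (x₁ * x₂))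
    (hr : x₁ * x₂ * p₅ * (x₁ * x₂)⁻¹ = q₅⁻¹) : HC a b A B A' B' := by
  refine h.hC_of_sq hx fun hcom c hc => ?_
  obtain ⟨ca, cb, ce, ce'⟩ := hc.comm h hz
  have cA := hc.comm' h hz
  have cD := h.norm_D ca fun y hy => cA y (Or.inl hy)
  rcases hdich c cD ca cb ce ce' cA with hp | hp
  · -- `c` a rotation: `r c` is a reflection
    set r := x₁ * x₂ with hrdef
    have zz : (a * b) * (a * b) = 1 := h.cfg.zz
    have rr : r * r = 1 := by
      calc r * r = x₁ * (x₂ * x₁) * x₂ := by rw [hrdef]; group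
        _ = (x₁ * x₁) * (x₂ * x₂) := by rw [← h.cfg.AB x₁ h1 x₂ h2]; group
        _ = 1 := by rw [h11, h22, zz]
    have rA : ∀ y, y ∈ A' ∨ y ∈ B' → r * y = y * r := fun y hy =>
      ((show Commute x₁ y from hcom x₁ (Or.inl h1) y hy).mul_left
        (show Commute x₂ y from hcom x₂ (Or.inr h2) y hy)).eq
    have rz : Commute r (a * b) :=
      (show Commute x₁ (a * b) from h.cfg.prA.comm_z h1).mul_left (show Commute x₂ (a * b) from h.cfg.prB.comm_z h2)
    have ra : Commute r a := ha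
    have rb : Commute r b := by
      have e1 : b = a * (a * b) := by rw [← mul_assoc, h.cfg.aa, one_mul]
      rw [e1]; exact ra.mul_right rz
    have re : Commute r e := by
      obtain ⟨p, hp, q, hq, -, -, h3⟩ := h.sh.a_eq
      rw [h3]
      exact (show Commute r p from rA p (Or.inl hp)).mul_right (show Commute r q from rA q (Or.inr hq))
    have re' : Commute r e' := by
      have e1 : e' = e * (e * e') := by rw [← mul_assoc, h.sh.aa, one_mul]
      rw [e1, hz]; exact re.mul_right rz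
    have rD := h.norm_D ha fun y hy => rA y (Or.inl hy)
    have cr : Commute c r := by
      have k1 : Commute c x₁ := hc.2 x₁ (Or.inl (Or.inl h1)) h11
      have k2 : Commute c x₂ := hc.2 x₂ (Or.inl (Or.inr h2)) h22
      exact k1.mul_right k2
    have h5 : r * c * p₅ * (r * c)⁻¹ = q₅⁻¹ := by
      calc r * c * p₅ * (r * c)⁻¹ = r * (c * p₅ * c⁻¹) * r⁻¹ := by group
        _ = q₅⁻¹ := by rw [hp, hr]
    have h6 := hrefl (r * c) (by rw [Cit.cj_mul, cD, rD]) (ra.mul_left ca).eq (rb.mul_left cb).eq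
      (re.mul_left ce).eq (re'.mul_left ce').eq
      (fun y hy => ((show Commute r y from rA y hy).mul_left (show Commute c y from cA y hy)).eq) h5
    have h7 : r * c * (r * c) = c * c := by
      calc r * c * (r * c) = r * (c * r) * c := by group
        _ = (r * r) * (c * c) := by rw [cr.eq]; group
        _ = c * c := by rw [rr, one_mul]
    rwa [h7] at h6
  · exact hrefl c cD ca cb ce ce' cA hp

end Dbl

end Cfsg.Agent.OddHalf.NI3.Bad

end

-- merged: Cfsg.Agent.OddHalf.NI3.Bad.SLAct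
section

/-!
# THEOREM NIB, (3d)(a2): elements acting on `SL₂(3)` (bb ODD: helper967)

`J ≅ SL₂(3)` with involution `z`, `g` normalises `J`, `p ∈ J` of order 4.
* `sq_comm_of_inv` : if `g` inverts `p` then `g²` centralises `J`;
* `outer_conj` : if `g` commutes with `p` and `g²` acts on `J` as `p`, then `g p' g⁻¹ = (p p')^{±1}` for the elements
  `p' ∈ J` of order 4 not commuting with `p`;
* `outer_pow` : and `[g, v]` is not a 2-element for `v ∈ J` of order 3.
* `perm` : a pair of commuting `SL₂(3)`, `J₁, J₂`, with the same involution: an element which normalises `J₁ ⊔ J₂`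
  permutes `{J₁, J₂}`.
-/

set_option autoImplicit false
set_option linter.style.haveILetI false
set_option linter.unusedSectionVars false
set_option linter.unusedSimpArgs false

namespace Cfsg.Agent.OddHalf.NI3.Bad.ATwo

open Subgroup Cfsg Cfsg.Agent.Cit Cfsg.Agent.Cit.SolvTwo
open Cfsg.Agent.Cit.SLThree (Qt Sl)

section One

variable {G : Type*} [Group G] {J : Subgroup G} {z : G}

theorem cj_mem {g : G} (hg : g ∈ J) : cj g J = J := mem_normalizer_iff_cj.1 (le_normalizer hg)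

/-- coordinates with given `i` -/
theorem exists_sl (h : IsPr J z) {p : G} (hp : p ∈ J) (hpz : p * p = z) : ∃ j d, Sl J z p j d := by
  obtain ⟨i, j, d, hl⟩ := h.sl
  obtain ⟨g, hg, hgp⟩ := h.t3.conj i hl.hi p hp hl.q.i2 hpz
  have h1 := hl.of_cj g
  rw [cj_mem hg, hgp] at h1
  have h2 : g * z * g⁻¹ = z := by rw [h.comm_z hg, mul_inv_cancel_right]
  rw [h2] at h1
  exact ⟨_, _, h1⟩

theorem four {i j d : G} (hl : Sl J z i j d) (h3 : T3 J z) {x : G} (hx : x ∈ J) (hx2 : x * x = z)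
    (hn : i * x ≠ x * i) : x = j ∨ x = z * j ∨ x = i * j ∨ x = z * (i * j) := by
  rcases hl.q.mem_cases (mem_Q_of_sq hl h3 hx hx2) with h1 | h1 | h1 | h1 | h1 | h1 | h1 | h1
  · exact absurd (by rw [h1, one_mul, mul_one]) hn
  · exact absurd (by rw [h1, hl.q.iz]) hn
  · exact absurd (by rw [h1]) hn
  · exact absurd (by rw [h1, hl.q.izx, mul_assoc]) hn
  · exact Or.inl h1
  · exact Or.inr (Or.inl h1)
  · exact Or.inr (Or.inr (Or.inl h1))
  · exact Or.inr (Or.inr (Or.inr h1))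

theorem q_conj_four {i j d : G} (hl : Sl J z i j d) (h3 : T3 J z) {x y : G} (hx : x ∈ J) (hxz : x * x = z) (hy : y ∈ J)
    (hyz : y * y = z) : x * y * x⁻¹ = y ∨ x * y * x⁻¹ = z * y :=
  q_conj hl.q (mem_Q_of_sq hl h3 hx hxz) (mem_Q_of_sq hl h3 hy hyz)

theorem conj_z (h : IsPr J z) {g : G} (hg : cj g J = J) : g * z * g⁻¹ = z := by
  have h1 : g * z * g⁻¹ ∈ J := by
    have := conj_mem_cj (g := g) h.mem
    rwa [hg] at this
  rcases h.inv_eq h1 (by
    calc g * z * g⁻¹ * (g * z * g⁻¹) = g * (z * z) * g⁻¹ := by group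
      _ = 1 := by rw [h.t3.z_sq]; group) with h2 | h2
  · exfalso
    apply h.t3.z_ne
    calc z = g⁻¹ * (g * z * g⁻¹) * g := by group
      _ = 1 := by rw [h2]; group
  · exact h2

theorem conj_mem {g : G} (hg : cj g J = J) {x : G} (hx : x ∈ J) : g * x * g⁻¹ ∈ J := by
  have := conj_mem_cj (g := g) hx
  rwa [hg] at this

/-- commuting with the elements of order 4 of `J` and normalising `J` implies centralising `J` -/
theorem comm_of_four (h : IsPr J z) {g : G} (hg : cj g J = J) (h4 : ∀ x ∈ J, x * x = z → g * x = x * g) :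
    ∀ x ∈ J, g * x = x * g := by
  -- for `d` of order three
  have key : ∀ d ∈ J, d * d * d = 1 → g * d = d * g := by
    intro d hd hd3
    set w := g * d * g⁻¹ * d⁻¹ with hw
    have hwJ : w ∈ J := mul_mem (conj_mem hg hd) (inv_mem hd)
    have hgd : g * d * g⁻¹ = w * d := by rw [hw]; group
    have hwc : ∀ y ∈ J, y * y = z → w * y = y * w := by
      intro y hy hyz
      -- `y = d x d⁻¹`
      have hx : d⁻¹ * y * d ∈ J := mul_mem (mul_mem (inv_mem hd) hy) hd
      have hxz : (d⁻¹ * y * d) * (d⁻¹ * y * d) = z := by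
        calc (d⁻¹ * y * d) * (d⁻¹ * y * d) = d⁻¹ * (y * y) * d := by group
          _ = z := by rw [hyz, mul_assoc, ← h.comm_z hd]; group
      have h1 := h4 _ hx hxz
      have h2 := h4 y hy hyz
      have h3 : g * y * g⁻¹ = y := by rw [h2]; group
      have h5 : g * (d⁻¹ * y * d) * g⁻¹ = d⁻¹ * y * d := by rw [h1]; group
      have h6 : (w * d) * (d⁻¹ * y * d) * (w * d)⁻¹ = y := by
        rw [← hgd]
        calc g * d * g⁻¹ * (d⁻¹ * y * d) * (g * d * g⁻¹)⁻¹ = g * d * (g⁻¹ * (d⁻¹ * y * d) * g) * d⁻¹ * g⁻¹ := by group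
          _ = g * d * (d⁻¹ * y * d) * d⁻¹ * g⁻¹ := by
              have : g⁻¹ * (d⁻¹ * y * d) * g = d⁻¹ * y * d := by
                rw [mul_assoc, ← h1]; group
              rw [this]
          _ = g * y * g⁻¹ := by group
          _ = y := h3
      have h7 : w * y * w⁻¹ = y := by
        calc w * y * w⁻¹ = (w * d) * (d⁻¹ * y * d) * (w * d)⁻¹ := by group
          _ = y := h6
      exact mul_inv_eq_iff_eq_mul.1 h7
    rcases h.t3.cen w hwJ hwc with h1 | h1
    · have h2 : g * d * g⁻¹ = d := by rw [hgd, h1, one_mul]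
      exact mul_inv_eq_iff_eq_mul.1 h2
    · exfalso
      have h2 : (g * d * g⁻¹) * (g * d * g⁻¹) * (g * d * g⁻¹) = 1 := SLThree.cube_conj hd3 g
      rw [hgd, h1] at h2
      have h3 : z * d * (z * d) * (z * d) = z * (d * d * d) := by
        have e1 : d * z = z * d := h.comm_z hd
        calc z * d * (z * d) * (z * d) = z * (d * z) * d * z * d := by group
          _ = z * (z * d) * d * z * d := by rw [e1]
          _ = (z * z) * d * (d * z) * d := by group
          _ = (z * z) * d * (z * d) * d := by rw [e1]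
          _ = (z * z) * (d * z) * d * d := by group
          _ = (z * z) * (z * d) * d * d := by rw [e1]
          _ = (z * z) * z * (d * d * d) := by group
          _ = z * (d * d * d) := by rw [h.t3.z_sq, one_mul]
      rw [h3, hd3, mul_one] at h2
      exact h.t3.z_ne h2
  have h1 : J ≤ centralizer ({g} : Set G) := by
    refine h.le_of_cube fun v hv h3 => ?_
    rw [mem_centralizer_singleton_iff]
    exact (key v hv h3).symm
  intro x hx
  exact (mem_centralizer_singleton_iff.1 (h1 hx)).symm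

/-- if `g` inverts an element of order 4 of `J` then `g²` centralises `J` -/
theorem sq_comm_of_inv (h : IsPr J z) {g : G} (hg : cj g J = J) {p : G} (hp : p ∈ J) (hpz : p * p = z)
    (hgp : g * p * g⁻¹ = p⁻¹) : ∀ x ∈ J, g * g * x = x * (g * g) := by
  obtain ⟨j, d, hl⟩ := exists_sl h hp hpz
  have hgz := conj_z h hg
  have hq := hl.q
  have hjJ : j ∈ J := by rw [← hl.di]; exact mul_mem (mul_mem hl.hd hl.hi) (inv_mem hl.hd)
  have hy : g * j * g⁻¹ ∈ J := conj_mem hg hjJ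
  have hyz : g * j * g⁻¹ * (g * j * g⁻¹) = z := by
    calc g * j * g⁻¹ * (g * j * g⁻¹) = g * (j * j) * g⁻¹ := by group
      _ = z := by rw [hq.j2, hgz]
  have hn : p * (g * j * g⁻¹) ≠ (g * j * g⁻¹) * p := by
    intro h1
    apply hq.not_comm
    have h2 : p⁻¹ * (g * j * g⁻¹) = (g * j * g⁻¹) * p⁻¹ := (show Commute p (g * j * g⁻¹) from h1).inv_left.eq
    rw [← hgp] at h2
    have h3 : g * (p * j) * g⁻¹ = g * (j * p) * g⁻¹ := by
      calc g * (p * j) * g⁻¹ = g * p * g⁻¹ * (g * j * g⁻¹) := by group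
        _ = (g * j * g⁻¹) * (g * p * g⁻¹) := h2
        _ = g * (j * p) * g⁻¹ := by group
    exact mul_left_cancel (mul_right_cancel h3)
  -- `g² p g⁻² = p`, `g² j g⁻² = j`
  have e2 : ∀ x, g * g * x * (g * g)⁻¹ = g * (g * x * g⁻¹) * g⁻¹ := fun x => by group
  have em : ∀ x y, g * (x * y) * g⁻¹ = (g * x * g⁻¹) * (g * y * g⁻¹) := fun x y => by group
  have k1 : g * g * p * (g * g)⁻¹ = p := by
    rw [e2, hgp]
    calc g * p⁻¹ * g⁻¹ = (g * p * g⁻¹)⁻¹ := by group
      _ = p := by rw [hgp, inv_inv]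
  have k2 : g * g * j * (g * g)⁻¹ = j := by
    rw [e2]
    rcases four hl h.t3 hy hyz hn with h1 | h1 | h1 | h1
    · rw [h1, h1]
    · rw [h1, em, hgz, h1, hq.zz]
    · rw [h1, em, hgp, h1, hq.i_inv]
      simp only [mul_assoc, one_mul, mul_one, hq.z2, hq.zz, hq.iz, hq.jz, hq.izx, hq.jzx, hq.i2, hq.j2, hq.iix,
        hq.jjx, hq.ji, hq.jix]
    · rw [h1, em, em, hgp, h1, hgz, hq.i_inv]
      simp only [mul_assoc, one_mul, mul_one, hq.z2, hq.zz, hq.iz, hq.jz, hq.izx, hq.jzx, hq.i2, hq.j2, hq.iix,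
        hq.jjx, hq.ji, hq.jix]
  have k1' : g * g * p = p * (g * g) := mul_inv_eq_iff_eq_mul.1 k1
  have k2' : g * g * j = j * (g * g) := mul_inv_eq_iff_eq_mul.1 k2
  have hgg : cj (g * g) J = J := by rw [cj_mul, hg, hg]
  refine comm_of_four h hgg ?_
  intro x hx hxz
  have h1 : closure ({p, j} : Set G) ≤ centralizer ({g * g} : Set G) := by
    rw [closure_le]
    rintro y (rfl | rfl)
    · exact mem_centralizer_singleton_iff.2 k1'.symm
    · exact mem_centralizer_singleton_iff.2 k2'.symm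
  exact (mem_centralizer_singleton_iff.1 (h1 (mem_Q_of_sq hl h.t3 hx hxz))).symm

/-- if `g` commutes with `p` and `g²` acts as `p`, then `g` acts on `J` as an outer automorphism -/
theorem outer_conj (h : IsPr J z) {g : G} (hg : cj g J = J) {p : G} (hp : p ∈ J) (hpz : p * p = z)
    (hgp : g * p = p * g) (hgg : ∀ x ∈ J, g * g * x * (g * g)⁻¹ = p * x * p⁻¹) {x : G} (hx : x ∈ J) (hxz : x * x = z)
    (hn : p * x ≠ x * p) : g * x * g⁻¹ = p * x ∨ g * x * g⁻¹ = z * (p * x) := by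
  obtain ⟨j, d, hl⟩ := exists_sl h hp hpz
  have hgz := conj_z h hg
  have hq := hl.q
  have hgp' : g * p * g⁻¹ = p := by rw [hgp]; group
  have hy : g * x * g⁻¹ ∈ J := conj_mem hg hx
  have hyz : g * x * g⁻¹ * (g * x * g⁻¹) = z := by
    calc g * x * g⁻¹ * (g * x * g⁻¹) = g * (x * x) * g⁻¹ := by group
      _ = z := by rw [hxz, hgz]
  have hyn : p * (g * x * g⁻¹) ≠ (g * x * g⁻¹) * p := by
    intro h1
    apply hn
    nth_rw 1 [← hgp'] at h1
    nth_rw 2 [← hgp'] at h1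
    have h3 : g * (p * x) * g⁻¹ = g * (x * p) * g⁻¹ := by
      calc g * (p * x) * g⁻¹ = g * p * g⁻¹ * (g * x * g⁻¹) := by group
        _ = (g * x * g⁻¹) * (g * p * g⁻¹) := h1
        _ = g * (x * p) * g⁻¹ := by group
    exact mul_left_cancel (mul_right_cancel h3)
  have e2 : g * g * x * (g * g)⁻¹ = g * (g * x * g⁻¹) * g⁻¹ := by group
  have em : ∀ x y, g * (x * y) * g⁻¹ = (g * x * g⁻¹) * (g * y * g⁻¹) := fun x y => by group
  have h2 := hgg x hx
  rw [e2] at h2
  -- `p x p⁻¹ ≠ x`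
  have h3 : p * x * p⁻¹ ≠ x := fun h4 => hn (mul_inv_eq_iff_eq_mul.1 h4)
  -- excluded : `g x g⁻¹ = x`, `z x`
  have ex1 : g * x * g⁻¹ ≠ x := by
    intro h4
    rw [h4, h4] at h2
    exact h3 h2.symm
  have ex2 : g * x * g⁻¹ ≠ z * x := by
    intro h4
    rw [h4, em, hgz, h4, hq.zz] at h2
    exact h3 h2.symm
  rcases four hl h.t3 hx hxz hn with h4 | h4 | h4 | h4 <;> rcases four hl h.t3 hy hyz hyn with h5 | h5 | h5 | h5 <;>
    rw [h5] <;> rw [h5] at ex1 ex2 <;> subst h4 <;>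
    simp only [mul_assoc, one_mul, mul_one, hq.z2, hq.zz, hq.iz, hq.jz, hq.izx, hq.jzx, hq.i2, hq.j2, hq.iix,
        hq.jjx, hq.ji, hq.jix, true_or, or_true, ne_eq, not_true_eq_false] at ex1 ex2 ⊢

/-- and `[g, v]` is not a 2-element for `v ∈ J` of order 3 -/
theorem outer_pow (h : IsPr J z) {g : G} (hg : cj g J = J) {p : G} (hp : p ∈ J) (hpz : p * p = z)
    (hgp : g * p = p * g) (hgg : ∀ x ∈ J, g * g * x * (g * g)⁻¹ = p * x * p⁻¹) {v : G} (hv : v ∈ J)
    (hv3 : v * v * v = 1) (hv1 : v ≠ 1) (n : ℕ) : (g * v * g⁻¹ * v⁻¹) ^ 2 ^ n ≠ 1 := by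
  obtain ⟨j, d, hl⟩ := exists_sl h hp hpz
  have hgz := conj_z h hg
  have hgp' : g * p * g⁻¹ = p := by rw [hgp]; group
  set w := g * v * g⁻¹ * v⁻¹ with hw
  have hwJ : w ∈ J := mul_mem (conj_mem hg hv) (inv_mem hv)
  have hgv : g * v * g⁻¹ = w * v := by rw [hw]; group
  -- `p₁ = v p v⁻¹`
  have hp1 : v * p * v⁻¹ ∈ J := mul_mem (mul_mem hv hp) (inv_mem hv)
  have hp1z : (v * p * v⁻¹) * (v * p * v⁻¹) = z := by
    calc (v * p * v⁻¹) * (v * p * v⁻¹) = v * (p * p) * v⁻¹ := by group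
      _ = z := by rw [hpz, h.comm_z hv, mul_inv_cancel_right]
  have hn : p * (v * p * v⁻¹) ≠ (v * p * v⁻¹) * p := by
    intro h1
    -- `v p v⁻¹` commutes with `p`, so is `p` or `z p`
    have h2 : v * p * v⁻¹ = p ∨ v * p * v⁻¹ = z * p := by
      rcases hl.q.mem_cases (mem_Q_of_sq hl h.t3 hp1 hp1z) with h2 | h2 | h2 | h2 | h2 | h2 | h2 | h2
      · rw [h2, one_mul] at hp1z; exact absurd hp1z.symm hl.q.z1
      · rw [h2, hl.q.z2] at hp1z; exact absurd hp1z.symm hl.q.z1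
      · exact Or.inl h2
      · exact Or.inr h2
      · rw [h2] at h1; exact absurd h1 hl.q.not_comm
      · exfalso
        rw [h2, hl.q.izx, mul_assoc] at h1
        exact hl.q.not_comm (mul_left_cancel h1)
      · exfalso
        rw [h2] at h1
        have h3 : p * j = j * p := mul_left_cancel (a := p) (by rw [h1, mul_assoc])
        exact hl.q.not_comm h3
      · exfalso
        rw [h2, hl.q.izx, mul_assoc] at h1
        have h4 := mul_left_cancel h1
        have h3 : p * j = j * p := mul_left_cancel (a := p) (by rw [h4, mul_assoc])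
        exact hl.q.not_comm h3
    have h3 : v * p * v⁻¹ = p := by
      rcases h2 with h2 | h2
      · exact h2
      · exfalso
        have hvz : v * z * v⁻¹ = z := by rw [h.comm_z hv]; group
        have e : (v * v * v) * p * (v * v * v)⁻¹ = z * p := by
          calc (v * v * v) * p * (v * v * v)⁻¹ = v * (v * (v * p * v⁻¹) * v⁻¹) * v⁻¹ := by group
            _ = v * (v * (z * p) * v⁻¹) * v⁻¹ := by rw [h2]
            _ = v * ((v * z * v⁻¹) * (v * p * v⁻¹)) * v⁻¹ := by group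
            _ = v * (z * (z * p)) * v⁻¹ := by rw [hvz, h2]
            _ = v * p * v⁻¹ := by rw [hl.q.zz]
            _ = z * p := h2
        rw [hv3, inv_one, one_mul, mul_one] at e
        exact hl.q.z1 (mul_right_cancel (b := p) (by rw [one_mul]; exact e.symm))
    -- `v` centralises `⟨p⟩`: but `v` of order 3 moves it
    have h4 : v * p = p * v := mul_inv_eq_iff_eq_mul.1 h3
    obtain ⟨q, hq, hvq⟩ := hl.mem_cases hv
    have hqc : ∀ x ∈ closure ({p, j} : Set G), q * x * q⁻¹ = x ∨ q * x * q⁻¹ = z * x := by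
      intro x hx
      rcases hl.q.mem_cases hq with rfl | rfl | rfl | rfl | rfl | rfl | rfl | rfl <;>
      rcases hl.q.mem_cases hx with rfl | rfl | rfl | rfl | rfl | rfl | rfl | rfl <;>
      simp only [mul_inv_rev, hl.q.z_inv, hl.q.i_inv, hl.q.j_inv, inv_one,
        mul_assoc, one_mul, mul_one, hl.q.z2, hl.q.zz, hl.q.iz, hl.q.jz, hl.q.izx, hl.q.jzx, hl.q.i2, hl.q.j2,
        hl.q.iix, hl.q.jjx, hl.q.ji, hl.q.jix, true_or, or_true]
    have hne : ∀ x, (x = j ∨ x = p * j) → ∀ y, (y = x ∨ y = z * x) → y ≠ p := by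
      rintro x hx y hy rfl
      apply hl.q.not_comm
      have h5 : j = y ∨ j = z * y ∨ j = 1 ∨ j = z := by
        rcases hx with rfl | rfl <;> rcases hy with h6 | h6
        · exact Or.inl h6.symm
        · right; left; rw [h6, hl.q.zz]
        · exact Or.inr (Or.inr (Or.inl (mul_left_cancel (h6.symm.trans (mul_one y).symm))))
        · refine Or.inr (Or.inr (Or.inr ?_))
          rw [← hl.q.izx] at h6
          have h7 : z * j = 1 := mul_left_cancel (h6.symm.trans (mul_one y).symm)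
          rw [← hl.q.zz j, h7, mul_one]
      rcases h5 with h5 | h5 | h5 | h5 <;> rw [h5]
      · rw [hl.q.izx]; group
      · rw [one_mul, mul_one]
      · exact hl.q.iz
    rcases hvq with h5 | h5 | h5
    · -- `v ∈ Q` of order 3
      rw [← h5] at hq
      rcases hl.q.sq hq with h6 | h6
      · rcases hl.q.sq_cases hq h6 with h7 | h7
        · exact hv1 h7
        · rw [h7, hl.q.z2, one_mul] at hv3; exact hl.q.z1 hv3
      · rw [h6] at hv3
        have h7 : v = z := by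
          calc v = z * (z * v) := (hl.q.zz v).symm
            _ = z := by rw [hv3, mul_one]
        rw [h7, hl.q.z2] at h6
        exact hl.q.z1 h6.symm
    · have h6 : q * j * q⁻¹ = p := by
        rw [← hl.di]
        calc q * (d * p * d⁻¹) * q⁻¹ = (q * d) * p * (q * d)⁻¹ := by group
          _ = p := by rw [← h5, h3]
      exact hne j (Or.inl rfl) _ (hqc j (Qt.mem_j z _ _)) h6
    · have h6 : q * (p * j) * q⁻¹ = p := by
        rw [← hl.dj, ← hl.di]
        calc q * (d * (d * p * d⁻¹) * d⁻¹) * q⁻¹ = (q * (d * d)) * p * (q * (d * d))⁻¹ := by group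
          _ = p := by rw [← h5, h3]
      exact hne (p * j) (Or.inr rfl) _ (hqc _ (mul_mem (Qt.mem_i z _ _) (Qt.mem_j z _ _))) h6
  -- `w ∉ Q`
  have hwQ : ∀ y ∈ J, y * y = z → y ≠ w ∧ y * y ≠ w ∧ w ≠ 1 := by
    have key : w * (v * p * v⁻¹) * w⁻¹ ≠ v * p * v⁻¹ ∧ w * (v * p * v⁻¹) * w⁻¹ ≠ z * (v * p * v⁻¹) := by
      have h1 : g * (v * p * v⁻¹) * g⁻¹ = w * (v * p * v⁻¹) * w⁻¹ := by
        calc g * (v * p * v⁻¹) * g⁻¹ = (g * v * g⁻¹) * (g * p * g⁻¹) * (g * v * g⁻¹)⁻¹ := by group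
          _ = w * (v * p * v⁻¹) * w⁻¹ := by rw [hgv, hgp']; group
      rw [← h1]
      have h2 := outer_conj h hg hp hpz hgp hgg hp1 hp1z hn
      have h3 : ∀ y : G, p * y ≠ y := fun y h4 => hl.q.i_ne (by
        calc p = p * y * y⁻¹ := by group
          _ = 1 := by rw [h4, mul_inv_cancel])
      have h3' : ∀ y : G, p * y ≠ z * y := fun y h4 => by
        have h5 : p = z := mul_right_cancel h4
        have h6 := hpz
        rw [h5, hl.q.z2] at h6
        exact hl.q.z1 h6.symm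
      rcases h2 with h2 | h2 <;> rw [h2]
      · exact ⟨h3 _, h3' _⟩
      · refine ⟨fun h4 => h3' (v * p * v⁻¹) ?_, fun h4 => h3 (v * p * v⁻¹) (mul_left_cancel h4)⟩
        calc p * (v * p * v⁻¹) = z * (z * (p * (v * p * v⁻¹))) := (hl.q.zz _).symm
          _ = z * (v * p * v⁻¹) := by rw [h4]
    intro y hy hyz
    refine ⟨?_, ?_, ?_⟩
    · rintro rfl
      rcases q_conj_four hl h.t3 hy hyz hp1 hp1z with h4 | h4
      · exact key.1 h4
      · exact key.2 h4
    · intro h4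
      rw [hyz] at h4
      apply key.1
      rw [← h4, ← h.comm_z hp1]; group
    · intro h4
      apply key.1
      rw [h4]; group
  obtain ⟨y, hy, y', hy', hyz, hy'z, -⟩ := h.t3.ex4
  have w1 : w ≠ 1 := (hwQ y hy hyz).2.2
  have wz : w ≠ z := fun h1 => (hwQ y hy hyz).2.1 (by rw [hyz, h1])
  have w2 : w * w ≠ z := fun h1 => (hwQ w hwJ h1).1 rfl
  intro h1
  have h6 : w ^ 6 = 1 := by
    rcases h.t3.cases w hwJ with h2 | h2 | h2 | h2 | h2
    · exact absurd h2 w2
    · exact absurd h2 w1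
    · exact absurd h2 wz
    · calc w ^ 6 = (w * w * w) * (w * w * w) := by simp only [pow_succ, pow_zero, one_mul, mul_assoc]
        _ = 1 := by rw [h2, one_mul]
    · calc w ^ 6 = (w * w * w) * (w * w * w) := by simp only [pow_succ, pow_zero, one_mul, mul_assoc]
        _ = 1 := by rw [h2, h.t3.z_sq]
  have h7 : w ^ Nat.gcd 6 (2 ^ n) = 1 := pow_gcd_eq_one.2 ⟨h6, h1⟩
  have h8 : Nat.gcd 6 (2 ^ n) ∣ 2 := by
    have h9 : Nat.Coprime 3 (2 ^ n) := Nat.Coprime.pow_right n (by norm_num)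
    have h10 : Nat.gcd (3 * 2) (2 ^ n) = Nat.gcd 2 (2 ^ n) := Nat.Coprime.gcd_mul_left_cancel 2 h9
    rw [show (6 : ℕ) = 3 * 2 from rfl, h10]
    exact Nat.gcd_dvd_left _ _
  have h9 : w * w = 1 := by
    rw [← pow_two]
    obtain ⟨k, hk⟩ := h8
    rw [hk, pow_mul, h7, one_pow]
  rcases h.inv_eq hwJ h9 with h10 | h10
  · exact w1 h10
  · exact wz h10

end One

end Cfsg.Agent.OddHalf.NI3.Bad.ATwo

end

-- merged: Cfsg.Agent.OddHalf.NI3.Bad.APerm
section

/-!
# THEOREM NIB: the two factors of `C_N(z)` (helper967, after helper931's `RowD`)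

`Sheet N a b e A B`, `z = a b` : `O(C_N(z)) = 1`; every `SL₂(3)` with involution `z` which is subnormal in `C_N(z)` is
`A` or `B`; elements which normalise `N` and commute with `z` permute `{A, B}`; two frames with the same `z` have the
same factors.
-/

set_option autoImplicit false
set_option linter.style.haveILetI false
set_option linter.unusedSectionVars false

namespace Cfsg.Agent.OddHalf.NI3.Bad.ATwo

open Subgroup Cfsg Cfsg.Agent.Cit Cfsg.Agent.Cit.SolvTwo Cfsg.Agent.SignalizersComponents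

section

variable {G : Type*} [Group G] {N : Subgroup G} {a b e : G} {A B : Subgroup G}

theorem sq_of_comm (h : Sheet N a b e A B) {g : G} (hg : g ∈ N) (h1 : ∀ x ∈ A, g * x = x * g)
    (h2 : ∀ x ∈ B, g * x = x * g) : g * g = 1 := by
  rcases h.cAB g hg h1 h2 with h3 | h3 | h3 | h3
  · rw [h3, one_mul]
  · rw [h3, h.zz]
  · rw [h3, h.ee]
  · rw [h3, h.yy]

theorem not_both (h : Sheet N a b e A B) {x : G} {J : Subgroup G} (hJ : IsPr J x) (hJN : J ≤ N)
    (h1 : ∀ g ∈ J, ∀ c ∈ A, g * c = c * g) (h2 : ∀ g ∈ J, ∀ c ∈ B, g * c = c * g) : False := by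
  obtain ⟨p, hp, -, -, hpp, -⟩ := hJ.t3.ex4
  have h3 := sq_of_comm h (hJN hp) (h1 p hp) (h2 p hp)
  rw [hpp] at h3
  exact hJ.t3.z_ne h3

variable [Finite G]

/-- `O(C_N(z)) = 1` -/
theorem core_eq_bot (h : Sheet N a b e A B) :
    pPrimeCore 2 ↥(N ⊓ centralizer ({a * b} : Set G) : Subgroup G) = ⊥ := by
  haveI : Fact (Nat.Prime 2) := ⟨Nat.prime_two⟩
  set C : Subgroup G := N ⊓ centralizer ({a * b} : Set G) with hC
  have hn : (pPrimeCore 2 C).Normal := Lib.Cores.pPrimeCore_normal 2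
  have hodd : ¬ 2 ∣ Nat.card (pPrimeCore 2 C) := not_two_dvd_oddCore C
  have hO2 : ∀ o ∈ pPrimeCore 2 C, ∀ p ∈ pCore 2 C, o * p = p * o := by
    intro o ho p hp
    have hn2 : (pCore 2 C).Normal := Lib.Cores.pCore_normal 2
    have h1 : o * p * o⁻¹ * p⁻¹ ∈ pCore 2 C ⊓ pPrimeCore 2 C := by
      refine Subgroup.mem_inf.2 ⟨mul_mem (hn2.conj_mem p hp o) (inv_mem hp), ?_⟩
      have h2 := mul_mem ho (hn.conj_mem _ (inv_mem ho) p)
      have h3 : o * p * o⁻¹ * p⁻¹ = o * (p * o⁻¹ * p⁻¹) := by group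
      rwa [h3]
    rw [Lib.Cores.pCore_inf_pPrimeCore 2, mem_bot, mul_inv_eq_one, mul_inv_eq_iff_eq_mul] at h1
    exact h1
  have hsq : ∀ o ∈ pPrimeCore 2 C, o * o = 1 → o = 1 := by
    intro o ho h2
    by_contra hne
    apply hodd
    have h3 : orderOf o = 2 := orderOf_eq_prime (by rw [pow_two, h2]) hne
    have h4 := _root_.orderOf_dvd_natCard (⟨o, ho⟩ : pPrimeCore 2 C)
    rwa [Subgroup.orderOf_mk, h3] at h4
  -- elements of `O(C) ∩ A B` are trivial
  have key : ∀ o ∈ pPrimeCore 2 C, ∀ x ∈ A, ∀ y ∈ B, (o : G) = x * y → o = 1 := by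
    intro o ho x hx y hy hoxy
    have hx1 : x = 1 ∨ x = a * b := by
      refine h.prA.t3.cen x hx fun q hq hqq => ?_
      have hqP := (h.prA.subgroupOf h.snA.1).mem_pCore h.snA.2 (y := ⟨q, h.snA.1 hq⟩) hq (Subtype.ext hqq)
      have h3 : (o : G) * q = q * o := congrArg Subtype.val (hO2 o ho _ hqP)
      rw [hoxy] at h3
      have h4 : y * q = q * y := (h.AB q hq y hy).symm
      have h5 : x * q * y = q * x * y := by
        calc x * q * y = x * (y * q) := by rw [h4]; group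
          _ = q * (x * y) := by rw [← h3]; group
          _ = q * x * y := by group
      exact mul_right_cancel h5
    have hy1 : y = 1 ∨ y = a * b := by
      refine h.prB.t3.cen y hy fun q hq hqq => ?_
      have hqP := (h.prB.subgroupOf h.snB.1).mem_pCore h.snB.2 (y := ⟨q, h.snB.1 hq⟩) hq (Subtype.ext hqq)
      have h3 : (o : G) * q = q * o := congrArg Subtype.val (hO2 o ho _ hqP)
      rw [hoxy] at h3
      have h4 : x * q = q * x := h.AB x hx q hq
      have h5 : x * (y * q) = x * (q * y) := by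
        calc x * (y * q) = x * y * q := by group
          _ = q * (x * y) := h3
          _ = (q * x) * y := by group
          _ = x * (q * y) := by rw [← h4]; group
      exact mul_left_cancel h5
    refine hsq o ho (Subtype.ext ?_)
    show (o : G) * o = 1
    have hz := h.zz
    rw [hoxy]
    rcases hx1 with rfl | rfl <;> rcases hy1 with rfl | rfl
    · simp
    · rw [one_mul, hz]
    · rw [mul_one, hz]
    · rw [hz, one_mul]
  -- `A B` as a set
  have hAB : ∀ g ∈ A ⊔ B, ∃ x ∈ A, ∃ y ∈ B, g = x * y := fun g hg =>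
    (Cfsg.Agent.TwoFusion.ClosedFunctor.mem_sup_of_comm h.AB).1 hg
  have hcen : ∀ o ∈ pPrimeCore 2 C, ∀ g ∈ A ⊔ B, (o : G) * g = g * o := by
    intro o ho g hg
    have hgC : g ∈ C := (sup_le h.snA.1 h.snB.1) hg
    have hoC : (o : G) ∈ C := o.2
    have h1 : (o : G) * g * (o : G)⁻¹ ∈ A ⊔ B := by
      have h2 := h.nor (o : G) hoC.1 (mem_centralizer_singleton_iff.1 hoC.2)
      rw [← h2]
      exact conj_mem_cj hg
    have h3 : (o : G) * g * (o : G)⁻¹ * g⁻¹ ∈ A ⊔ B := mul_mem h1 (inv_mem hg)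
    have h4 : o * ⟨g, hgC⟩ * o⁻¹ * (⟨g, hgC⟩ : C)⁻¹ ∈ pPrimeCore 2 C := by
      have h5 := mul_mem ho (hn.conj_mem _ (inv_mem ho) (⟨g, hgC⟩ : C))
      have h6 : o * ⟨g, hgC⟩ * o⁻¹ * (⟨g, hgC⟩ : C)⁻¹ = o * (⟨g, hgC⟩ * o⁻¹ * (⟨g, hgC⟩ : C)⁻¹) := by group
      rwa [h6]
    obtain ⟨x, hx, y, hy, hxy⟩ := hAB _ h3
    have h7 := key _ h4 x hx y hy hxy
    have h8 : (o : G) * g * (o : G)⁻¹ * g⁻¹ = 1 := congrArg Subtype.val h7
    rw [mul_inv_eq_one, mul_inv_eq_iff_eq_mul] at h8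
    exact h8
  rw [eq_bot_iff]
  intro o ho
  rw [mem_bot]
  refine hsq o ho (Subtype.ext ?_)
  have hoC : (o : G) ∈ C := o.2
  exact sq_of_comm h hoC.1 (fun x hx => hcen o ho x (mem_sup_left hx)) (fun x hx => hcen o ho x (mem_sup_right hx))

/-- an `SL₂(3)` with involution `z`, subnormal in `C_N(z)`, is `A` or `B` -/
theorem eq_of_sn (h : Sheet N a b e A B) {J : Subgroup G} (hJ : IsPr J (a * b))
    (hs : Sn J (N ⊓ centralizer ({a * b} : Set G))) : J = A ∨ J = B := by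
  set C : Subgroup G := N ⊓ centralizer ({a * b} : Set G) with hC
  have hO : oddCore ↥C = ⊥ := core_eq_bot h
  have hz : ∀ x : C, x * ⟨a * b, h.snA.1 h.prA.mem⟩ = ⟨a * b, h.snA.1 h.prA.mem⟩ * x := fun x =>
    Subtype.ext (mem_centralizer_singleton_iff.1 (mem_inf.1 x.2).2)
  have kJ := hJ.subgroupOf hs.1
  have kA := h.prA.subgroupOf h.snA.1
  have kB := h.prB.subgroupOf h.snB.1
  rcases SLThree.eq_or_cm hO hz kJ.isSl kA.isSl hs.2 h.snA.2 with h1 | h1
  · left
    have := congrArg (fun K : Subgroup C => K.map C.subtype) h1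
    rwa [map_subgroupOf_eq_of_le hs.1, map_subgroupOf_eq_of_le h.snA.1] at this
  rcases SLThree.eq_or_cm hO hz kJ.isSl kB.isSl hs.2 h.snB.2 with h2 | h2
  · right
    have := congrArg (fun K : Subgroup C => K.map C.subtype) h2
    rwa [map_subgroupOf_eq_of_le hs.1, map_subgroupOf_eq_of_le h.snB.1] at this
  exfalso
  refine not_both h hJ (hs.1.trans inf_le_left) ?_ ?_
  · intro g hg c hc
    exact congrArg Subtype.val (h1 ⟨g, hs.1 hg⟩ hg ⟨c, h.snA.1 hc⟩ hc)
  · intro g hg c hc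
    exact congrArg Subtype.val (h2 ⟨g, hs.1 hg⟩ hg ⟨c, h.snB.1 hc⟩ hc)

omit [Finite G] in
theorem ne_AB (h : Sheet N a b e A B) : A ≠ B := by
  rintro rfl
  obtain ⟨p, hp, q, hq, -, -, hpq⟩ := h.prA.t3.ex4
  exact hpq (h.AB p hp q hq)

omit [Finite G] in
theorem cj_cent {g x : G} (hg : g * x = x * g) : cj g (centralizer ({x} : Set G)) = centralizer ({x} : Set G) := by
  ext y
  rw [mem_cj, mem_centralizer_singleton_iff, mem_centralizer_singleton_iff]
  have e1 : g⁻¹ * x = x * g⁻¹ := (show Commute g x from hg).inv_left.eq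
  constructor
  · intro h1
    calc y * x = g * (g⁻¹ * y * g) * (g⁻¹ * x) := by group
      _ = g * (g⁻¹ * y * g * x) * g⁻¹ := by rw [e1]; group
      _ = g * x * (g⁻¹ * y * g) * g⁻¹ := by rw [h1]; group
      _ = x * y := by rw [hg]; group
  · intro h1
    calc g⁻¹ * y * g * x = g⁻¹ * y * (g * x) := by group
      _ = g⁻¹ * (y * x) * g := by rw [hg]; group
      _ = (g⁻¹ * x) * y * g := by rw [h1]; group
      _ = x * (g⁻¹ * y * g) := by rw [e1]; group

/-- elements which normalise `N` and commute with `z` permute `{A, B}` -/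
theorem perm (h : Sheet N a b e A B) {g : G} (hg : cj g N = N) (hz : g * (a * b) = a * b * g) :
    (cj g A = A ∧ cj g B = B) ∨ (cj g A = B ∧ cj g B = A) := by
  have hzg : g * (a * b) * g⁻¹ = a * b := by rw [hz]; group
  have e1 : cj g (N ⊓ centralizer ({a * b} : Set G)) = N ⊓ centralizer ({a * b} : Set G) := by
    rw [Cit.cj_def, Subgroup.map_inf _ _ _ (MulAut.conj g).injective, ← Cit.cj_def, ← Cit.cj_def, hg, cj_cent hz]
  have pA : IsPr (cj g A) (a * b) := by
    have h2 := h.prA.map (MulAut.conj g).toMonoidHom (by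
      intro h3
      exact h.z_ne ((MulAut.conj g).injective (by simpa using h3)))
    have h4 : (MulAut.conj g).toMonoidHom (a * b) = a * b := hzg
    rwa [h4] at h2
  have pB : IsPr (cj g B) (a * b) := by
    have h2 := h.prB.map (MulAut.conj g).toMonoidHom (by
      intro h3
      exact h.z_ne ((MulAut.conj g).injective (by simpa using h3)))
    have h4 : (MulAut.conj g).toMonoidHom (a * b) = a * b := hzg
    rwa [h4] at h2
  have sA := h.snA.cj g
  have sB := h.snB.cj g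
  rw [e1] at sA sB
  have hne : cj g A ≠ cj g B := fun h3 => ne_AB h (by
    have := congrArg (cj g⁻¹) h3
    rwa [← cj_mul, ← cj_mul, inv_mul_cancel, cj_one, cj_one] at this)
  rcases eq_of_sn h pA sA with h1 | h1 <;> rcases eq_of_sn h pB sB with h2 | h2
  · exact absurd (h1.trans h2.symm) hne
  · exact Or.inl ⟨h1, h2⟩
  · exact Or.inr ⟨h1, h2⟩
  · exact absurd (h1.trans h2.symm) hne

/-- two frames of `N` with the same `z` -/
theorem unique (h : Sheet N a b e A B) {a' b' e' : G} {A' B' : Subgroup G} (h' : Sheet N a' b' e' A' B')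
    (hz : a' * b' = a * b) : (A' = A ∧ B' = B) ∨ (A' = B ∧ B' = A) := by
  have pA := h'.prA
  have pB := h'.prB
  have sA := h'.snA
  have sB := h'.snB
  rw [hz] at pA pB sA sB
  rcases eq_of_sn h pA sA with h1 | h1 <;> rcases eq_of_sn h pB sB with h2 | h2
  · exact absurd (h1.trans h2.symm) (ne_AB h')
  · exact Or.inl ⟨h1, h2⟩
  · exact Or.inr ⟨h1, h2⟩
  · exact absurd (h1.trans h2.symm) (ne_AB h')

end

end Cfsg.Agent.OddHalf.NI3.Bad.ATwo

end

-- merged: Cfsg.Agent.OddHalf.NI3.Bad.ATor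
section

/-!
# THEOREM NIB, (3d)(a2): the torus of a frame (bb ODD #16572, helper967)

`Tor N a b e A B p q c` : `p ∈ A`, `q ∈ B` of order 4, `a = p q`, `c ∈ N` the rotation `a → b → e → a`, `p` commutes with
`c⁻¹ p c`.
* `Tor.conj_five` : an involution `x₁ x₂` of `O₂(A) O₂(B)` commuting with `a` conjugates `c⁻¹ p c` to `c⁻¹ q c`;
* `Tor.conj_seven` : and `c p c⁻¹` to `(c q c⁻¹)⁻¹`;
* `Tor.rot_or_refl` : an element which normalises `N` and centralises `A`, `B` fixes `p₅ = c⁻¹ p c` (rotation) or maps it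
  to `(c⁻¹ q c)⁻¹` (reflection);
* `Tor.refl_sq` : the square of a reflection centralises `c⁻¹ A c`, `c⁻¹ B c`;
* `Tor.false_of_refl` : a reflection `f`, `f² = 1`, with `p` in a 2-subgroup normalised by `C(f)`: contradiction.
-/

set_option autoImplicit false
set_option linter.style.haveILetI false
set_option linter.unusedSectionVars false

namespace Cfsg.Agent.OddHalf.NI3.Bad.ATwo

open Subgroup Cfsg Cfsg.Agent.Cit Cfsg.Agent.Cit.SolvTwo

structure Tor {G : Type*} [Group G] (N : Subgroup G) (a b e : G) (A B : Subgroup G) (p q c : G) : Prop where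
  pA : p ∈ A
  qB : q ∈ B
  cN : c ∈ N
  pp : p * p = a * b
  qq : q * q = a * b
  pq : a = p * q
  ca : c * a * c⁻¹ = b
  cb : c * b * c⁻¹ = e
  ce : c * e * c⁻¹ = a
  pc : p * (c⁻¹ * p * c) = c⁻¹ * p * c * p

section Basic

variable {G : Type*} [Group G] {N : Subgroup G} {a b e : G} {A B : Subgroup G}

theorem A_comm_z (h : Sheet N a b e A B) {x : G} (hx : x ∈ A) : x * (a * b) = a * b * x := h.prA.comm_z hx
theorem B_comm_z (h : Sheet N a b e A B) {x : G} (hx : x ∈ B) : x * (a * b) = a * b * x := h.prB.comm_z hx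

/-- elements of `N` commuting with `z` commute with `e` -/
theorem comm_e (h : Sheet N a b e A B) {x : G} (hx : x ∈ N) (hz : x * (a * b) = a * b * x) : x * e = e * x := by
  have h1 := h.y_comm x hx
  have h2 : a * b * (x * e) = a * b * (e * x) := by
    calc a * b * (x * e) = (a * b * x) * e := by group
      _ = x * (a * b * e) := by rw [← hz]; group
      _ = a * b * (e * x) := by rw [h1]; group
  exact mul_left_cancel h2

theorem A_comm_e (h : Sheet N a b e A B) {x : G} (hx : x ∈ A) : x * e = e * x := comm_e h (h.AN hx) (A_comm_z h hx)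
theorem B_comm_e (h : Sheet N a b e A B) {x : G} (hx : x ∈ B) : x * e = e * x := comm_e h (h.BN hx) (B_comm_z h hx)

theorem b_eq (h : Sheet N a b e A B) : b = a * (a * b) := by rw [← mul_assoc, h.aa, one_mul]

theorem ne_one (h : Sheet N a b e A B) : a ≠ 1 ∧ b ≠ 1 ∧ e ≠ 1 ∧ a ≠ b ∧ b ≠ e ∧ a ≠ e := by
  obtain ⟨c, -, h1, h2, h3⟩ := h.rot
  have hab : a ≠ b := fun h4 => h.z_ne (by rw [← h4, h.aa])
  have cinj : ∀ x y : G, c * x * c⁻¹ = c * y * c⁻¹ → x = y := fun x y h4 => mul_left_cancel (mul_right_cancel h4)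
  have hbe : b ≠ e := fun h4 => hab (cinj _ _ (by rw [h1, h2, h4]))
  have hea : e ≠ a := fun h4 => hbe (cinj _ _ (by rw [h2, h3, h4]))
  have ha1 : a ≠ 1 := by
    intro h4
    apply hab
    rw [← h1, h4]; group
  have hb1 : b ≠ 1 := by
    intro h4
    apply hbe
    rw [← h2, h4]; group
  have he1 : e ≠ 1 := by
    intro h4
    apply hea
    rw [← h3, h4]; group
  exact ⟨ha1, hb1, he1, hab, hbe, fun h4 => hea h4.symm⟩

/-- anticommuting elements of order 4 -/
theorem anti {J : Subgroup G} {z : G} (h : IsPr J z) {x y : G} (hx : x ∈ J) (hxz : x * x = z) (hy : y ∈ J)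
    (hyz : y * y = z) (hn : x * y ≠ y * x) : y * x = z * (x * y) := by
  obtain ⟨i, j, d, hl⟩ := h.sl
  rcases q_conj_four hl h.t3 hy hyz hx hxz with h1 | h1
  · exact absurd (mul_inv_eq_iff_eq_mul.1 h1).symm hn
  · rw [← mul_assoc]; exact mul_inv_eq_iff_eq_mul.1 h1

/-- `s = x₁ x₂` -/
theorem s_comm (h : Sheet N a b e A B) {p q x₁ x₂ : G} (hp : p ∈ A) (hq : q ∈ B) (hpz : p * p = a * b)
    (hqz : q * q = a * b) (hx₁ : x₁ ∈ A) (hx₂ : x₂ ∈ B) (h₁ : x₁ * x₁ = a * b) (h₂ : x₂ * x₂ = a * b)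
    (n₁ : p * x₁ ≠ x₁ * p) (n₂ : q * x₂ ≠ x₂ * q) : x₁ * x₂ * (p * q) = p * q * (x₁ * x₂) := by
  have e1 := anti h.prA hp hpz hx₁ h₁ n₁
  have e2 := anti h.prB hq hqz hx₂ h₂ n₂
  have c1 : x₂ * p = p * x₂ := (h.AB p hp x₂ hx₂).symm
  have c2 : x₁ * q = q * x₁ := h.AB x₁ hx₁ q hq
  have zA := A_comm_z h hp
  calc x₁ * x₂ * (p * q) = x₁ * (x₂ * p) * q := by group
    _ = (x₁ * p) * (x₂ * q) := by rw [c1]; group
    _ = a * b * (p * x₁) * (a * b * (q * x₂)) := by rw [e1, e2]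
    _ = a * b * (p * (x₁ * (a * b)) * (q * x₂)) := by group
    _ = a * b * (p * (a * b) * x₁ * (q * x₂)) := by rw [A_comm_z h hx₁]; group
    _ = a * b * (a * b) * (p * (x₁ * q) * x₂) := by rw [zA]; group
    _ = p * q * (x₁ * x₂) := by rw [h.zz, one_mul, c2]; group

theorem s_sq (h : Sheet N a b e A B) {x₁ x₂ : G} (hx₁ : x₁ ∈ A) (hx₂ : x₂ ∈ B) (h₁ : x₁ * x₁ = a * b)
    (h₂ : x₂ * x₂ = a * b) : (x₁ * x₂) * (x₁ * x₂) = 1 := by
  have c1 : x₂ * x₁ = x₁ * x₂ := (h.AB x₁ hx₁ x₂ hx₂).symm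
  calc (x₁ * x₂) * (x₁ * x₂) = x₁ * (x₂ * x₁) * x₂ := by group
    _ = (x₁ * x₁) * (x₂ * x₂) := by rw [c1]; group
    _ = 1 := by rw [h₁, h₂, h.zz]

variable [Finite G]

/-- if `P` normalises `N`, commutes with `z`, `p`, `q` and `P²` acts on `A` as `p` and on `B` as `q`, then
`s P s⁻¹ = a P` or `b P` -/
theorem twist (h : Sheet N a b e A B) {p q : G} (hp : p ∈ A) (hq : q ∈ B) (hpz : p * p = a * b) (hqz : q * q = a * b)
    (hpq : a = p * q) {P : G} (hPN : cj P N = N) (hPz : P * (a * b) = a * b * P) (hPp : P * p = p * P)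
    (hPA : ∀ x ∈ A, P * P * x * (P * P)⁻¹ = p * x * p⁻¹) (hPB : ∀ x ∈ B, P * P * x * (P * P)⁻¹ = q * x * q⁻¹)
    (hPa : P * a = a * P) {x₁ x₂ : G} (hx₁ : x₁ ∈ A) (hx₂ : x₂ ∈ B) (h₁ : x₁ * x₁ = a * b) (h₂ : x₂ * x₂ = a * b)
    (n₁ : p * x₁ ≠ x₁ * p) (n₂ : q * x₂ ≠ x₂ * q) :
    (cj P A = A ∧ cj P B = B ∧ P * q = q * P) ∧
      (x₁ * x₂ * P * (x₁ * x₂)⁻¹ = a * P ∨ x₁ * x₂ * P * (x₁ * x₂)⁻¹ = b * P) := by
  have hPq : P * q = q * P := by
    have e1 : q = p⁻¹ * a := by rw [hpq]; group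
    have e2 : P * p⁻¹ = p⁻¹ * P := (show Commute P p from hPp).inv_right.eq
    rw [e1]
    calc P * (p⁻¹ * a) = (P * p⁻¹) * a := by group
      _ = p⁻¹ * (P * a) := by rw [e2]; group
      _ = p⁻¹ * a * P := by rw [hPa]; group
  have hAB : cj P A = A ∧ cj P B = B := by
    rcases perm h hPN hPz with h3 | h3
    · exact h3
    · exfalso
      have h4 : P * p * P⁻¹ ∈ cj P A := conj_mem_cj hp
      rw [h3.1, hPp, mul_inv_cancel_right] at h4
      obtain ⟨y, hy, y', hy', hyz, hyz', hyn⟩ := h.prA.t3.ex4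
      -- `p ∈ A ∩ B` is central in `A`
      have h5 : p = 1 ∨ p = a * b := h.prA.t3.cen p hp fun y hy _ => (h.AB y hy p h4).symm
      rcases h5 with h5 | h5
      · rw [h5, one_mul] at hpz; exact h.z_ne hpz.symm
      · rw [h5, h.zz] at hpz; exact h.z_ne hpz.symm
  refine ⟨⟨hAB.1, hAB.2, hPq⟩, ?_⟩
  have k1 := outer_conj h.prA hAB.1 hp hpz hPp hPA hx₁ h₁ n₁
  have k2 := outer_conj h.prB hAB.2 hq hqz hPq hPB hx₂ h₂ n₂
  set s := x₁ * x₂ with hs
  have ss : s * s = 1 := s_sq h hx₁ hx₂ h₁ h₂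
  have sa : s * a = a * s := by rw [hpq]; exact s_comm h hp hq hpz hqz hx₁ hx₂ h₁ h₂ n₁ n₂
  have si : s⁻¹ = s := inv_eq_of_mul_eq_one_right ss
  have c2 : x₁ * q = q * x₁ := h.AB x₁ hx₁ q hq
  have em : P * s * P⁻¹ = (P * x₁ * P⁻¹) * (P * x₂ * P⁻¹) := by rw [hs]; group
  have zx : ∀ x ∈ A, x * (a * b) = a * b * x := fun x hx => A_comm_z h hx
  have zs : s * (a * b) = a * b * s := by
    rw [hs, mul_assoc, B_comm_z h hx₂, ← mul_assoc, A_comm_z h hx₁]; group
  have key : P * s * P⁻¹ = a * s ∨ P * s * P⁻¹ = b * s := by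
    have e0 : (p * x₁) * (q * x₂) = a * s := by
      calc (p * x₁) * (q * x₂) = p * (x₁ * q) * x₂ := by group
        _ = a * s := by rw [c2, hpq, hs]; group
    have zpx : (p * x₁) * (a * b) = a * b * (p * x₁) := zx _ (mul_mem hp hx₁)
    have ezb : a * b * (a * s) = b * s := by
      have : a * b * a = b := by
        rw [mul_assoc, ← h.ab, ← mul_assoc, h.aa, one_mul]
      rw [← mul_assoc, this]
    rcases k1 with k1 | k1 <;> rcases k2 with k2 | k2
    · left; rw [em, k1, k2, e0]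
    · right
      rw [em, k1, k2]
      calc p * x₁ * (a * b * (q * x₂)) = (p * x₁) * (a * b) * (q * x₂) := by group
        _ = a * b * ((p * x₁) * (q * x₂)) := by rw [zpx]; group
        _ = b * s := by rw [e0, ezb]
    · right
      rw [em, k1, k2]
      calc a * b * (p * x₁) * (q * x₂) = a * b * ((p * x₁) * (q * x₂)) := by group
        _ = b * s := by rw [e0, ezb]
    · left
      rw [em, k1, k2]
      calc a * b * (p * x₁) * (a * b * (q * x₂)) = a * b * ((p * x₁) * (a * b)) * (q * x₂) := by group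
        _ = (a * b) * (a * b) * ((p * x₁) * (q * x₂)) := by rw [zpx]; group
        _ = a * s := by rw [h.zz, one_mul, e0]
  -- from `P s P⁻¹ = u s` to `s P s⁻¹ = u P`
  have fin : ∀ u : G, s * u = u * s → P * s * P⁻¹ = u * s → s * P * s⁻¹ = u * P := by
    intro u hu h3
    have h4 : P * s = u * s * P := mul_inv_eq_iff_eq_mul.1 h3
    calc s * P * s⁻¹ = s * (P * s) := by rw [si]; group
      _ = (s * u) * s * P := by rw [h4]; group
      _ = u * (s * s) * P := by rw [hu]; group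
      _ = u * P := by rw [ss, mul_one]
  rcases key with k | k
  · exact Or.inl (fin a sa k)
  · refine Or.inr (fin b ?_ k)
    rw [b_eq h, ← mul_assoc, sa, mul_assoc, zs]; group

end Basic

/-! ### The torus -/

section

variable {G : Type*} [Group G] {N : Subgroup G} {a b e : G} {A B : Subgroup G} {p q c : G}

namespace Tor

theorem ca' (t : Tor N a b e A B p q c) : c⁻¹ * a * c = e := by rw [← t.ce]; group
theorem cb' (t : Tor N a b e A B p q c) : c⁻¹ * b * c = a := by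
  have := t.ca
  calc c⁻¹ * b * c = c⁻¹ * (c * a * c⁻¹) * c := by rw [t.ca]
    _ = a := by group
theorem ce' (t : Tor N a b e A B p q c) : c⁻¹ * e * c = b := by
  calc c⁻¹ * e * c = c⁻¹ * (c * b * c⁻¹) * c := by rw [t.cb]
    _ = b := by group

/-- conjugation by the rotation -/
theorem conj (t : Tor N a b e A B p q c) : Tor N b e a (cj c A) (cj c B) (c * p * c⁻¹) (c * q * c⁻¹) c where
  pA := conj_mem_cj t.pA
  qB := conj_mem_cj t.qB
  cN := t.cN
  pp := by
    calc c * p * c⁻¹ * (c * p * c⁻¹) = c * (p * p) * c⁻¹ := by group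
      _ = (c * a * c⁻¹) * (c * b * c⁻¹) := by rw [t.pp]; group
      _ = b * e := by rw [t.ca, t.cb]
  qq := by
    calc c * q * c⁻¹ * (c * q * c⁻¹) = c * (q * q) * c⁻¹ := by group
      _ = (c * a * c⁻¹) * (c * b * c⁻¹) := by rw [t.qq]; group
      _ = b * e := by rw [t.ca, t.cb]
  pq := by
    calc b = c * a * c⁻¹ := t.ca.symm
      _ = c * (p * q) * c⁻¹ := by rw [← t.pq]
      _ = c * p * c⁻¹ * (c * q * c⁻¹) := by group
  ca := t.cb
  cb := t.ce
  ce := t.ca
  pc := by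
    have h1 := t.pc
    calc c * p * c⁻¹ * (c⁻¹ * (c * p * c⁻¹) * c) = c * (p * (c⁻¹ * p * c)) * c⁻¹ := by group
      _ = c * (c⁻¹ * p * c * p) * c⁻¹ := by rw [h1]
      _ = c⁻¹ * (c * p * c⁻¹) * c * (c * p * c⁻¹) := by group

variable (h : Sheet N a b e A B) (t : Tor N a b e A B p q c)

theorem p_a (t : Tor N a b e A B p q c) (h : Sheet N a b e A B) : p * a = a * p := by
  rw [t.pq, ← mul_assoc, mul_assoc p q p, ← h.AB p t.pA q t.qB, mul_assoc]

theorem q_a (t : Tor N a b e A B p q c) (h : Sheet N a b e A B) : q * a = a * q := by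
  rw [t.pq, ← mul_assoc, ← h.AB p t.pA q t.qB]

theorem p_b (t : Tor N a b e A B p q c) (h : Sheet N a b e A B) : p * b = b * p := by
  rw [b_eq h, ← mul_assoc, t.p_a h, mul_assoc, A_comm_z h t.pA]; group

theorem q_b (t : Tor N a b e A B p q c) (h : Sheet N a b e A B) : q * b = b * q := by
  rw [b_eq h, ← mul_assoc, t.q_a h, mul_assoc, B_comm_z h t.qB]; group

theorem p_e (t : Tor N a b e A B p q c) (h : Sheet N a b e A B) : p * e = e * p := A_comm_e h t.pA
theorem q_e (t : Tor N a b e A B p q c) (h : Sheet N a b e A B) : q * e = e * q := B_comm_e h t.qB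

theorem conj_comm {x y : G} (hxy : x * y = y * x) (g : G) : (g⁻¹ * x * g) * (g⁻¹ * y * g) = (g⁻¹ * y * g) * (g⁻¹ * x * g) := by
  calc (g⁻¹ * x * g) * (g⁻¹ * y * g) = g⁻¹ * (x * y) * g := by group
    _ = g⁻¹ * (y * x) * g := by rw [hxy]
    _ = (g⁻¹ * y * g) * (g⁻¹ * x * g) := by group

theorem conj_comm' {x y : G} (hxy : x * y = y * x) (g : G) : (g * x * g⁻¹) * (g * y * g⁻¹) = (g * y * g⁻¹) * (g * x * g⁻¹) := by
  calc (g * x * g⁻¹) * (g * y * g⁻¹) = g * (x * y) * g⁻¹ := by group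
    _ = g * (y * x) * g⁻¹ := by rw [hxy]
    _ = (g * y * g⁻¹) * (g * x * g⁻¹) := by group

theorem p5_e (t : Tor N a b e A B p q c) (h : Sheet N a b e A B) : c⁻¹ * p * c * e = e * (c⁻¹ * p * c) := by
  have := conj_comm (t.p_a h) c
  rwa [t.ca'] at this

theorem p5_a (t : Tor N a b e A B p q c) (h : Sheet N a b e A B) : c⁻¹ * p * c * a = a * (c⁻¹ * p * c) := by
  have := conj_comm (t.p_b h) c
  rwa [t.cb'] at this

theorem p5_b (t : Tor N a b e A B p q c) (h : Sheet N a b e A B) : c⁻¹ * p * c * b = b * (c⁻¹ * p * c) := by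
  have := conj_comm (t.p_e h) c
  rwa [t.ce'] at this

theorem q5_e (t : Tor N a b e A B p q c) (h : Sheet N a b e A B) : c⁻¹ * q * c * e = e * (c⁻¹ * q * c) := by
  have := conj_comm (t.q_a h) c
  rwa [t.ca'] at this

theorem p7_b (t : Tor N a b e A B p q c) (h : Sheet N a b e A B) : c * p * c⁻¹ * b = b * (c * p * c⁻¹) := by
  have := conj_comm' (t.p_a h) c
  rwa [t.ca] at this

theorem p7_e (t : Tor N a b e A B p q c) (h : Sheet N a b e A B) : c * p * c⁻¹ * e = e * (c * p * c⁻¹) := by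
  have := conj_comm' (t.p_b h) c
  rwa [t.cb] at this

theorem p7_a (t : Tor N a b e A B p q c) (h : Sheet N a b e A B) : c * p * c⁻¹ * a = a * (c * p * c⁻¹) := by
  have := conj_comm' (t.p_e h) c
  rwa [t.ce] at this

theorem p7_p (t : Tor N a b e A B p q c) : c * p * c⁻¹ * p = p * (c * p * c⁻¹) := by
  have := conj_comm' t.pc c
  have e1 : c * (c⁻¹ * p * c) * c⁻¹ = p := by group
  rwa [e1] at this

theorem p5N (t : Tor N a b e A B p q c) (h : Sheet N a b e A B) : c⁻¹ * p * c ∈ N :=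
  mul_mem (mul_mem (inv_mem t.cN) (h.AN t.pA)) t.cN

theorem p7N (t : Tor N a b e A B p q c) (h : Sheet N a b e A B) : c * p * c⁻¹ ∈ N :=
  mul_mem (mul_mem t.cN (h.AN t.pA)) (inv_mem t.cN)

theorem p5_sq (t : Tor N a b e A B p q c) : c⁻¹ * p * c * (c⁻¹ * p * c) = e * a := by
  calc c⁻¹ * p * c * (c⁻¹ * p * c) = c⁻¹ * (p * p) * c := by group
    _ = (c⁻¹ * a * c) * (c⁻¹ * b * c) := by rw [t.pp]; group
    _ = e * a := by rw [t.ca', t.cb']

theorem q5_sq (t : Tor N a b e A B p q c) : c⁻¹ * q * c * (c⁻¹ * q * c) = e * a := by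
  calc c⁻¹ * q * c * (c⁻¹ * q * c) = c⁻¹ * (q * q) * c := by group
    _ = (c⁻¹ * a * c) * (c⁻¹ * b * c) := by rw [t.qq]; group
    _ = e * a := by rw [t.ca', t.cb']

theorem p5q5 (t : Tor N a b e A B p q c) : c⁻¹ * p * c * (c⁻¹ * q * c) = e := by
  calc c⁻¹ * p * c * (c⁻¹ * q * c) = c⁻¹ * (p * q) * c := by group
    _ = e := by rw [← t.pq, t.ca']

theorem p7_sq (t : Tor N a b e A B p q c) : c * p * c⁻¹ * (c * p * c⁻¹) = b * e := t.conj.pp

/-- `q₅ = a p₅` -/
theorem q5_eq (t : Tor N a b e A B p q c) (h : Sheet N a b e A B) : c⁻¹ * q * c = a * (c⁻¹ * p * c) := by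
  apply mul_left_cancel (a := c⁻¹ * p * c)
  rw [t.p5q5]
  calc e = e * (a * a) := by rw [h.aa, mul_one]
    _ = c⁻¹ * p * c * (c⁻¹ * p * c) * a := by rw [t.p5_sq]; group
    _ = c⁻¹ * p * c * (a * (c⁻¹ * p * c)) := by rw [← t.p5_a h]; group

/-- `q₅⁻¹ = e p₅` -/
theorem q5_inv (t : Tor N a b e A B p q c) (h : Sheet N a b e A B) : (c⁻¹ * q * c)⁻¹ = e * (c⁻¹ * p * c) := by
  rw [inv_eq_iff_mul_eq_one]
  have h1 := t.p5q5
  have h2 : c⁻¹ * q * c * (c⁻¹ * p * c) = e := by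
    rw [t.q5_eq h, mul_assoc, t.p5_sq, ← mul_assoc, h.ae, mul_assoc, h.aa, mul_one]
  calc c⁻¹ * q * c * (e * (c⁻¹ * p * c)) = (c⁻¹ * q * c * e) * (c⁻¹ * p * c) := by group
    _ = e * (c⁻¹ * q * c * (c⁻¹ * p * c)) := by rw [t.q5_e h]; group
    _ = 1 := by rw [h2, h.ee]

/-- `e a` acts on `A` as `p`, on `B` as `q` -/
theorem ea_A (t : Tor N a b e A B p q c) (h : Sheet N a b e A B) {x : G} (hx : x ∈ A) :
    e * a * x * (e * a)⁻¹ = p * x * p⁻¹ := by
  have e1 : a * x * a⁻¹ = p * x * p⁻¹ := by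
    rw [t.pq]
    calc p * q * x * (p * q)⁻¹ = p * (q * x) * q⁻¹ * p⁻¹ := by group
      _ = p * x * p⁻¹ := by rw [← h.AB x hx q t.qB]; group
  have h2 : p * x * p⁻¹ ∈ A := mul_mem (mul_mem t.pA hx) (inv_mem t.pA)
  calc e * a * x * (e * a)⁻¹ = e * (a * x * a⁻¹) * e⁻¹ := by group
    _ = e * (p * x * p⁻¹) * e⁻¹ := by rw [e1]
    _ = p * x * p⁻¹ := by rw [← A_comm_e h h2]; group

theorem ea_B (t : Tor N a b e A B p q c) (h : Sheet N a b e A B) {x : G} (hx : x ∈ B) :
    e * a * x * (e * a)⁻¹ = q * x * q⁻¹ := by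
  have h2 : q * x * q⁻¹ ∈ B := mul_mem (mul_mem t.qB hx) (inv_mem t.qB)
  have e1 : a * x * a⁻¹ = q * x * q⁻¹ := by
    rw [t.pq]
    calc p * q * x * (p * q)⁻¹ = p * (q * x * q⁻¹) * p⁻¹ := by group
      _ = q * x * q⁻¹ := by rw [h.AB p t.pA _ h2]; group
  calc e * a * x * (e * a)⁻¹ = e * (a * x * a⁻¹) * e⁻¹ := by group
    _ = e * (q * x * q⁻¹) * e⁻¹ := by rw [e1]
    _ = q * x * q⁻¹ := by rw [← B_comm_e h h2]; group

/-- `b e` acts on `A` as `p`, on `B` as `q` -/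
theorem be_A (t : Tor N a b e A B p q c) (h : Sheet N a b e A B) {x : G} (hx : x ∈ A) :
    b * e * x * (b * e)⁻¹ = p * x * p⁻¹ := by
  have e0 : b * e = (a * b) * (e * a) := by
    symm
    calc (a * b) * (e * a) = a * b * (a * e) := by rw [h.ae]
      _ = a * (b * a) * e := by group
      _ = a * (a * b) * e := by rw [h.ab]
      _ = (a * a) * (b * e) := by group
      _ = b * e := by rw [h.aa, one_mul]
  have h2 : p * x * p⁻¹ ∈ A := mul_mem (mul_mem t.pA hx) (inv_mem t.pA)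
  calc b * e * x * (b * e)⁻¹ = (a * b) * (e * a * x * (e * a)⁻¹) * (a * b)⁻¹ := by rw [e0]; group
    _ = (a * b) * (p * x * p⁻¹) * (a * b)⁻¹ := by rw [t.ea_A h hx]
    _ = p * x * p⁻¹ := by rw [← A_comm_z h h2]; group

theorem be_B (t : Tor N a b e A B p q c) (h : Sheet N a b e A B) {x : G} (hx : x ∈ B) :
    b * e * x * (b * e)⁻¹ = q * x * q⁻¹ := by
  have e0 : b * e = (a * b) * (e * a) := by
    symm
    calc (a * b) * (e * a) = a * b * (a * e) := by rw [h.ae]
      _ = a * (b * a) * e := by group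
      _ = a * (a * b) * e := by rw [h.ab]
      _ = (a * a) * (b * e) := by group
      _ = b * e := by rw [h.aa, one_mul]
  have h2 : q * x * q⁻¹ ∈ B := mul_mem (mul_mem t.qB hx) (inv_mem t.qB)
  calc b * e * x * (b * e)⁻¹ = (a * b) * (e * a * x * (e * a)⁻¹) * (a * b)⁻¹ := by rw [e0]; group
    _ = (a * b) * (q * x * q⁻¹) * (a * b)⁻¹ := by rw [t.ea_B h hx]
    _ = q * x * q⁻¹ := by rw [← B_comm_z h h2]; group

/-- the frame `e, a, b` with the factors `J₅ = c⁻¹ A c`, `J₆ = c⁻¹ B c` -/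
theorem sheet5 (t : Tor N a b e A B p q c) (h : Sheet N a b e A B) : Sheet N e a b (cj c⁻¹ A) (cj c⁻¹ B) := by
  have h1 := h.conj c⁻¹
  rw [h.cj_self (inv_mem t.cN), inv_inv, t.ca', t.cb', t.ce'] at h1
  exact h1

theorem sheet7 (t : Tor N a b e A B p q c) (h : Sheet N a b e A B) : Sheet N b e a (cj c A) (cj c B) := by
  have h1 := h.conj c
  rw [h.cj_self t.cN, t.ca, t.cb, t.ce] at h1
  exact h1

theorem p5J (t : Tor N a b e A B p q c) : c⁻¹ * p * c ∈ cj c⁻¹ A := by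
  have := conj_mem_cj (g := c⁻¹) t.pA
  rwa [inv_inv] at this

theorem q5J (t : Tor N a b e A B p q c) : c⁻¹ * q * c ∈ cj c⁻¹ B := by
  have := conj_mem_cj (g := c⁻¹) t.qB
  rwa [inv_inv] at this

variable [Finite G]

/-- `p₅` normalises `A`, `B` and commutes with `q`; `s p₅ s⁻¹ = q₅` -/
theorem conj_five (t : Tor N a b e A B p q c) (h : Sheet N a b e A B) {x₁ x₂ : G} (hx₁ : x₁ ∈ A) (hx₂ : x₂ ∈ B)
    (h₁ : x₁ * x₁ = a * b) (h₂ : x₂ * x₂ = a * b) (n₁ : p * x₁ ≠ x₁ * p) (n₂ : q * x₂ ≠ x₂ * q) :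
    x₁ * x₂ * (c⁻¹ * p * c) * (x₁ * x₂)⁻¹ = c⁻¹ * q * c := by
  obtain ⟨ha1, hb1, he1, hab, hbe, hae⟩ := ne_one h
  have hz : c⁻¹ * p * c * (a * b) = a * b * (c⁻¹ * p * c) := by
    rw [← mul_assoc, t.p5_a h, mul_assoc, t.p5_b h]; group
  obtain ⟨-, k⟩ := twist h t.pA t.qB t.pp t.qq t.pq (P := c⁻¹ * p * c) (h.cj_self (t.p5N h)) hz t.pc.symm
    (fun x hx => by rw [t.p5_sq]; exact t.ea_A h hx) (fun x hx => by rw [t.p5_sq]; exact t.ea_B h hx) (t.p5_a h)
    hx₁ hx₂ h₁ h₂ n₁ n₂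
  rcases k with k | k
  · rw [k, t.q5_eq h]
  exfalso
  have h5 := t.sheet5 h
  have sN : x₁ * x₂ ∈ N := mul_mem (h.AN hx₁) (h.BN hx₂)
  have se : x₁ * x₂ * e = e * (x₁ * x₂) := by
    rw [mul_assoc, B_comm_e h hx₂, ← mul_assoc, A_comm_e h hx₁]; group
  have sa : x₁ * x₂ * a = a * (x₁ * x₂) := by
    nth_rw 1 [t.pq]; nth_rw 1 [t.pq]
    exact s_comm h t.pA t.qB t.pp t.qq hx₁ hx₂ h₁ h₂ n₁ n₂
  have sea : x₁ * x₂ * (e * a) = e * a * (x₁ * x₂) := by
    rw [← mul_assoc, se, mul_assoc, sa]; group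
  have hm : b * (c⁻¹ * p * c) ∈ cj c⁻¹ A ∨ b * (c⁻¹ * p * c) ∈ cj c⁻¹ B := by
    have h6 : x₁ * x₂ * (c⁻¹ * p * c) * (x₁ * x₂)⁻¹ ∈ cj (x₁ * x₂) (cj c⁻¹ A) := conj_mem_cj t.p5J
    rw [k] at h6
    rcases perm h5 (h.cj_self sN) sea with h7 | h7
    · left; rwa [h7.1] at h6
    · right; rwa [h7.1] at h6
  rcases hm with hm | hm
  · have h6 : b ∈ cj c⁻¹ A := by
      have := mul_mem hm (inv_mem t.p5J)
      rwa [mul_inv_cancel_right] at this
    rcases h5.prA.inv_eq h6 h.bb with h7 | h7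
    · exact hb1 h7
    · apply h.y_ne
      rw [h7]
      calc a * (e * a) * e = (a * e) * (a * e) := by group
        _ = (e * a) * (a * e) := by rw [h.ae]
        _ = e * (a * a) * e := by group
        _ = 1 := by rw [h.aa, mul_one, h.ee]
  · -- `b p₅ = b e q₅⁻¹`
    have e1 : c⁻¹ * p * c = e * (c⁻¹ * q * c)⁻¹ := by
      rw [t.q5_inv h, ← mul_assoc, h.ee, one_mul]
    rw [e1, ← mul_assoc] at hm
    have h6 : b * e ∈ cj c⁻¹ B := by
      have := mul_mem hm t.q5J
      rwa [inv_mul_cancel_right] at this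
    rcases h5.prB.inv_eq h6 (by
      calc b * e * (b * e) = b * (e * b) * e := by group
        _ = (b * b) * (e * e) := by rw [← h.be]; group
        _ = 1 := by rw [h.bb, h.ee, one_mul]) with h7 | h7
    · apply hbe
      calc b = b * (e * e) := by rw [h.ee, mul_one]
        _ = (b * e) * e := by group
        _ = e := by rw [h7, one_mul]
    · apply hab
      have h8 : b * e = a * e := by rw [h7, h.ae]
      exact (mul_right_cancel h8).symm

/-- `s (c p c⁻¹) s⁻¹ = (c q c⁻¹)⁻¹` -/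
theorem conj_seven (t : Tor N a b e A B p q c) (h : Sheet N a b e A B) {x₁ x₂ : G} (hx₁ : x₁ ∈ A) (hx₂ : x₂ ∈ B)
    (h₁ : x₁ * x₁ = a * b) (h₂ : x₂ * x₂ = a * b) (n₁ : p * x₁ ≠ x₁ * p) (n₂ : q * x₂ ≠ x₂ * q) :
    x₁ * x₂ * (c * p * c⁻¹) * (x₁ * x₂)⁻¹ = (c * q * c⁻¹)⁻¹ := by
  obtain ⟨ha1, hb1, he1, hab, hbe, hae⟩ := ne_one h
  have hz : c * p * c⁻¹ * (a * b) = a * b * (c * p * c⁻¹) := by
    rw [← mul_assoc, t.p7_a h, mul_assoc, t.p7_b h]; group
  obtain ⟨-, k⟩ := twist h t.pA t.qB t.pp t.qq t.pq (P := c * p * c⁻¹) (h.cj_self (t.p7N h)) hz t.p7_p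
    (fun x hx => by rw [t.p7_sq]; exact t.be_A h hx) (fun x hx => by rw [t.p7_sq]; exact t.be_B h hx) (t.p7_a h)
    hx₁ hx₂ h₁ h₂ n₁ n₂
  have e0 : (c * q * c⁻¹)⁻¹ = b * (c * p * c⁻¹) := by
    rw [inv_eq_iff_mul_eq_one]
    have h3 : b = c * p * c⁻¹ * (c * q * c⁻¹) := t.conj.pq
    have h4 : c * q * c⁻¹ * (c * p * c⁻¹) = b := by
      rw [h3]
      exact conj_comm' (h.AB p t.pA q t.qB).symm c
    have h5 : c * q * c⁻¹ * b = b * (c * q * c⁻¹) := by
      have := conj_comm' (t.q_a h) c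
      rwa [t.ca] at this
    calc c * q * c⁻¹ * (b * (c * p * c⁻¹)) = (c * q * c⁻¹ * b) * (c * p * c⁻¹) := by group
      _ = b * (c * q * c⁻¹ * (c * p * c⁻¹)) := by rw [h5]; group
      _ = 1 := by rw [h4, h.bb]
  rcases k with k | k
  swap
  · rw [k, e0]
  exfalso
  have h7 := t.sheet7 h
  have sN : x₁ * x₂ ∈ N := mul_mem (h.AN hx₁) (h.BN hx₂)
  have se : x₁ * x₂ * e = e * (x₁ * x₂) := by
    rw [mul_assoc, B_comm_e h hx₂, ← mul_assoc, A_comm_e h hx₁]; group
  have sa : x₁ * x₂ * a = a * (x₁ * x₂) := by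
    nth_rw 1 [t.pq]; nth_rw 1 [t.pq]
    exact s_comm h t.pA t.qB t.pp t.qq hx₁ hx₂ h₁ h₂ n₁ n₂
  have sz : x₁ * x₂ * (a * b) = a * b * (x₁ * x₂) := by
    rw [mul_assoc, B_comm_z h hx₂, ← mul_assoc, A_comm_z h hx₁]; group
  have sb : x₁ * x₂ * b = b * (x₁ * x₂) := by
    rw [b_eq h, ← mul_assoc, sa, mul_assoc, sz]; group
  have sbe : x₁ * x₂ * (b * e) = b * e * (x₁ * x₂) := by
    rw [← mul_assoc, sb, mul_assoc, se]; group
  have pJ : c * p * c⁻¹ ∈ cj c A := conj_mem_cj t.pA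
  have qJ : c * q * c⁻¹ ∈ cj c B := conj_mem_cj t.qB
  have hm : a * (c * p * c⁻¹) ∈ cj c A ∨ a * (c * p * c⁻¹) ∈ cj c B := by
    have h6 : x₁ * x₂ * (c * p * c⁻¹) * (x₁ * x₂)⁻¹ ∈ cj (x₁ * x₂) (cj c A) := conj_mem_cj pJ
    rw [k] at h6
    rcases perm h7 (h.cj_self sN) sbe with h8 | h8
    · left; rwa [h8.1] at h6
    · right; rwa [h8.1] at h6
  rcases hm with hm | hm
  · have h6 : a ∈ cj c A := by
      have := mul_mem hm (inv_mem pJ)
      rwa [mul_inv_cancel_right] at this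
    rcases h7.prA.inv_eq h6 h.aa with h8 | h8
    · exact ha1 h8
    · apply h.y_ne
      calc a * b * e = a * (b * e) := by group
        _ = 1 := by rw [← h8, h.aa]
  · have e1 : c * p * c⁻¹ = b * (c * q * c⁻¹)⁻¹ := by
      rw [e0, ← mul_assoc, h.bb, one_mul]
    rw [e1, ← mul_assoc] at hm
    have h6 : a * b ∈ cj c B := by
      have := mul_mem hm qJ
      rwa [inv_mul_cancel_right] at this
    rcases h7.prB.inv_eq h6 h.zz with h8 | h8
    · exact h.z_ne h8
    · apply hae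
      have h9 : a * b = e * b := by rw [h8, h.be]
      exact mul_right_cancel h9

/-- an element which normalises `N` and centralises `A` and `B` commutes with `a`, `b`, `e` -/
theorem comm_abe (t : Tor N a b e A B p q c) (h : Sheet N a b e A B) {g : G} (hg : cj g N = N)
    (hA : ∀ x ∈ A, g * x = x * g) (hB : ∀ x ∈ B, g * x = x * g) :
    g * a = a * g ∧ g * b = b * g ∧ g * e = e * g := by
  have gz : g * (a * b) = a * b * g := hA _ h.prA.mem
  have ga : g * a = a * g := by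
    have h1 := hA p t.pA
    have h2 := hB q t.qB
    calc g * a = (g * p) * q := by rw [t.pq]; group
      _ = p * (g * q) := by rw [h1]; group
      _ = a * g := by rw [h2, t.pq]; group
  have gb : g * b = b * g := by
    rw [b_eq h, ← mul_assoc, ga, mul_assoc, gz]; group
  refine ⟨ga, gb, ?_⟩
  -- `g y g⁻¹ = y`
  have hy : g * (a * b * e) * g⁻¹ = a * b * e := by
    have h1 : g * (a * b * e) * g⁻¹ ∈ N := by
      have := conj_mem_cj (g := g) h.yN
      rwa [hg] at this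
    rcases h.cen _ h1 (by
      intro x hx
      have h2 : g⁻¹ * x * g ∈ N := by rw [← mem_cj, hg]; exact hx
      have h3 := h.y_comm _ h2
      calc x * (g * (a * b * e) * g⁻¹) = g * ((g⁻¹ * x * g) * (a * b * e)) * g⁻¹ := by group
        _ = g * (a * b * e * (g⁻¹ * x * g)) * g⁻¹ := by rw [h3]
        _ = g * (a * b * e) * g⁻¹ * x := by group) with h2 | h2
    · exfalso
      apply h.y_ne
      calc a * b * e = g⁻¹ * (g * (a * b * e) * g⁻¹) * g := by group
        _ = 1 := by rw [h2]; group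
    · exact h2
  have hy' : g * (a * b * e) = a * b * e * g := mul_inv_eq_iff_eq_mul.1 hy
  have h3 : a * b * (g * e) = a * b * (e * g) := by
    calc a * b * (g * e) = (a * b * g) * e := by group
      _ = g * (a * b * e) := by rw [← gz]; group
      _ = a * b * (e * g) := by rw [hy']; group
  exact mul_left_cancel h3

/-- rotation or reflection -/
theorem rot_or_refl (t : Tor N a b e A B p q c) (h : Sheet N a b e A B) {g : G} (hg : cj g N = N)
    (hA : ∀ x ∈ A, g * x = x * g) (hB : ∀ x ∈ B, g * x = x * g) :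
    g * (c⁻¹ * p * c) * g⁻¹ = c⁻¹ * p * c ∨ g * (c⁻¹ * p * c) * g⁻¹ = (c⁻¹ * q * c)⁻¹ := by
  obtain ⟨ha1, hb1, he1, hab, hbe, hae⟩ := ne_one h
  obtain ⟨ga, gb, ge⟩ := t.comm_abe h hg hA hB
  have hz : c⁻¹ * p * c * (a * b) = a * b * (c⁻¹ * p * c) := by
    rw [← mul_assoc, t.p5_a h, mul_assoc, t.p5_b h]; group
  have hPA : ∀ x ∈ A, (c⁻¹ * p * c) * x * (c⁻¹ * p * c)⁻¹ ∈ A ∧ (c⁻¹ * p * c)⁻¹ * x * (c⁻¹ * p * c) ∈ A := by
    have k : cj (c⁻¹ * p * c) A = A := by
      rcases perm h (h.cj_self (t.p5N h)) hz with h3 | h3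
      · exact h3.1
      · exfalso
        have h4 : (c⁻¹ * p * c) * p * (c⁻¹ * p * c)⁻¹ ∈ cj (c⁻¹ * p * c) A := conj_mem_cj t.pA
        rw [h3.1, ← t.pc, mul_inv_cancel_right] at h4
        have h5 : p = 1 ∨ p = a * b := h.prA.t3.cen p t.pA fun y hy _ => (h.AB y hy p h4).symm
        have hpz := t.pp
        rcases h5 with h5 | h5
        · rw [h5, one_mul] at hpz; exact h.z_ne hpz.symm
        · rw [h5, h.zz] at hpz; exact h.z_ne hpz.symm
    intro x hx
    exact ⟨conj_mem k hx, by rw [← mem_cj, k]; exact hx⟩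
  have hPB : ∀ x ∈ B, (c⁻¹ * p * c) * x * (c⁻¹ * p * c)⁻¹ ∈ B ∧ (c⁻¹ * p * c)⁻¹ * x * (c⁻¹ * p * c) ∈ B := by
    have k : cj (c⁻¹ * p * c) B = B := by
      rcases perm h (h.cj_self (t.p5N h)) hz with h3 | h3
      · exact h3.2
      · exfalso
        have h4 : (c⁻¹ * p * c) * p * (c⁻¹ * p * c)⁻¹ ∈ cj (c⁻¹ * p * c) A := conj_mem_cj t.pA
        rw [h3.1, ← t.pc, mul_inv_cancel_right] at h4
        have h5 : p = 1 ∨ p = a * b := h.prA.t3.cen p t.pA fun y hy _ => (h.AB y hy p h4).symm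
        have hpz := t.pp
        rcases h5 with h5 | h5
        · rw [h5, one_mul] at hpz; exact h.z_ne hpz.symm
        · rw [h5, h.zz] at hpz; exact h.z_ne hpz.symm
    intro x hx
    exact ⟨conj_mem k hx, by rw [← mem_cj, k]; exact hx⟩
  set P := c⁻¹ * p * c with hP
  -- `u = g P g⁻¹ P⁻¹` centralises `A`, `B`
  have cent : ∀ x, (P⁻¹ * x * P) * g = g * (P⁻¹ * x * P) → x * g = g * x →
      (g * P * g⁻¹ * P⁻¹) * x = x * (g * P * g⁻¹ * P⁻¹) := by
    intro x h1 h2
    have h3 : g⁻¹ * (P⁻¹ * x * P) = (P⁻¹ * x * P) * g⁻¹ := by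
      calc g⁻¹ * (P⁻¹ * x * P) = g⁻¹ * ((P⁻¹ * x * P) * g) * g⁻¹ := by group
        _ = g⁻¹ * (g * (P⁻¹ * x * P)) * g⁻¹ := by rw [h1]
        _ = (P⁻¹ * x * P) * g⁻¹ := by group
    calc (g * P * g⁻¹ * P⁻¹) * x = g * P * (g⁻¹ * (P⁻¹ * x * P)) * P⁻¹ := by group
      _ = g * x * (P * g⁻¹ * P⁻¹) := by rw [h3]; group
      _ = x * (g * P * g⁻¹ * P⁻¹) := by rw [← h2]; group
  have huN : g * P * g⁻¹ * P⁻¹ ∈ N := by
    refine mul_mem ?_ (inv_mem (t.p5N h))
    have := conj_mem_cj (g := g) (t.p5N h)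
    rwa [hg] at this
  have hu := h.cAB _ huN (fun x hx => cent x (hA _ (hPA x hx).2).symm (hA x hx).symm)
    (fun x hx => cent x (hB _ (hPB x hx).2).symm (hB x hx).symm)
  -- `g P g⁻¹ ∈ J₅ ∪ J₆`
  have h5 := t.sheet5 h
  have gea : g * (e * a) = e * a * g := by
    rw [← mul_assoc, ge, mul_assoc, ga]; group
  have hm : ∀ u, g * P * g⁻¹ = u * P → u ∈ cj c⁻¹ A ∨ u * e ∈ cj c⁻¹ B := by
    intro u h1
    have h6 : g * P * g⁻¹ ∈ cj g (cj c⁻¹ A) := conj_mem_cj t.p5J
    rw [h1] at h6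
    rcases perm h5 hg gea with h7 | h7
    · left
      rw [h7.1] at h6
      have := mul_mem h6 (inv_mem t.p5J)
      rwa [mul_inv_cancel_right] at this
    · right
      rw [h7.1] at h6
      have e1 : P = e * (c⁻¹ * q * c)⁻¹ := by
        rw [t.q5_inv h, ← mul_assoc, h.ee, one_mul]
      rw [e1, ← mul_assoc] at h6
      have := mul_mem h6 t.q5J
      rwa [inv_mul_cancel_right] at this
  have e2 : ∀ u, g * P * g⁻¹ * P⁻¹ = u → g * P * g⁻¹ = u * P := fun u h1 => by rw [← h1]; group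
  rcases hu with h1 | h1 | h1 | h1
  · left
    have := e2 _ h1
    rwa [one_mul] at this
  · exfalso
    rcases hm _ (e2 _ h1) with h6 | h6
    · rcases h5.prA.inv_eq h6 h.zz with h7 | h7
      · exact h.z_ne h7
      · apply hbe
        have : a * b = a * e := by rw [h7, h.ae]
        exact mul_left_cancel this
    · rcases h5.prB.inv_eq h6 h.yy with h7 | h7
      · exact h.y_ne h7
      · apply hb1
        have h8 : a * b * e = a * 1 * e := by rw [h7, mul_one, h.ae]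
        exact mul_left_cancel (mul_right_cancel h8)
  · right
    rw [t.q5_inv h]
    exact e2 _ h1
  · exfalso
    rcases hm _ (e2 _ h1) with h6 | h6
    · rcases h5.prA.inv_eq h6 h.yy with h7 | h7
      · exact h.y_ne h7
      · apply hb1
        have h8 : a * b * e = a * 1 * e := by rw [h7, mul_one, h.ae]
        exact mul_left_cancel (mul_right_cancel h8)
    · have h7 : a * b * e * e = a * b := by rw [mul_assoc, h.ee, mul_one]
      rw [h7] at h6
      rcases h5.prB.inv_eq h6 h.zz with h8 | h8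
      · exact h.z_ne h8
      · apply hbe
        have : a * b = a * e := by rw [h8, h.ae]
        exact mul_left_cancel this

/-- there are `x₁ ∈ A`, `x₂ ∈ B` of order 4 which do not commute with `p`, `q` -/
theorem exists_s (t : Tor N a b e A B p q c) (h : Sheet N a b e A B) :
    ∃ x₁ ∈ A, ∃ x₂ ∈ B, x₁ * x₁ = a * b ∧ x₂ * x₂ = a * b ∧ p * x₁ ≠ x₁ * p ∧ q * x₂ ≠ x₂ * q := by
  obtain ⟨j, d, hl⟩ := exists_sl h.prA t.pA t.pp
  obtain ⟨j', d', hl'⟩ := exists_sl h.prB t.qB t.qq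
  exact ⟨j, hl.hj, j', hl'.hj, hl.q.j2, hl'.q.j2, hl.q.not_comm, hl'.q.not_comm⟩

/-- the conjugate of `q₅` under a reflection -/
theorem refl_q5 (t : Tor N a b e A B p q c) (h : Sheet N a b e A B) {g : G} (hg : cj g N = N)
    (hA : ∀ x ∈ A, g * x = x * g) (hB : ∀ x ∈ B, g * x = x * g)
    (hr : g * (c⁻¹ * p * c) * g⁻¹ = (c⁻¹ * q * c)⁻¹) : g * (c⁻¹ * q * c) * g⁻¹ = (c⁻¹ * p * c)⁻¹ := by
  obtain ⟨ga, gb, ge⟩ := t.comm_abe h hg hA hB
  have h1 : g * a * g⁻¹ = a := by rw [ga]; group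
  have h2 : g * (c⁻¹ * q * c) * g⁻¹ = a * (c⁻¹ * q * c)⁻¹ := by
    calc g * (c⁻¹ * q * c) * g⁻¹ = (g * a * g⁻¹) * (g * (c⁻¹ * p * c) * g⁻¹) := by rw [t.q5_eq h]; group
      _ = a * (c⁻¹ * q * c)⁻¹ := by rw [h1, hr]
  rw [h2, t.q5_eq h, mul_inv_rev]
  have h3 : (c⁻¹ * p * c)⁻¹ * a⁻¹ = a⁻¹ * (c⁻¹ * p * c)⁻¹ := by
    have := t.p5_a h
    rw [← mul_inv_rev, ← mul_inv_rev, this]
  rw [h3]; group

/-- the square of a reflection centralises `J₅`, `J₆` -/
theorem refl_sq (t : Tor N a b e A B p q c) (h : Sheet N a b e A B) {g : G} (hg : cj g N = N)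
    (hA : ∀ x ∈ A, g * x = x * g) (hB : ∀ x ∈ B, g * x = x * g)
    (hr : g * (c⁻¹ * p * c) * g⁻¹ = (c⁻¹ * q * c)⁻¹) :
    (∀ x ∈ cj c⁻¹ A, g * g * x = x * (g * g)) ∧ (∀ x ∈ cj c⁻¹ B, g * g * x = x * (g * g)) := by
  obtain ⟨ha1, hb1, he1, hab, hbe, hae⟩ := ne_one h
  obtain ⟨ga, gb, ge⟩ := t.comm_abe h hg hA hB
  obtain ⟨x₁, hx₁, x₂, hx₂, h₁, h₂, n₁, n₂⟩ := t.exists_s h
  have k5 := t.conj_five h hx₁ hx₂ h₁ h₂ n₁ n₂
  have rq := t.refl_q5 h hg hA hB hr
  have h5 := t.sheet5 h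
  have sN : x₁ * x₂ ∈ N := mul_mem (h.AN hx₁) (h.BN hx₂)
  have se : x₁ * x₂ * e = e * (x₁ * x₂) := by
    rw [mul_assoc, B_comm_e h hx₂, ← mul_assoc, A_comm_e h hx₁]; group
  have sa : x₁ * x₂ * a = a * (x₁ * x₂) := by
    nth_rw 1 [t.pq]; nth_rw 1 [t.pq]
    exact s_comm h t.pA t.qB t.pp t.qq hx₁ hx₂ h₁ h₂ n₁ n₂
  have sea : x₁ * x₂ * (e * a) = e * a * (x₁ * x₂) := by
    rw [← mul_assoc, se, mul_assoc, sa]; group
  have gea : g * (e * a) = e * a * g := by
    rw [← mul_assoc, ge, mul_assoc, ga]; group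
  have ss := s_sq h hx₁ hx₂ h₁ h₂
  have gs : g * (x₁ * x₂) = x₁ * x₂ * g := by
    calc g * (x₁ * x₂) = (g * x₁) * x₂ := by group
      _ = x₁ * (g * x₂) := by rw [hA x₁ hx₁]; group
      _ = x₁ * x₂ * g := by rw [hB x₂ hx₂]; group
  set s := x₁ * x₂ with hs
  have si : s⁻¹ = s := inv_eq_of_mul_eq_one_right ss
  set P := c⁻¹ * p * c with hP
  set Q := c⁻¹ * q * c with hQ
  -- elements of `J₅ ∩ J₆`
  have PJ6 : P ∉ cj c⁻¹ B := by
    intro h6
    have h7 : P = 1 ∨ P = e * a := h5.prA.t3.cen P t.p5J fun y hy _ => (h5.AB y hy P h6).symm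
    have h8 := t.p5_sq
    rcases h7 with h7 | h7
    · rw [← hP, h7, one_mul] at h8; exact h5.z_ne h8.symm
    · rw [← hP, h7, h5.zz] at h8; exact h5.z_ne h8.symm
  have QJ5 : Q ∉ cj c⁻¹ A := by
    intro h6
    have h7 : Q = 1 ∨ Q = e * a := h5.prB.t3.cen Q t.q5J fun y hy _ => (h5.AB Q h6 y hy)
    have h8 := t.q5_sq
    rcases h7 with h7 | h7
    · rw [← hQ, h7, one_mul] at h8; exact h5.z_ne h8.symm
    · rw [← hQ, h7, h5.zz] at h8; exact h5.z_ne h8.symm
  -- `s` and `g` swap `J₅`, `J₆`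
  have sw : cj s (cj c⁻¹ A) = cj c⁻¹ B ∧ cj s (cj c⁻¹ B) = cj c⁻¹ A := by
    rcases perm h5 (h.cj_self sN) sea with h6 | h6
    · exfalso
      have h7 : s * P * s⁻¹ ∈ cj s (cj c⁻¹ A) := conj_mem_cj t.p5J
      rw [k5, h6.1] at h7
      exact QJ5 h7
    · exact h6
  have gw : cj g (cj c⁻¹ A) = cj c⁻¹ B ∧ cj g (cj c⁻¹ B) = cj c⁻¹ A := by
    rcases perm h5 hg gea with h6 | h6
    · exfalso
      have h7 : g * P * g⁻¹ ∈ cj g (cj c⁻¹ A) := conj_mem_cj t.p5J
      rw [hr, h6.1] at h7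
      exact QJ5 ((inv_mem_iff (H := cj c⁻¹ A)).1 h7)
    · exact h6
  have e1 : cj (s * g) (cj c⁻¹ A) = cj c⁻¹ A := by rw [cj_mul, gw.1, sw.2]
  have e2 : cj (s * g) (cj c⁻¹ B) = cj c⁻¹ B := by rw [cj_mul, gw.2, sw.1]
  have kq : s * Q * s⁻¹ = P := by
    rw [← k5, si]
    calc s * (s * P * s) * s = (s * s) * P * (s * s) := by group
      _ = P := by rw [ss]; group
  have f1 : (s * g) * P * (s * g)⁻¹ = P⁻¹ := by
    calc (s * g) * P * (s * g)⁻¹ = s * (g * P * g⁻¹) * s⁻¹ := by group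
      _ = (s * Q * s⁻¹)⁻¹ := by rw [hr]; group
      _ = P⁻¹ := by rw [kq]
  have f2 : (s * g) * Q * (s * g)⁻¹ = Q⁻¹ := by
    calc (s * g) * Q * (s * g)⁻¹ = s * (g * Q * g⁻¹) * s⁻¹ := by group
      _ = (s * P * s⁻¹)⁻¹ := by rw [rq]; group
      _ = Q⁻¹ := by rw [k5]
  have e3 : (s * g) * (s * g) = g * g := by
    calc (s * g) * (s * g) = s * (g * s) * g := by group
      _ = (s * s) * (g * g) := by rw [gs]; group
      _ = g * g := by rw [ss, one_mul]
  have r1 := sq_comm_of_inv h5.prA e1 t.p5J t.p5_sq f1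
  have r2 := sq_comm_of_inv h5.prB e2 t.q5J t.q5_sq f2
  rw [e3] at r1 r2
  exact ⟨r1, r2⟩

/-- a reflection `f` with `f² = 1`, `p` in a 2-subgroup `Y` normalised by `C(f)`: contradiction -/
theorem false_of_refl (t : Tor N a b e A B p q c) (h : Sheet N a b e A B) {f : G} (hf : cj f N = N)
    (hA : ∀ x ∈ A, f * x = x * f) (hB : ∀ x ∈ B, f * x = x * f)
    (hr : f * (c⁻¹ * p * c) * f⁻¹ = (c⁻¹ * q * c)⁻¹) (hff : f * f = 1) {Y : Subgroup G} (hY : IsPGroup 2 Y)
    (hYn : ∀ x, x * f = f * x → ∀ y ∈ Y, x * y * x⁻¹ ∈ Y) (hpY : p ∈ Y) : False := by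
  obtain ⟨ha1, hb1, he1, hab, hbe, hae⟩ := ne_one h
  obtain ⟨fa, fb, fe⟩ := t.comm_abe h hf hA hB
  have h5 := t.sheet5 h
  have fea : f * (e * a) = e * a * f := by
    rw [← mul_assoc, fe, mul_assoc, fa]; group
  have QJ5 : c⁻¹ * q * c ∉ cj c⁻¹ A := by
    intro h6
    have h7 : c⁻¹ * q * c = 1 ∨ c⁻¹ * q * c = e * a := h5.prB.t3.cen _ t.q5J fun y hy _ => (h5.AB _ h6 y hy)
    have h8 := t.q5_sq
    rcases h7 with h7 | h7
    · rw [h7, one_mul] at h8; exact h5.z_ne h8.symm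
    · rw [h7, h5.zz] at h8; exact h5.z_ne h8.symm
  have fw : cj f (cj c⁻¹ A) = cj c⁻¹ B := by
    rcases perm h5 hf fea with h6 | h6
    · exfalso
      have h7 : f * (c⁻¹ * p * c) * f⁻¹ ∈ cj f (cj c⁻¹ A) := conj_mem_cj t.p5J
      rw [hr, h6.1] at h7
      exact QJ5 ((inv_mem_iff (H := cj c⁻¹ A)).1 h7)
    · exact h6.1
  -- `v` of order three
  obtain ⟨v, hv, hv3, hv1⟩ := h5.prA.t3.ex3
  have hv' : f * v * f⁻¹ ∈ cj c⁻¹ B := by rw [← fw]; exact conj_mem_cj hv
  have fi : f⁻¹ = f := inv_eq_of_mul_eq_one_right hff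
  have cvv : v * (f * v * f⁻¹) = (f * v * f⁻¹) * v := h5.AB v hv _ hv'
  -- `τ = v v'` commutes with `f`
  have hτ : (v * (f * v * f⁻¹)) * f = f * (v * (f * v * f⁻¹)) := by
    calc (v * (f * v * f⁻¹)) * f = (f * v * f⁻¹) * v * f := by rw [cvv]
      _ = f * (v * (f * v * f)) * (f * f)⁻¹ * 1 := by rw [fi, hff]; group
      _ = f * (v * (f * v * f⁻¹)) := by rw [hff, fi]; group
  -- `p` normalises `J₅`, `J₆`
  have pN : p ∈ N := h.AN t.pA
  have pea : p * (e * a) = e * a * p := by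
    rw [← mul_assoc, t.p_e h, mul_assoc, t.p_a h]; group
  have pw : cj p (cj c⁻¹ A) = cj c⁻¹ A ∧ cj p (cj c⁻¹ B) = cj c⁻¹ B := by
    rcases perm h5 (h.cj_self pN) pea with h6 | h6
    · exact h6
    · exfalso
      have h7 : p * (c⁻¹ * p * c) * p⁻¹ ∈ cj p (cj c⁻¹ A) := conj_mem_cj t.p5J
      rw [h6.1, t.pc, mul_inv_cancel_right] at h7
      have h8 : c⁻¹ * p * c = 1 ∨ c⁻¹ * p * c = e * a :=
        h5.prA.t3.cen _ t.p5J fun y hy _ => (h5.AB y hy _ h7).symm
      have h9 := t.p5_sq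
      rcases h8 with h8 | h8
      · rw [h8, one_mul] at h9; exact h5.z_ne h9.symm
      · rw [h8, h5.zz] at h9; exact h5.z_ne h9.symm
  -- `p²` acts on `J₅` as `p₅`
  have hpp : ∀ x ∈ cj c⁻¹ A, p * p * x * (p * p)⁻¹ = c⁻¹ * p * c * x * (c⁻¹ * p * c)⁻¹ := by
    intro x hx
    have hxN : x ∈ N := h5.AN hx
    -- `z = y e`
    have e0 : a * b = (a * b * e) * e := by rw [mul_assoc, h.ee, mul_one]
    have h1 : e * x * e⁻¹ = c⁻¹ * p * c * x * (c⁻¹ * p * c)⁻¹ := by
      have h2 : c⁻¹ * q * c * x = x * (c⁻¹ * q * c) := (h5.AB x hx _ t.q5J).symm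
      calc e * x * e⁻¹ = (c⁻¹ * p * c) * ((c⁻¹ * q * c) * x) * (c⁻¹ * q * c)⁻¹ * (c⁻¹ * p * c)⁻¹ := by
            rw [← t.p5q5]; group
        _ = c⁻¹ * p * c * x * (c⁻¹ * p * c)⁻¹ := by rw [h2]; group
    have hexN : e * x * e⁻¹ ∈ N := mul_mem (mul_mem h.eN hxN) (inv_mem h.eN)
    have h3 := h.y_comm _ hexN
    rw [← h1, t.pp]
    calc a * b * x * (a * b)⁻¹ = (a * b * e) * (e * x * e⁻¹) * (a * b * e)⁻¹ := by nth_rw 1 [e0]; nth_rw 2 [e0]; group
      _ = e * x * e⁻¹ := by rw [← h3]; group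
  -- the commutator
  set v' := f * v * f⁻¹ with hv'd
  have hcY : p * (v * v') * p⁻¹ * (v * v')⁻¹ ∈ Y := by
    have h1 := hYn _ hτ _ (inv_mem hpY)
    have h2 := mul_mem hpY h1
    have e1 : p * (v * v' * p⁻¹ * (v * v')⁻¹) = p * (v * v') * p⁻¹ * (v * v')⁻¹ := by group
    rwa [e1] at h2
  have x5 : p * v * p⁻¹ * v⁻¹ ∈ cj c⁻¹ A := mul_mem (conj_mem pw.1 hv) (inv_mem hv)
  have x6 : p * v' * p⁻¹ * v'⁻¹ ∈ cj c⁻¹ B := mul_mem (conj_mem pw.2 hv') (inv_mem hv')
  have e1 : p * (v * v') * p⁻¹ * (v * v')⁻¹ = (p * v * p⁻¹ * v⁻¹) * (p * v' * p⁻¹ * v'⁻¹) := by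
    have h1 : (p * v' * p⁻¹) * v⁻¹ = v⁻¹ * (p * v' * p⁻¹) :=
      (h5.AB v⁻¹ (inv_mem hv) _ (conj_mem pw.2 hv')).symm
    have h2 : v⁻¹ * v'⁻¹ = v'⁻¹ * v⁻¹ := h5.AB _ (inv_mem hv) _ (inv_mem hv')
    calc p * (v * v') * p⁻¹ * (v * v')⁻¹ = (p * v * p⁻¹) * (p * v' * p⁻¹) * (v'⁻¹ * v⁻¹) := by group
      _ = (p * v * p⁻¹) * ((p * v' * p⁻¹) * v⁻¹) * v'⁻¹ := by rw [← h2]; group
      _ = (p * v * p⁻¹ * v⁻¹) * (p * v' * p⁻¹ * v'⁻¹) := by rw [h1]; group
  rw [e1] at hcY
  obtain ⟨n, hn⟩ := hY ⟨_, hcY⟩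
  have hn' : ((p * v * p⁻¹ * v⁻¹) * (p * v' * p⁻¹ * v'⁻¹)) ^ 2 ^ n = 1 := congrArg Subtype.val hn
  have hcm : Commute (p * v * p⁻¹ * v⁻¹) (p * v' * p⁻¹ * v'⁻¹) := h5.AB _ x5 _ x6
  rw [hcm.mul_pow] at hn'
  have h6 : (p * v * p⁻¹ * v⁻¹) ^ 2 ^ n = ((p * v' * p⁻¹ * v'⁻¹) ^ 2 ^ n)⁻¹ := eq_inv_of_mul_eq_one_left hn'
  have h7 : (p * v * p⁻¹ * v⁻¹) ^ 2 ^ n ∈ cj c⁻¹ B := by rw [h6]; exact inv_mem (pow_mem x6 _)
  have h8 := h5.prA.t3.cen _ (pow_mem x5 (2 ^ n)) fun y hy _ => (h5.AB y hy _ h7).symm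
  have h9 : (p * v * p⁻¹ * v⁻¹) ^ 2 ^ (n + 1) = 1 := by
    rw [pow_succ, pow_mul]
    rcases h8 with h8 | h8
    · rw [h8, one_pow]
    · rw [h8, pow_two, h5.zz]
  exact outer_pow h5.prA pw.1 t.p5J t.p5_sq t.pc hpp hv hv3 hv1 _ h9

end Tor

end

end Cfsg.Agent.OddHalf.NI3.Bad.ATwo

end

-- merged: Cfsg.Agent.OddHalf.NI3.Bad.Tor
section

/-!
# NI over `F₃`, THEOREM NIB: the factors of `Ω(1234)` and the rotations

* `IsPr.quat` : the elements of order 4 of `SL₂(3)`;
* `perm_prod` : an element normalising `A B` and centralising `z` permutes `A`, `B`;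
* `Sheet.perm`;
* `Sheet.tor_of` : `p₅ = c⁻¹ p c` normalises `A` and `B` and commutes with `p` and `q`;
* `Sheet.tor`.
-/

set_option autoImplicit false
set_option linter.style.haveILetI false

namespace Cfsg.Agent.OddHalf.NI3.Bad

open Subgroup Cfsg Cfsg.Agent.Cit Cfsg.Agent.Cit.SolvTwo
open Cfsg.Agent.OddHalf.NI3
open Cfsg.Agent.Cit (cj)

/-! ### Quaternion computations in `SL₂(3)` -/

set_option maxRecDepth 100000 in
theorem sl23_quat : ∀ p : SL23, p * p = -1 → ∀ x : SL23, x * x = -1 →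
    (p * x = x * p → x = p ∨ x = -1 * p) ∧ (p * x ≠ x * p → x * p = -1 * (p * x) ∧
      ∀ y : SL23, y * y = -1 → p * y ≠ y * p → (y = x ∨ y = -1 * x ∨ y = p * x ∨ y = -1 * (p * x))) := by
  decide +kernel

section

variable {G : Type*} [Group G] {J A B : Subgroup G} {z : G}

theorem pr_map_z (h : IsPr J z) (e : ↥J ≃* SL23) : e ⟨z, h.mem⟩ = -1 := by
  have h4 : (e ⟨z, h.mem⟩) * (e ⟨z, h.mem⟩) = 1 := by
    rw [← map_mul, ← map_one e]; congr 1; exact Subtype.ext h.t3.z_sq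
  rcases SLThreeMain.sq_sl23 _ h4 with h5 | h5
  · exfalso; apply h.t3.z_ne
    have h6 : (⟨z, h.mem⟩ : J) = 1 := e.injective (by rw [h5, map_one])
    exact congrArg Subtype.val h6
  · exact h5

/-- the elements of order 4 of `SL₂(3)` -/
theorem pr_quat (h : IsPr J z) {p x : G} (hp : p ∈ J) (hx : x ∈ J) (pp : p * p = z) (xx : x * x = z) :
    (p * x = x * p → x = p ∨ x = z * p) ∧ (p * x ≠ x * p → x * p = z * (p * x) ∧
      ∀ y ∈ J, y * y = z → p * y ≠ y * p → (y = x ∨ y = z * x ∨ y = p * x ∨ y = z * (p * x))) := by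
  obtain ⟨e⟩ := h.iso
  have hz := pr_map_z h e
  have inj : ∀ u v : J, e u = e v → (u : G) = v := fun u v huv => congrArg Subtype.val (e.injective huv)
  have sq : ∀ (u : G) (hu : u ∈ J), u * u = z → e ⟨u, hu⟩ * e ⟨u, hu⟩ = -1 := by
    intro u hu huu
    rw [← map_mul, ← hz]; congr 1; exact Subtype.ext huu
  have key := sl23_quat (e ⟨p, hp⟩) (sq p hp pp) (e ⟨x, hx⟩) (sq x hx xx)
  refine ⟨fun hc => ?_, fun hc => ?_⟩
  · rcases key.1 (by rw [← map_mul, ← map_mul]; congr 1; exact Subtype.ext hc) with h1 | h1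
    · left; exact inj ⟨x, hx⟩ ⟨p, hp⟩ h1
    · right
      rw [← hz, ← map_mul] at h1
      exact inj ⟨x, hx⟩ (⟨z, h.mem⟩ * ⟨p, hp⟩) h1
  · have hc' : e ⟨p, hp⟩ * e ⟨x, hx⟩ ≠ e ⟨x, hx⟩ * e ⟨p, hp⟩ := by
      intro h1
      rw [← map_mul, ← map_mul] at h1
      exact hc (inj _ _ h1)
    obtain ⟨k1, k2⟩ := key.2 hc'
    refine ⟨?_, fun y hy yy hcy => ?_⟩
    · rw [← hz, ← map_mul, ← map_mul, ← map_mul] at k1
      exact inj (⟨x, hx⟩ * ⟨p, hp⟩) (⟨z, h.mem⟩ * (⟨p, hp⟩ * ⟨x, hx⟩)) k1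
    · have hcy' : e ⟨p, hp⟩ * e ⟨y, hy⟩ ≠ e ⟨y, hy⟩ * e ⟨p, hp⟩ := by
        intro h1
        rw [← map_mul, ← map_mul] at h1
        exact hcy (inj _ _ h1)
      rcases k2 (e ⟨y, hy⟩) (sq y hy yy) hcy' with h1 | h1 | h1 | h1
      · left; exact inj ⟨y, hy⟩ ⟨x, hx⟩ h1
      · right; left
        rw [← hz, ← map_mul] at h1
        exact inj ⟨y, hy⟩ (⟨z, h.mem⟩ * ⟨x, hx⟩) h1
      · right; right; left
        rw [← map_mul] at h1
        exact inj ⟨y, hy⟩ (⟨p, hp⟩ * ⟨x, hx⟩) h1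
      · right; right; right
        rw [← hz, ← map_mul, ← map_mul] at h1
        exact inj ⟨y, hy⟩ (⟨z, h.mem⟩ * (⟨p, hp⟩ * ⟨x, hx⟩)) h1

/-- an element of order 4 not commuting with `p` -/
theorem pr_exists (h : IsPr J z) {p : G} (hp : p ∈ J) (pp : p * p = z) :
    ∃ x ∈ J, x * x = z ∧ p * x ≠ x * p := by
  obtain ⟨x, hx, y, hy, hxx, hyy, hxy⟩ := h.t3.ex4
  by_cases h1 : p * x = x * p
  · refine ⟨y, hy, hyy, fun h2 => hxy ?_⟩
    have hpz : p * z = z * p := h.comm_z hp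
    rcases (pr_quat h hp hx pp hxx).1 h1 with rfl | rfl
    · exact h2
    · have hyz : y * z = z * y := h.comm_z hy
      calc z * p * y = z * (p * y) := by group
        _ = (z * y) * p := by rw [h2]; group
        _ = y * (z * p) := by rw [← hyz]; group
  · exact ⟨x, hx, hxx, h1⟩

/-! ### The permutation of `A`, `B` -/

variable [Finite G]

/-- `O(A B) = 1` -/
theorem core_prod (pA : IsPr A z) (pB : IsPr B z) (hc : ∀ x ∈ A, ∀ y ∈ B, x * y = y * x) :
    oddCore ↥(A ⊔ B) = ⊥ := by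
  haveI : Fact (Nat.Prime 2) := ⟨Nat.prime_two⟩
  set C := A ⊔ B with hC
  have hAC : A ≤ C := le_sup_left
  have hBC : B ≤ C := le_sup_right
  have hAB : ∀ g ∈ C, ∃ x ∈ A, ∃ y ∈ B, g = x * y := fun g hg =>
    (Cfsg.Agent.TwoFusion.ClosedFunctor.mem_sup_of_comm hc).1 hg
  have hnA : (A.subgroupOf C).Normal := by
    refine ⟨fun n hn g => ?_⟩
    rw [mem_subgroupOf] at hn ⊢
    obtain ⟨x, hx, y, hy, hxy⟩ := hAB g g.2
    have h1 : y * n * y⁻¹ = n := by rw [← hc n hn y hy]; group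
    have h2 : ((g * n * g⁻¹ : C) : G) = x * n * x⁻¹ := by
      show (g : G) * n * (g : G)⁻¹ = _
      calc (g : G) * n * (g : G)⁻¹ = x * (y * n * y⁻¹) * x⁻¹ := by rw [hxy]; group
        _ = x * n * x⁻¹ := by rw [h1]
    rw [h2]
    exact mul_mem (mul_mem hx hn) (inv_mem hx)
  have hnB : (B.subgroupOf C).Normal := by
    refine ⟨fun n hn g => ?_⟩
    rw [mem_subgroupOf] at hn ⊢
    obtain ⟨x, hx, y, hy, hxy⟩ := hAB g g.2
    have h1 : x * n * x⁻¹ = n := by rw [hc x hx n hn]; group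
    have h3 : x * y = y * x := hc x hx y hy
    have h2 : ((g * n * g⁻¹ : C) : G) = y * n * y⁻¹ := by
      show (g : G) * n * (g : G)⁻¹ = _
      calc (g : G) * n * (g : G)⁻¹ = y * (x * n * x⁻¹) * y⁻¹ := by rw [hxy, h3]; group
        _ = y * n * y⁻¹ := by rw [h1]
    rw [h2]
    exact mul_mem (mul_mem hy hn) (inv_mem hy)
  have hn : (pPrimeCore 2 C).Normal := Lib.Cores.pPrimeCore_normal 2
  have hodd : ¬ 2 ∣ Nat.card (pPrimeCore 2 C) := not_two_dvd_oddCore C
  have hO2 : ∀ o ∈ pPrimeCore 2 C, ∀ p ∈ pCore 2 C, o * p = p * o := by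
    intro o ho p hp
    have hn2 : (pCore 2 C).Normal := Lib.Cores.pCore_normal 2
    have h1 : o * p * o⁻¹ * p⁻¹ ∈ pCore 2 C ⊓ pPrimeCore 2 C := by
      refine Subgroup.mem_inf.2 ⟨mul_mem (hn2.conj_mem p hp o) (inv_mem hp), ?_⟩
      have h2 := mul_mem ho (hn.conj_mem _ (inv_mem ho) p)
      have h3 : o * p * o⁻¹ * p⁻¹ = o * (p * o⁻¹ * p⁻¹) := by group
      rwa [h3]
    rw [Lib.Cores.pCore_inf_pPrimeCore 2, mem_bot, mul_inv_eq_one, mul_inv_eq_iff_eq_mul] at h1
    exact h1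
  have hsq : ∀ o ∈ pPrimeCore 2 C, o * o = 1 → o = 1 := by
    intro o ho h2
    by_contra hne
    apply hodd
    have h3 : orderOf o = 2 := orderOf_eq_prime (by rw [pow_two, h2]) hne
    have h4 := _root_.orderOf_dvd_natCard (⟨o, ho⟩ : pPrimeCore 2 C)
    rwa [Subgroup.orderOf_mk, h3] at h4
  rw [eq_bot_iff]
  intro o ho
  rw [mem_bot]
  obtain ⟨x, hx, y, hy, hoxy⟩ := hAB o o.2
  have hx1 : x = 1 ∨ x = z := by
    refine pA.t3.cen x hx fun q hq hqq => ?_
    have hqP := (pA.subgroupOf hAC).mem_pCore hnA.isSubnormal (y := ⟨q, hAC hq⟩) hq (Subtype.ext hqq)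
    have h3 : (o : G) * q = q * o := congrArg Subtype.val (hO2 o ho _ hqP)
    rw [hoxy] at h3
    have h4 : y * q = q * y := (hc q hq y hy).symm
    have h5 : x * q * y = q * x * y := by
      calc x * q * y = x * (y * q) := by rw [h4]; group
        _ = q * (x * y) := by rw [← h3]; group
        _ = q * x * y := by group
    exact mul_right_cancel h5
  have hy1 : y = 1 ∨ y = z := by
    refine pB.t3.cen y hy fun q hq hqq => ?_
    have hqP := (pB.subgroupOf hBC).mem_pCore hnB.isSubnormal (y := ⟨q, hBC hq⟩) hq (Subtype.ext hqq)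
    have h3 : (o : G) * q = q * o := congrArg Subtype.val (hO2 o ho _ hqP)
    rw [hoxy] at h3
    have h4 : x * q = q * x := hc x hx q hq
    have h5 : x * (y * q) = x * (q * y) := by
      calc x * (y * q) = x * y * q := by group
        _ = q * (x * y) := h3
        _ = (q * x) * y := by group
        _ = x * (q * y) := by rw [← h4]; group
    exact mul_left_cancel h5
  refine hsq o ho (Subtype.ext ?_)
  show (o : G) * o = 1
  have hz := pA.t3.z_sq
  rw [hoxy]
  rcases hx1 with rfl | rfl <;> rcases hy1 with rfl | rfl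
  · simp
  · rw [one_mul, hz]
  · rw [mul_one, hz]
  · rw [hz, one_mul]

/-- an element normalising `A B` and centralising `z` permutes `A`, `B` -/
theorem perm_prod (pA : IsPr A z) (pB : IsPr B z) (hc : ∀ x ∈ A, ∀ y ∈ B, x * y = y * x) {g : G}
    (hg : cj g (A ⊔ B) = A ⊔ B) (hgz : g * z = z * g) :
    (cj g A = A ∧ cj g B = B) ∨ (cj g A = B ∧ cj g B = A) := by
  have hne : A ≠ B := by
    intro h1
    obtain ⟨x, hx, y, hy, -, -, hxy⟩ := pA.t3.ex4
    exact hxy (hc x hx y (h1 ▸ hy))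
  set C := A ⊔ B with hC
  have hAC : A ≤ C := le_sup_left
  have hBC : B ≤ C := le_sup_right
  have hO := core_prod pA pB hc
  have hgz' : g * z * g⁻¹ = z := by rw [hgz]; group
  have hAB : ∀ g ∈ C, ∃ x ∈ A, ∃ y ∈ B, g = x * y := fun g hg =>
    (Cfsg.Agent.TwoFusion.ClosedFunctor.mem_sup_of_comm hc).1 hg
  -- `C` normalises `A` and `B`
  have nA : ∀ m ∈ C, ∀ n ∈ A, m * n * m⁻¹ ∈ A := by
    intro m hm n hn
    obtain ⟨x, hx, y, hy, rfl⟩ := hAB m hm
    have h1 : y * n * y⁻¹ = n := by rw [← hc n hn y hy]; group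
    have h2 : x * y * n * (x * y)⁻¹ = x * (y * n * y⁻¹) * x⁻¹ := by group
    rw [h2, h1]
    exact mul_mem (mul_mem hx hn) (inv_mem hx)
  have nB : ∀ m ∈ C, ∀ n ∈ B, m * n * m⁻¹ ∈ B := by
    intro m hm n hn
    obtain ⟨x, hx, y, hy, rfl⟩ := hAB m hm
    have h1 : x * n * x⁻¹ = n := by rw [hc x hx n hn]; group
    have h3 : x * y = y * x := hc x hx y hy
    have h2 : y * x * n * (y * x)⁻¹ = y * (x * n * x⁻¹) * y⁻¹ := by group
    rw [h3, h2, h1]
    exact mul_mem (mul_mem hy hn) (inv_mem hy)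
  have hC' : ∀ m ∈ C, g⁻¹ * m * g ∈ C := by
    intro m hm
    rw [← hg] at hm
    exact mem_cj.1 hm
  have hsub : ∀ K : Subgroup G, K ≤ C → (∀ m ∈ C, ∀ n ∈ K, m * n * m⁻¹ ∈ K) → (K.subgroupOf C).IsSubnormal := by
    intro K hK h1
    have : (K.subgroupOf C).Normal := ⟨fun n hn m => h1 m m.2 n hn⟩
    exact this.isSubnormal
  have sA := hsub A hAC nA
  have sB := hsub B hBC nB
  have hcz : ∀ m : C, m * ⟨z, hAC pA.mem⟩ = ⟨z, hAC pA.mem⟩ * m := by
    intro m
    obtain ⟨x, hx, y, hy, hxy⟩ := hAB m m.2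
    apply Subtype.ext
    show (m : G) * z = z * m
    rw [hxy, mul_assoc, pB.comm_z hy, ← mul_assoc, pA.comm_z hx, mul_assoc]
  have key : ∀ K : Subgroup G, IsPr K z → K ≤ C → (K.subgroupOf C).IsSubnormal → K = A ∨ K = B := by
    intro K pK hK sK
    rcases SLThree.eq_or_cm hO hcz (pK.subgroupOf hK).isSl (pA.subgroupOf hAC).isSl sK sA with h1 | h1
    · left
      have := congrArg (fun L : Subgroup C => L.map C.subtype) h1
      rwa [map_subgroupOf_eq_of_le hK, map_subgroupOf_eq_of_le hAC] at this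
    rcases SLThree.eq_or_cm hO hcz (pK.subgroupOf hK).isSl (pB.subgroupOf hBC).isSl sK sB with h2 | h2
    · right
      have := congrArg (fun L : Subgroup C => L.map C.subtype) h2
      rwa [map_subgroupOf_eq_of_le hK, map_subgroupOf_eq_of_le hBC] at this
    exfalso
    obtain ⟨x, hx, y, hy, -, -, hxy⟩ := pK.t3.ex4
    obtain ⟨u, hu, v, hv, huv⟩ := hAB y (hK hy)
    have e1 : x * u = u * x := congrArg Subtype.val (h1 ⟨x, hK hx⟩ hx ⟨u, hAC hu⟩ hu)
    have e2 : x * v = v * x := congrArg Subtype.val (h2 ⟨x, hK hx⟩ hx ⟨v, hBC hv⟩ hv)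
    apply hxy
    rw [huv, ← mul_assoc, e1, mul_assoc, e2, mul_assoc]
  have hcjA : cj g A = A ∨ cj g A = B := by
    have h1 := pA.cj g
    rw [hgz'] at h1
    have hle : cj g A ≤ C := by
      rw [← hg]
      rintro _ ⟨x, hx, rfl⟩
      exact ⟨x, hAC hx, rfl⟩
    refine key _ h1 hle (hsub _ hle ?_)
    intro m hm n hn
    rw [mem_cj] at hn ⊢
    have h2 := nA _ (hC' m hm) _ hn
    have h3 : g⁻¹ * (m * n * m⁻¹) * g = g⁻¹ * m * g * (g⁻¹ * n * g) * (g⁻¹ * m * g)⁻¹ := by group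
    rw [h3]; exact h2
  have hcjB : cj g B = A ∨ cj g B = B := by
    have h1 := pB.cj g
    rw [hgz'] at h1
    have hle : cj g B ≤ C := by
      rw [← hg]
      rintro _ ⟨x, hx, rfl⟩
      exact ⟨x, hBC hx, rfl⟩
    refine key _ h1 hle (hsub _ hle ?_)
    intro m hm n hn
    rw [mem_cj] at hn ⊢
    have h2 := nB _ (hC' m hm) _ hn
    have h3 : g⁻¹ * (m * n * m⁻¹) * g = g⁻¹ * m * g * (g⁻¹ * n * g) * (g⁻¹ * m * g)⁻¹ := by group
    rw [h3]; exact h2
  have hinj : cj g A ≠ cj g B := fun h1 => hne (Subgroup.map_injective (MulAut.conj g).injective h1)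
  rcases hcjA with h1 | h1 <;> rcases hcjB with h2 | h2
  · exact absurd (h1.trans h2.symm) hinj
  · exact Or.inl ⟨h1, h2⟩
  · exact Or.inr ⟨h1, h2⟩
  · exact absurd (h1.trans h2.symm) hinj

end

/-! ### Rotations -/

namespace Sheet

variable {G : Type*} [Group G] {N : Subgroup G} {a b e : G} {A B : Subgroup G}

theorem e_ne_one (h : Sheet N a b e A B) : e ≠ 1 := by
  obtain ⟨c, -, -, h2, h3⟩ := h.rot
  intro he
  have hb : b = 1 := by
    have : b = c⁻¹ * (c * b * c⁻¹) * c := by group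
    rw [this, h2, he]; group
  have ha : a = 1 := by rw [← h3, he]; group
  exact h.z_ne (by rw [ha, hb, mul_one])

theorem a_ne_b (h : Sheet N a b e A B) : a ≠ b := by
  intro h1
  apply h.z_ne
  rw [h1, h.bb]

theorem e_ne_a (h : Sheet N a b e A B) : e ≠ a := by
  obtain ⟨c, -, h1, h2, h3⟩ := h.rot
  intro h4
  rw [h4, h1] at h3
  exact h.a_ne_b h3.symm

theorem b_ne_e (h : Sheet N a b e A B) : b ≠ e := by
  obtain ⟨c, -, h1, h2, h3⟩ := h.rot
  intro h4
  rw [h4, h3] at h2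
  exact h.e_ne_a h2.symm

theorem Az (h : Sheet N a b e A B) {x : G} (hx : x ∈ A) : x * (a * b) = a * b * x :=
  mem_centralizer_singleton_iff.1 (h.snA.le hx).2

theorem Bz (h : Sheet N a b e A B) {x : G} (hx : x ∈ B) : x * (a * b) = a * b * x :=
  mem_centralizer_singleton_iff.1 (h.snB.le hx).2

/-- `C_N(z) ≤ C(e)` -/
theorem comm_e (h : Sheet N a b e A B) {g : G} (hg : g ∈ N) (h1 : g * (a * b) = a * b * g) : g * e = e * g := by
  have hy := h.y_comm g hg
  have h2 : a * b * (g * e) = a * b * (e * g) := by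
    calc a * b * (g * e) = (a * b * g) * e := by group
      _ = g * (a * b * e) := by rw [← h1]; group
      _ = a * b * (e * g) := by rw [hy]; group
  exact mul_left_cancel h2

theorem Ae (h : Sheet N a b e A B) {x : G} (hx : x ∈ A) : x * e = e * x := h.comm_e (h.AN hx) (h.Az hx)

theorem Be (h : Sheet N a b e A B) {x : G} (hx : x ∈ B) : x * e = e * x := h.comm_e (h.BN hx) (h.Bz hx)

variable [Finite G]

/-- the elements of `C_N(z)` permute `A`, `B` -/
theorem perm (h : Sheet N a b e A B) {g : G} (hg : g ∈ N) (hgz : g * (a * b) = a * b * g) :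
    (cj g A = A ∧ cj g B = B) ∨ (cj g A = B ∧ cj g B = A) :=
  Bad.perm_prod h.prA h.prB h.AB (h.nor g hg hgz) hgz

/-- `p₅ = c⁻¹ p c` normalises `A` and `B` and commutes with `p` and `q` -/
theorem tor_of (h : Sheet N a b e A B) {p q c : G} (hp : p ∈ A) (hq : q ∈ B) (pp : p * p = a * b) (qq : q * q = a * b)
    (ha : a = p * q) (hc : c ∈ N) (c1 : c * a * c⁻¹ = b) (c2 : c * b * c⁻¹ = e) (c3 : c * e * c⁻¹ = a) :
    (cj (c⁻¹ * p * c) A = A ∧ cj (c⁻¹ * p * c) B = B) ∧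
      p * (c⁻¹ * p * c) = c⁻¹ * p * c * p ∧ q * (c⁻¹ * p * c) = c⁻¹ * p * c * q := by
  set z := a * b with hz
  set u := c⁻¹ * p * c with hu
  have zz : z * z = 1 := h.zz
  have hpq : p * q = q * p := h.AB p hp q hq
  have pz : p * z = z * p := h.Az hp
  have qz : q * z = z * q := h.Bz hq
  have pa : p * a = a * p := by rw [ha, mul_assoc, ← hpq]
  have qa : q * a = a * q := by rw [ha, ← mul_assoc, ← hpq]
  have baz : b = a * z := by rw [hz, ← mul_assoc, h.aa, one_mul]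
  have az : a * z = z * a := by rw [← baz, hz, h.ab, mul_assoc, h.aa, mul_one]
  have pb : p * b = b * p := by
    rw [baz, ← mul_assoc, pa, mul_assoc, pz, ← mul_assoc]
  have pe : p * e = e * p := h.Ae hp
  have ca : c * a = b * c := by rw [← c1]; group
  have cb : c * b = e * c := by rw [← c2]; group
  have ce : c * e = a * c := by rw [← c3]; group
  have ua : u * a = a * u := by
    calc u * a = c⁻¹ * p * (c * a) := by rw [hu]; group
      _ = c⁻¹ * (p * b) * c := by rw [ca]; group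
      _ = c⁻¹ * b * p * c := by rw [pb]; group
      _ = c⁻¹ * (b * c) * c⁻¹ * p * c := by group
      _ = a * u := by rw [← ca, hu]; group
  have ub : u * b = b * u := by
    calc u * b = c⁻¹ * p * (c * b) := by rw [hu]; group
      _ = c⁻¹ * (p * e) * c := by rw [cb]; group
      _ = c⁻¹ * e * p * c := by rw [pe]; group
      _ = c⁻¹ * (e * c) * c⁻¹ * p * c := by group
      _ = b * u := by rw [← cb, hu]; group
  have uz : u * z = z * u := by
    rw [hz, ← mul_assoc, ua, mul_assoc, ub, ← mul_assoc]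
  have uN : u ∈ N := mul_mem (mul_mem (inv_mem hc) (h.AN hp)) hc
  have uu : u * u = a * e := by
    calc u * u = c⁻¹ * (p * p) * c := by rw [hu]; group
      _ = c⁻¹ * (a * b) * c := by rw [pp, hz]
      _ = c⁻¹ * a * c * (c⁻¹ * b * c) := by group
      _ = c⁻¹ * (c * e * c⁻¹) * c * (c⁻¹ * (c * a * c⁻¹) * c) := by rw [c3, c1]
      _ = e * a := by group
      _ = a * e := h.ae.symm
  -- an element of order 4 of `A` not commuting with `p`
  obtain ⟨p', hp', pp', npp'⟩ := pr_exists h.prA hp pp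
  have e1 : p' * p = z * (p * p') := ((pr_quat h.prA hp hp' pp pp').2 npp').1
  have pz' : p' * z = z * p' := h.Az hp'
  have e2 : p * p' = z * (p' * p) := by rw [e1, ← mul_assoc z z, zz, one_mul]
  -- `u² = a e` acts on `A` as `p`
  have hact : ∀ x ∈ A, u * (u * x * u⁻¹) * u⁻¹ = p * x * p⁻¹ := by
    intro x hx
    have h1 : e * x = x * e := (h.Ae hx).symm
    have h2 : q * x = x * q := (h.AB x hx q hq).symm
    calc u * (u * x * u⁻¹) * u⁻¹ = (u * u) * x * (u * u)⁻¹ := by group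
      _ = a * (e * x) * e⁻¹ * a⁻¹ := by rw [uu]; group
      _ = a * x * a⁻¹ := by rw [h1]; group
      _ = p * (q * x) * q⁻¹ * p⁻¹ := by rw [ha]; group
      _ = p * x * p⁻¹ := by rw [h2]; group
  have hact' : u * (u * p' * u⁻¹) * u⁻¹ = z * p' := by
    rw [hact p' hp', e2]; group
  have hconjz : ∀ g : G, g * z = z * g → ∀ x : G, x * x = z → (g * x * g⁻¹) * (g * x * g⁻¹) = z := by
    intro g hg x hx
    calc (g * x * g⁻¹) * (g * x * g⁻¹) = g * (x * x) * g⁻¹ := by group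
      _ = z * g * g⁻¹ := by rw [hx, hg]
      _ = z := by group
  have hmem : ∀ (g : G) (K L : Subgroup G), cj g K = L → ∀ x ∈ K, g * x * g⁻¹ ∈ L := by
    intro g K L hKL x hx
    rw [← hKL]; exact ⟨x, hx, rfl⟩
  rcases h.perm uN uz with hs | hs
  · refine ⟨hs, ?_⟩
    have hP : u * p * u⁻¹ ∈ A := hmem u A A hs.1 p hp
    have hQ : u * q * u⁻¹ ∈ B := hmem u B B hs.2 q hq
    have hPP := hconjz u uz p pp
    have hPQ : (u * p * u⁻¹) * (u * q * u⁻¹) = a := by
      calc (u * p * u⁻¹) * (u * q * u⁻¹) = u * (p * q) * u⁻¹ := by group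
        _ = u * a * u⁻¹ := by rw [← ha]
        _ = a := by rw [ua]; group
    set P := u * p * u⁻¹ with hPdef
    set Q := u * q * u⁻¹ with hQdef
    have hpQ : p * Q = Q * p := h.AB p hp Q hQ
    have hcp : p * P = P * p := by
      have h1 : p * P * Q = P * p * Q := by
        calc p * P * Q = p * (P * Q) := by group
          _ = (P * Q) * p := by rw [hPQ, pa]
          _ = P * (Q * p) := by group
          _ = P * p * Q := by rw [← hpQ]; group
      exact mul_right_cancel h1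
    have hPp : P = p := by
      rcases (pr_quat h.prA hp hP pp hPP).1 hcp with h1 | h1
      · exact h1
      exfalso
      have hP' : u * p' * u⁻¹ ∈ A := hmem u A A hs.1 p' hp'
      have hPP' := hconjz u uz p' pp'
      have huz : u * z * u⁻¹ = z := by rw [uz]; group
      have hnc : p * (u * p' * u⁻¹) ≠ (u * p' * u⁻¹) * p := by
        intro h2
        apply npp'
        have h3 : p = z * (u * p * u⁻¹) := by rw [← hPdef, h1, ← mul_assoc, zz, one_mul]
        have h4 : u * (p * p') * u⁻¹ = u * (p' * p) * u⁻¹ := by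
          have h5 : z * (u * p * u⁻¹) * (u * p' * u⁻¹) = (u * p' * u⁻¹) * (z * (u * p * u⁻¹)) := by
            rw [← h3]; exact h2
          have h6 : (u * p' * u⁻¹) * z = z * (u * p' * u⁻¹) := by
            calc (u * p' * u⁻¹) * z = (u * p' * u⁻¹) * (u * z * u⁻¹) := by rw [huz]
              _ = u * (p' * z) * u⁻¹ := by group
              _ = (u * z * u⁻¹) * (u * p' * u⁻¹) := by rw [pz']; group
              _ = z * (u * p' * u⁻¹) := by rw [huz]
          have h7 : z * (u * (p * p') * u⁻¹) = z * (u * (p' * p) * u⁻¹) := by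
            calc z * (u * (p * p') * u⁻¹) = z * (u * p * u⁻¹) * (u * p' * u⁻¹) := by group
              _ = (u * p' * u⁻¹) * z * (u * p * u⁻¹) := by rw [h5]; group
              _ = z * (u * p' * u⁻¹) * (u * p * u⁻¹) := by rw [h6]
              _ = z * (u * (p' * p) * u⁻¹) := by group
          exact mul_left_cancel h7
        exact mul_left_cancel (mul_right_cancel h4)
      have hzp' : z * p' ≠ p' := by
        intro h2
        apply h.z_ne
        have h3 : z * p' = 1 * p' := by rw [h2, one_mul]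
        exact mul_right_cancel h3
      rcases ((pr_quat h.prA hp hp' pp pp').2 npp').2 _ hP' hPP' hnc with h2 | h2 | h2 | h2
      · apply hzp'
        rw [← hact', h2, h2]
      · apply hzp'
        have h3 : u * (z * p') * u⁻¹ = z * (z * p') := by
          calc u * (z * p') * u⁻¹ = (u * z * u⁻¹) * (u * p' * u⁻¹) := by group
            _ = z * (z * p') := by rw [huz, h2]
        rw [← hact', h2, h3, ← mul_assoc, zz, one_mul]
      · apply hzp'
        have h3 : u * (p * p') * u⁻¹ = z * p * (p * p') := by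
          calc u * (p * p') * u⁻¹ = (u * p * u⁻¹) * (u * p' * u⁻¹) := by group
            _ = z * p * (p * p') := by rw [← hPdef, h1, h2]
        rw [← hact', h2, h3]
        calc z * p * (p * p') = z * (p * p) * p' := by group
          _ = p' := by rw [pp, zz, one_mul]
      · apply hzp'
        have h3 : u * (z * (p * p')) * u⁻¹ = z * (z * p * (z * (p * p'))) := by
          calc u * (z * (p * p')) * u⁻¹ = (u * z * u⁻¹) * ((u * p * u⁻¹) * (u * p' * u⁻¹)) := by group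
            _ = z * (z * p * (z * (p * p'))) := by rw [huz, ← hPdef, h1, h2]
        rw [← hact', h2, h3]
        calc z * (z * p * (z * (p * p'))) = (z * z) * ((p * z) * (p * p')) := by group
          _ = z * (p * p) * p' := by rw [zz, pz]; group
          _ = p' := by rw [pp, zz, one_mul]
    have hQq : Q = q := by
      rw [hPp, ha] at hPQ
      exact mul_left_cancel hPQ
    constructor
    · have h1 : u * p * u⁻¹ = p := by rw [← hPdef]; exact hPp
      rw [mul_inv_eq_iff_eq_mul] at h1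
      exact h1.symm
    · have h1 : u * q * u⁻¹ = q := by rw [← hQdef]; exact hQq
      rw [mul_inv_eq_iff_eq_mul] at h1
      exact h1.symm
  · exfalso
    have hP : u * p * u⁻¹ ∈ B := hmem u A B hs.1 p hp
    have hQ : u * q * u⁻¹ ∈ A := hmem u B A hs.2 q hq
    have hPP := hconjz u uz p pp
    have hPQ : (u * p * u⁻¹) * (u * q * u⁻¹) = a := by
      calc (u * p * u⁻¹) * (u * q * u⁻¹) = u * (p * q) * u⁻¹ := by group
        _ = u * a * u⁻¹ := by rw [← ha]
        _ = a := by rw [ua]; group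
    set P := u * p * u⁻¹ with hPdef
    set Q := u * q * u⁻¹ with hQdef
    have hqQ : q * Q = Q * q := (h.AB Q hQ q hq).symm
    have hcq : q * P = P * q := by
      have h1 : q * P * Q = P * q * Q := by
        calc q * P * Q = q * (P * Q) := by group
          _ = (P * Q) * q := by rw [hPQ, qa]
          _ = P * (Q * q) := by group
          _ = P * q * Q := by rw [← hqQ]; group
      exact mul_right_cancel h1
    have hPq : P = q ∨ P = z * q := (pr_quat h.prB hq hP qq hPP).1 hcq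
    -- `q' = u p' u⁻¹`
    have hq' : u * p' * u⁻¹ ∈ B := hmem u A B hs.1 p' hp'
    have hqq' := hconjz u uz p' pp'
    set q' := u * p' * u⁻¹ with hq'def
    have hncq : q * q' ≠ q' * q := by
      intro h1
      apply npp'
      have hqz' : q' * z = z * q' := h.Bz hq'
      have h2 : P * q' = q' * P := by
        rcases hPq with h3 | h3
        · rw [h3, h1]
        · rw [h3]
          calc z * q * q' = z * (q * q') := by group
            _ = (z * q') * q := by rw [h1]; group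
            _ = q' * (z * q) := by rw [← hqz']; group
      have h4 : u * (p * p') * u⁻¹ = u * (p' * p) * u⁻¹ := by
        calc u * (p * p') * u⁻¹ = (u * p * u⁻¹) * (u * p' * u⁻¹) := by group
          _ = (u * p' * u⁻¹) * (u * p * u⁻¹) := h2
          _ = u * (p' * p) * u⁻¹ := by group
      exact mul_left_cancel (mul_right_cancel h4)
    have f1 : q' * q = z * (q * q') := ((pr_quat h.prB hq hq' qq hqq').2 hncq).1
    have hpq' : p' * q' = q' * p' := h.AB p' hp' q' hq'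
    have hq'z : q' * z = z * q' := h.Bz hq'
    -- `s = p' q'` commutes with `a`, `z`, `e`; `s u = z u s`
    set s := p' * q' with hs0
    have sa : s * a = a * s := by
      have g1 : q' * p = p * q' := (h.AB p hp q' hq').symm
      have g2 : p' * q = q * p' := h.AB p' hp' q hq
      calc s * a = p' * (q' * p) * q := by rw [hs0, ha]; group
        _ = (p' * p) * (q' * q) := by rw [g1]; group
        _ = (z * (p * p')) * (z * (q * q')) := by rw [e1, f1]
        _ = z * (p * (p' * z) * q * q') := by group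
        _ = z * ((p * z) * (p' * q) * q') := by rw [pz']; group
        _ = (z * z) * p * (q * p') * q' := by rw [pz, g2]; group
        _ = a * s := by rw [zz, hs0, ha]; group
    have sz : s * z = z * s := by
      rw [hs0, mul_assoc, hq'z, ← mul_assoc, pz', mul_assoc]
    have sN : s ∈ N := mul_mem (h.AN hp') (h.BN hq')
    have se : s * e = e * s := h.comm_e sN sz
    have su : u * s = z * s * u := by
      have h1 : u * s * u⁻¹ = z * s := by
        calc u * s * u⁻¹ = (u * p' * u⁻¹) * (u * (u * p' * u⁻¹) * u⁻¹) := by rw [hs0, hq'def]; group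
          _ = q' * (z * p') := by rw [hact', ← hq'def]
          _ = (q' * z) * p' := by group
          _ = z * (q' * p') := by rw [hq'z]; group
          _ = z * s := by rw [← hpq']
      rw [mul_inv_eq_iff_eq_mul] at h1
      exact h1
    -- `g = c s c⁻¹`
    set g := c * s * c⁻¹ with hg
    have gN : g ∈ N := mul_mem (mul_mem hc sN) (inv_mem hc)
    have gcj : ∀ x y : G, c * x = y * c → s * x = x * s → g * y = y * g := by
      intro x y hxy hsx
      have h1 : y = c * x * c⁻¹ := by rw [hxy]; group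
      rw [h1, hg]
      calc c * s * c⁻¹ * (c * x * c⁻¹) = c * (s * x) * c⁻¹ := by group
        _ = c * x * c⁻¹ * (c * s * c⁻¹) := by rw [hsx]; group
    have ga : g * a = a * g := gcj e a ce se
    have gb : g * b = b * g := gcj a b ca sa
    have gz : g * z = z * g := by rw [hz, ← mul_assoc, ga, mul_assoc, gb, ← mul_assoc]
    have gp : g * p * g⁻¹ = b * e * p := by
      have h1 : s * u * s⁻¹ = z * u := by
        have h2 : s * u = z * u * s := by
          calc s * u = (z * z) * s * u := by rw [zz, one_mul]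
            _ = z * (z * s * u) := by group
            _ = z * u * s := by rw [← su]; group
        rw [h2]; group
      calc g * p * g⁻¹ = c * (s * (c⁻¹ * p * c) * s⁻¹) * c⁻¹ := by rw [hg]; group
        _ = c * (z * (c⁻¹ * p * c)) * c⁻¹ := by rw [← hu, h1]
        _ = (c * a) * b * c⁻¹ * p := by rw [hz]; group
        _ = b * (c * b) * c⁻¹ * p := by rw [ca]; group
        _ = b * e * p := by rw [cb]; group
    have gq : (g * p * g⁻¹) * (g * q * g⁻¹) = a := by
      calc (g * p * g⁻¹) * (g * q * g⁻¹) = g * (p * q) * g⁻¹ := by group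
        _ = g * a * g⁻¹ := by rw [← ha]
        _ = a := by rw [ga]; group
    have gpp := hconjz g gz p pp
    rcases h.perm gN gz with ht | ht
    · have hR : g * p * g⁻¹ ∈ A := hmem g A A ht.1 p hp
      have hS : g * q * g⁻¹ ∈ B := hmem g B B ht.2 q hq
      have hpS : p * (g * q * g⁻¹) = (g * q * g⁻¹) * p := h.AB p hp _ hS
      have hcR : p * (g * p * g⁻¹) = (g * p * g⁻¹) * p := by
        have h1 : p * (g * p * g⁻¹) * (g * q * g⁻¹) = (g * p * g⁻¹) * p * (g * q * g⁻¹) := by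
          calc p * (g * p * g⁻¹) * (g * q * g⁻¹) = p * ((g * p * g⁻¹) * (g * q * g⁻¹)) := by group
            _ = ((g * p * g⁻¹) * (g * q * g⁻¹)) * p := by rw [gq, pa]
            _ = (g * p * g⁻¹) * ((g * q * g⁻¹) * p) := by group
            _ = (g * p * g⁻¹) * p * (g * q * g⁻¹) := by rw [← hpS]; group
        exact mul_right_cancel h1
      rcases (pr_quat h.prA hp hR pp gpp).1 hcR with h1 | h1
      · rw [gp] at h1
        have h2 : b * e = 1 := by
          have h3 : b * e * p = 1 * p := by rw [h1, one_mul]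
          exact mul_right_cancel h3
        apply h.b_ne_e
        have h3 : b * e = e * e := by rw [h2, h.ee]
        exact mul_right_cancel h3
      · rw [gp] at h1
        have h2 : b * e = b * a := by rw [← h.ab, ← hz]; exact mul_right_cancel h1
        exact h.e_ne_a (mul_left_cancel h2)
    · have hR : g * p * g⁻¹ ∈ B := hmem g A B ht.1 p hp
      have hS : g * q * g⁻¹ ∈ A := hmem g B A ht.2 q hq
      have hqS : q * (g * q * g⁻¹) = (g * q * g⁻¹) * q := (h.AB _ hS q hq).symm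
      have hcR : q * (g * p * g⁻¹) = (g * p * g⁻¹) * q := by
        have h1 : q * (g * p * g⁻¹) * (g * q * g⁻¹) = (g * p * g⁻¹) * q * (g * q * g⁻¹) := by
          calc q * (g * p * g⁻¹) * (g * q * g⁻¹) = q * ((g * p * g⁻¹) * (g * q * g⁻¹)) := by group
            _ = ((g * p * g⁻¹) * (g * q * g⁻¹)) * q := by rw [gq, qa]
            _ = (g * p * g⁻¹) * ((g * q * g⁻¹) * q) := by group
            _ = (g * p * g⁻¹) * q * (g * q * g⁻¹) := by rw [← hqS]; group
        exact mul_right_cancel h1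
      have hppz : p * p * z = 1 := by rw [pp, zz]
      have hqpb : q = b * p := by
        have h1 : b * p = q := by
          calc b * p = a * z * p := by rw [baz]
            _ = (q * p) * (z * p) := by rw [ha, hpq]; group
            _ = q * (p * p * z) := by rw [← pz]; group
            _ = q := by rw [hppz, mul_one]
        exact h1.symm
      rcases (pr_quat h.prB hq hR qq gpp).1 hcR with h1 | h1
      · rw [gp, hqpb] at h1
        have h2 : b * e = b * 1 := by rw [mul_one]; exact mul_right_cancel h1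
        exact h.e_ne_one (mul_left_cancel h2)
      · rw [gp, hqpb, ← mul_assoc] at h1
        have h2 : b * e = z * b := mul_right_cancel h1
        have h3 : z * b = a := by rw [hz, mul_assoc, h.bb, mul_one]
        apply h.y_ne
        rw [← hz, hz, mul_assoc, h2, h3, h.aa]

/-- the frame of the rotations -/
theorem tor (h : Sheet N a b e A B) : ∃ p ∈ A, ∃ q ∈ B, ∃ c ∈ N, p * p = a * b ∧ q * q = a * b ∧ a = p * q ∧
    c * a * c⁻¹ = b ∧ c * b * c⁻¹ = e ∧ c * e * c⁻¹ = a ∧ p * (c⁻¹ * p * c) = c⁻¹ * p * c * p := by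
  obtain ⟨p, hp, q, hq, pp, qq, ha⟩ := h.a_eq
  obtain ⟨c, hc, c1, c2, c3⟩ := h.rot
  exact ⟨p, hp, q, hq, c, hc, pp, qq, ha, c1, c2, c3, (h.tor_of hp hq pp qq ha hc c1 c2 c3).2.1⟩

end Sheet

end Cfsg.Agent.OddHalf.NI3.Bad

end

-- merged: Cfsg.Agent.OddHalf.NI3.Bad.ATwo
section

/-!
# THEOREM NIB, (3d)(a2) (bb ODD #16572, helper967)

`Dbl N D a b e e' A B A' B'` with `e e' = a b`; `D` has the frame `b, e, e'` with the factors `c A c⁻¹`, `c B c⁻¹` (`c ∈ N`
the rotation `a → b → e → a`).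
* `conj_D` : an involution `r = x₁ x₂` of `O₂(A) O₂(B)` commuting with `a` acts on `D` as a reflection: it maps
  `p₅ = c_D⁻¹ p c_D` to `q₅⁻¹`;
* `a_two` : `r` centralises `A'` and `B'`.
-/

set_option autoImplicit false
set_option linter.style.haveILetI false
set_option linter.unusedSectionVars false
set_option linter.unusedSimpArgs false

namespace Cfsg.Agent.OddHalf.NI3.Bad.ATwo

open Subgroup Cfsg Cfsg.Agent.Cit Cfsg.Agent.Cit.SolvTwo
open Cfsg.Agent.Cit.SLThree (Qt Sl)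
open Cfsg.Agent.OddHalf.D3 (Comp)

section

variable {G : Type*} [Group G]

/-- the torus for arbitrary `p`, `q`, `c` -/
theorem tor_mk [Finite G] {N : Subgroup G} {a b e : G} {A B : Subgroup G} {p q c : G} (h : Sheet N a b e A B)
    (hp : p ∈ A) (hq : q ∈ B) (pp : p * p = a * b) (qq : q * q = a * b) (ha : a = p * q) (hc : c ∈ N)
    (c1 : c * a * c⁻¹ = b) (c2 : c * b * c⁻¹ = e) (c3 : c * e * c⁻¹ = a) : Tor N a b e A B p q c :=
  ⟨hp, hq, hc, pp, qq, ha, c1, c2, c3, (h.tor_of hp hq pp qq ha hc c1 c2 c3).2.1⟩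

theorem tor_exists [Finite G] {N : Subgroup G} {a b e : G} {A B : Subgroup G} (h : Sheet N a b e A B) :
    ∃ p q c, Tor N a b e A B p q c := by
  obtain ⟨p, hp, q, hq, c, hc, h1, h2, h3, h4, h5, h6, h7⟩ := h.tor
  exact ⟨p, q, c, hp, hq, hc, h1, h2, h3, h4, h5, h6, h7⟩

/-! ### `O₂(C(x))` -/

theorem PP_two [Finite G] (x : G) : IsPGroup 2 (PP x) :=
  (Lib.Cores.pCore_isPGroup (G := ↥(centralizer ({x} : Set G))) 2).map _

theorem PP_norm {x g : G} (hg : g * x = x * g) : ∀ y ∈ PP x, g * y * g⁻¹ ∈ PP x := by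
  rintro _ ⟨y, hy, rfl⟩
  have hn : (pCore 2 ↥(centralizer ({x} : Set G))).Normal := Lib.Cores.pCore_normal 2
  exact ⟨⟨g, mem_centralizer_singleton_iff.2 hg⟩ * y * ⟨g, mem_centralizer_singleton_iff.2 hg⟩⁻¹,
    hn.conj_mem y hy _, rfl⟩

theorem PP_conj [Finite G] {x y : G} (n : G) (hy : y ∈ PP x) : n * y * n⁻¹ ∈ PP (n * x * n⁻¹) := by
  set K : Subgroup G := cj n (PP x) with hK
  have hKC : K ≤ centralizer ({n * x * n⁻¹} : Set G) := by
    rintro _ ⟨w, hw, rfl⟩
    rw [mem_centralizer_singleton_iff]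
    have h1 := PP_comm hw
    show n * w * n⁻¹ * (n * x * n⁻¹) = n * x * n⁻¹ * (n * w * n⁻¹)
    calc n * w * n⁻¹ * (n * x * n⁻¹) = n * (w * x) * n⁻¹ := by group
      _ = n * (x * w) * n⁻¹ := by rw [h1]
      _ = n * x * n⁻¹ * (n * w * n⁻¹) := by group
  have hy' : n * y * n⁻¹ ∈ K := conj_mem_cj hy
  rw [mem_PP (hKC hy')]
  have hle : K.subgroupOf (centralizer ({n * x * n⁻¹} : Set G)) ≤
      pCore 2 ↥(centralizer ({n * x * n⁻¹} : Set G)) := by
    refine Lib.Cores.le_pCore ?_ ?_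
    · refine ⟨fun w hw g => ?_⟩
      rw [mem_subgroupOf] at hw ⊢
      have hg := mem_centralizer_singleton_iff.1 g.2
      rw [hK, mem_cj] at hw ⊢
      have h2 : (n⁻¹ * (g : G) * n) * x = x * (n⁻¹ * (g : G) * n) := by
        calc (n⁻¹ * (g : G) * n) * x = n⁻¹ * ((g : G) * (n * x * n⁻¹)) * n := by group
          _ = n⁻¹ * ((n * x * n⁻¹) * g) * n := by rw [hg]
          _ = x * (n⁻¹ * (g : G) * n) := by group
      have h3 := PP_norm h2 _ hw
      have e1 : n⁻¹ * (g : G) * n * (n⁻¹ * (w : G) * n) * (n⁻¹ * (g : G) * n)⁻¹ =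
          n⁻¹ * ((g * w * g⁻¹ : ↥(centralizer ({n * x * n⁻¹} : Set G))) : G) * n := by
        simp only [Subgroup.coe_mul, Subgroup.coe_inv]; group
      rwa [e1] at h3
    · exact ((PP_two x).map _).comap_of_injective _ (subtype_injective _)
  exact hle (mem_subgroupOf.2 hy')

/-! ### Decomposition -/

/-- `r ∈ O₂(C(z)) ∩ C(w)` acts on `J` as an element of `O₂(J)` -/
theorem dec_one [Finite G] {J : Subgroup G} {z w : G} (hp : IsPr J z)
    (hs : Sn J (centralizer ({z} : Set G) ⊓ centralizer ({w} : Set G))) (hQ : ∀ x ∈ J, x * x = z → x ∈ PP z) {r : G}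
    (hr : r ∈ PP z) (hrw : r * w = w * r) :
    ∃ q ∈ J, (q * q = 1 ∨ q * q = z) ∧ q ∈ PP z ∧ ∀ y ∈ J, q⁻¹ * r * y = y * (q⁻¹ * r) := by
  obtain ⟨i, j, v, hl⟩ := hp.sl
  have hJw : J ≤ centralizer ({w} : Set G) := hs.1.trans inf_le_right
  have hJz : J ≤ centralizer ({z} : Set G) := hs.1.trans inf_le_left
  set S : Subgroup G := PP z ⊓ centralizer ({w} : Set G) with hS
  have hS2 : IsPGroup 2 S := (PP_two z).to_le inf_le_left
  have hQS : closure ({i, j} : Set G) ≤ S := by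
    rw [closure_le]
    rintro x (rfl | rfl)
    · exact mem_inf.2 ⟨hQ x hl.hi hl.q.i2, hJw hl.hi⟩
    · exact mem_inf.2 ⟨hQ x hl.hj hl.q.j2, hJw hl.hj⟩
  have hn : J ≤ normalizer (S : Set G) := by
    have key : ∀ g ∈ J, ∀ y ∈ S, g * y * g⁻¹ ∈ S := by
      intro g hg y hy
      obtain ⟨hy1, hy2⟩ := mem_inf.1 hy
      exact mem_inf.2 ⟨PP_norm (mem_centralizer_singleton_iff.1 (hJz hg)) y hy1,
        mul_mem (mul_mem (hJw hg) hy2) (inv_mem (hJw hg))⟩
    intro g hg
    rw [mem_normalizer_iff]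
    intro y
    refine ⟨key g hg y, fun hy => ?_⟩
    have := key g⁻¹ (inv_mem hg) _ hy
    have e1 : g⁻¹ * (g * y * g⁻¹) * g⁻¹⁻¹ = y := by group
    rwa [e1] at this
  have hB : Br S i j v := br_of_sn hl hs (inf_le_inf_right _ (PP_le z)) hS2 hn hQS
  obtain ⟨q, hq, c, -, hrc, hvc, hcq⟩ := decomp hl hS2 hQS hB
    (mem_inf.2 ⟨hr, mem_centralizer_singleton_iff.2 hrw⟩)
  refine ⟨q, hl.Qle hq, hl.q.sq hq, (mem_inf.1 (hQS hq)).1, ?_⟩
  have e1 : q⁻¹ * r = c := by rw [hrc]; group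
  rw [e1]
  have h1 : J ≤ centralizer ({c} : Set G) := by
    rw [hl.gen, closure_le]
    rintro x (rfl | rfl)
    · exact mem_centralizer_singleton_iff.2 (hcq _ (Qt.mem_i z _ _)).symm
    · exact mem_centralizer_singleton_iff.2 hvc
  intro y hy
  exact (mem_centralizer_singleton_iff.1 (h1 hy)).symm

/-- elements of `Q₈` commuting with `p` -/
theorem comm_four {J : Subgroup G} {z p : G} (hp : IsPr J z) (hpJ : p ∈ J) (hpz : p * p = z) {x : G} (hx : x ∈ J)
    (hx2 : x * x = 1 ∨ x * x = z) (hc : x * p = p * x) : (x = 1 ∨ x = z) ∨ (x = p ∨ x = z * p) := by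
  rcases hx2 with hx2 | hx2
  · exact Or.inl (hp.inv_eq hx hx2)
  · obtain ⟨j, d, hl⟩ := exists_sl hp hpJ hpz
    have h1 := hl.q
    rcases h1.mem_cases (mem_Q_of_sq hl hp.t3 hx hx2) with h2 | h2 | h2 | h2 | h2 | h2 | h2 | h2
    · exact Or.inl (Or.inl h2)
    · exact Or.inl (Or.inr h2)
    · exact Or.inr (Or.inl h2)
    · exact Or.inr (Or.inr h2)
    · rw [h2] at hc; exact absurd hc.symm h1.not_comm
    · exfalso
      rw [h2, h1.izx, mul_assoc] at hc
      exact h1.not_comm (mul_left_cancel hc).symm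
    · exfalso
      rw [h2, mul_assoc] at hc
      exact h1.not_comm (mul_left_cancel hc).symm
    · exfalso
      rw [h2, h1.izx, mul_assoc] at hc
      have h3 := mul_left_cancel hc
      rw [mul_assoc] at h3
      exact h1.not_comm (mul_left_cancel h3).symm

end

section

variable {G : Type*} [Group G] [Finite G] {N D : Subgroup G} {a b e e' : G} {A B A' B' : Subgroup G}

/-- `r = x₁ x₂` acts on `D` as a reflection -/
theorem conj_D (h : Cfg N a b e A B) {c : G} (hc : c ∈ N) (c1 : c * a * c⁻¹ = b) (c2 : c * b * c⁻¹ = e)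
    (c3 : c * e * c⁻¹ = a) {p q : G} (hp : p ∈ A) (hq : q ∈ B) (pp : p * p = a * b) (qq : q * q = a * b)
    (ha : a = p * q) {pD qD : G} (hpD : pD ∈ cj c A) (hqD : qD ∈ cj c B) (ppD : pD * pD = b * e)
    (qqD : qD * qD = b * e) (hbD : b = pD * qD) {x₁ x₂ : G} (hx₁ : x₁ ∈ A) (hx₂ : x₂ ∈ B) (h₁ : x₁ * x₁ = a * b)
    (h₂ : x₂ * x₂ = a * b) (n₁ : p * x₁ ≠ x₁ * p) (n₂ : q * x₂ ≠ x₂ * q) :
    x₁ * x₂ * pD * (x₁ * x₂)⁻¹ = qD⁻¹ := by
  have t := tor_mk h.toSheet hp hq pp qq ha hc c1 c2 c3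
  have k := t.conj_seven h.toSheet hx₁ hx₂ h₁ h₂ n₁ n₂
  have h7 := t.sheet7 h.toSheet
  have t7 := t.conj
  set P := c * p * c⁻¹ with hP
  set Q := c * q * c⁻¹ with hQ
  have e1 : pD⁻¹ * P = qD * Q⁻¹ := by
    have h3 : P * Q = pD * qD := by rw [← t7.pq, hbD]
    calc pD⁻¹ * P = pD⁻¹ * (P * Q) * Q⁻¹ := by group
      _ = qD * Q⁻¹ := by rw [h3]; group
  have m1 : pD⁻¹ * P ∈ cj c A := mul_mem (inv_mem hpD) t7.pA
  have m2 : pD⁻¹ * P ∈ cj c B := by rw [e1]; exact mul_mem hqD (inv_mem t7.qB)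
  have h8 := h7.prA.t3.cen _ m1 fun y hy _ => (h7.AB y hy _ m2).symm
  rcases h8 with h8 | h8
  · have e2 : P = pD := (inv_mul_eq_one.1 h8).symm
    have e3 : qD * Q⁻¹ = 1 := by rw [← e1, h8]
    have e4 : qD = Q := mul_inv_eq_one.1 e3
    rw [← e2, e4]; exact k
  · have e2 : P = pD * (b * e) := by rw [← h8]; group
    have e3 : qD * Q⁻¹ = b * e := by rw [← e1, h8]
    have e4 : P = pD⁻¹ := by
      rw [eq_inv_iff_mul_eq_one, e2]
      calc pD * (b * e) * pD = pD * (pD * pD) * pD := by rw [ppD]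
        _ = (pD * pD) * (pD * pD) := by group
        _ = 1 := by rw [ppD, h7.zz]
    have e5 : Q = qD⁻¹ := by
      have h9 : Q = (b * e)⁻¹ * qD := by rw [← e3]; group
      rw [eq_inv_iff_mul_eq_one, h9, mul_assoc, qqD, inv_mul_cancel]
    rw [e4, e5, inv_inv] at k
    calc x₁ * x₂ * pD * (x₁ * x₂)⁻¹ = (x₁ * x₂ * pD⁻¹ * (x₁ * x₂)⁻¹)⁻¹ := by group
      _ = qD⁻¹ := by rw [k]

/-- **(a2)** for the factors which belong to the torus of `D` -/
theorem a_two_aux (h : Dbl N D a b e e' A B A' B') (hz : e * e' = a * b) {c : G} (hc : c ∈ N) (c1 : c * a * c⁻¹ = b)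
    (c2 : c * b * c⁻¹ = e) (c3 : c * e * c⁻¹ = a) (hS : Sheet D b e e' (cj c A) (cj c B)) {pD qD cD : G}
    (tD : Tor D b e e' (cj c A) (cj c B) pD qD cD) (hA' : A' = cj cD (cj c A)) (hB' : B' = cj cD (cj c B)) {p q : G}
    (hp : p ∈ A) (hq : q ∈ B) (pp : p * p = a * b) (qq : q * q = a * b) (ha : a = p * q) {x₁ x₂ : G}
    (hx₁ : x₁ ∈ A) (hx₂ : x₂ ∈ B) (h₁ : x₁ * x₁ = a * b) (h₂ : x₂ * x₂ = a * b) (n₁ : p * x₁ ≠ x₁ * p)
    (n₂ : q * x₂ ≠ x₂ * q) : (∀ y ∈ A', x₁ * x₂ * y = y * (x₁ * x₂)) ∧ (∀ y ∈ B', x₁ * x₂ * y = y * (x₁ * x₂)) := by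
  subst hA' hB'
  have t := tor_mk h.cfg.toSheet hp hq pp qq ha hc c1 c2 c3
  have kD := conj_D h.cfg hc c1 c2 c3 hp hq pp qq ha tD.pA tD.qB tD.pp tD.qq tD.pq hx₁ hx₂ h₁ h₂ n₁ n₂
  have rr := s_sq h.cfg.toSheet hx₁ hx₂ h₁ h₂
  obtain ⟨ha1, hb1, he1, hab, hbe, hae⟩ := ne_one h.cfg.toSheet
  have re : x₁ * x₂ * e = e * (x₁ * x₂) := by
    rw [mul_assoc, B_comm_e h.cfg.toSheet hx₂, ← mul_assoc, A_comm_e h.cfg.toSheet hx₁]; group
  have ra : x₁ * x₂ * a = a * (x₁ * x₂) := by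
    nth_rw 1 [t.pq]; nth_rw 1 [t.pq]
    exact s_comm h.cfg.toSheet hp hq pp qq hx₁ hx₂ h₁ h₂ n₁ n₂
  have rz : x₁ * x₂ * (a * b) = a * b * (x₁ * x₂) := by
    rw [mul_assoc, B_comm_z h.cfg.toSheet hx₂, ← mul_assoc, A_comm_z h.cfg.toSheet hx₁]; group
  have rb : x₁ * x₂ * b = b * (x₁ * x₂) := by
    rw [b_eq h.cfg.toSheet, ← mul_assoc, ra, mul_assoc, rz]; group
  have rP : x₁ * x₂ ∈ PP (a * b) := mul_mem (h.rA _ hx₁ h₁) (h.rB _ hx₂ h₂)
  have e'_eq : e' = e * (a * b) := by rw [← hz, ← mul_assoc, h.cfg.ee, one_mul]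
  have re' : x₁ * x₂ * e' = e' * (x₁ * x₂) := by
    rw [e'_eq, ← mul_assoc, re, mul_assoc, rz]; group
  -- the element `x ∈ A B` with `x a x⁻¹ = r`
  obtain ⟨g₁, hg₁, hg1⟩ := h.cfg.prA.t3.conj p hp x₁ hx₁ pp h₁
  obtain ⟨g₂, hg₂, hg2⟩ := h.cfg.prB.t3.conj q hq x₂ hx₂ qq h₂
  have rx : (g₁ * g₂) * a * (g₁ * g₂)⁻¹ = x₁ * x₂ := by
    have k1 : g₂ * p = p * g₂ := (h.cfg.AB p hp g₂ hg₂).symm
    have k2 : g₁ * (g₂ * q * g₂⁻¹) = (g₂ * q * g₂⁻¹) * g₁ :=
      h.cfg.AB g₁ hg₁ _ (mul_mem (mul_mem hg₂ hq) (inv_mem hg₂))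
    calc (g₁ * g₂) * a * (g₁ * g₂)⁻¹ = g₁ * (g₂ * p) * q * g₂⁻¹ * g₁⁻¹ := by rw [ha]; group
      _ = g₁ * p * ((g₂ * q * g₂⁻¹) * g₁) * g₁⁻¹ * g₁⁻¹ := by rw [k1]; group
      _ = g₁ * p * (g₁ * (g₂ * q * g₂⁻¹)) * g₁⁻¹ * g₁⁻¹ := by rw [← k2]
      _ = (g₁ * p * g₁⁻¹) * (g₁ * ((g₁ * (g₂ * q * g₂⁻¹)) * g₁⁻¹) * g₁⁻¹) := by group
      _ = x₁ * x₂ := by rw [k2, mul_inv_cancel_right, k2, mul_inv_cancel_right, hg1, hg2]
  set r := x₁ * x₂ with hr
  -- the frame of `D` at `z`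
  have t' := tD.conj
  have S' : Sheet D e e' b (cj cD (cj c A)) (cj cD (cj c B)) := tD.sheet7 hS
  have P5 : cD⁻¹ * (cD * pD * cD⁻¹) * cD = pD := by group
  have Q5 : cD⁻¹ * (cD * qD * cD⁻¹) * cD = qD := by group
  set p₃ := cD * pD * cD⁻¹ with hp₃
  set q₃ := cD * qD * cD⁻¹ with hq₃
  set A₃ := cj cD (cj c A) with hA₃
  set B₃ := cj cD (cj c B) with hB₃
  have prA : IsPr A₃ (a * b) := by rw [← hz]; exact S'.prA
  have prB : IsPr B₃ (a * b) := by rw [← hz]; exact S'.prB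
  have pp₃ : p₃ * p₃ = a * b := by rw [t'.pp, hz]
  have qq₃ : q₃ * q₃ = a * b := by rw [t'.qq, hz]
  have rA₃ := h.rA'
  have rB₃ := h.rB'
  rw [hz] at rA₃ rB₃
  -- decomposition `r = s₃ s₄ x'`
  obtain ⟨s₃, hs₃, hs₃2, hs₃P, hcA⟩ := dec_one prA h.snA' rA₃ rP ra
  have s₃a : s₃ * a = a * s₃ := h.comm_a (S'.AN hs₃)
  have ra' : s₃⁻¹ * r * a = a * (s₃⁻¹ * r) := by
    have e1 : s₃⁻¹ * a = a * s₃⁻¹ := (show Commute s₃ a from s₃a).inv_left.eq
    calc s₃⁻¹ * r * a = s₃⁻¹ * (r * a) := by group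
      _ = (s₃⁻¹ * a) * r := by rw [ra]; group
      _ = a * (s₃⁻¹ * r) := by rw [e1]; group
  obtain ⟨s₄, hs₄, hs₄2, hs₄P, hcB⟩ := dec_one prB h.snB' rB₃ (mul_mem (inv_mem hs₃P) rP) ra'
  set x' := s₄⁻¹ * (s₃⁻¹ * r) with hx'
  have xA : ∀ y ∈ A₃, x' * y = y * x' := by
    intro y hy
    have e1 : s₄⁻¹ * y = y * s₄⁻¹ := (S'.AB y hy _ (inv_mem hs₄)).symm
    calc x' * y = s₄⁻¹ * (s₃⁻¹ * r * y) := by rw [hx']; group
      _ = (s₄⁻¹ * y) * (s₃⁻¹ * r) := by rw [hcA y hy]; group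
      _ = y * x' := by rw [e1, hx']; group
  have xB : ∀ y ∈ B₃, x' * y = y * x' := hcB
  have rs : r = s₃ * s₄ * x' := by rw [hx']; group
  have rs' : r = x' * (s₃ * s₄) := by
    rw [rs]
    calc s₃ * s₄ * x' = s₃ * (s₄ * x') := by group
      _ = s₃ * (x' * s₄) := by rw [xB s₄ hs₄]
      _ = (s₃ * x') * s₄ := by group
      _ = x' * (s₃ * s₄) := by rw [← xA s₃ hs₃]; group
  have xa : x' * a = a * x' := by
    have e1 : s₄⁻¹ * a = a * s₄⁻¹ := (show Commute s₄ a from h.comm_a (S'.BN hs₄)).inv_left.eq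
    calc x' * a = s₄⁻¹ * (s₃⁻¹ * r * a) := by rw [hx']; group
      _ = (s₄⁻¹ * a) * (s₃⁻¹ * r) := by rw [ra']; group
      _ = a * x' := by rw [e1, hx']; group
  have xD : cj x' D = D := by
    by_contra hne
    have h1 := (h.comp.conj_of_comm xa).comm h.comp hne
    obtain ⟨x, hx, y, hy, -, -, hxy⟩ := S'.prA.t3.ex4
    have h2 : x ∈ cj x' D := by
      refine ⟨x, S'.AN hx, ?_⟩
      show x' * x * x'⁻¹ = x
      rw [xA x hx]; group
    exact hxy (mem_centralizer_iff.1 (h1 h2) y (S'.AN hy)).symm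
  obtain ⟨xe, xe', xb⟩ := t'.comm_abe S' xD xA xB
  -- `s = s₃ s₄` commutes with `e = p₃ q₃`
  have se : s₃ * s₄ * e = e * (s₃ * s₄) := by
    have e1 : s₃ * s₄ = r * x'⁻¹ := by rw [rs]; group
    have e2 : x'⁻¹ * e = e * x'⁻¹ := (show Commute x' e from xe).inv_left.eq
    rw [e1]
    calc r * x'⁻¹ * e = r * (x'⁻¹ * e) := by group
      _ = (r * e) * x'⁻¹ := by rw [e2]; group
      _ = e * (r * x'⁻¹) := by rw [re]; group
  have rel : (s₃ * p₃) * (s₄ * q₃) = (p₃ * s₃) * (q₃ * s₄) := by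
    have e1 : s₄ * p₃ = p₃ * s₄ := (S'.AB _ t'.pA s₄ hs₄).symm
    have e2 : q₃ * s₃ = s₃ * q₃ := (S'.AB s₃ hs₃ _ t'.qB).symm
    have e3 := t'.pq
    calc (s₃ * p₃) * (s₄ * q₃) = s₃ * (p₃ * s₄) * q₃ := by group
      _ = s₃ * s₄ * (p₃ * q₃) := by rw [← e1]; group
      _ = (p₃ * q₃) * (s₃ * s₄) := by rw [← e3, se]
      _ = p₃ * (q₃ * s₃) * s₄ := by group
      _ = (p₃ * s₃) * (q₃ * s₄) := by rw [e2]; group
  -- facts on `p_D`, `q_D`
  have pe := tD.p_b hS
  have pe' := tD.p_e hS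
  have pb := tD.p_a hS
  have pq1 : pD ≠ qD⁻¹ := by
    intro h1
    apply hb1
    rw [tD.pq, h1, inv_mul_cancel]
  have qq1 : qD ≠ qD⁻¹ := by
    intro h1
    have h2 : qD * qD = 1 := by nth_rw 2 [h1]; rw [mul_inv_cancel]
    rw [tD.qq] at h2
    exact hS.z_ne h2
  have pq2 : pD⁻¹ ≠ qD⁻¹ := by
    intro h1
    have h2 : pD = qD := inv_injective h1
    apply he1
    have h3 : b = b * e := by rw [← tD.pp]; nth_rw 1 [tD.pq]; rw [h2]
    exact (mul_left_cancel (a := b) (by rw [mul_one]; exact h3)).symm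
  have dich := t'.rot_or_refl S' xD xA xB
  rw [P5, Q5] at dich
  by_cases hcm : s₃ * p₃ = p₃ * s₃
  swap
  · -- both do not commute
    exfalso
    have hcm' : ¬ s₄ * q₃ = q₃ * s₄ := by
      intro h1
      rw [h1] at rel
      exact hcm (mul_right_cancel rel)
    have z3 : s₃ * s₃ = a * b := by
      rcases hs₃2 with h1 | h1
      · exfalso
        apply hcm
        rcases prA.inv_eq hs₃ h1 with h2 | h2
        · rw [h2, one_mul, mul_one]
        · rw [h2]; exact (prA.comm_z t'.pA).symm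
      · exact h1
    have z4 : s₄ * s₄ = a * b := by
      rcases hs₄2 with h1 | h1
      · exfalso
        apply hcm'
        rcases prB.inv_eq hs₄ h1 with h2 | h2
        · rw [h2, one_mul, mul_one]
        · rw [h2]; exact (prB.comm_z t'.qB).symm
      · exact h1
    have k5 := t'.conj_five S' hs₃ hs₄ (by rw [hz]; exact z3) (by rw [hz]; exact z4) (fun h1 => hcm h1.symm)
      (fun h1 => hcm' h1.symm)
    rw [P5, Q5] at k5
    have k6 : x' * qD * x'⁻¹ = qD⁻¹ := by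
      rw [← kD, ← k5, rs']; group
    rcases dich with h1 | h1
    · -- `x'` fixes `p_D` and `b`, so `q_D`
      have h2 : x' * qD * x'⁻¹ = qD := by
        have e1 : qD = pD⁻¹ * b := by rw [tD.pq]; group
        calc x' * qD * x'⁻¹ = (x' * pD * x'⁻¹)⁻¹ * (x' * b * x'⁻¹) := by rw [e1]; group
          _ = qD := by rw [h1, xb, mul_inv_cancel_right, ← e1]
      exact qq1 (h2.symm.trans k6)
    · have h2 := t'.refl_q5 S' xD xA xB (by rw [P5, Q5]; exact h1)
      rw [P5, Q5] at h2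
      exact pq2 (h2.symm.trans k6)
  · -- both commute
    have hcm' : s₄ * q₃ = q₃ * s₄ := by
      rw [hcm] at rel
      exact mul_left_cancel rel
    have p3p : p₃ * pD = pD * p₃ := by
      have := t'.pc
      rwa [P5] at this
    have q3p : q₃ * pD = pD * q₃ := by
      have e1 : q₃ = p₃⁻¹ * e := by
        have := t'.pq
        rw [this]; group
      have e2 : pD * p₃⁻¹ = p₃⁻¹ * pD := (show Commute pD p₃ from p3p.symm).inv_right.eq
      rw [e1]
      calc p₃⁻¹ * e * pD = p₃⁻¹ * (e * pD) := by group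
        _ = (p₃⁻¹ * pD) * e := by rw [← pe]; group
        _ = pD * (p₃⁻¹ * e) := by rw [← e2]; group
    have pz : pD * (a * b) = a * b * pD := by
      rw [← hz, ← mul_assoc, pe, mul_assoc, pe']; group
    have c3' := comm_four prA t'.pA pp₃ hs₃ hs₃2 hcm
    have c4' := comm_four prB t'.qB qq₃ hs₄ hs₄2 hcm'
    have s3p : s₃ * pD = pD * s₃ := by
      rcases c3' with (h1 | h1) | (h1 | h1) <;> rw [h1]
      · rw [one_mul, mul_one]
      · exact pz.symm
      · exact p3p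
      · rw [mul_assoc, p3p, ← mul_assoc, ← pz]; group
    have s4p : s₄ * pD = pD * s₄ := by
      rcases c4' with (h1 | h1) | (h1 | h1) <;> rw [h1]
      · rw [one_mul, mul_one]
      · exact pz.symm
      · exact q3p
      · rw [mul_assoc, q3p, ← mul_assoc, ← pz]; group
    have k6 : x' * pD * x'⁻¹ = qD⁻¹ := by
      rw [← kD, rs']
      have e1 : s₃ * s₄ * pD = pD * (s₃ * s₄) := by
        rw [mul_assoc, s4p, ← mul_assoc, s3p]; group
      calc x' * pD * x'⁻¹ = x' * (pD * (s₃ * s₄)) * (x' * (s₃ * s₄))⁻¹ := by group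
        _ = x' * (s₃ * s₄) * pD * (x' * (s₃ * s₄))⁻¹ := by rw [← e1]; group
    obtain ⟨q5a, -⟩ := t'.refl_sq S' xD xA xB (by rw [P5, Q5]; exact k6)
    have J5 : cj cD⁻¹ A₃ = cj c A := by rw [hA₃, ← cj_mul, inv_mul_cancel, cj_one]
    rw [J5] at q5a
    have s34 : s₃ * s₄ = s₄ * s₃ := S'.AB s₃ hs₃ s₄ hs₄
    have sz3 : s₃ * s₃ = 1 ∨ s₃ * s₃ = a * b := hs₃2
    -- `s² x'² = 1`
    have e6 : (s₃ * s₃) * (s₄ * s₄) * (x' * x') = 1 := by
      have e1 : r * r = (s₃ * s₄) * (s₃ * s₄) * (x' * x') := by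
        nth_rw 1 [rs']; rw [rs]
        have : x' * (s₃ * s₄) = s₃ * s₄ * x' := by rw [← rs', rs]
        rw [this]
        calc s₃ * s₄ * x' * (s₃ * s₄ * x') = s₃ * s₄ * (x' * (s₃ * s₄)) * x' := by group
          _ = (s₃ * s₄) * (s₃ * s₄) * (x' * x') := by rw [this]; group
      rw [rr] at e1
      rw [e1]
      calc (s₃ * s₃) * (s₄ * s₄) * (x' * x') = s₃ * (s₃ * s₄) * s₄ * (x' * x') := by group
        _ = s₃ * (s₄ * s₃) * s₄ * (x' * x') := by rw [s34]
        _ = (s₃ * s₄) * (s₃ * s₄) * (x' * x') := by group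
    -- `z` does not centralise `J₅`
    have hzJ : ¬ ∀ y ∈ cj c A, a * b * y = y * (a * b) := by
      intro hall
      have h1 : pD = 1 ∨ pD = b * e := by
        refine hS.prA.t3.cen pD tD.pA fun y hy _ => ?_
        -- `z` acts on `J₅` as `b`, as `p_D`
        have h2 := hall y hy
        have h3 : a * y = y * a := (h.comm_a (hS.AN hy)).symm
        have h4 : b * y = y * b := by
          have e1 : b = a * (a * b) := b_eq h.cfg.toSheet
          rw [e1]
          calc a * (a * b) * y = a * (a * b * y) := by group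
            _ = (a * y) * (a * b) := by rw [h2]; group
            _ = y * (a * (a * b)) := by rw [h3]; group
        have h5 : qD * y = y * qD := (hS.AB y hy qD tD.qB).symm
        have h6 : pD * y * qD = y * pD * qD := by
          calc pD * y * qD = pD * (qD * y) := by rw [h5]; group
            _ = b * y := by rw [tD.pq]; group
            _ = y * pD * qD := by rw [h4, tD.pq]; group
        exact mul_right_cancel h6
      have h7 := tD.pp
      rcases h1 with h1 | h1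
      · rw [h1, one_mul] at h7; exact hS.z_ne h7.symm
      · rw [h1, hS.zz] at h7; exact hS.z_ne h7.symm
    have hz3 := prA.t3.z_sq
    have hsq : (s₃ * s₃ = 1 ∧ s₄ * s₄ = 1) ∨ (s₃ * s₃ = a * b ∧ s₄ * s₄ = a * b) := by
      have bad : (s₃ * s₃) * (s₄ * s₄) = a * b → False := by
        intro h1
        rw [h1] at e6
        apply hzJ
        intro y hy
        have h2 : x' * x' = a * b := by
          calc x' * x' = (a * b) * ((a * b) * (x' * x')) := by rw [← mul_assoc (a * b), hz3, one_mul]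
            _ = a * b := by rw [e6, mul_one]
        rw [← h2]
        exact q5a y hy
      rcases hs₃2 with h1 | h1 <;> rcases hs₄2 with h2 | h2
      · exact Or.inl ⟨h1, h2⟩
      · exact (bad (by rw [h1, h2, one_mul])).elim
      · exact (bad (by rw [h1, h2, mul_one])).elim
      · exact Or.inr ⟨h1, h2⟩
    have zA₃ : ∀ y ∈ A₃, a * b * y = y * (a * b) := fun y hy => (prA.comm_z hy).symm
    have zB₃ : ∀ y ∈ B₃, a * b * y = y * (a * b) := fun y hy => (prB.comm_z hy).symm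
    -- `s ∈ {1, z}` or `s ∈ {e, z e}`
    have hcase : (s₃ * s₄ = 1 ∨ s₃ * s₄ = a * b) ∨ (s₃ * s₄ = e ∨ s₃ * s₄ = a * b * e) := by
      have zne := prA.t3.z_ne
      rcases hsq with ⟨h1, h2⟩ | ⟨h1, h2⟩
      · left
        rcases prA.inv_eq hs₃ h1 with h3 | h3 <;> rcases prB.inv_eq hs₄ h2 with h4 | h4 <;> rw [h3, h4]
        · left; rw [mul_one]
        · right; rw [one_mul]
        · right; rw [mul_one]
        · left; exact hz3
      · right
        have f3 : s₃ = p₃ ∨ s₃ = a * b * p₃ := by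
          rcases c3' with (h3 | h3) | h3
          · rw [h3, one_mul] at h1; exact absurd h1.symm zne
          · rw [h3, hz3] at h1; exact absurd h1.symm zne
          · exact h3
        have f4 : s₄ = q₃ ∨ s₄ = a * b * q₃ := by
          rcases c4' with (h3 | h3) | h3
          · rw [h3, one_mul] at h2; exact absurd h2.symm zne
          · rw [h3, hz3] at h2; exact absurd h2.symm zne
          · exact h3
        have e0 := t'.pq
        have zp := zA₃ p₃ t'.pA
        rcases f3 with h3 | h3 <;> rcases f4 with h4 | h4 <;> rw [h3, h4]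
        · left; exact e0.symm
        · right
          rw [← mul_assoc, ← zp, mul_assoc, ← e0]
        · right
          rw [mul_assoc, ← e0]
        · left
          calc a * b * p₃ * (a * b * q₃) = a * b * (p₃ * (a * b)) * q₃ := by group
            _ = (a * b) * (a * b) * (p₃ * q₃) := by rw [← zp]; group
            _ = e := by rw [hz3, one_mul, ← e0]
    rcases hcase with hcase | hcase
    · -- `r` centralises `A₃`, `B₃`
      have fin : ∀ (K : Subgroup G), (∀ y ∈ K, a * b * y = y * (a * b)) → (∀ y ∈ K, x' * y = y * x') →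
          ∀ y ∈ K, r * y = y * r := by
        intro K hzK hxK y hy
        rw [rs']
        rcases hcase with h1 | h1 <;> rw [h1]
        · rw [mul_one]; exact hxK y hy
        · exact ((show Commute x' y from hxK y hy).mul_left (show Commute (a * b) y from hzK y hy)).eq
      exact ⟨fin _ zA₃ xA, fin _ zB₃ xB⟩
    · exfalso
      -- `f = r e'` is a reflection
      have e'2 : e' * e' = 1 := hS.ee
      have ee' : e * e' = a * b := hz
      have sf : s₃ * s₄ * e' = a * b ∨ s₃ * s₄ * e' = 1 := by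
        rcases hcase with h1 | h1 <;> rw [h1]
        · left; exact ee'
        · right; rw [mul_assoc, ee', hz3]
      have fx : r * e' = x' * (a * b) ∨ r * e' = x' := by
        rcases sf with h1 | h1
        · left; rw [rs', mul_assoc, h1]
        · right; rw [rs', mul_assoc, h1, mul_one]
      have fK : ∀ (K : Subgroup G), (∀ y ∈ K, a * b * y = y * (a * b)) → (∀ y ∈ K, x' * y = y * x') →
          ∀ y ∈ K, (r * e') * y = y * (r * e') := by
        intro K hzK hxK y hy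
        rcases fx with h1 | h1 <;> rw [h1]
        · exact ((show Commute x' y from hxK y hy).mul_left (show Commute (a * b) y from hzK y hy)).eq
        · exact hxK y hy
      have e'D : e' ∈ D := hS.eN
      have fD : cj (r * e') D = D := by
        have h1 : cj (a * b) D = D := hS.cj_self (by rw [← hz]; exact mul_mem hS.bN hS.eN)
        rcases fx with h2 | h2 <;> rw [h2]
        · rw [cj_mul, h1, xD]
        · exact xD
      have fr : (r * e') * pD * (r * e')⁻¹ = qD⁻¹ := by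
        calc (r * e') * pD * (r * e')⁻¹ = r * (e' * pD * e'⁻¹) * r⁻¹ := by group
          _ = r * pD * r⁻¹ := by rw [← pe', mul_inv_cancel_right]
          _ = qD⁻¹ := kD
      have ff : (r * e') * (r * e') = 1 := by
        calc (r * e') * (r * e') = r * (e' * r) * e' := by group
          _ = (r * r) * (e' * e') := by rw [← re']; group
          _ = 1 := by rw [rr, e'2, one_mul]
      -- `e' = y` is the central involution of `N`
      have ye : e' = a * b * e := e'_eq.trans h.cfg.ez.symm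
      have xN : g₁ * g₂ ∈ N := mul_mem (h.cfg.AN hg₁) (h.cfg.BN hg₂)
      have xe1 : g₁ * g₂ * e = e * (g₁ * g₂) := by
        rw [mul_assoc, B_comm_e h.cfg.toSheet hg₂, ← mul_assoc, A_comm_e h.cfg.toSheet hg₁]; group
      have xy : g₁ * g₂ * e' = e' * (g₁ * g₂) := by rw [ye]; exact h.cfg.y_comm _ xN
      have fn : (g₁ * g₂ * c) * (a * b) * (g₁ * g₂ * c)⁻¹ = r * e' := by
        have k1 : c * (a * b) * c⁻¹ = b * e := by
          calc c * (a * b) * c⁻¹ = (c * a * c⁻¹) * (c * b * c⁻¹) := by group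
            _ = b * e := by rw [c1, c2]
        have k2 : b * e = a * e' := by
          rw [ye]
          calc b * e = (a * a) * (b * e) := by rw [h.cfg.aa, one_mul]
            _ = a * (a * b * e) := by group
        calc (g₁ * g₂ * c) * (a * b) * (g₁ * g₂ * c)⁻¹ = (g₁ * g₂) * (c * (a * b) * c⁻¹) * (g₁ * g₂)⁻¹ := by group
          _ = (g₁ * g₂) * a * (e' * (g₁ * g₂)⁻¹) := by rw [k1, k2]; group
          _ = ((g₁ * g₂) * a * (g₁ * g₂)⁻¹) * ((g₁ * g₂) * e') * (g₁ * g₂)⁻¹ := by group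
          _ = r * e' := by rw [rx, xy]; group
      have eP : e ∈ PP (r * e') := by
        have h1 : b ∈ PP (a * b) := by
          have k0 := mul_mem (h.rA p hp pp) (h.rA p hp pp)
          rw [pp] at k0
          have k1 := mul_mem h.aP k0
          rwa [← b_eq h.cfg.toSheet] at k1
        have h2 := PP_conj (g₁ * g₂ * c) h1
        rw [fn] at h2
        have h3 : g₁ * g₂ * c * b * (g₁ * g₂ * c)⁻¹ = e := by
          calc g₁ * g₂ * c * b * (g₁ * g₂ * c)⁻¹ = (g₁ * g₂) * (c * b * c⁻¹) * (g₁ * g₂)⁻¹ := by group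
            _ = e := by rw [c2, xe1]; group
        rwa [h3] at h2
      have hA3f := fK _ zA₃ xA
      have hB3f := fK _ zB₃ xB
      -- `p₃ ∈ O₂(C(f))`
      have p3P : p₃ ∈ PP (r * e') := by
        obtain ⟨j, d, hl⟩ := exists_sl prA t'.pA pp₃
        obtain ⟨g, hg, hgp⟩ := prA.t3.conj p₃ t'.pA j hl.hj pp₃ hl.q.j2
        have h1 := PP_norm (hA3f g hg).symm _ eP
        have h2 := mul_mem h1 (inv_mem eP)
        have h3 : g * e * g⁻¹ * e⁻¹ = j * p₃⁻¹ := by
          have k1 : q₃ * g⁻¹ = g⁻¹ * q₃ := (S'.AB _ (inv_mem hg) _ t'.qB).symm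
          have k2 := t'.pq
          calc g * e * g⁻¹ * e⁻¹ = g * p₃ * (q₃ * g⁻¹) * (p₃ * q₃)⁻¹ := by rw [k2]; group
            _ = (g * p₃ * g⁻¹) * p₃⁻¹ := by rw [k1]; group
            _ = j * p₃⁻¹ := by rw [hgp]
        rw [h3] at h2
        have hk : (j * p₃⁻¹) * (j * p₃⁻¹) = a * b := by
          rw [hl.q.i_inv]
          simp only [mul_assoc]
          have h5 := hl.q
          have hj := h5.jz
          have hjx := h5.jzx
          have hzz := h5.zz
          have hji := h5.ji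
          have hjix := h5.jix
          calc j * (a * (b * (p₃ * (j * (a * (b * p₃)))))) = j * ((a * b) * (p₃ * (j * ((a * b) * p₃)))) := by
                simp only [mul_assoc]
            _ = a * b := by
                simp only [h5.jzx, h5.izx, h5.jz, h5.iz, h5.zz, h5.jix, h5.ji, h5.iix, h5.jjx, h5.i2, h5.j2, h5.z2,
                  mul_one, one_mul]
            _ = a * b := rfl
        obtain ⟨g', hg', hgk⟩ := prA.t3.conj _ (mul_mem hl.hj (inv_mem t'.pA)) p₃ t'.pA hk pp₃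
        have h4 := PP_norm (hA3f g' hg').symm _ h2
        rwa [hgk] at h4
      exact t'.false_of_refl S' fD hA3f hB3f (by rw [P5, Q5]; exact fr) ff (PP_two _)
        (fun x hx y hy => PP_norm hx y hy) p3P

/-- **(a2)** : `HR a b A B A' B'` -/
theorem a_two (h : Dbl N D a b e e' A B A' B') (hz : e * e' = a * b) {c : G} (hc : c ∈ N) (c1 : c * a * c⁻¹ = b)
    (c2 : c * b * c⁻¹ = e) (c3 : c * e * c⁻¹ = a) (hS : Sheet D b e e' (cj c A) (cj c B)) :
    ∀ p ∈ A, ∀ q ∈ B, p * p = a * b → q * q = a * b → a = p * q → ∀ x₁ ∈ A, ∀ x₂ ∈ B, x₁ * x₁ = a * b →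
      x₂ * x₂ = a * b → x₁ * p = a * b * (p * x₁) → x₂ * q = a * b * (q * x₂) → ∀ y, y ∈ A' ∨ y ∈ B' →
        x₁ * x₂ * y = y * (x₁ * x₂) := by
  intro p hp q hq pp qq ha x₁ hx₁ x₂ hx₂ h₁ h₂ n₁ n₂ y hy
  obtain ⟨pD, qD, cD, tD⟩ := tor_exists hS
  have S' := tD.sheet7 hS
  have ne : ∀ u v : G, u * v = a * b * (v * u) → v * u ≠ u * v := by
    intro u v h1 h2
    rw [← h2] at h1
    exact h.cfg.z_ne (mul_right_cancel (b := v * u) (by rw [one_mul]; exact h1.symm))
  obtain ⟨k1, k2⟩ := a_two_aux (A' := cj cD (cj c A)) (B' := cj cD (cj c B)) ⟨h.cfg, h.comp, S', h.rA, h.rB⟩ hz hc c1 c2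
    c3 hS tD rfl rfl hp hq pp qq ha hx₁ hx₂ h₁ h₂ (ne _ _ n₁) (ne _ _ n₂)
  rcases unique h.sh S' rfl with ⟨h3, h4⟩ | ⟨h3, h4⟩
  · rw [h3] at k1; rw [h4] at k2
    rcases hy with hy | hy
    · exact k1 y hy
    · exact k2 y hy
  · rw [h3] at k1; rw [h4] at k2
    rcases hy with hy | hy
    · exact k2 y hy
    · exact k1 y hy

/-- `z` does not centralise `J₅` -/
theorem not_comm_z (h : Dbl N D a b e e' A B A' B') {c : G} (hS : Sheet D b e e' (cj c A) (cj c B)) :
    ∃ x₀ ∈ cj c A, x₀ * (a * b) ≠ a * b * x₀ := by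
  by_contra hcon
  push Not at hcon
  obtain ⟨pD, qD, cD, tD⟩ := tor_exists hS
  have h1 : pD = 1 ∨ pD = b * e := by
    refine hS.prA.t3.cen pD tD.pA fun y hy _ => ?_
    have h2 := hcon y hy
    have h3 : a * y = y * a := (h.comm_a (hS.AN hy)).symm
    have h4 : b * y = y * b := by
      have e1 : b = a * (a * b) := b_eq h.cfg.toSheet
      rw [e1]
      calc a * (a * b) * y = a * (a * b * y) := by group
        _ = (a * y) * (a * b) := by rw [← h2]; group
        _ = y * (a * (a * b)) := by rw [h3]; group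
    have h5 : qD * y = y * qD := (hS.AB y hy qD tD.qB).symm
    have h6 : pD * y * qD = y * pD * qD := by
      calc pD * y * qD = pD * (qD * y) := by rw [h5]; group
        _ = b * y := by rw [tD.pq]; group
        _ = y * pD * qD := by rw [h4, tD.pq]; group
    exact mul_right_cancel h6
  have h7 := tD.pp
  rcases h1 with h1 | h1
  · rw [h1, one_mul] at h7; exact hS.z_ne h7.symm
  · rw [h1, hS.zz] at h7; exact hS.z_ne h7.symm

/-- the input of `Dbl.hC_of_refl` -/
theorem dich (h : Dbl N D a b e e' A B A' B') {c : G} (hc : c ∈ N) (c1 : c * a * c⁻¹ = b)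
    (c2 : c * b * c⁻¹ = e) (c3 : c * e * c⁻¹ = a) (hS : Sheet D b e e' (cj c A) (cj c B)) :
    ∃ p₅ q₅ x₀ x₁ x₂ : G, x₀ * (a * b) ≠ a * b * x₀ ∧
      (∀ g : G, cj g D = D → (∀ y, y ∈ A' ∨ y ∈ B' → g * y = y * g) → g * p₅ * g⁻¹ = p₅ ∨ g * p₅ * g⁻¹ = q₅⁻¹) ∧
      (∀ g : G, cj g D = D → (∀ y, y ∈ A' ∨ y ∈ B' → g * y = y * g) → g * p₅ * g⁻¹ = q₅⁻¹ →
        g * g * x₀ = x₀ * (g * g)) ∧
      x₁ ∈ A ∧ x₂ ∈ B ∧ x₁ * x₁ = a * b ∧ x₂ * x₂ = a * b ∧ x₁ * x₂ * a = a * (x₁ * x₂) ∧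
      x₁ * x₂ * p₅ * (x₁ * x₂)⁻¹ = q₅⁻¹ := by
  obtain ⟨p, hp, q, hq, pp, qq, ha⟩ := h.cfg.a_eq
  have t := tor_mk h.cfg.toSheet hp hq pp qq ha hc c1 c2 c3
  obtain ⟨x₁, hx₁, x₂, hx₂, h₁, h₂, n₁, n₂⟩ := t.exists_s h.cfg.toSheet
  obtain ⟨pD, qD, cD, tD⟩ := tor_exists hS
  have S' := tD.sheet7 hS
  have t' := tD.conj
  obtain ⟨x₀, hx₀, hx⟩ := not_comm_z h hS
  have P5 : cD⁻¹ * (cD * pD * cD⁻¹) * cD = pD := by group
  have Q5 : cD⁻¹ * (cD * qD * cD⁻¹) * cD = qD := by group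
  have J5 : cj cD⁻¹ (cj cD (cj c A)) = cj c A := by rw [← cj_mul, inv_mul_cancel, cj_one]
  have both : ∀ g : G, (∀ y, y ∈ A' ∨ y ∈ B' → g * y = y * g) →
      (∀ y ∈ cj cD (cj c A), g * y = y * g) ∧ (∀ y ∈ cj cD (cj c B), g * y = y * g) := by
    intro g hg
    rcases unique h.sh S' rfl with ⟨h3, h4⟩ | ⟨h3, h4⟩ <;> rw [h3, h4]
    · exact ⟨fun y hy => hg y (Or.inl hy), fun y hy => hg y (Or.inr hy)⟩
    · exact ⟨fun y hy => hg y (Or.inr hy), fun y hy => hg y (Or.inl hy)⟩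
  refine ⟨pD, qD, x₀, x₁, x₂, hx, ?_, ?_, hx₁, hx₂, h₁, h₂, ?_, ?_⟩
  · intro g hg hgA
    obtain ⟨k1, k2⟩ := both g hgA
    have := t'.rot_or_refl S' hg k1 k2
    rwa [P5, Q5] at this
  · intro g hg hgA hr
    obtain ⟨k1, k2⟩ := both g hgA
    obtain ⟨k3, -⟩ := t'.refl_sq S' hg k1 k2 (by rw [P5, Q5]; exact hr)
    rw [J5] at k3
    exact k3 x₀ hx₀
  · nth_rw 1 [ha]; nth_rw 1 [ha]
    exact s_comm h.cfg.toSheet hp hq pp qq hx₁ hx₂ h₁ h₂ n₁ n₂
  · exact conj_D h.cfg hc c1 c2 c3 hp hq pp qq ha tD.pA tD.qB tD.pp tD.qq tD.pq hx₁ hx₂ h₁ h₂ n₁ n₂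

end

end Cfsg.Agent.OddHalf.NI3.Bad.ATwo

end

-- merged: Cfsg.Agent.OddHalf.NI3.Bad.StepD
section

/-!
# THEOREM NIB, step (3d): the case `D = 2.U₄(3)` (helper355; bb ODD #14136)

`stepD_of` : `StepD` from (a2) and (a4); `stepD` : `StepD` (from the odd order theorem).
-/

set_option autoImplicit false
set_option linter.style.haveILetI false

namespace Cfsg.Agent.OddHalf.NI3.Bad

open Subgroup Cfsg Cfsg.Agent.OddHalf.Iface Cfsg.Agent.OddHalf.LieOddFam
open Cfsg.Agent.OddHalf.D3 (Comp FT BL)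
open Cfsg.Agent.OddHalf.NI (CompIn)
open Cfsg.Agent.Cit (cj TStmt)
open Cfsg.Agent.OddHalf.NI3.Bad.StepThree (RP In)

universe u

/-- `StepD` from (a2), (a4) -/
theorem stepD_of (ft : ∀ (G : Type u) [Group G], Finite G → FT G)
    (two : ∀ (G : Type u) [Group G], Ctx G → ∀ (N : Subgroup G) (a b e : G) (A B : Subgroup G), Cfg N a b e A B →
      RP a b A B → ∀ (c : G) (D : Subgroup G), c ∈ N → In a b e A B c D → ∀ e' : G,
      Sheet D b e e' (cj c A) (cj c B) → ∀ A' B' : Subgroup G, Dbl N D a b e e' A B A' B' → e * e' = a * b →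
      Dbl.HR a b A B A' B' ∧ Dbl.HC a b A B A' B') : StepD.{u} := by
  intro G _ C N a b e A B h hR c D hc i e' hS
  haveI := C.fin
  obtain ⟨A', B', hd⟩ := Dbl.of h hR i.cD hS
  have hz : e * e' = a * b := hd.z_eq C
  have he : e ∈ PP (a * b) := by
    obtain ⟨p, hp, q, hq, h1, h2, h3⟩ := hd.sh.a_eq
    have h4 := mul_mem (hd.rA' p hp h1) (hd.rB' q hq h2)
    rwa [← h3] at h4
  have hFT := ft G C.fin
  have hB := NI.bl_core hFT C.bal
  obtain ⟨hr, hcc⟩ := two G C N a b e A B h hR c D hc i e' hS A' B' hd hz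
  exact hd.false_of C (fun L hL => ⟨h.hE hFT hB he L hL, h.hE' hFT hB he L hL⟩) hr hcc

/-- **Step (3d)** : `StepD` -/
theorem stepD (ft : ∀ (G : Type u) [Group G], Finite G → FT G) : StepD.{u} := by
  refine stepD_of ft ?_
  intro G _ C N a b e A B h hR c D hc i e' hS A' B' hd hz
  haveI := C.fin
  refine ⟨ATwo.a_two hd hz hc i.h1 i.h2 i.h3 hS, ?_⟩
  obtain ⟨p₅, q₅, x₀, x₁, x₂, hx, hdich, hrefl, h1, h2, h11, h22, ha, hr⟩ := ATwo.dich hd hc i.h1 i.h2 i.h3 hS
  exact hd.hC_of_refl hz hx (fun g gD _ _ _ _ hy => hdich g gD hy) (fun g gD _ _ _ _ hy => hrefl g gD hy) h1 h2 h11 h22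
    ha hr

end Cfsg.Agent.OddHalf.NI3.Bad

end
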